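import Mathlib
import Cfsg.Agent.Transfer.ElemAbAut
import Cfsg.Agent.GTwoFour.Tools
import Cfsg.Agent.S1349
import Cfsg.Agent.S1270
import Cfsg.Agent.Lib.BenderMaximal
import Cfsg.Agent.S1265
import Cfsg.Agent.Lib.KleinGen
import Cfsg.Agent.Mrg.Omega.Transv.Basic
import Cfsg.Agent.Mrg.Omega.Transv.Point
import Cfsg.Agent.Classification.ZNEndA
import Cfsg.Agent.FastGrp
import Cfsg.Agent.Prune
set_option linter.all false

section
prune_inst 0x7ff0eaf98bb8bddfdfff7e7fa79ccffc19959ffff6dff94bffe0ebff5bbf03020be1abad89e098fc5ef6621410b87843f9ffc23feb6bd87ffffd1ff45ffbee0ff5f7bd0151d698341fbc2fff63f0778e7f3fffffffffffffffffffffffffffbeffbfffffffff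

-- part: Mrg/Omega/NO3S/Fit/AbsNat
section
prune_inst 0x11402344000002000000058601000044040000900000000000000040000252004500204044002800080a000000010000009800000040000004000000000100208028420002400004240009801006000000000000000000000000000000041004000000000
set_option linter.all false
open scoped Cfsg.Agent.FastGrp

section


/-!
# Text #13963 (helper311), section 3: module facts, Mathlib level

`H` acts on an elementary abelian 2-group `M` (additive, `two : ∀ m, m + m = 0`).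

* `br M g` = `[M,g]` = `{g • n - n}`, `fx M g` = `C_M(g)`;
* `eq_one_of_fix` (L0): `g` of odd order, trivial on `[M,g]`, is `1`;
* `exists_decomp`, `br_inf_fx`: `M = [M,x] ⊕ C_M(x)` for `x` of odd order;
* `inverted_*`: `x` of odd order inverted by the involution `a`: `[[M,x],a] = C_{[M,x]}(a)`, of order the square root of
  `|[M,x]|`, and `[M,x] = C + x C` for `C = C_{[M,x]}(a)`;
* `nat_*` (3.3): natural elements (`|[M,n]| = 4`) of a normal `p`-group;
* `triv_on_br` (3.2), `faithful_on_F` (3.1).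
-/

set_option autoImplicit false
set_option linter.unusedSectionVars false

open scoped Pointwise

namespace Cfsg.Agent.Omega.NO3S.Fit.Abs

section Basic

variable {H : Type*} (M : Type*) [Group H] [AddCommGroup M] [DistribMulAction H M]

/-- `[M,g]` -/
def br (g : H) : AddSubgroup M where
  carrier := {m | ∃ n : M, g • n - n = m}
  zero_mem' := ⟨0, by simp⟩
  add_mem' := by
    rintro _ _ ⟨a, rfl⟩ ⟨b, rfl⟩
    exact ⟨a + b, by rw [smul_add]; abel⟩
  neg_mem' := by
    rintro _ ⟨a, rfl⟩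
    exact ⟨-a, by rw [smul_neg]; abel⟩

/-- `C_M(g)` -/
def fx (g : H) : AddSubgroup M where
  carrier := {m | g • m = m}
  zero_mem' := smul_zero g
  add_mem' := by
    intro a b ha hb
    change g • (a + b) = a + b
    rw [smul_add, show g • a = a from ha, show g • b = b from hb]
  neg_mem' := by
    intro a ha
    change g • (-a) = -a
    rw [smul_neg, show g • a = a from ha]

variable {M}

theorem mem_br {g : H} {m : M} : m ∈ br M g ↔ ∃ n : M, g • n - n = m := Iff.rfl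

theorem mem_fx {g : H} {m : M} : m ∈ fx M g ↔ g • m = m := Iff.rfl

theorem sub_mem_br (g : H) (n : M) : g • n - n ∈ br M g := ⟨n, rfl⟩

theorem smul_mem_br_conj (g : H) {x : H} {m : M} (hm : m ∈ br M x) : g • m ∈ br M (g * x * g⁻¹) := by
  obtain ⟨n, rfl⟩ := hm
  refine ⟨g • n, ?_⟩
  rw [smul_sub, mul_smul, mul_smul, inv_smul_smul]

theorem smul_mem_fx_conj (g : H) {x : H} {m : M} (hm : m ∈ fx M x) : g • m ∈ fx M (g * x * g⁻¹) := by
  rw [mem_fx] at hm ⊢
  rw [mul_smul, mul_smul, inv_smul_smul, hm]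

theorem br_one : br M (1 : H) = ⊥ := by
  rw [eq_bot_iff]
  rintro _ ⟨n, rfl⟩
  simp only [_root_.one_smul, _root_.sub_self, _root_.ZeroMemClass.zero_mem]

theorem br_mul_le (g h : H) : br M (g * h) ≤ br M g ⊔ br M h := by
  rintro _ ⟨n, rfl⟩
  have : (g * h) • n - n = (g • (h • n) - h • n) + (h • n - n) := by rw [mul_smul]; abel
  rw [this]
  exact AddSubgroup.add_mem_sup (sub_mem_br _ _) (sub_mem_br _ _)

theorem br_inv_le (g : H) : br M g⁻¹ ≤ br M g := by
  rintro _ ⟨n, rfl⟩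
  refine ⟨-(g⁻¹ • n), ?_⟩
  rw [smul_neg, smul_inv_smul]
  abel

theorem br_inv (g : H) : br M g⁻¹ = br M g :=
  le_antisymm (br_inv_le g) (by simpa using br_inv_le (M := M) g⁻¹)

theorem fx_inv (g : H) : fx M g⁻¹ = fx M g := by
  ext m
  rw [mem_fx, mem_fx, inv_smul_eq_iff, eq_comm]

/-- the elements `g` with `[M,g] ≤ N` -/
def into (N : AddSubgroup M) : Subgroup H where
  carrier := {g | br M g ≤ N}
  one_mem' := by
    change br M (1 : H) ≤ N
    rw [br_one]
    exact bot_le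
  mul_mem' := fun {a b} ha hb => (br_mul_le a b).trans (sup_le ha hb)
  inv_mem' := fun {a} ha => (br_inv_le a).trans ha

theorem mem_into {N : AddSubgroup M} {g : H} : g ∈ into N ↔ br M g ≤ N := Iff.rfl

theorem br_pow_le (g : H) (i : ℕ) : br M (g ^ i) ≤ br M g :=
  (into (br M g)).pow_mem (mem_into.mpr le_rfl) i

theorem br_zpow_le (g : H) (i : ℤ) : br M (g ^ i) ≤ br M g :=
  (into (br M g)).zpow_mem (mem_into.mpr le_rfl) i

theorem smul_mem_of_into {N : AddSubgroup M} {g : H} (hg : br M g ≤ N) {m : M} (hm : m ∈ N) :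
    g • m ∈ N := by
  have := N.add_mem (hg (sub_mem_br g m)) hm
  simpa using this

theorem smul_mem_br_self {g : H} {m : M} (hm : m ∈ br M g) : g • m ∈ br M g :=
  smul_mem_of_into le_rfl hm

theorem smul_mem_br_of_comm {g x : H} (h : g * x = x * g) {m : M} (hm : m ∈ br M x) :
    g • m ∈ br M x := by
  have := smul_mem_br_conj g hm
  rwa [h, mul_inv_cancel_right] at this

theorem smul_mem_br_of_inv {g x : H} (h : g * x * g⁻¹ = x⁻¹) {m : M} (hm : m ∈ br M x) :
    g • m ∈ br M x := by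
  have := smul_mem_br_conj g hm
  rwa [h, br_inv] at this

theorem smul_mem_fx_of_comm {g x : H} (h : g * x = x * g) {m : M} (hm : m ∈ fx M x) :
    g • m ∈ fx M x := by
  have := smul_mem_fx_conj g hm
  rwa [h, mul_inv_cancel_right] at this

theorem smul_mem_fx_of_inv {g x : H} (h : g * x * g⁻¹ = x⁻¹) {m : M} (hm : m ∈ fx M x) :
    g • m ∈ fx M x := by
  have := smul_mem_fx_conj g hm
  rwa [h, fx_inv] at this

theorem smul_br (g x : H) : g • br M x = br M (g * x * g⁻¹) := by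
  ext m
  rw [AddSubgroup.mem_smul_pointwise_iff_exists]
  constructor
  · rintro ⟨n, hn, rfl⟩
    exact smul_mem_br_conj g hn
  · intro hm
    refine ⟨g⁻¹ • m, ?_, smul_inv_smul _ _⟩
    have := smul_mem_br_conj g⁻¹ hm
    have e : g⁻¹ * (g * x * g⁻¹) * g⁻¹⁻¹ = x := by group
    rwa [e] at this

theorem card_smul (g : H) (N : AddSubgroup M) : Nat.card (g • N : AddSubgroup M) = Nat.card N :=
  Nat.card_congr
    { toFun := fun m => ⟨g⁻¹ • (m : M), by
        have := m.2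
        rw [AddSubgroup.mem_pointwise_smul_iff_inv_smul_mem] at this
        exact this⟩
      invFun := fun n => ⟨g • (n : M), AddSubgroup.smul_mem_pointwise_smul _ _ _ n.2⟩
      left_inv := fun m => by simp
      right_inv := fun n => by simp }

theorem card_br_conj (g x : H) : Nat.card (br M (g * x * g⁻¹)) = Nat.card (br M x) := by
  rw [← smul_br, card_smul]

/-- an element of `M` killed by an odd number and by 2 is 0 -/
theorem eq_zero_of_odd_nsmul (two : ∀ m : M, m + m = 0) {k : ℕ} (hk : Odd k) {m : M}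
    (h : k • m = 0) : m = 0 := by
  obtain ⟨j, rfl⟩ := hk
  rw [add_smul, mul_comm, mul_smul, two_nsmul, two, smul_zero, zero_add, one_smul] at h
  exact h

theorem odd_nsmul (two : ∀ m : M, m + m = 0) {k : ℕ} (hk : Odd k) (m : M) : k • m = m := by
  obtain ⟨j, rfl⟩ := hk
  rw [add_smul, mul_comm, mul_smul, two_nsmul, two, smul_zero, zero_add, one_smul]

theorem neg_eq (two : ∀ m : M, m + m = 0) (m : M) : -m = m := neg_eq_of_add_eq_zero_left (two m)

theorem sub_eq (two : ∀ m : M, m + m = 0) (m n : M) : m - n = m + n := by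
  rw [sub_eq_add_neg, neg_eq two]

theorem pow_smul_eq {x : H} {n m : M} (h : x • n - n = m) (hx : x • m = m) (j : ℕ) :
    x ^ j • n = n + j • m := by
  induction j with
  | zero => simp
  | succ j ih =>
    have h1 : x • n = n + m := by rw [← h]; abel
    have h2 : x • (j • m) = j • m := by
      rw [← smul_comm j x m, hx]
    rw [pow_succ', mul_smul, ih, smul_add, h1, h2, succ_nsmul]
    abel

/-- `[M,x] ∩ C_M(x) = 0` -/
theorem br_inf_fx (two : ∀ m : M, m + m = 0) {x : H} (hx : Odd (orderOf x)) {m : M}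
    (hm : m ∈ br M x) (hf : x • m = m) : m = 0 := by
  obtain ⟨n, hn⟩ := hm
  have h1 := pow_smul_eq hn hf (orderOf x)
  rw [pow_orderOf_eq_one, one_smul, left_eq_add] at h1
  exact eq_zero_of_odd_nsmul two hx h1

/-- `M = [M,x] + C_M(x)` -/
theorem exists_decomp (two : ∀ m : M, m + m = 0) {x : H} (hx : Odd (orderOf x)) (m : M) :
    ∃ d ∈ br M x, ∃ c ∈ fx M x, d + c = m := by
  set k := orderOf x with hk
  let c : M := ∑ i ∈ Finset.range k, x ^ i • m
  have hc : x • c = c := by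
    have h1 : x • c = ∑ i ∈ Finset.range k, x ^ (i + 1) • m := by
      change x • (∑ i ∈ Finset.range k, x ^ i • m) = _
      rw [Finset.smul_sum]
      refine Finset.sum_congr rfl fun i _ => ?_
      rw [pow_succ', mul_smul]
    have h2 := Finset.sum_range_succ (fun i => x ^ i • m) k
    have h3 := Finset.sum_range_succ' (fun i => x ^ i • m) k
    rw [h2] at h3
    rw [h1]
    have h4 : x ^ k • m = x ^ 0 • m := by rw [hk, pow_orderOf_eq_one, pow_zero]
    rw [h4] at h3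
    exact (add_right_cancel h3).symm
  have hd : m - c ∈ br M x := by
    have h1 : c = ∑ i ∈ Finset.range k, (x ^ i • m - m) + m := by
      rw [Finset.sum_sub_distrib]
      simp only [Finset.sum_const, Finset.card_range]
      rw [odd_nsmul two hx]
      abel
    have h2 : ∑ i ∈ Finset.range k, (x ^ i • m - m) ∈ br M x :=
      AddSubgroup.sum_mem _ fun i _ => br_pow_le x i (sub_mem_br _ _)
    have h3 : m - c = -∑ i ∈ Finset.range k, (x ^ i • m - m) := by rw [h1]; abel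
    rw [h3]
    exact neg_mem h2
  exact ⟨m - c, hd, c, hc, by abel⟩

theorem sup_br_fx (two : ∀ m : M, m + m = 0) {x : H} (hx : Odd (orderOf x)) :
    br M x ⊔ fx M x = ⊤ := by
  rw [eq_top_iff]
  intro m _
  obtain ⟨d, hd, c, hc, rfl⟩ := exists_decomp two hx m
  exact AddSubgroup.add_mem_sup hd hc

/-- (L0) -/
theorem eq_one_of_fix [FaithfulSMul H M] (two : ∀ m : M, m + m = 0) {g : H}
    (hg : Odd (orderOf g)) (h : ∀ m ∈ br M g, g • m = m) : g = 1 := by
  refine FaithfulSMul.eq_of_smul_eq_smul (α := M) fun m => ?_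
  have h1 := br_inf_fx two hg (sub_mem_br g m) (h _ (sub_mem_br g m))
  rw [one_smul]
  exact sub_eq_zero.mp h1

theorem ne_zero_of_br [FaithfulSMul H M] {g : H} (hg : g ≠ 1) : br M g ≠ ⊥ := by
  intro h
  apply hg
  refine FaithfulSMul.eq_of_smul_eq_smul (α := M) fun m => ?_
  rw [one_smul]
  have : g • m - m ∈ (⊥ : AddSubgroup M) := h ▸ sub_mem_br g m
  exact sub_eq_zero.mp (by simpa using this)

theorem fix_of_pow {x : H} {m : M} {i : ℕ} (hx : Nat.Coprime i (orderOf x))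
    (h : x ^ i • m = m) : x • m = m := by
  have h1 : x ^ i ∈ MulAction.stabilizer H m := h
  have h2 : x ∈ MulAction.stabilizer H m := by
    have : x ∈ Subgroup.zpowers (x ^ i) := by
      obtain ⟨j, hj⟩ := exists_pow_eq_self_of_coprime hx
      exact Subgroup.mem_zpowers_iff.mpr ⟨j, by rw [zpow_natCast]; exact hj⟩
    exact (Subgroup.zpowers_le.mpr h1) this
  exact h2

theorem fix_of_sq {x : H} (hx : Odd (orderOf x)) {m : M} (h : x • x • m = m) : x • m = m := by
  refine fix_of_pow (i := 2) ?_ (by rw [pow_two, mul_smul]; exact h)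
  exact Nat.coprime_two_left.mpr hx

end Basic

/-! ### Elements inverted by an involution -/

section Inverted

variable {H M : Type*} [Group H] [AddCommGroup M] [DistribMulAction H M]

/-- `C_{[M,x]}(a)` -/
def cx (M : Type*) [AddCommGroup M] [DistribMulAction H M] (a x : H) : AddSubgroup M :=
  br M x ⊓ fx M a

theorem mem_cx {a x : H} {m : M} : m ∈ cx M a x ↔ m ∈ br M x ∧ a • m = m := Iff.rfl

theorem conj_eq_of_inv {a x : H} (hi : a * x * a⁻¹ = x⁻¹) : a * x = x⁻¹ * a := by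
  rw [← hi]; group

theorem inv_smul_of_inv {a x : H} (hi : a * x * a⁻¹ = x⁻¹) {m : M} (hm : a • m = m) :
    a • x • m = x⁻¹ • m := by
  rw [← mul_smul, conj_eq_of_inv hi, mul_smul, hm]

theorem inv_smul_of_inv' {a x : H} (hi : a * x * a⁻¹ = x⁻¹) (m : M) :
    a • x • m = x⁻¹ • a • m := by
  rw [← mul_smul, conj_eq_of_inv hi, mul_smul]

theorem inv_symm {a x : H} (hi : a * x * a⁻¹ = x⁻¹) : a * x⁻¹ * a⁻¹ = x := by
  have := congrArg (·⁻¹) hi
  simpa only [mul_assoc, _root_.mul_inv_rev, _root_.inv_inv] using this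

theorem sub_mem_cx {a x : H} (two : ∀ m : M, m + m = 0) (ha : a * a = 1)
    (hi : a * x * a⁻¹ = x⁻¹) {m : M} (hm : m ∈ br M x) : a • m - m ∈ cx M a x := by
  rw [mem_cx]
  refine ⟨AddSubgroup.sub_mem _ (smul_mem_br_of_inv hi hm) hm, ?_⟩
  rw [smul_sub, ← mul_smul, ha, one_smul, sub_eq two, sub_eq two, add_comm]

/-- `u + x w` determines `u, w ∈ C_{[M,x]}(a)` -/
theorem cx_indep {a x : H} (two : ∀ m : M, m + m = 0) (hx : Odd (orderOf x))
    (hi : a * x * a⁻¹ = x⁻¹) {u w : M} (hu : u ∈ cx M a x) (hw : w ∈ cx M a x)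
    (h : u + x • w = 0) : u = 0 ∧ w = 0 := by
  have h1 : u = x • w := by
    have := eq_neg_of_add_eq_zero_left h
    rwa [neg_eq two] at this
  have h2 : a • u = x⁻¹ • w := by rw [h1]; exact inv_smul_of_inv hi hw.2
  have h3 : x • x • w = w := by
    rw [← h1]
    have h4 : a • u = u := hu.2
    rw [h4] at h2
    rw [h2, smul_inv_smul]
  have h4 : w = 0 := br_inf_fx two hx hw.1 (fix_of_sq hx h3)
  exact ⟨by rw [h1, h4, smul_zero], h4⟩

theorem card_cx_sq_le [Finite M] {a x : H} (two : ∀ m : M, m + m = 0) (hx : Odd (orderOf x))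
    (hi : a * x * a⁻¹ = x⁻¹) : Nat.card (cx M a x) * Nat.card (cx M a x) ≤ Nat.card (br M x) := by
  rw [← Nat.card_prod]
  refine Nat.card_le_card_of_injective
    (fun p : cx M a x × cx M a x => (⟨p.1 + x • p.2, add_mem p.1.2.1 (smul_mem_br_self p.2.2.1)⟩ : br M x))
    ?_
  rintro ⟨⟨u, hu⟩, ⟨w, hw⟩⟩ ⟨⟨u', hu'⟩, ⟨w', hw'⟩⟩ h
  have h1 : u + x • w = u' + x • w' := congrArg Subtype.val h
  have h2 : (u - u') + x • (w - w') = 0 := by
    rw [smul_sub]
    have : u - u' + (x • w - x • w') = (u + x • w) - (u' + x • w') := by abel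
    rw [this, h1, sub_self]
  obtain ⟨h3, h4⟩ := cx_indep two hx hi (sub_mem hu hu') (sub_mem hw hw') h2
  rw [sub_eq_zero] at h3 h4
  subst h3
  subst h4
  rfl

/-- `m ↦ a m - m` on `[M,x]` -/
def subHom {a x : H} (two : ∀ m : M, m + m = 0) (ha : a * a = 1) (hi : a * x * a⁻¹ = x⁻¹) :
    br M x →+ cx M a x where
  toFun m := ⟨a • (m : M) - m, sub_mem_cx two ha hi m.2⟩
  map_zero' := by ext; simp only [_root_.ZeroMemClass.coe_zero, _root_.smul_zero, _root_.sub_self]
  map_add' m n := by ext; simp only [_root_.AddSubgroup.coe_add, _root_.smul_add, _root_.AddMemClass.mk_add_mk]; abel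

theorem card_br_eq [Finite M] {a x : H} (two : ∀ m : M, m + m = 0) (ha : a * a = 1)
    (hx : Odd (orderOf x)) (hi : a * x * a⁻¹ = x⁻¹) :
    Nat.card (br M x) = Nat.card (cx M a x) * Nat.card (cx M a x) ∧
      Function.Surjective (subHom (x := x) two ha hi) := by
  set f := subHom (x := x) two ha hi with hf
  have h1 : Nat.card f.ker * Nat.card f.range = Nat.card (br M x) := by
    rw [← AddSubgroup.index_ker, AddSubgroup.card_mul_index]
  have h2 : Nat.card f.ker = Nat.card (cx M a x) := by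
    refine Nat.card_congr
      { toFun := fun m => ⟨(m : br M x), ?_⟩
        invFun := fun m => ⟨⟨m, m.2.1⟩, ?_⟩
        left_inv := fun m => rfl
        right_inv := fun m => rfl }
    · rw [mem_cx]
      refine ⟨(m : br M x).2, ?_⟩
      have h3 : f (m : br M x) = 0 := m.2
      have h4 : a • ((m : br M x) : M) - ((m : br M x) : M) = 0 := congrArg Subtype.val h3
      exact sub_eq_zero.mp h4
    · rw [AddMonoidHom.mem_ker]
      ext
      have h3 : a • (m : M) = m := m.2.2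
      change a • (m : M) - (m : M) = 0
      rw [h3, sub_self]
  have h3 : Nat.card f.range ≤ Nat.card (cx M a x) :=
    Nat.card_le_card_of_injective _ (Subtype.val_injective)
  have h4 := card_cx_sq_le (M := M) two hx hi
  have h5 : 0 < Nat.card (cx M a x) := Nat.card_pos
  rw [← h1, h2] at h4
  have h6 : Nat.card (cx M a x) ≤ Nat.card f.range := Nat.le_of_mul_le_mul_left h4 h5
  have h7 : Nat.card f.range = Nat.card (cx M a x) := le_antisymm h3 h6
  refine ⟨by rw [← h1, h2, h7], ?_⟩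
  rw [← AddMonoidHom.range_eq_top]
  exact AddSubgroup.eq_top_of_card_eq _ h7

/-- `C_{[M,x]}(a) ≤ [M,a]` -/
theorem cx_le_br [Finite M] {a x : H} (two : ∀ m : M, m + m = 0) (ha : a * a = 1)
    (hx : Odd (orderOf x)) (hi : a * x * a⁻¹ = x⁻¹) {m : M} (hm : m ∈ cx M a x) :
    ∃ d ∈ br M x, a • d - d = m := by
  obtain ⟨d, hd⟩ := (card_br_eq two ha hx hi).2 ⟨m, hm⟩
  exact ⟨d, d.2, congrArg Subtype.val hd⟩

/-- `[M,x] = C + x C`, `C = C_{[M,x]}(a)` -/
theorem exists_cx_add [Finite M] {a x : H} (two : ∀ m : M, m + m = 0) (ha : a * a = 1)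
    (hx : Odd (orderOf x)) (hi : a * x * a⁻¹ = x⁻¹) {m : M} (hm : m ∈ br M x) :
    ∃ u ∈ cx M a x, ∃ w ∈ cx M a x, u + x • w = m := by
  have h1 := (card_br_eq (M := M) two ha hx hi).1
  let f : cx M a x × cx M a x → br M x := fun p =>
    ⟨p.1 + x • p.2, add_mem p.1.2.1 (smul_mem_br_self p.2.2.1)⟩
  have hinj : Function.Injective f := by
    rintro ⟨⟨u, hu⟩, ⟨w, hw⟩⟩ ⟨⟨u', hu'⟩, ⟨w', hw'⟩⟩ h
    have h1 : u + x • w = u' + x • w' := congrArg Subtype.val h
    have h2 : (u - u') + x • (w - w') = 0 := by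
      rw [smul_sub]
      have : u - u' + (x • w - x • w') = (u + x • w) - (u' + x • w') := by abel
      rw [this, h1, sub_self]
    obtain ⟨h3, h4⟩ := cx_indep two hx hi (sub_mem hu hu') (sub_mem hw hw') h2
    rw [sub_eq_zero] at h3 h4
    subst h3
    subst h4
    rfl
  have hbij : Function.Bijective f :=
    (Nat.bijective_iff_injective_and_card f).mpr ⟨hinj, by rw [Nat.card_prod, h1]⟩
  obtain ⟨⟨u, w⟩, hp⟩ := hbij.2 ⟨m, hm⟩
  exact ⟨u, u.2, w, w.2, congrArg Subtype.val hp⟩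

end Inverted

/-! ### Subgroups of order 4 -/

section Four

variable {M : Type*} [AddCommGroup M]

theorem mem_four {B : AddSubgroup M} (hB : Nat.card B = 4) (two : ∀ m : M, m + m = 0) {u v : M}
    (hu : u ∈ B) (hv : v ∈ B) (hu0 : u ≠ 0) (hv0 : v ≠ 0) (huv : u ≠ v) {w : M} (hw : w ∈ B) :
    w = 0 ∨ w = u ∨ w = v ∨ w = u + v := by
  classical
  have hfin : (B : Set M).Finite := by
    have : Finite B := Nat.finite_of_card_ne_zero (by rw [hB]; decide)
    exact Set.toFinite _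
  have h1 : (({0, u, v, u + v} : Finset M) : Set M) ⊆ (B : Set M) := by
    intro y hy
    simp only [Finset.coe_insert, Finset.coe_singleton, Set.mem_insert_iff,
      Set.mem_singleton_iff] at hy
    rcases hy with rfl | rfl | rfl | rfl
    · exact zero_mem _
    · exact hu
    · exact hv
    · exact add_mem hu hv
  have h2 : ({0, u, v, u + v} : Finset M).card = 4 := by
    have e1 : u + v ≠ 0 := by
      intro h
      apply huv
      have := eq_neg_of_add_eq_zero_left h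
      rwa [neg_eq_of_add_eq_zero_left (two v)] at this
    have e2 : u ≠ u + v := by simpa using hv0
    have e3 : v ≠ u + v := by simpa using hu0
    rw [Finset.card_insert_of_notMem, Finset.card_insert_of_notMem,
      Finset.card_insert_of_notMem, Finset.card_singleton]
    · simpa using e3
    · simp [huv, hv0]
    · simp [hu0.symm, hv0.symm, e1.symm]
  have h3 : (({0, u, v, u + v} : Finset M) : Set M) = (B : Set M) := by
    refine Set.eq_of_subset_of_ncard_le h1 ?_ hfin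
    rw [Set.ncard_coe_finset, h2, ← hB]
    exact le_of_eq (Nat.card_coe_set_eq (B : Set M)).symm
  have h4 : w ∈ (({0, u, v, u + v} : Finset M) : Set M) := by rw [h3]; exact hw
  simpa only [_root_.Finset.coe_insert, _root_.Finset.coe_singleton, _root_.Set.mem_insert_iff, _root_.Set.mem_singleton_iff] using h4

theorem exists_ne_zero_of_card {B : AddSubgroup M} (hB : 1 < Nat.card B) :
    ∃ u ∈ B, u ≠ 0 := by
  by_contra hcon
  push Not at hcon
  have : B = ⊥ := by
    rw [eq_bot_iff]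
    intro u hu
    simpa only [_root_.AddSubgroup.mem_bot] using hcon u hu
  rw [this] at hB
  simp at hB

theorem exists_ne_ne_of_card {B : AddSubgroup M} (hB : Nat.card B = 4) {u : M} :
    ∃ v ∈ B, v ≠ 0 ∧ v ≠ u := by
  classical
  by_contra hcon
  push Not at hcon
  have h1 : (B : Set M) ⊆ (({0, u} : Finset M) : Set M) := by
    intro y hy
    by_cases h : y = 0
    · simp [h]
    · simp [hcon y hy h]
  have h2 := Set.ncard_le_ncard h1 (Finset.finite_toSet _)
  rw [Set.ncard_coe_finset] at h2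
  have h3 : Set.ncard (B : Set M) = 4 := by rw [← hB]; exact (Nat.card_coe_set_eq _).symm
  have h4 : ({0, u} : Finset M).card ≤ 2 := Finset.card_le_two
  omega

theorem exists_card_two_pow [Finite M] (two : ∀ m : M, m + m = 0) (N : AddSubgroup M) :
    ∃ k, Nat.card N = 2 ^ k := by
  let _ : Module (ZMod 2) N := AddCommGroup.zmodModule (n := 2) fun x => by
    rw [two_nsmul]
    exact Subtype.ext (two x)
  have h := Module.natCard_eq_pow_finrank (K := ZMod 2) (V := N)
  rw [Nat.card_zmod] at h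
  exact ⟨_, h⟩

theorem card_addAut_two [Finite M] (two : ∀ m : M, m + m = 0) {N : AddSubgroup M} {k : ℕ}
    (hk : Nat.card N = 2 ^ k) : Nat.card (AddAut N) = ∏ i : Fin k, (2 ^ k - 2 ^ (i : ℕ)) := by
  let _ : Module (ZMod 2) N := AddCommGroup.zmodModule (n := 2) fun x => by
    rw [two_nsmul]
    exact Subtype.ext (two x)
  exact Transfer.ElemAbAut.card_addAut 2 k hk

theorem card_addAut_dvd [Finite M] (two : ∀ m : M, m + m = 0) {N : AddSubgroup M}
    (hN : Nat.card N ≤ 16) : Nat.card (AddAut N) ∣ 20160 := by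
  obtain ⟨k, hk⟩ := exists_card_two_pow two N
  have hk4 : k ≤ 4 := by
    rw [hk] at hN
    by_contra hcon
    push Not at hcon
    have : 2 ^ 5 ≤ 2 ^ k := Nat.pow_le_pow_right (by decide) hcon
    omega
  rw [card_addAut_two two hk]
  interval_cases k <;> decide

theorem card_sup_le [Finite M] (A B : AddSubgroup M) :
    Nat.card (A ⊔ B : AddSubgroup M) ≤ Nat.card A * Nat.card B := by
  rw [← Nat.card_prod]
  refine Nat.card_le_card_of_surjective
    (fun p : A × B => (⟨p.1 + p.2, AddSubgroup.add_mem_sup p.1.2 p.2.2⟩ : (A ⊔ B : AddSubgroup M)))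
    ?_
  rintro ⟨m, hm⟩
  obtain ⟨a, ha, b, hb, rfl⟩ := AddSubgroup.mem_sup.mp hm
  exact ⟨(⟨a, ha⟩, ⟨b, hb⟩), rfl⟩

end Four

/-! ### Groups acting faithfully on `N ≥ [M,K]` -/

section Into

variable {H M : Type*} [Group H] [AddCommGroup M] [DistribMulAction H M]

/-- an element `g` with `[M,g] ≤ N` acts on `N` -/
def intoAut (N : AddSubgroup M) (g : (into N : Subgroup H)) : AddAut N where
  toFun := fun m => ⟨(g : H) • (m : M), smul_mem_of_into g.2 m.2⟩
  invFun := fun m => ⟨(g : H)⁻¹ • (m : M), smul_mem_of_into (inv_mem g.2) m.2⟩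
  left_inv := fun m => by ext; simp
  right_inv := fun m => by ext; simp
  map_add' := fun m n => by ext; simp only [_root_.AddSubgroup.coe_add, _root_.smul_add, _root_.AddMemClass.mk_add_mk]

/-- the action of `{g | [M,g] ≤ N}` on `N` -/
def intoHom (N : AddSubgroup M) : (into N : Subgroup H) →* Multiplicative (AddAut N) where
  toFun g := Multiplicative.ofAdd (intoAut N g)
  map_one' := by
    apply congrArg Multiplicative.ofAdd
    ext m
    change ((1 : H) • (m : M)) = m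
    rw [one_smul]
  map_mul' g h := by
    apply congrArg Multiplicative.ofAdd
    ext m
    change (((g : H) * (h : H)) • (m : M)) = (g : H) • ((h : H) • (m : M))
    rw [mul_smul]

/-- a group of odd order acting trivially on `M / N` is faithful on `N` -/
theorem card_dvd_addAut [FaithfulSMul H M] (two : ∀ m : M, m + m = 0) {N : AddSubgroup M}
    {K : Subgroup H} (hK : ∀ k ∈ K, br M k ≤ N) (hodd : ∀ k ∈ K, Odd (orderOf k)) :
    Nat.card K ∣ Nat.card (AddAut N) := by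
  let f : K →* Multiplicative (AddAut N) :=
    (intoHom N).comp (Subgroup.inclusion (fun k hk => hK k hk))
  have hf : Function.Injective f := by
    rw [injective_iff_map_eq_one]
    intro k hk
    have h1 : ∀ m ∈ N, (k : H) • m = m := by
      intro m hm
      have h0 : Multiplicative.toAdd (f k) = Multiplicative.toAdd 1 := by rw [hk]
      have h2 : Multiplicative.toAdd (f k) ⟨m, hm⟩ =
        (Multiplicative.toAdd (1 : Multiplicative (AddAut N))) ⟨m, hm⟩ := by rw [h0]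
      exact congrArg Subtype.val h2
    have h3 : (k : H) = 1 := eq_one_of_fix two (hodd k k.2) fun m hm => h1 m (hK k k.2 hm)
    exact Subtype.ext h3
  have h4 : Nat.card K ∣ Nat.card (Multiplicative (AddAut N)) :=
    Subgroup.card_dvd_of_injective f hf
  exact h4

theorem odd_orderOf_of_isPGroup [Finite H] {p : ℕ} (hp : p.Prime) (hp2 : p ≠ 2) {F : Subgroup H}
    (hF : IsPGroup p F) {x : H} (hx : x ∈ F) : Odd (orderOf x) := by
  have : Fact p.Prime := ⟨hp⟩
  obtain ⟨k, hk⟩ := IsPGroup.iff_orderOf.mp hF ⟨x, hx⟩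
  rw [Subgroup.orderOf_mk] at hk
  rw [hk]
  exact (hp.odd_of_ne_two hp2).pow

end Into

/-! ### (3.3) natural elements -/

section Natural

variable {H M : Type*} [Group H] [AddCommGroup M] [DistribMulAction H M]

theorem nat_sq (two : ∀ m : M, m + m = 0) {x : H} (hx : Odd (orderOf x))
    (hn : Nat.card (br M x) = 4) {u : M} (hu : u ∈ br M x) : x • x • u = u + x • u := by
  by_cases hu0 : u = 0
  · simp [hu0]
  have h1 : x • u ≠ u := fun h => hu0 (br_inf_fx two hx hu h)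
  have h2 : x • u ≠ 0 := fun h => hu0 ((smul_eq_zero_iff_eq x).mp h)
  rcases mem_four hn two hu (smul_mem_br_self hu) hu0 h2 h1.symm
    (smul_mem_br_self (smul_mem_br_self hu)) with h | h | h | h
  · exact absurd ((smul_eq_zero_iff_eq x).mp h) h2
  · exact absurd (fix_of_sq hx h) h1
  · exact absurd (smul_left_cancel x h) h1
  · exact h

theorem nat_sum (two : ∀ m : M, m + m = 0) {x : H} (hx : Odd (orderOf x))
    (hn : Nat.card (br M x) = 4) {u : M} (hu : u ∈ br M x) : u + x • u + x ^ 2 • u = 0 := by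
  rw [pow_two, mul_smul, nat_sq two hx hn hu, two]

theorem nat_cube [FaithfulSMul H M] (two : ∀ m : M, m + m = 0) {x : H} (hx : Odd (orderOf x))
    (hn : Nat.card (br M x) = 4) : x ^ 3 = 1 := by
  refine eq_one_of_fix two (Odd.of_dvd_nat hx (orderOf_pow_dvd 3)) fun m hm => ?_
  have hm' := br_pow_le x 3 hm
  rw [pow_succ', pow_two, mul_smul, mul_smul, nat_sq two hx hn hm', smul_add,
    nat_sq two hx hn hm', add_comm (x • m), add_assoc, two, add_zero]

theorem nat_ne_one {x : H} (hn : Nat.card (br M x) = 4) : x ≠ 1 := by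
  rintro rfl
  rw [br_one] at hn
  simp at hn

theorem nat_orderOf [FaithfulSMul H M] (two : ∀ m : M, m + m = 0) {x : H} (hx : Odd (orderOf x))
    (hn : Nat.card (br M x) = 4) : orderOf x = 3 :=
  orderOf_eq_prime (nat_cube two hx hn) (nat_ne_one hn)

/-- the four elements of a natural block -/
theorem nat_cases (two : ∀ m : M, m + m = 0) {x : H} (hx : Odd (orderOf x))
    (hn : Nat.card (br M x) = 4) {u : M} (hu : u ∈ br M x) (hu0 : u ≠ 0) {w : M}
    (hw : w ∈ br M x) : w = 0 ∨ w = u ∨ w = x • u ∨ w = x ^ 2 • u := by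
  have h1 : x • u ≠ u := fun h => hu0 (br_inf_fx two hx hu h)
  have h2 : x • u ≠ 0 := fun h => hu0 ((smul_eq_zero_iff_eq x).mp h)
  rcases mem_four hn two hu (smul_mem_br_self hu) hu0 h2 h1.symm hw with h | h | h | h
  · exact Or.inl h
  · exact Or.inr (Or.inl h)
  · exact Or.inr (Or.inr (Or.inl h))
  · right; right; right
    rw [h, pow_two, mul_smul, nat_sq two hx hn hu]

variable [Finite H] [Finite M] [FaithfulSMul H M]

theorem nat_comm (two : ∀ m : M, m + m = 0) {p : ℕ} (hp : p.Prime) (hp2 : p ≠ 2)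
    {F : Subgroup H} (hF : IsPGroup p F) {x y : H} (hx : x ∈ F) (hy : y ∈ F)
    (hnx : Nat.card (br M x) = 4) (hny : Nat.card (br M y) = 4) : x * y = y * x := by
  have hox := odd_orderOf_of_isPGroup hp hp2 hF hx
  have hoy := odd_orderOf_of_isPGroup hp hp2 hF hy
  have : Fact p.Prime := ⟨hp⟩
  have hp3 : p = 3 := by
    obtain ⟨k, hk⟩ := IsPGroup.iff_orderOf.mp hF ⟨x, hx⟩
    rw [Subgroup.orderOf_mk, nat_orderOf two hox hnx] at hk
    have h1 : p ∣ 3 := by
      rcases Nat.eq_zero_or_pos k with rfl | hk0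
      · simp at hk
      · rw [hk]; exact dvd_pow_self p hk0.ne'
    exact (Nat.prime_dvd_prime_iff_eq hp Nat.prime_three).mp h1
  subst hp3
  set K : Subgroup H := Subgroup.closure {x, y} with hK
  have hKF : K ≤ F := by
    rw [hK, Subgroup.closure_le]
    rintro z (rfl | rfl)
    · exact hx
    · exact hy
  set N : AddSubgroup M := br M x ⊔ br M y with hN
  have hKN : K ≤ into N := by
    rw [hK, Subgroup.closure_le]
    rintro z (rfl | rfl)
    · exact mem_into.mpr le_sup_left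
    · exact mem_into.mpr le_sup_right
  have hN16 : Nat.card N ≤ 16 := by
    have := card_sup_le (br M x) (br M y)
    rwa [hnx, hny] at this
  have hdvd : Nat.card K ∣ 20160 :=
    (card_dvd_addAut two (fun k hk => hKN hk)
      (fun k hk => odd_orderOf_of_isPGroup hp hp2 hF (hKF hk))).trans (card_addAut_dvd two hN16)
  have hKp : IsPGroup 3 K := hF.to_le hKF
  obtain ⟨k, hk⟩ := IsPGroup.iff_card.mp hKp
  have hk2 : k ≤ 2 := by
    by_contra hcon
    push Not at hcon
    have h27 : 27 ∣ 20160 := by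
      refine dvd_trans ?_ hdvd
      rw [hk]
      exact pow_dvd_pow 3 hcon
    revert h27
    decide
  have hcomm : ∀ g h : K, g * h = h * g := by
    interval_cases k
    · have : Subsingleton K := (Nat.card_eq_one_iff_unique.mp (by simpa only [_root_.Subgroup.card_eq_one, _root_.pow_zero] using hk)).1
      intro g h
      exact Subsingleton.elim _ _
    · have : IsCyclic K := isCyclic_of_prime_card (p := 3) (by simpa only [_root_.pow_one] using hk)
      intro g h
      exact (IsCyclic.commGroup (α := K)).mul_comm g h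
    · intro g h
      exact (IsPGroup.commGroupOfCardEqPrimeSq (p := 3) hk).mul_comm g h
  have hxK : x ∈ K := Subgroup.subset_closure (by simp)
  have hyK : y ∈ K := Subgroup.subset_closure (by simp)
  exact congrArg Subtype.val (hcomm ⟨x, hxK⟩ ⟨y, hyK⟩)

/-- (3.3) two natural elements with meeting blocks generate the same group -/
theorem nat_same (two : ∀ m : M, m + m = 0) {p : ℕ} (hp : p.Prime) (hp2 : p ≠ 2)
    {F : Subgroup H} (hF : IsPGroup p F) {x y : H} (hx : x ∈ F) (hy : y ∈ F)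
    (hnx : Nat.card (br M x) = 4) (hny : Nat.card (br M y) = 4) {u : M} (hux : u ∈ br M x)
    (huy : u ∈ br M y) (hu0 : u ≠ 0) : br M x = br M y ∧ (y = x ∨ y = x⁻¹) := by
  have hc := nat_comm two hp hp2 hF hx hy hnx hny
  have hox := odd_orderOf_of_isPGroup hp hp2 hF hx
  have hoy := odd_orderOf_of_isPGroup hp hp2 hF hy
  have hle : br M x ≤ br M y := by
    intro w hw
    rcases nat_cases two hox hnx hux hu0 hw with rfl | rfl | rfl | rfl
    · exact zero_mem _
    · exact huy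
    · exact smul_mem_br_of_comm hc huy
    · rw [pow_two, mul_smul]
      exact smul_mem_br_of_comm hc (smul_mem_br_of_comm hc huy)
  have heq : br M x = br M y := AddSubgroup.eq_of_le_of_card_ge hle (by rw [hnx, hny])
  refine ⟨heq, ?_⟩
  have key : ∀ z : H, z ∈ F → br M z ≤ br M y → z * y = y * z → z • u = u → z = 1 := by
    intro z hz hzy hzc hzu
    refine eq_one_of_fix two (odd_orderOf_of_isPGroup hp hp2 hF hz) fun m hm => ?_
    rcases nat_cases two hoy hny huy hu0 (hzy hm) with rfl | rfl | rfl | rfl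
    · simp
    · exact hzu
    · rw [← mul_smul, hzc, mul_smul, hzu]
    · rw [pow_two, mul_smul, ← mul_smul z, hzc, mul_smul, ← mul_smul z, hzc, mul_smul, hzu]
  have hyu0 : y • u ≠ 0 := fun h => hu0 ((smul_eq_zero_iff_eq y).mp h)
  rcases nat_cases two hox hnx hux hu0 (heq ▸ smul_mem_br_self huy : y • u ∈ br M x)
    with h | h | h | h
  · exact absurd h hyu0
  · exact absurd (br_inf_fx two hoy huy h) hu0
  · left
    have h1 : x⁻¹ * y = 1 := by
      refine key _ (mul_mem (inv_mem hx) hy) ?_ ?_ ?_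
      · refine (br_mul_le _ _).trans (sup_le ?_ le_rfl)
        rw [br_inv, heq]
      · have hc' : Commute x y := hc
        exact (hc'.inv_left.mul_left (Commute.refl y)).eq
      · rw [mul_smul, h, inv_smul_smul]
    have := inv_mul_eq_one.mp h1
    exact this.symm
  · right
    have h3 := nat_cube two hox hnx
    have h1 : x * y = 1 := by
      refine key _ (mul_mem hx hy) ?_ ?_ ?_
      · refine (br_mul_le _ _).trans (sup_le ?_ le_rfl)
        rw [heq]
      · have hc' : Commute x y := hc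
        exact (hc'.mul_left (Commute.refl y)).eq
      · rw [mul_smul, h, ← mul_smul, ← pow_succ', h3, one_smul]
    exact eq_inv_of_mul_eq_one_right h1

/-- (3.3) natural elements with different blocks centralise each other's block -/
theorem nat_indep (two : ∀ m : M, m + m = 0) {p : ℕ} (hp : p.Prime) (hp2 : p ≠ 2)
    {F : Subgroup H} (hF : IsPGroup p F) {x y : H} (hx : x ∈ F) (hy : y ∈ F)
    (hnx : Nat.card (br M x) = 4) (hny : Nat.card (br M y) = 4) (hne : br M x ≠ br M y) :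
    br M y ≤ fx M x := by
  have hc := nat_comm two hp hp2 hF hx hy hnx hny
  intro u hu
  rw [mem_fx]
  by_contra hcon
  have h1 : x • u - u ∈ br M x := sub_mem_br x u
  have h2 : x • u - u ∈ br M y := sub_mem (smul_mem_br_of_comm hc hu) hu
  exact hne (nat_same two hp hp2 hF hx hy hnx hny h1 h2 (sub_ne_zero.mpr hcon)).1

/-- (3.3) a conjugate of a natural element -/
theorem nat_conj {x : H} (hnx : Nat.card (br M x) = 4) (h : H) :
    Nat.card (br M (h * x * h⁻¹)) = 4 := by rw [card_br_conj, hnx]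

end Natural

/-! ### (3.2) and (3.1) -/

section Quad

variable {H M : Type*} [Group H] [AddCommGroup M] [DistribMulAction H M]

/-- (3.2): `a` inverts `x`, `a` centralises `[M,b]`, `b` commutes with `x`: `b` is trivial on `[M,x]` -/
theorem triv_on_br (two : ∀ m : M, m + m = 0) {a b x : H} (hx : Odd (orderOf x))
    (hi : a * x * a⁻¹ = x⁻¹) (hq : ∀ m : M, a • (b • m - m) = b • m - m) (hb : b * x = x * b)
    {m : M} (hm : m ∈ br M x) : b • m = m := by
  have h1 : b • m - m ∈ br M x := sub_mem (smul_mem_br_of_comm hb hm) hm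
  have h2 : a • (b • m - m) = b • m - m := hq m
  have h3 : a • (x • (b • m - m)) = x • (b • m - m) := by
    have := hq (x • m)
    rwa [← mul_smul, hb, mul_smul, ← smul_sub] at this
  have h4 : x • x • (b • m - m) = b • m - m := by
    rw [inv_smul_of_inv hi h2] at h3
    rw [← h3, smul_inv_smul]
  exact sub_eq_zero.mp (br_inf_fx two hx h1 (fix_of_sq hx h4))

/-- `[F,A]` -/
def cmm (F A : Subgroup H) : Subgroup H :=
  Subgroup.closure {g | ∃ f ∈ F, ∃ a ∈ A, f * a * f⁻¹ * a⁻¹ = g}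

theorem cmm_le {F A : Subgroup H} (hn : ∀ a ∈ A, ∀ f ∈ F, a * f * a⁻¹ ∈ F) : cmm F A ≤ F := by
  rw [cmm, Subgroup.closure_le]
  rintro _ ⟨f, hf, a, ha, rfl⟩
  have : f * a * f⁻¹ * a⁻¹ = f * (a * f * a⁻¹)⁻¹ := by group
  rw [this]
  exact mul_mem hf (inv_mem (hn a ha f hf))

theorem conj_mem_cmm {F A : Subgroup H} {g : H} (h1 : ∀ f ∈ F, g * f * g⁻¹ ∈ F)
    (h2 : ∀ a ∈ A, g * a * g⁻¹ ∈ A) {c : H} (hc : c ∈ cmm F A) : g * c * g⁻¹ ∈ cmm F A := by
  induction hc using Subgroup.closure_induction with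
  | mem x hx =>
    obtain ⟨f, hf, a, ha, rfl⟩ := hx
    refine Subgroup.subset_closure ⟨g * f * g⁻¹, h1 f hf, g * a * g⁻¹, h2 a ha, ?_⟩
    group
  | one => simp
  | mul x y _ _ hx hy =>
    have : g * (x * y) * g⁻¹ = g * x * g⁻¹ * (g * y * g⁻¹) := by group
    rw [this]
    exact mul_mem hx hy
  | inv x _ hx =>
    have : g * x⁻¹ * g⁻¹ = (g * x * g⁻¹)⁻¹ := by group
    rw [this]
    exact inv_mem hx

theorem conj_mem_cmm' {F A : Subgroup H} {g : H} (hg : g ∈ F) {c : H} (hc : c ∈ cmm F A) :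
    g * c * g⁻¹ ∈ cmm F A := by
  induction hc using Subgroup.closure_induction with
  | mem x hx =>
    obtain ⟨f, hf, a, ha, rfl⟩ := hx
    have h1 : g * f * a * (g * f)⁻¹ * a⁻¹ ∈ cmm F A :=
      Subgroup.subset_closure ⟨g * f, mul_mem hg hf, a, ha, rfl⟩
    have h2 : g * a * g⁻¹ * a⁻¹ ∈ cmm F A := Subgroup.subset_closure ⟨g, hg, a, ha, rfl⟩
    have : g * (f * a * f⁻¹ * a⁻¹) * g⁻¹ =
      (g * f * a * (g * f)⁻¹ * a⁻¹) * (g * a * g⁻¹ * a⁻¹)⁻¹ := by group
    rw [this]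
    exact mul_mem h1 (inv_mem h2)
  | one => simp
  | mul x y _ _ hx hy =>
    have : g * (x * y) * g⁻¹ = g * x * g⁻¹ * (g * y * g⁻¹) := by group
    rw [this]
    exact mul_mem hx hy
  | inv x _ hx =>
    have : g * x⁻¹ * g⁻¹ = (g * x * g⁻¹)⁻¹ := by group
    rw [this]
    exact inv_mem hx

/-- `[M,K]` -/
def brs (M : Type*) [AddCommGroup M] [DistribMulAction H M] (K : Subgroup H) : AddSubgroup M :=
  ⨆ k : K, br M (k : H)

/-- `C_M(K)` -/
def fxs (M : Type*) [AddCommGroup M] [DistribMulAction H M] (K : Subgroup H) : AddSubgroup M :=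
  ⨅ k : K, fx M (k : H)

theorem mem_fxs {K : Subgroup H} {m : M} : m ∈ fxs M K ↔ ∀ k ∈ K, k • m = m := by
  simp only [fxs, AddSubgroup.mem_iInf, mem_fx, Subtype.forall]

theorem br_le_brs {K : Subgroup H} {k : H} (hk : k ∈ K) : br M k ≤ brs M K :=
  le_iSup (fun k : K => br M (k : H)) ⟨k, hk⟩

theorem brs_le {K : Subgroup H} {N : AddSubgroup M} (h : ∀ k ∈ K, br M k ≤ N) : brs M K ≤ N :=
  iSup_le fun k => h k k.2

theorem smul_mem_brs {K : Subgroup H} {g : H} (hg : ∀ k ∈ K, g * k * g⁻¹ ∈ K) {m : M}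
    (hm : m ∈ brs M K) : g • m ∈ brs M K := by
  have h : brs M K ≤ (brs M K).comap (DistribSMul.toAddMonoidHom M g) := by
    refine brs_le fun k hk m hm => ?_
    exact br_le_brs (hg k hk) (smul_mem_br_conj g hm)
  exact h hm

theorem smul_mem_fxs {K : Subgroup H} {g : H} (hg : ∀ k ∈ K, g⁻¹ * k * g ∈ K) {m : M}
    (hm : m ∈ fxs M K) : g • m ∈ fxs M K := by
  rw [mem_fxs] at hm ⊢
  intro k hk
  have := hm _ (hg k hk)
  rw [mul_smul, mul_smul, inv_smul_eq_iff] at this
  exact this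

theorem smul_brs_le {K : Subgroup H} {g : H} {m : M} (hm : m ∈ brs M K)
    (h : ∀ k ∈ K, ∀ n ∈ br M k, g • n = n) : g • m = m := by
  have h' : brs M K ≤ fx M g := brs_le fun k hk n hn => h k hk n hn
  exact h' hm

variable [Finite H]

/-- `M = [M,K] + C_M(K)`, `K` of odd order -/
theorem exists_decomp_sub (two : ∀ m : M, m + m = 0) {K : Subgroup H} (hK : Odd (Nat.card K))
    (m : M) : ∃ d ∈ brs M K, ∃ c ∈ fxs M K, d + c = m := by
  classical
  have : Fintype K := Fintype.ofFinite K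
  let c : M := ∑ k : K, (k : H) • m
  have hc : c ∈ fxs M K := by
    rw [mem_fxs]
    intro g hg
    change g • (∑ k : K, (k : H) • m) = ∑ k : K, (k : H) • m
    rw [Finset.smul_sum]
    refine Fintype.sum_equiv (Equiv.mulLeft (⟨g, hg⟩ : K)) _ _ fun k => ?_
    change g • (k : H) • m = (g * (k : H)) • m
    rw [mul_smul]
  have hd : m - c ∈ brs M K := by
    have h1 : c = ∑ k : K, ((k : H) • m - m) + m := by
      rw [Finset.sum_sub_distrib]
      simp only [Finset.sum_const, Finset.card_univ]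
      rw [← Nat.card_eq_fintype_card, odd_nsmul two hK]
      abel
    have h2 : ∑ k : K, ((k : H) • m - m) ∈ brs M K :=
      AddSubgroup.sum_mem _ fun k _ => br_le_brs k.2 (sub_mem_br _ _)
    have h3 : m - c = -∑ k : K, ((k : H) • m - m) := by rw [h1]; abel
    rw [h3]
    exact neg_mem h2
  exact ⟨m - c, hd, c, hc, by abel⟩

/-- `[M,K] ∩ C_M(K) = 0`, `K` of odd order -/
theorem brs_inf_fxs (two : ∀ m : M, m + m = 0) {K : Subgroup H} (hK : Odd (Nat.card K))
    {m : M} (hm : m ∈ brs M K) (hf : m ∈ fxs M K) : m = 0 := by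
  classical
  have : Fintype K := Fintype.ofFinite K
  -- the trace kills `[M,K]`
  let tr : M →+ M :=
    { toFun := fun m => ∑ k : K, (k : H) • m
      map_zero' := by simp only [_root_.smul_zero, _root_.Finset.sum_const_zero]
      map_add' := fun a b => by simp only [smul_add, Finset.sum_add_distrib] }
  have h1 : brs M K ≤ tr.ker := by
    refine brs_le fun g hg => ?_
    rintro _ ⟨n, rfl⟩
    rw [AddMonoidHom.mem_ker, map_sub, sub_eq_zero]
    change ∑ k : K, (k : H) • g • n = ∑ k : K, (k : H) • n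
    refine Fintype.sum_equiv (Equiv.mulRight (⟨g, hg⟩ : K)) _ _ fun k => ?_
    change (k : H) • g • n = ((k : H) * g) • n
    rw [mul_smul]
  have h2 : tr m = 0 := h1 hm
  have h3 : tr m = Nat.card K • m := by
    change ∑ k : K, (k : H) • m = _
    rw [Finset.sum_congr rfl (fun (k : K) _ => (mem_fxs.mp hf) k k.2)]
    simp only [Finset.sum_const, Finset.card_univ, Nat.card_eq_fintype_card]
  rw [h3] at h2
  exact eq_zero_of_odd_nsmul two hK h2

/-- a 2-group acting on a nonzero invariant subgroup of `M` fixes a nonzero vector in it -/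
theorem exists_fixed [Finite M] (two : ∀ m : M, m + m = 0) {T : Subgroup H} (hT : IsPGroup 2 T)
    {N : AddSubgroup M} (hN : ∀ t ∈ T, ∀ m ∈ N, t • m ∈ N) (h0 : N ≠ ⊥) :
    ∃ m ∈ N, m ≠ 0 ∧ ∀ t ∈ T, t • m = m := by
  classical
  let _ : MulAction T N :=
    { smul := fun t m => ⟨(t : H) • (m : M), hN t t.2 m m.2⟩
      one_smul := fun m => Subtype.ext (one_smul H (m : M))
      mul_smul := fun s t m => Subtype.ext (mul_smul (s : H) (t : H) (m : M)) }
  have hsm : ∀ (t : T) (m : N), ((t • m : N) : M) = (t : H) • (m : M) := fun _ _ => rfl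
  have h2 : 2 ∣ Nat.card N := by
    obtain ⟨k, hk⟩ := exists_card_two_pow two N
    rcases Nat.eq_zero_or_pos k with rfl | hk0
    · exfalso
      apply h0
      rw [pow_zero] at hk
      exact AddSubgroup.card_eq_one.mp hk
    · rw [hk]; exact dvd_pow_self 2 hk0.ne'
  have hz : (0 : N) ∈ MulAction.fixedPoints T N := by
    intro t
    exact Subtype.ext (by rw [hsm]; exact smul_zero _)
  obtain ⟨b, hb, hb0⟩ := hT.exists_fixed_point_of_prime_dvd_card_of_fixed_point N h2 hz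
  refine ⟨b, b.2, fun h => hb0 (Subtype.ext h.symm), fun t ht => ?_⟩
  have := congrArg Subtype.val (hb ⟨t, ht⟩)
  rwa [hsm] at this

/-- **(3.1)**: `A` (quadratic on `M`, not centralising the odd order group `F`) is trivial on `C_M([F,A])` and faithful
on `F`. `FIX`: a `T`-fixed vector of `[M,A]` is `v0`. -/
theorem faithful_on_F [Finite M] [FaithfulSMul H M] (two : ∀ m : M, m + m = 0) {v0 : M}
    {A F T : Subgroup H} (hq : ∀ a ∈ A, ∀ b ∈ A, ∀ m : M, a • (b • m - m) = b • m - m)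
    (hF : Odd (Nat.card F)) (hAF : ∀ a ∈ A, ∀ f ∈ F, a * f * a⁻¹ ∈ F)
    (hT : IsPGroup 2 T) (hTA : ∀ t ∈ T, ∀ a ∈ A, t * a * t⁻¹ ∈ A)
    (hTF : ∀ t ∈ T, ∀ f ∈ F, t * f * t⁻¹ ∈ F)
    (FIX : ∀ m ∈ brs M A, m ≠ 0 → (∀ t ∈ T, t • m = m) → m = v0)
    (hne : ∃ a ∈ A, ∃ f ∈ F, a * f ≠ f * a) :
    (∀ a ∈ A, ∀ m ∈ fxs M (cmm F A), a • m = m) ∧
      (∀ b ∈ A, (∀ f ∈ F, b * f = f * b) → b = 1) := by
  classical
  set P := cmm F A with hP
  have hPF : P ≤ F := cmm_le hAF
  have hPodd : Odd (Nat.card P) := Odd.of_dvd_nat hF (Subgroup.card_dvd_of_le hPF)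
  have hTP : ∀ t ∈ T, ∀ k ∈ P, t * k * t⁻¹ ∈ P := fun t ht k hk =>
    conj_mem_cmm (hTF t ht) (hTA t ht) hk
  -- a group trivially acted on by `A` and `F`-invariant is centralised by `P`
  have key : ∀ U : AddSubgroup M, (∀ f ∈ F, ∀ u ∈ U, f • u ∈ U) → (∀ a ∈ A, ∀ u ∈ U, a • u = u) →
      ∀ k ∈ P, ∀ u ∈ U, k • u = u := by
    intro U hU1 hU2 k hk u hu
    have : P ≤ MulAction.stabilizer H u := by
      rw [hP, cmm, Subgroup.closure_le]
      rintro _ ⟨f, hf, a, ha, rfl⟩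
      change (f * a * f⁻¹ * a⁻¹) • u = u
      have h1 : a⁻¹ • u = u := by rw [inv_smul_eq_iff, hU2 a ha u hu]
      have h2 : f⁻¹ • u ∈ U := hU1 _ (inv_mem hf) u hu
      rw [mul_smul, mul_smul, mul_smul, h1, hU2 a ha _ h2, smul_inv_smul]
    exact this hk
  have hPA : ∀ a ∈ A, ∀ k ∈ P, a * k * a⁻¹ ∈ P := fun a ha k hk =>
    conj_mem_cmm (hAF a ha) (fun b hb => mul_mem (mul_mem ha hb) (inv_mem ha)) hk
  -- A is nontrivial on [M,P]
  have hA1 : ∃ a ∈ A, ∃ m ∈ brs M P, a • m - m ≠ 0 := by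
    by_contra hcon
    push Not at hcon
    have h1 : ∀ k ∈ P, ∀ u ∈ brs M P, k • u = u := by
      refine key (brs M P) (fun f hf u hu => smul_mem_brs (fun k hk => conj_mem_cmm' hf hk) hu)
        (fun a ha u hu => sub_eq_zero.mp (hcon a ha u hu))
    have h2 : ∀ k ∈ P, k = 1 := by
      intro k hk
      refine FaithfulSMul.eq_of_smul_eq_smul (α := M) fun m => ?_
      have h3 : k • m - m ∈ brs M P := br_le_brs hk (sub_mem_br k m)
      have h4 : k • m - m ∈ fxs M P := mem_fxs.mpr fun g hg => h1 g hg _ h3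
      rw [one_smul]
      exact sub_eq_zero.mp (brs_inf_fxs two hPodd h3 h4)
    obtain ⟨a, ha, f, hf, hne⟩ := hne
    apply hne
    have h3 : f * a * f⁻¹ * a⁻¹ = 1 := h2 _ (Subgroup.subset_closure ⟨f, hf, a, ha, rfl⟩)
    have h4 : f * a = a * f := by
      have := mul_inv_eq_one.mp h3
      have h5 := mul_inv_eq_iff_eq_mul.mp this
      exact h5
    exact h4.symm
  have hb1 : ∀ N : AddSubgroup M, (∀ t ∈ T, ∀ m ∈ N, t • m ∈ N) →
      (∀ a ∈ A, ∀ m ∈ N, a • m ∈ N) → (∃ a ∈ A, ∃ m ∈ N, a • m - m ≠ 0) → v0 ∈ N := by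
    intro N hN1 hN2 hN3
    let U : AddSubgroup M := AddSubgroup.closure {u | ∃ a ∈ A, ∃ m ∈ N, a • m - m = u}
    have hUN : U ≤ N := by
      rw [AddSubgroup.closure_le]
      rintro _ ⟨a, ha, m, hm, rfl⟩
      exact sub_mem (hN2 a ha m hm) hm
    have hUA : U ≤ brs M A := by
      rw [AddSubgroup.closure_le]
      rintro _ ⟨a, ha, m, hm, rfl⟩
      exact br_le_brs ha (sub_mem_br a m)
    have hUT : ∀ t ∈ T, ∀ m ∈ U, t • m ∈ U := by
      intro t ht
      have : U ≤ U.comap (DistribSMul.toAddMonoidHom M t) := by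
        rw [AddSubgroup.closure_le]
        rintro _ ⟨a, ha, m, hm, rfl⟩
        refine AddSubgroup.subset_closure ⟨t * a * t⁻¹, hTA t ht a ha, t • m, hN1 t ht m hm, ?_⟩
        change (t * a * t⁻¹) • t • m - t • m = t • (a • m - m)
        rw [smul_sub, mul_smul, mul_smul, inv_smul_smul]
      exact fun m hm => this hm
    have hU0 : U ≠ ⊥ := by
      obtain ⟨a, ha, m, hm, h⟩ := hN3
      intro h0
      apply h
      have : a • m - m ∈ U := AddSubgroup.subset_closure ⟨a, ha, m, hm, rfl⟩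
      rw [h0] at this
      simpa using this
    obtain ⟨u, hu, hu0, huT⟩ := exists_fixed two hT hUT hU0
    rw [← FIX u (hUA hu) hu0 huT]
    exact hUN hu
  have hA2 : ∀ a ∈ A, ∀ m ∈ fxs M P, a • m = m := by
    by_contra hcon
    push Not at hcon
    obtain ⟨a, ha, m, hm, h⟩ := hcon
    have h1 : v0 ∈ brs M P := hb1 _ (fun t ht m hm => smul_mem_brs (hTP t ht) hm)
      (fun a ha m hm => smul_mem_brs (hPA a ha) hm) hA1
    have h2 : v0 ∈ fxs M P := by
      refine hb1 _ (fun t ht m hm => smul_mem_fxs (fun k hk => ?_) hm)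
        (fun a ha m hm => smul_mem_fxs (fun k hk => ?_) hm) ⟨a, ha, m, hm, sub_ne_zero.mpr h⟩
      · simpa only [_root_.inv_inv] using hTP t⁻¹ (inv_mem ht) k hk
      · simpa using hPA a⁻¹ (inv_mem ha) k hk
    have h3 : v0 = 0 := brs_inf_fxs two hPodd h1 h2
    -- but `v0 ≠ 0`: use FIX on the nonzero vector
    obtain ⟨a', ha', m', hm', h'⟩ := hA1
    let U : AddSubgroup M := brs M A
    have hU0 : U ≠ ⊥ := by
      intro h0
      apply h'
      have : a' • m' - m' ∈ U := br_le_brs ha' (sub_mem_br a' m')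
      rw [h0] at this
      simpa using this
    obtain ⟨u, hu, hu0, huT⟩ := exists_fixed two hT (N := U)
      (fun t ht m hm => smul_mem_brs (hTA t ht) hm) hU0
    exact hu0 ((FIX u hu hu0 huT).trans h3)
  refine ⟨hA2, fun b hb hbF => ?_⟩
  -- [M,b] is F-invariant and centralised by A
  have h1 : ∀ k ∈ P, ∀ u ∈ br M b, k • u = u := by
    refine key (br M b) (fun f hf u hu => smul_mem_br_of_comm (hbF f hf).symm hu) ?_
    rintro a ha _ ⟨n, rfl⟩
    exact hq a ha b hb n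
  have h2 : ∀ m ∈ brs M P, b • m = m := by
    intro m hm
    refine smul_brs_le hm fun k hk n hn => ?_
    obtain ⟨l, rfl⟩ := hn
    have h3 : b * k = k * b := hbF k (hPF hk)
    have h4 := h1 k hk _ (sub_mem_br b l)
    have h5 : b • (k • l - l) - (k • l - l) = k • (b • l - l) - (b • l - l) := by
      rw [smul_sub, smul_sub, ← mul_smul, ← mul_smul, h3]
      abel
    rw [← sub_eq_zero, h5, h4, sub_self]
  refine FaithfulSMul.eq_of_smul_eq_smul (α := M) fun m => ?_
  obtain ⟨d, hd, c, hc, rfl⟩ := exists_decomp_sub two hPodd m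
  rw [smul_add, h2 d hd, hA2 b hb c hc, one_smul]

end Quad

end Cfsg.Agent.Omega.NO3S.Fit.Abs

end

section


/-!
# Text #13963, section 3 with `A = ⟨a⟩`: the context and the case `|[M,a]| = 2` (M12)

`Ctx v0 a T` : `H` faithful on `M`, `M` generated by the orbit of `v0`, `a` an involution of `H_0 = Stab(v0)` centralised
by `H_0`, `T ≤ H_0` a Sylow 2-subgroup of `H`, LEMMA FIX, `|[M,a]| ≤ 4` and LEMMA PLANE (`pl`).
-/

set_option autoImplicit false
set_option linter.unusedSectionVars false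

open scoped Pointwise

namespace Cfsg.Agent.Omega.NO3S.Fit.Abs

variable {H M : Type*} [Group H] [AddCommGroup M] [DistribMulAction H M]

/-- the context of section 3, `A = ⟨a⟩` -/
structure Ctx (v0 : M) (a : H) (T : Subgroup H) : Prop where
  two : ∀ m : M, m + m = 0
  ne : v0 ≠ 0
  span : AddSubgroup.closure (Set.range fun h : H => h • v0) = ⊤
  sq : a * a = 1
  a1 : a ≠ 1
  fix : a • v0 = v0
  cen : ∀ h : H, h • v0 = v0 → h * a = a * h
  T2 : IsPGroup 2 T
  Ti : ¬ 2 ∣ T.index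
  T0 : ∀ t ∈ T, t • v0 = v0
  FIX : ∀ m ∈ br M a, m ≠ 0 → (∀ t ∈ T, t • m = m) → m = v0
  le4 : Nat.card (br M a) ≤ 4
  pl : Nat.card (br M a) = 4 → ∀ f : H, f * a = a * f → f • v0 = v0

/-- the span of the `K`-orbit of `v` -/
def sp (K : Subgroup H) (v : M) : AddSubgroup M := AddSubgroup.closure {m | ∃ k ∈ K, k • v = m}

theorem mem_sp {K : Subgroup H} {v : M} {k : H} (hk : k ∈ K) : k • v ∈ sp K v :=
  AddSubgroup.subset_closure ⟨k, hk, rfl⟩

theorem sp_le {K : Subgroup H} {v : M} {N : AddSubgroup M} (h : ∀ k ∈ K, k • v ∈ N) :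
    sp K v ≤ N := by
  rw [sp, AddSubgroup.closure_le]
  rintro _ ⟨k, hk, rfl⟩
  exact h k hk

theorem smul_mem_sp {K : Subgroup H} {v : M} {k : H} (hk : k ∈ K) {m : M} (hm : m ∈ sp K v) :
    k • m ∈ sp K v := by
  have h : sp K v ≤ (sp K v).comap (DistribSMul.toAddMonoidHom M k) := by
    refine sp_le fun l hl => ?_
    change k • l • v ∈ sp K v
    rw [← mul_smul]
    exact mem_sp (mul_mem hk hl)
  exact h hm

namespace Ctx

variable {v0 : M} {a : H} {T : Subgroup H}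

theorem inv_a (c : Ctx v0 a T) : a⁻¹ = a := inv_eq_of_mul_eq_one_right c.sq

theorem fix_br (c : Ctx v0 a T) {m : M} (hm : m ∈ br M a) : a • m = m := by
  obtain ⟨n, rfl⟩ := hm
  rw [smul_sub, ← mul_smul, c.sq, one_smul, sub_eq c.two, sub_eq c.two, add_comm]

theorem smul_br_of_stab (c : Ctx v0 a T) {h : H} (hh : h • v0 = v0) {m : M} (hm : m ∈ br M a) :
    h • m ∈ br M a := smul_mem_br_of_comm (c.cen h hh) hm

theorem stab_inv {h : H} (hh : h • v0 = v0) : h⁻¹ • v0 = v0 := by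
  rw [inv_smul_eq_iff, hh]

theorem exists_inverted (c : Ctx v0 a T) {F : Subgroup H} [F.Normal] (hF : ∃ f ∈ F, f * a ≠ a * f) :
    ∃ x ∈ F, x ≠ 1 ∧ a * x * a⁻¹ = x⁻¹ := by
  obtain ⟨f, hf, hne⟩ := hF
  have hFn : F.Normal := inferInstance
  refine ⟨f * (a * f⁻¹ * a⁻¹), mul_mem hf (hFn.conj_mem _ (inv_mem hf) a), ?_, ?_⟩
  · intro h
    apply hne
    have h1 : f * a * f⁻¹ * a⁻¹ = 1 := by rw [← h]; group
    have := mul_inv_eq_one.mp h1
    exact mul_inv_eq_iff_eq_mul.mp this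
  · have h2 : a * (f * (a * f⁻¹ * a⁻¹)) * a⁻¹ = a * f * a * f⁻¹ * (a⁻¹ * a⁻¹) := by group
    have h3 : (f * (a * f⁻¹ * a⁻¹))⁻¹ = a * f * a⁻¹ * f⁻¹ := by group
    rw [h2, h3, c.inv_a, c.sq, mul_one]

variable [Finite H] [Finite M] [FaithfulSMul H M]

theorem v0_mem (c : Ctx v0 a T) : v0 ∈ br M a := by
  obtain ⟨m, hm, hm0, hmT⟩ := exists_fixed c.two c.T2 (N := br M a)
    (fun t ht m hm => c.smul_br_of_stab (c.T0 t ht) hm) (ne_zero_of_br c.a1)
  rw [← c.FIX m hm hm0 hmT]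
  exact hm

theorem card_two_or_four {N : AddSubgroup M} (two : ∀ m : M, m + m = 0) (h0 : N ≠ ⊥)
    (h4 : Nat.card N ≤ 4) : Nat.card N = 2 ∨ Nat.card N = 4 := by
  obtain ⟨k, hk⟩ := exists_card_two_pow two N
  have h1 : k ≠ 0 := by
    rintro rfl
    exact h0 (AddSubgroup.card_eq_one.mp (by simpa only [_root_.AddSubgroup.card_eq_one, _root_.pow_zero] using hk))
  have h2 : k ≤ 2 := by
    by_contra hcon
    push Not at hcon
    have : 2 ^ 3 ≤ 2 ^ k := Nat.pow_le_pow_right (by decide) hcon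
    omega
  rw [hk]
  interval_cases k
  · exact absurd rfl h1
  · simp
  · right; norm_num

theorem card_cases (c : Ctx v0 a T) : Nat.card (br M a) = 2 ∨ Nat.card (br M a) = 4 :=
  card_two_or_four c.two (ne_zero_of_br c.a1) c.le4

theorem cx_le (c : Ctx v0 a T) {x : H} (hx : Odd (orderOf x)) (hi : a * x * a⁻¹ = x⁻¹) :
    cx M a x ≤ br M a := by
  intro m hm
  obtain ⟨d, -, rfl⟩ := cx_le_br c.two c.sq hx hi hm
  exact sub_mem_br a d

theorem cx_ne_bot (c : Ctx v0 a T) {x : H} (hx : Odd (orderOf x)) (hi : a * x * a⁻¹ = x⁻¹)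
    (hx1 : x ≠ 1) : cx M a x ≠ ⊥ := by
  intro h
  have h1 := (card_br_eq (M := M) c.two c.sq hx hi).1
  rw [h] at h1
  simp only [AddSubgroup.card_bot, mul_one] at h1
  exact ne_zero_of_br hx1 (AddSubgroup.card_eq_one.mp h1)

/-- an inverted element has `|[M,x]| = 4` or `16`; in the second case `[M,a] = C_{[M,x]}(a)` -/
theorem inv_cases (c : Ctx v0 a T) {x : H} (hx : Odd (orderOf x)) (hi : a * x * a⁻¹ = x⁻¹)
    (hx1 : x ≠ 1) : (Nat.card (cx M a x) = 2 ∧ Nat.card (br M x) = 4) ∨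
      (Nat.card (cx M a x) = 4 ∧ Nat.card (br M x) = 16 ∧ Nat.card (br M a) = 4 ∧
        cx M a x = br M a) := by
  have h1 := (card_br_eq (M := M) c.two c.sq hx hi).1
  have hle := c.cx_le hx hi
  have hle4 : Nat.card (cx M a x) ≤ 4 := (AddSubgroup.card_le_of_le hle).trans c.le4
  rcases card_two_or_four c.two (c.cx_ne_bot hx hi hx1) hle4 with h | h
  · left
    exact ⟨h, by rw [h1, h]⟩
  · right
    refine ⟨h, by rw [h1, h], ?_, ?_⟩
    · have := AddSubgroup.card_le_of_le hle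
      have := c.le4
      omega
    · exact AddSubgroup.eq_of_le_of_card_ge hle (by rw [h]; exact c.le4)

/-- `a` is trivial on `C_M(x)` as soon as `[M,a] ≤ [M,x]` -/
theorem triv_fx (c : Ctx v0 a T) {x : H} (hx : Odd (orderOf x)) (hi : a * x * a⁻¹ = x⁻¹)
    (hle : br M a ≤ br M x) {m : M} (hm : m ∈ fx M x) : a • m = m := by
  have h1 : a • m - m ∈ fx M x := sub_mem (smul_mem_fx_of_inv hi hm) hm
  exact sub_eq_zero.mp (br_inf_fx c.two hx (hle (sub_mem_br a m)) h1)

/-! ### (M12) -/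

/-- the output (M12) -/
structure M12 (v0 : M) (a d : H) : Prop where
  cube : d ^ 3 = 1
  inv : a * d * a⁻¹ = d⁻¹
  ne : d • v0 ≠ v0
  sum : v0 + d • v0 + d ^ 2 • v0 = 0
  card : Nat.card (br M d) = 4
  mem : v0 ∈ br M d
  nor : ∀ h : H, h • v0 = v0 → h * d * h⁻¹ = d ∨ h * d * h⁻¹ = d⁻¹
  hyp : ∀ N : AddSubgroup M, N.index = 2 → v0 ∈ N →
    (∀ h : H, h • v0 = v0 → ∀ m ∈ N, h • m ∈ N) → N = fx M a

/-- **(M12)** -/
theorem m12 (c : Ctx v0 a T) {p : ℕ} (hp : p.Prime) (hp2 : p ≠ 2) {F : Subgroup H} [hFn : F.Normal]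
    (hF : IsPGroup p F) (hFa : ∃ f ∈ F, f * a ≠ a * f) (h2 : Nat.card (br M a) = 2) :
    ∃ d ∈ F, M12 v0 a d := by
  obtain ⟨x, hxF, hx1, hi⟩ := c.exists_inverted hFa
  have hx := odd_orderOf_of_isPGroup hp hp2 hF hxF
  have hcx : Nat.card (cx M a x) = 2 ∧ Nat.card (br M x) = 4 := by
    rcases c.inv_cases hx hi hx1 with h | h
    · exact h
    · omega
  have hn := hcx.2
  have hcxe : cx M a x = br M a :=
    AddSubgroup.eq_of_le_of_card_ge (c.cx_le hx hi) (by rw [hcx.1, h2])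
  have hle : br M a ≤ br M x := hcxe ▸ (inf_le_left : cx M a x ≤ br M x)
  have hv : v0 ∈ br M x := hle c.v0_mem
  have hne : x • v0 ≠ v0 := fun h => c.ne (br_inf_fx c.two hx hv h)
  refine ⟨x, hxF, nat_cube c.two hx hn, hi, hne, nat_sum c.two hx hn hv, hn, hv, ?_, ?_⟩
  · intro h hh
    have h1 : v0 ∈ br M (h * x * h⁻¹) := by
      have := smul_mem_br_conj h hv
      rwa [hh] at this
    exact (nat_same c.two hp hp2 hF hxF (hFn.conj_mem x hxF h) hn (nat_conj hn h) hv h1 c.ne).2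
  · intro N hN hvN hNi
    let S : AddSubgroup M :=
      AddSubgroup.closure ({v0} ∪ {m | ∃ h : H, h • v0 = m ∧ m ∉ br M x})
    have hvS : v0 ∈ S := AddSubgroup.subset_closure (Or.inl rfl)
    have hbl : ∀ h : H, h • v0 ∉ br M x → br M (h * x * h⁻¹) ≤ fx M x ∧
        br M x ≤ fx M (h * x * h⁻¹) := by
      intro h hh
      have hF' := hFn.conj_mem x hxF h
      have hn' := nat_conj (M := M) hn h
      have hmem := smul_mem_br_conj h hv
      have hne' : br M x ≠ br M (h * x * h⁻¹) := fun e => hh (e ▸ hmem)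
      exact ⟨nat_indep c.two hp hp2 hF hxF hF' hn hn' hne',
        nat_indep c.two hp hp2 hF hF' hxF hn' hn hne'.symm⟩
    have hSN : S ≤ N := by
      refine (AddSubgroup.closure_le _).mpr ?_
      rintro m (rfl | ⟨h, rfl, hh⟩)
      · exact hvN
      · obtain ⟨h1, h2⟩ := hbl h hh
        have h3 : (h * x * h⁻¹) • v0 = v0 := h2 hv
        have h4 : br M (h * x * h⁻¹) ≤ N := by
          rintro _ ⟨n, rfl⟩
          rw [sub_eq c.two, AddSubgroup.add_mem_iff_of_index_two hN]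
          constructor
          · intro h5
            have := hNi _ (stab_inv h3) _ h5
            rwa [inv_smul_smul] at this
          · intro h5
            exact hNi _ h3 _ h5
        exact h4 (smul_mem_br_conj h hv)
    have hSa : S ≤ fx M a := by
      refine (AddSubgroup.closure_le _).mpr ?_
      rintro m (rfl | ⟨h, rfl, hh⟩)
      · exact c.fix
      · exact c.triv_fx hx hi hle ((hbl h hh).1 (smul_mem_br_conj h hv))
    have htop : S ⊔ AddSubgroup.zmultiples (x • v0) = ⊤ := by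
      rw [eq_top_iff, ← c.span, AddSubgroup.closure_le]
      rintro _ ⟨h, rfl⟩
      change h • v0 ∈ S ⊔ AddSubgroup.zmultiples (x • v0)
      by_cases hh : h • v0 ∈ br M x
      · have hxv : x • v0 ∈ S ⊔ AddSubgroup.zmultiples (x • v0) :=
          AddSubgroup.mem_sup_right (AddSubgroup.mem_zmultiples _)
        have hv0 : v0 ∈ S ⊔ AddSubgroup.zmultiples (x • v0) := AddSubgroup.mem_sup_left hvS
        rcases nat_cases c.two hx hn hv c.ne hh with e | e | e | e
        · rw [e]; exact zero_mem _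
        · rw [e]; exact hv0
        · rw [e]; exact hxv
        · rw [e, pow_two, mul_smul, nat_sq c.two hx hn hv]
          exact add_mem hv0 hxv
      · exact AddSubgroup.mem_sup_left (AddSubgroup.subset_closure (Or.inr ⟨h, rfl, hh⟩))
    have hmax : ∀ N' : AddSubgroup M, S ≤ N' → N' ≠ ⊤ → N' = S := by
      intro N' hSN' hN'
      refine le_antisymm (fun m hm => ?_) hSN'
      have hm' : m ∈ S ⊔ AddSubgroup.zmultiples (x • v0) := by rw [htop]; trivial
      obtain ⟨s, hs, z, hz, rfl⟩ := AddSubgroup.mem_sup.mp hm'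
      obtain ⟨k, rfl⟩ := AddSubgroup.mem_zmultiples_iff.mp hz
      rcases Int.even_or_odd k with ⟨j, rfl⟩ | ⟨j, rfl⟩
      · rw [← two_mul, mul_comm, mul_smul, two_zsmul, c.two, smul_zero, add_zero]
        exact hs
      · exfalso
        rw [add_smul, one_smul, mul_comm, mul_smul, two_zsmul, c.two, smul_zero, zero_add] at hm
        have h5 : x • v0 ∈ N' := by
          have := sub_mem hm (hSN' hs)
          rwa [add_sub_cancel_left] at this
        apply hN'
        rw [eq_top_iff, ← htop]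
        refine sup_le hSN' ?_
        rw [AddSubgroup.zmultiples_le]
        exact h5
    have hNt : N ≠ ⊤ := by
      rintro rfl
      rw [AddSubgroup.index_top] at hN
      omega
    have hat : fx M a ≠ ⊤ := by
      intro h
      apply c.a1
      refine FaithfulSMul.eq_of_smul_eq_smul (α := M) fun m => ?_
      have : m ∈ fx M a := h ▸ AddSubgroup.mem_top m
      rw [one_smul]
      exact this
    rw [hmax N hSN hNt, hmax _ hSa hat]

end Ctx

end Cfsg.Agent.Omega.NO3S.Fit.Abs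

end

section


/-!
# Text #13963, section 3 with `A = ⟨a⟩`, `|[M,a]| = 4`

A natural element of `F` inverted by `a`, or `[F,a] = ⟨x⟩ ≤ Z(F)` of order 3 or 5 with `|[M,x]| = 16`.
-/

set_option autoImplicit false
set_option linter.unusedSectionVars false

open scoped Pointwise

namespace Cfsg.Agent.Omega.NO3S.Fit.Abs

variable {H M : Type*} [Group H] [AddCommGroup M] [DistribMulAction H M]

namespace Ctx

variable {v0 : M} {a : H} {T : Subgroup H}

/-- `h • v0 ∈ [M,a]` ==> `h a h⁻¹` commutes with `a` -/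
theorem conj_comm (c : Ctx v0 a T) {h : H} (hh : h • v0 ∈ br M a) :
    h * a * h⁻¹ * a = a * (h * a * h⁻¹) := by
  have h1 : a • h • v0 = h • v0 := c.fix_br hh
  have h2 : (h⁻¹ * a * h) • v0 = v0 := by
    rw [mul_smul, mul_smul, h1, inv_smul_smul]
  have h3 := c.cen _ h2
  have e1 : h * a * h⁻¹ * a = h * (a * (h⁻¹ * a * h)) * h⁻¹ := by group
  have e2 : a * (h * a * h⁻¹) = h * (h⁻¹ * a * h * a) * h⁻¹ := by group
  rw [e1, e2, h3]

variable [Finite H] [Finite M] [FaithfulSMul H M]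

section

variable (c : Ctx v0 a T) (h4 : Nat.card (br M a) = 4)
include c h4

theorem br_cases {b : M} (hb : b ∈ br M a) (hb0 : b ≠ 0) (hbv : b ≠ v0) {w : M}
    (hw : w ∈ br M a) : w = 0 ∨ w = v0 ∨ w = b ∨ w = v0 + b :=
  mem_four h4 c.two c.v0_mem hb c.ne hb0 hbv.symm hw

theorem exists_b : ∃ b ∈ br M a, b ≠ 0 ∧ b ≠ v0 := exists_ne_ne_of_card h4

theorem stab_b {b : M} (hb : b ∈ br M a) (hb0 : b ≠ 0) (hbv : b ≠ v0) {g : H}
    (hg : g • v0 = v0) : g • b = b ∨ g • b = v0 + b := by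
  have hgb := c.smul_br_of_stab hg hb
  rcases c.br_cases h4 hb hb0 hbv hgb with h | h | h | h
  · exact absurd ((smul_eq_zero_iff_eq g).mp h) hb0
  · exfalso
    apply hbv
    have : g • b = g • v0 := by rw [h, hg]
    exact smul_left_cancel g this
  · exact Or.inl h
  · exact Or.inr h

theorem exists_swap {b : M} (hb : b ∈ br M a) (hb0 : b ≠ 0) (hbv : b ≠ v0) :
    ∃ t ∈ T, t • b = v0 + b := by
  by_contra hcon
  push Not at hcon
  apply hbv
  refine c.FIX b hb hb0 fun t ht => ?_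
  rcases c.stab_b h4 hb hb0 hbv (c.T0 t ht) with h | h
  · exact h
  · exact absurd h (hcon t ht)

theorem triv_of_fix {b : M} (hb : b ∈ br M a) (hb0 : b ≠ 0) (hbv : b ≠ v0) {g : H}
    (hg : g • v0 = v0) (hgb : g • b = b) {m : M} (hm : m ∈ br M a) : g • m = m := by
  rcases c.br_cases h4 hb hb0 hbv hm with rfl | rfl | rfl | rfl
  · simp
  · exact hg
  · exact hgb
  · rw [smul_add, hg, hgb]

theorem odd_triv {g : H} (hg : Odd (orderOf g)) (hga : g * a = a * g) {m : M}
    (hm : m ∈ br M a) : g • m = m := by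
  obtain ⟨b, hb, hb0, hbv⟩ := c.exists_b h4
  have hgv : g • v0 = v0 := c.pl h4 g hga
  refine c.triv_of_fix h4 hb hb0 hbv hgv ?_ hm
  rcases c.stab_b h4 hb hb0 hbv hgv with h | h
  · exact h
  · refine fix_of_sq hg ?_
    rw [h, smul_add, hgv, h, ← add_assoc, c.two, zero_add]

end

/-- `a` is determined by its action: it inverts `x` and is trivial on `[M,a]` and on `C_M(x)` -/
theorem key_eq (c : Ctx v0 a T) {x g : H} (hx : Odd (orderOf x)) (hi : a * x * a⁻¹ = x⁻¹)
    (hcx : cx M a x = br M a) (hg : g * x * g⁻¹ = x⁻¹) (hgb : ∀ m ∈ br M a, g • m = m)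
    (hgf : ∀ m ∈ fx M x, g • m = m) : g = a := by
  refine FaithfulSMul.eq_of_smul_eq_smul (α := M) fun m => ?_
  have hle : br M a ≤ br M x := hcx ▸ (inf_le_left : cx M a x ≤ br M x)
  obtain ⟨d, hd, e, he, rfl⟩ := exists_decomp c.two hx m
  obtain ⟨u, hu, w, hw, rfl⟩ := exists_cx_add c.two c.sq hx hi hd
  rw [smul_add, smul_add, smul_add, smul_add, hgf e he, c.triv_fx hx hi hle he,
    inv_smul_of_inv hg (hgb w (hcx ▸ hw)), inv_smul_of_inv hi hw.2, hgb u (hcx ▸ hu),
    show a • u = u from hu.2]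

/-- an element of odd order commuting with `a` and `x` is trivial on `[M,x]` (`cx = [M,a]`) -/
theorem odd_triv_D (c : Ctx v0 a T) (h4 : Nat.card (br M a) = 4) {x : H}
    (hx : Odd (orderOf x)) (hi : a * x * a⁻¹ = x⁻¹)
    (hcx : cx M a x = br M a) {g : H} (hg : Odd (orderOf g)) (hga : g * a = a * g)
    (hgx : g * x = x * g) {m : M} (hm : m ∈ br M x) : g • m = m := by
  obtain ⟨u, hu, w, hw, rfl⟩ := exists_cx_add c.two c.sq hx hi hm
  rw [smul_add, ← mul_smul, hgx, mul_smul, c.odd_triv h4 hg hga (hcx ▸ hu),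
    c.odd_triv h4 hg hga (hcx ▸ hw)]

theorem dead (c : Ctx v0 a T) (h4 : Nat.card (br M a) = 4) {x : H}
    (hx : Odd (orderOf x)) (hi : a * x * a⁻¹ = x⁻¹)
    (hcx : cx M a x = br M a) {g : H} (hg : Odd (orderOf g)) (hga : g * a = a * g)
    (hgx : g * x = x * g) (hle : br M g ≤ br M x) : g = 1 :=
  eq_one_of_fix c.two hg fun _ hm => c.odd_triv_D h4 hx hi hcx hg hga hgx (hle hm)

end Ctx

/-! ### arithmetic -/

theorem card_p_le {p k : ℕ} (hp : p.Prime) (hp2 : p ≠ 2) (h : p ^ k ∣ 20160) : k ≤ 2 := by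
  by_contra hcon
  push Not at hcon
  have h1 : p ^ 3 ∣ 20160 := (pow_dvd_pow p hcon).trans h
  have h2 : p ^ 3 ≤ 20160 := Nat.le_of_dvd (by decide) h1
  have h3 : p < 28 := by
    by_contra hc
    push Not at hc
    have := Nat.pow_le_pow_left hc 3
    omega
  have h4 := hp.two_le
  interval_cases p <;>
    first
    | exact hp2 rfl
    | exact absurd h1 (by decide)
    | exact absurd hp (by norm_num)

theorem comm_of_card {K : Type*} [Group K] [Finite K] {p : ℕ} (hp : p.Prime) (hp2 : p ≠ 2)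
    (hK : IsPGroup p K) (h : Nat.card K ∣ 20160) (g g' : K) : g * g' = g' * g := by
  have : Fact p.Prime := ⟨hp⟩
  obtain ⟨k, hk⟩ := IsPGroup.iff_card.mp hK
  have hk2 : k ≤ 2 := card_p_le hp hp2 (hk ▸ h)
  interval_cases k
  · have : Subsingleton K := (Nat.card_eq_one_iff_unique.mp (by simpa using hk)).1
    exact Subsingleton.elim _ _
  · have : IsCyclic K := isCyclic_of_prime_card (p := p) (by simpa using hk)
    exact (IsCyclic.commGroup (α := K)).mul_comm g g'
  · exact (IsPGroup.commGroupOfCardEqPrimeSq (p := p) hk).mul_comm g g'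

/-- a semiregular action on `N - 0` -/
theorem card_dvd_of_semireg [Finite H] [Finite M] {P : Subgroup H} {N : AddSubgroup M}
    (hN : ∀ g ∈ P, ∀ m ∈ N, g • m ∈ N)
    (hs : ∀ g ∈ P, ∀ m ∈ N, m ≠ 0 → g • m = m → g = 1) :
    Nat.card P ∣ Nat.card N - 1 := by
  classical
  let X := {m : N // m ≠ 0}
  let _ : MulAction P X :=
    { smul := fun g m => ⟨⟨(g : H) • ((m : N) : M), hN g g.2 _ (m : N).2⟩, by
        intro h
        apply m.2
        have h1 : (g : H) • ((m : N) : M) = 0 := congrArg Subtype.val h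
        exact Subtype.ext ((smul_eq_zero_iff_eq (g : H)).mp h1)⟩
      one_smul := fun m => Subtype.ext (Subtype.ext (one_smul H _))
      mul_smul := fun s t m => Subtype.ext (Subtype.ext (mul_smul (s : H) (t : H) _)) }
  have hsm : ∀ (g : P) (m : X), (((g • m : X) : N) : M) = (g : H) • ((m : N) : M) :=
    fun _ _ => rfl
  have : Fintype P := Fintype.ofFinite P
  have : Fintype X := Fintype.ofFinite X
  have : Fintype (Quotient (MulAction.orbitRel P X)) := Fintype.ofFinite _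
  have : ∀ b : X, Fintype (MulAction.stabilizer P b) := fun b => Fintype.ofFinite _
  have h1 := MulAction.card_eq_sum_card_group_div_card_stabilizer P X
  have h2 : ∀ b : X, Fintype.card (MulAction.stabilizer P b) = 1 := by
    intro b
    have : MulAction.stabilizer P b = ⊥ := by
      rw [eq_bot_iff]
      intro g hg
      have h3 : g • b = b := hg
      have h4 : (g : H) • ((b : N) : M) = ((b : N) : M) := by
        rw [← hsm, h3]
      have h5 : (g : H) = 1 := hs g g.2 _ (b : N).2 (fun h => b.2 (Subtype.ext h)) h4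
      exact Subtype.ext h5
    rw [← Nat.card_eq_fintype_card, this]
    exact Subgroup.card_bot
  simp only [h2, Nat.div_one, Finset.sum_const, smul_eq_mul] at h1
  have h3 : Nat.card X = Nat.card N - 1 := by
    have : Fintype N := Fintype.ofFinite N
    rw [Nat.card_eq_fintype_card, Nat.card_eq_fintype_card, Fintype.card_subtype_compl]
    simp only [_root_.Fintype.card_unique]
  rw [← h3, Nat.card_eq_fintype_card, Nat.card_eq_fintype_card, h1]
  exact Dvd.intro_left _ rfl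

/-! ### the structure of `[F,a]` -/

theorem conj_mem_FA {F : Subgroup H} [hFn : F.Normal] {a g : H} (hg : g * a = a * g) {k : H}
    (hk : k ∈ cmm F (Subgroup.zpowers a)) : g * k * g⁻¹ ∈ cmm F (Subgroup.zpowers a) := by
  refine conj_mem_cmm (fun f hf => hFn.conj_mem f hf g) ?_ hk
  rintro _ ⟨i, rfl⟩
  have h1 : Commute g (a ^ i) := (show Commute g a from hg).zpow_right i
  change g * a ^ i * g⁻¹ ∈ Subgroup.zpowers a
  rw [h1.eq, mul_inv_cancel_right]
  exact Subgroup.zpow_mem_zpowers a i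

/-- `[F,a] = ⟨x⟩ ≤ Z(F)` of order 3 or 5, `|[M,x]| = 16` -/
structure Cyc (M : Type*) [AddCommGroup M] [DistribMulAction H M] (a : H) (F : Subgroup H)
    (x : H) : Prop where
  mem : x ∈ F
  cen : ∀ f ∈ F, f * x = x * f
  inv : a * x * a⁻¹ = x⁻¹
  ord : orderOf x = 3 ∨ orderOf x = 5
  card : Nat.card (br M x) = 16
  cxe : cx M a x = br M a
  FA : cmm F (Subgroup.zpowers a) = Subgroup.zpowers x

/-- an involution acts on an abelian odd order set-up: `y (a y a⁻¹)` commutes with `a` -/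
theorem comm_prod {a y : H} (hsq : a * a = 1) (hc : y * (a * y * a⁻¹) = a * y * a⁻¹ * y) :
    (y * (a * y * a⁻¹)) * a = a * (y * (a * y * a⁻¹)) := by
  have ha : a⁻¹ = a := inv_eq_of_mul_eq_one_right hsq
  rw [ha] at hc ⊢
  have e1 : y * (a * y * a) * a = y * (a * y) * (a * a) := by group
  have e2 : a * (y * (a * y * a)) = a * (y * (a * y * a)) * 1 := by rw [mul_one]
  rw [e1, hsq, mul_one, hc]
  have e3 : a * (a * y * a * y) = (a * a) * y * (a * y) := by group
  rw [e3, hsq, one_mul]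

namespace Ctx

variable {v0 : M} {a : H} {T : Subgroup H} [Finite H] [Finite M] [FaithfulSMul H M]

/-- a natural element of `F` inverted by `a`, or `Cyc` -/
theorem exists_struct (c : Ctx v0 a T) (h4 : Nat.card (br M a) = 4) {p : ℕ} (hp : p.Prime)
    (hp2 : p ≠ 2) {F : Subgroup H} [hFn : F.Normal] (hF : IsPGroup p F)
    (hFa : ∃ f ∈ F, f * a ≠ a * f) :
    (∃ x ∈ F, Nat.card (br M x) = 4 ∧ a * x * a⁻¹ = x⁻¹) ∨ ∃ x, Cyc M a F x := by
  have : Fact p.Prime := ⟨hp⟩
  set P := cmm F (Subgroup.zpowers a) with hP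
  have hPF : P ≤ F := cmm_le fun b _ f hf => hFn.conj_mem f hf b
  have hPp : IsPGroup p P := hF.to_le hPF
  have hodd : ∀ f ∈ F, Odd (orderOf f) := fun f hf => odd_orderOf_of_isPGroup hp hp2 hF hf
  have hgen : ∀ f ∈ F, f * a * f⁻¹ * a⁻¹ ∈ P := fun f hf =>
    Subgroup.subset_closure ⟨f, hf, a, Subgroup.mem_zpowers a, rfl⟩
  have hP1 : P ≠ ⊥ := by
    obtain ⟨f, hf, hne⟩ := hFa
    intro h
    apply hne
    have h1 : f * a * f⁻¹ * a⁻¹ = 1 := by
      have := hgen f hf
      rwa [h, Subgroup.mem_bot] at this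
    exact mul_inv_eq_iff_eq_mul.mp (mul_inv_eq_one.mp h1)
  -- central element
  obtain ⟨x, hxP, hxF, hx1⟩ : ∃ x ∈ P, (∀ f ∈ F, f * x = x * f) ∧ x ≠ 1 := by
    have hN : (P.subgroupOf F).Normal := by
      refine ⟨fun n hn g => ?_⟩
      rw [Subgroup.mem_subgroupOf] at hn ⊢
      exact conj_mem_cmm' g.2 hn
    have hN1 : P.subgroupOf F ≠ ⊥ := by
      intro h
      apply hP1
      rw [Subgroup.subgroupOf_eq_bot] at h
      rw [eq_bot_iff]
      intro g hg
      exact h.le_bot ⟨hg, hPF hg⟩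
    obtain ⟨z, hz, hzc, hz1⟩ :=
      Cfsg.Agent.GTwoFour.Tools.exists_mem_center_of_normal hF (P.subgroupOf F) hN1
    refine ⟨z, hz, fun f hf => ?_, fun h => hz1 (Subtype.ext h)⟩
    have := (Subgroup.mem_center_iff.mp hzc) ⟨f, hf⟩
    exact congrArg Subtype.val this
  -- a nontrivial central element of `P` does not commute with `a`
  have hdead : ∀ z ∈ P, (∀ f ∈ F, f * z = z * f) → z * a = a * z → z = 1 := by
    intro z hz hzF hza
    have hzo := hodd z (hPF hz)
    have h1 : P ≤ into (fx M z) := by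
      rw [hP, cmm, Subgroup.closure_le]
      rintro _ ⟨f, hf, b, ⟨i, rfl⟩, rfl⟩
      change br M (f * a ^ i * f⁻¹ * (a ^ i)⁻¹) ≤ fx M z
      have h2 : br M (a ^ i) ≤ fx M z := fun m hm => c.odd_triv h4 hzo hza (br_zpow_le a i hm)
      refine (br_mul_le _ _).trans (sup_le ?_ ?_)
      · rw [← smul_br]
        intro m hm
        rw [AddSubgroup.mem_smul_pointwise_iff_exists] at hm
        obtain ⟨n, hn, rfl⟩ := hm
        exact smul_mem_fx_of_comm (hzF f hf) (h2 hn)
      · rw [br_inv]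
        exact h2
    exact eq_one_of_fix c.two hzo fun m hm => h1 hz hm
  have hxa : a * x * a⁻¹ = x⁻¹ := by
    have haP : a * x * a⁻¹ ∈ P := conj_mem_FA rfl hxP
    have haF : ∀ f ∈ F, f * (a * x * a⁻¹) = a * x * a⁻¹ * f := by
      intro f hf
      have h1 := hxF (a⁻¹ * f * a) (by simpa using hFn.conj_mem f hf a⁻¹)
      have e1 : f * (a * x * a⁻¹) = a * (a⁻¹ * f * a * x) * a⁻¹ := by group
      rw [e1, h1]
      group
    have hcx : x * (a * x * a⁻¹) = a * x * a⁻¹ * x := haF x (hPF hxP)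
    have h2 : x * (a * x * a⁻¹) = 1 := by
      refine hdead _ (mul_mem hxP haP) (fun f hf => ?_) (comm_prod c.sq hcx)
      rw [← mul_assoc, hxF f hf, mul_assoc, haF f hf, ← mul_assoc x]
    exact eq_inv_of_mul_eq_one_right h2
  have hxo := hodd x (hPF hxP)
  rcases c.inv_cases hxo hxa hx1 with ⟨-, h⟩ | ⟨-, h16, -, hcx⟩
  · exact Or.inl ⟨x, hPF hxP, h, hxa⟩
  have hle : br M a ≤ br M x := hcx ▸ (inf_le_left : cx M a x ≤ br M x)
  have hPD : P ≤ into (br M x) := by
    rw [hP, cmm, Subgroup.closure_le]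
    rintro _ ⟨f, hf, b, ⟨i, rfl⟩, rfl⟩
    change br M (f * a ^ i * f⁻¹ * (a ^ i)⁻¹) ≤ br M x
    refine (br_mul_le _ _).trans (sup_le ?_ ?_)
    · rw [← smul_br]
      intro m hm
      rw [AddSubgroup.mem_smul_pointwise_iff_exists] at hm
      obtain ⟨n, hn, rfl⟩ := hm
      exact smul_mem_br_of_comm (hxF f hf) (hle (br_zpow_le a i hn))
    · rw [br_inv]
      exact (br_zpow_le a i).trans hle
  have hdvd : Nat.card P ∣ 20160 :=
    (card_dvd_addAut c.two (fun k hk => hPD hk) (fun k hk => hodd k (hPF hk))).trans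
      (card_addAut_dvd c.two (by rw [h16]))
  by_cases hsr : ∀ g ∈ P, ∀ m ∈ br M x, m ≠ 0 → g • m = m → g = 1
  · right
    have h15 : Nat.card P ∣ 15 := by
      have := card_dvd_of_semireg (P := P) (N := br M x)
        (fun g hg m hm => smul_mem_br_of_comm (hxF g (hPF hg)) hm) hsr
      rwa [h16] at this
    obtain ⟨k, hk⟩ := IsPGroup.iff_card.mp hPp
    have hk1 : k ≠ 0 := by
      rintro rfl
      exact hP1 (Subgroup.card_eq_one.mp (by simpa only [_root_.Subgroup.card_eq_one, _root_.pow_zero] using hk))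
    have hp15 : p ∣ 15 := by
      refine dvd_trans ?_ h15
      rw [hk]
      exact dvd_pow_self p hk1
    have hp35 : p = 3 ∨ p = 5 := by
      have h1 : p ∣ 3 * 5 := hp15
      rcases (Nat.Prime.dvd_mul hp).mp h1 with h | h
      · exact Or.inl ((Nat.prime_dvd_prime_iff_eq hp Nat.prime_three).mp h)
      · exact Or.inr ((Nat.prime_dvd_prime_iff_eq hp Nat.prime_five).mp h)
    have hk2 : k = 1 := by
      by_contra hcon
      have h2 : 2 ≤ k := by omega
      have h3 : p ^ 2 ∣ 15 := (pow_dvd_pow p h2).trans (hk ▸ h15)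
      rcases hp35 with rfl | rfl <;> revert h3 <;> decide
    subst hk2
    rw [pow_one] at hk
    have hxo' : orderOf x = p := by
      have h1 : orderOf x ∣ p := by
        rw [← hk]
        exact Subgroup.orderOf_dvd_natCard P hxP
      rcases (Nat.dvd_prime hp).mp h1 with h | h
      · exact absurd (orderOf_eq_one_iff.mp h) hx1
      · exact h
    refine ⟨x, hPF hxP, hxF, hxa, by rwa [hxo'], h16, hcx, ?_⟩
    symm
    refine Subgroup.eq_of_le_of_card_ge (Subgroup.zpowers_le.mpr hxP) ?_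
    rw [Nat.card_zpowers, hxo', hk]
  · left
    push Not at hsr
    obtain ⟨y, hyP, m, hm, hm0, hym, hy1⟩ := hsr
    have hPc : ∀ g ∈ P, ∀ g' ∈ P, g * g' = g' * g := by
      intro g hg g' hg'
      exact congrArg Subtype.val (comm_of_card hp hp2 hPp hdvd ⟨g, hg⟩ ⟨g', hg'⟩)
    have hya : a * y * a⁻¹ = y⁻¹ := by
      have haP : a * y * a⁻¹ ∈ P := conj_mem_FA rfl hyP
      have hc := hPc y hyP _ haP
      have h2 : y * (a * y * a⁻¹) = 1 := by
        have hmem : y * (a * y * a⁻¹) ∈ P := mul_mem hyP haP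
        exact c.dead h4 hxo hxa hcx (hodd _ (hPF hmem)) (comm_prod c.sq hc)
          (hxF _ (hPF hmem)) (hPD hmem)
      exact eq_inv_of_mul_eq_one_right h2
    have hyo := hodd y (hPF hyP)
    rcases c.inv_cases hyo hya hy1 with ⟨-, h⟩ | ⟨-, h16', -, -⟩
    · exact ⟨y, hPF hyP, h, hya⟩
    · exfalso
      have h1 : br M y = br M x := AddSubgroup.eq_of_le_of_card_ge (hPD hyP) (by rw [h16, h16'])
      rw [← h1] at hm
      exact hm0 (br_inf_fx c.two hyo hm hym)

end Ctx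

end Cfsg.Agent.Omega.NO3S.Fit.Abs

end

section


/-!
# Text #13963, (3.5): the case `[F,a] = ⟨x⟩ ≤ Z(F)` of order 3 or 5, `|[M,x]| = 16`

* `Cyc.no_move` (contains (3.6)): `h • v0 ∈ [M,a]` ==> `h • v0 = v0`;
* `Cyc.t5`: the output (T5).
-/

set_option autoImplicit false
set_option linter.unusedSectionVars false

open scoped Pointwise

namespace Cfsg.Agent.Omega.NO3S.Fit.Abs

variable {H M : Type*} [Group H] [AddCommGroup M] [DistribMulAction H M]

theorem exists_sqrt {y : H} (hy : Odd (orderOf y)) : ∃ s ∈ Subgroup.zpowers y, s * s = y := by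
  obtain ⟨k, hk⟩ := hy
  refine ⟨y ^ (k + 1), Subgroup.npow_mem_zpowers y (k + 1), ?_⟩
  rw [← pow_add, show k + 1 + (k + 1) = (2 * k + 1) + 1 by ring, pow_succ, ← hk,
    pow_orderOf_eq_one, one_mul]

theorem inv_of_mem_zpowers {a x s : H} (hi : a * x * a⁻¹ = x⁻¹) (hs : s ∈ Subgroup.zpowers x) :
    a * s * a⁻¹ = s⁻¹ := by
  obtain ⟨i, rfl⟩ := hs
  change a * x ^ i * a⁻¹ = (x ^ i)⁻¹
  rw [← conj_zpow, hi, inv_zpow]

theorem br_le_of_mem_zpowers {x s : H} (hs : s ∈ Subgroup.zpowers x) : br M s ≤ br M x := by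
  obtain ⟨i, rfl⟩ := hs
  exact br_zpow_le x i

theorem smul_eq_of_mem_zpowers {x s : H} {m : M} (hs : s ∈ Subgroup.zpowers x)
    (h : x • m = m) : s • m = m := by
  have h1 : x ∈ MulAction.stabilizer H m := h
  exact (Subgroup.zpowers_le.mpr h1) hs

theorem comm_of_mem_zpowers {x y s : H} (hs : s ∈ Subgroup.zpowers x) (h : y * x = x * y) :
    y * s = s * y := by
  obtain ⟨i, rfl⟩ := hs
  exact ((show Commute y x from h).zpow_right i).eq

namespace Cyc

variable {v0 : M} {a : H} {T : Subgroup H} {F : Subgroup H} {x : H}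

theorem odd (K : Cyc M a F x) : Odd (orderOf x) := by
  rcases K.ord with h | h <;> rw [h] <;> decide

theorem ne_one (K : Cyc M a F x) : x ≠ 1 := by
  intro h
  rcases K.ord with h' | h' <;> rw [h, orderOf_one] at h' <;> omega

theorem br_le (K : Cyc M a F x) : br M a ≤ br M x := K.cxe ▸ (inf_le_left : cx M a x ≤ br M x)

theorem prime (K : Cyc M a F x) : (orderOf x).Prime := by
  rcases K.ord with h | h <;> rw [h] <;> norm_num

/-- a nontrivial element of `⟨x⟩` generates it -/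
theorem mem_zpowers_of (K : Cyc M a F x) {s : H} (hs : s ∈ Subgroup.zpowers x) (hs1 : s ≠ 1) :
    x ∈ Subgroup.zpowers s := by
  have : Fact (orderOf x).Prime := ⟨K.prime⟩
  have h1 : Nat.card (Subgroup.zpowers x) = orderOf x := Nat.card_zpowers x
  have h2 : Subgroup.zpowers s ≤ Subgroup.zpowers x := Subgroup.zpowers_le.mpr hs
  have hfin : Finite (Subgroup.zpowers x) :=
    Nat.finite_of_card_ne_zero (by rw [h1]; exact K.prime.ne_zero)
  have h3 : Nat.card (Subgroup.zpowers s) ∣ orderOf x := by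
    rw [← h1]
    exact Subgroup.card_dvd_of_le h2
  have h4 : Nat.card (Subgroup.zpowers s) = orderOf x := by
    rcases (Nat.dvd_prime K.prime).mp h3 with h | h
    · exfalso
      apply hs1
      have := Subgroup.card_eq_one.mp h
      exact Subgroup.zpowers_eq_bot.mp this
    · exact h
  have h5 : Subgroup.zpowers s = Subgroup.zpowers x :=
    Subgroup.eq_of_le_of_card_ge h2 (by rw [h1, h4])
  rw [h5]
  exact Subgroup.mem_zpowers x

variable [Finite H] [Finite M] [FaithfulSMul H M]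

/-- `F` acts on `D = [M,x]` as `⟨x⟩` -/
theorem act (K : Cyc M a F x) (c : Ctx v0 a T) (h4 : Nat.card (br M a) = 4)
    (hodd : ∀ f ∈ F, Odd (orderOf f)) {f : H} (hf : f ∈ F) :
    ∃ s ∈ Subgroup.zpowers x, ∀ m ∈ br M x, f • m = s • m := by
  have h1 : f * a * f⁻¹ * a⁻¹ ∈ Subgroup.zpowers x := by
    rw [← K.FA]
    exact Subgroup.subset_closure ⟨f, hf, a, Subgroup.mem_zpowers a, rfl⟩
  have h1F : f * a * f⁻¹ * a⁻¹ ∈ F := (Subgroup.zpowers_le.mpr K.mem) h1
  obtain ⟨s, hs, hss⟩ := exists_sqrt (hodd _ h1F)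
  have hsx : s ∈ Subgroup.zpowers x := (Subgroup.zpowers_le.mpr h1) hs
  have hsF : s ∈ F := (Subgroup.zpowers_le.mpr K.mem) hsx
  have hsi := inv_of_mem_zpowers K.inv hsx
  have hga : s⁻¹ * f * a = a * (s⁻¹ * f) := by
    have e1 : s⁻¹ * f * a = s⁻¹ * (f * a * f⁻¹ * a⁻¹) * a * f := by group
    have e2 : a * s⁻¹ * a⁻¹ = s := inv_symm hsi
    rw [e1, ← hss]
    have e3 : s⁻¹ * (s * s) * a * f = s * a * f := by group
    rw [e3]
    nth_rewrite 1 [← e2]
    group
  have hsxc : x * s = s * x := comm_of_mem_zpowers hsx rfl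
  have hgx : s⁻¹ * f * x = x * (s⁻¹ * f) := by
    have h2 : Commute f x := K.cen f hf
    have h3 : Commute s x := hsxc.symm
    exact (h3.inv_left.mul_left h2).eq
  refine ⟨s, hsx, fun m hm => ?_⟩
  have h5 := c.odd_triv_D h4 K.odd K.inv K.cxe (hodd _ (mul_mem (inv_mem hsF) hf)) hga hgx hm
  rw [mul_smul, inv_smul_eq_iff] at h5
  exact h5

/-- blocks `[M,x]`, `h [M,x]` with nonzero intersection are equal -/
theorem conj_mem (K : Cyc M a F x) [hFn : F.Normal] (c : Ctx v0 a T) (h4 : Nat.card (br M a) = 4)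
    (hodd : ∀ f ∈ F, Odd (orderOf f)) {h : H} {u : M} (hu0 : u ≠ 0) (hu : u ∈ br M x)
    (hu' : u ∈ br M (h * x * h⁻¹)) : h * x * h⁻¹ ∈ Subgroup.zpowers x := by
  have hxF : h * x * h⁻¹ ∈ F := hFn.conj_mem x K.mem h
  obtain ⟨s, hs, hsm⟩ := K.act c h4 hodd hxF
  have hs1 : s ≠ 1 := by
    rintro rfl
    have h1 := hsm u hu
    rw [one_smul] at h1
    exact hu0 (br_inf_fx c.two (hodd _ hxF) hu' h1)
  have hxs := K.mem_zpowers_of hs hs1
  have hle : br M x ≤ br M (h * x * h⁻¹) := by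
    intro d hd
    obtain ⟨n, rfl⟩ := br_le_of_mem_zpowers hxs hd
    obtain ⟨n1, hn1, n2, hn2, rfl⟩ := exists_decomp c.two K.odd n
    refine ⟨n1, ?_⟩
    rw [hsm n1 hn1, smul_add, smul_eq_of_mem_zpowers hs hn2]
    abel
  have heq : br M x = br M (h * x * h⁻¹) :=
    AddSubgroup.eq_of_le_of_card_ge hle (by rw [card_br_conj])
  have h1 : h * x * h⁻¹ * s⁻¹ = 1 := by
    have hF' : h * x * h⁻¹ * s⁻¹ ∈ F :=
      mul_mem hxF (inv_mem ((Subgroup.zpowers_le.mpr K.mem) hs))
    refine eq_one_of_fix c.two (hodd _ hF') fun m hm => ?_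
    have hm' : m ∈ br M x := by
      have : br M (h * x * h⁻¹ * s⁻¹) ≤ br M x := by
        refine (br_mul_le _ _).trans (sup_le heq.ge ?_)
        rw [br_inv]
        exact br_le_of_mem_zpowers hs
      exact this hm
    have h2 : s⁻¹ • m ∈ br M x :=
      smul_mem_of_into (by rw [br_inv]; exact br_le_of_mem_zpowers hs) hm'
    rw [mul_smul, hsm _ h2, smul_inv_smul]
  rw [mul_inv_eq_one.mp h1]
  exact hs

/-- `h • v0 ∈ [M,a]` ==> `h • v0 = v0` -/
theorem no_move (K : Cyc M a F x) [hFn : F.Normal] (c : Ctx v0 a T)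
    (h4 : Nat.card (br M a) = 4) (hodd : ∀ f ∈ F, Odd (orderOf f)) {h : H}
    (hh : h • v0 ∈ br M a) : h • v0 = v0 := by
  by_contra hne
  have hw0 : h • v0 ≠ 0 := fun e => c.ne ((smul_eq_zero_iff_eq h).mp e)
  have hcm := c.conj_comm hh
  have h1 : (h * a * h⁻¹) • v0 = v0 := c.pl h4 _ hcm
  have h2 : (h * a * h⁻¹) • h • v0 = h • v0 := by
    rw [mul_smul, mul_smul, inv_smul_smul, c.fix]
  have htriv : ∀ m ∈ br M a, (h * a * h⁻¹) • m = m := fun m hm =>
    c.triv_of_fix h4 hh hw0 hne h1 h2 hm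
  have hx' : h * x * h⁻¹ ∈ Subgroup.zpowers x :=
    K.conj_mem c h4 hodd hw0 (K.br_le hh) (smul_mem_br_conj h (K.br_le c.v0_mem))
  have hx1' : h * x * h⁻¹ ≠ 1 := by
    intro e
    apply K.ne_one
    have : x = h⁻¹ * (h * x * h⁻¹) * h := by group
    rw [this, e]
    group
  have hinv : h * a * h⁻¹ * x * (h * a * h⁻¹)⁻¹ = x⁻¹ := by
    refine inv_of_mem_zpowers (x := h * x * h⁻¹) ?_ (K.mem_zpowers_of hx' hx1')
    have e : h * a * h⁻¹ * (h * x * h⁻¹) * (h * a * h⁻¹)⁻¹ = h * (a * x * a⁻¹) * h⁻¹ := by group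
    rw [e, K.inv]
    group
  have hfx : ∀ m ∈ fx M x, (h * a * h⁻¹) • m = m := by
    intro m hm
    have h3 : x • h⁻¹ • m = h⁻¹ • m := by
      have h4 := smul_eq_of_mem_zpowers hx' (show x • m = m from hm)
      rw [mul_smul, mul_smul] at h4
      rw [eq_inv_smul_iff]
      exact h4
    have h5 := c.triv_fx K.odd K.inv K.br_le (show h⁻¹ • m ∈ fx M x from h3)
    rw [mul_smul, mul_smul, h5, smul_inv_smul]
  have heq := c.key_eq K.odd K.inv K.cxe hinv htriv hfx
  have hca : h * a = a * h := mul_inv_eq_iff_eq_mul.mp heq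
  exact hne (c.pl h4 h hca)

/-- the sum over `⟨x⟩` vanishes on `[M,x]`, order 5 -/
theorem sum5 (c : Ctx v0 a T) (K : Cyc M a F x) (h5 : orderOf x = 5) {m : M} (hm : m ∈ br M x) :
    m + x • m + x ^ 2 • m + x ^ 3 • m + x ^ 4 • m = 0 := by
  have hmem : ∀ i : ℕ, x ^ i • m ∈ br M x := fun i =>
    smul_mem_of_into (br_pow_le x i) hm
  have h1 := hmem 1
  rw [pow_one] at h1
  refine br_inf_fx c.two K.odd
    (add_mem (add_mem (add_mem (add_mem hm h1) (hmem 2)) (hmem 3)) (hmem 4)) ?_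
  have e5 : x • x ^ 4 • m = m := by
    have h6 : x ^ (4 + 1) = 1 := by
      have := pow_orderOf_eq_one x
      rwa [h5] at this
    rw [← mul_smul, ← pow_succ', h6, one_smul]
  have e2 : x • x • m = x ^ 2 • m := by rw [← mul_smul, ← pow_two]
  have e3 : x • x ^ 2 • m = x ^ 3 • m := by rw [← mul_smul, ← pow_succ']
  have e4 : x • x ^ 3 • m = x ^ 4 • m := by rw [← mul_smul, ← pow_succ']
  rw [smul_add, smul_add, smul_add, smul_add, e2, e3, e4, e5]
  abel

/-- order 3 -/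
theorem sum3 (c : Ctx v0 a T) (K : Cyc M a F x) (h3 : orderOf x = 3) {m : M} (hm : m ∈ br M x) :
    m + x • m + x • x • m = 0 := by
  have h1 : x • m ∈ br M x := smul_mem_br_self hm
  have h2 : x • x • m ∈ br M x := smul_mem_br_self h1
  refine br_inf_fx c.two K.odd (add_mem (add_mem hm h1) h2) ?_
  have e3 : x • x • x • m = m := by
    have : x * (x * x) = 1 := by
      have := pow_orderOf_eq_one x
      rwa [h3, pow_succ', pow_two] at this
    rw [← mul_smul, ← mul_smul, mul_assoc, this, one_smul]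
  rw [smul_add, smul_add, e3]
  abel

/-- `v0^⟨x⟩` spans `[M,x]`, order 5 -/
theorem sp_eq (c : Ctx v0 a T) (K : Cyc M a F x) (h5 : orderOf x = 5) :
    sp (Subgroup.zpowers x) v0 = br M x := by
  have hv : v0 ∈ br M x := K.br_le c.v0_mem
  have hle : sp (Subgroup.zpowers x) v0 ≤ br M x :=
    sp_le fun k hk => smul_mem_of_into (br_le_of_mem_zpowers hk) hv
  refine AddSubgroup.eq_of_le_of_card_ge hle ?_
  have h1 : Nat.card (Subgroup.zpowers x) ∣ Nat.card (sp (Subgroup.zpowers x) v0) - 1 := by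
    refine card_dvd_of_semireg (fun g hg m hm => smul_mem_sp hg hm) ?_
    intro g hg m hm hm0 hgm
    by_contra hg1
    exact hm0 (br_inf_fx c.two K.odd (hle hm)
      (smul_eq_of_mem_zpowers (K.mem_zpowers_of hg hg1) hgm))
  rw [Nat.card_zpowers, h5] at h1
  obtain ⟨k, hk⟩ := exists_card_two_pow c.two (sp (Subgroup.zpowers x) v0)
  have hne : sp (Subgroup.zpowers x) v0 ≠ ⊥ := by
    intro h
    apply c.ne
    have := mem_sp (v := v0) (one_mem (Subgroup.zpowers x))
    rw [h, one_smul] at this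
    simpa using this
  have hk0 : k ≠ 0 := by
    rintro rfl
    exact hne (AddSubgroup.card_eq_one.mp (by simpa only [_root_.AddSubgroup.card_eq_one, _root_.pow_zero] using hk))
  have hk4 : 4 ≤ k := by
    by_contra hcon
    push Not at hcon
    rw [hk] at h1
    interval_cases k <;> omega
  rw [K.card, hk]
  calc 16 = 2 ^ 4 := by norm_num
    _ ≤ 2 ^ k := Nat.pow_le_pow_right (by decide) hk4

end Cyc

/-- the output (T5) -/
structure T5 (v0 : M) (a d : H) : Prop where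
  five : d ^ 5 = 1
  inv : a * d * a⁻¹ = d⁻¹
  ne : d • v0 ≠ v0
  sum : v0 + d • v0 + d ^ 2 • v0 + d ^ 3 • v0 + d ^ 4 • v0 = 0
  card : Nat.card (br M d) = 16
  le : br M a ≤ br M d
  cxe : cx M a d = br M a
  spe : sp (Subgroup.zpowers d) v0 = br M d
  nor : ∀ h : H, h • v0 = v0 → h * d * h⁻¹ ∈ Subgroup.zpowers d
  frob : ∃ h : H, h • v0 = v0 ∧ h * d * h⁻¹ = d ^ 2

namespace Cyc

variable {v0 : M} {a : H} {T : Subgroup H} {F : Subgroup H} {x : H}
variable [Finite H] [Finite M] [FaithfulSMul H M]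

theorem nor (K : Cyc M a F x) [hFn : F.Normal] (c : Ctx v0 a T) {h : H} (hh : h • v0 = v0) :
    h * x * h⁻¹ ∈ Subgroup.zpowers x := by
  rw [← K.FA]
  refine conj_mem_FA (c.cen h hh) ?_
  rw [K.FA]
  exact Subgroup.mem_zpowers x

theorem ne_v0 (K : Cyc M a F x) (c : Ctx v0 a T) : x • v0 ≠ v0 := fun h =>
  c.ne (br_inf_fx c.two K.odd (K.br_le c.v0_mem) h)

/-- **(T5)** -/
theorem t5 (K : Cyc M a F x) [hFn : F.Normal] (c : Ctx v0 a T) (h4 : Nat.card (br M a) = 4)
    (h5 : orderOf x = 5) : T5 v0 a x := by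
  have hx5 : x ^ 5 = 1 := by rw [← h5, pow_orderOf_eq_one]
  refine ⟨hx5, K.inv, K.ne_v0 c, K.sum5 c h5 (K.br_le c.v0_mem), K.card, K.br_le, K.cxe,
    K.sp_eq c h5, fun h hh => K.nor c hh, ?_⟩
  obtain ⟨b, hb, hb0, hbv⟩ := c.exists_b h4
  obtain ⟨t, ht, htb⟩ := c.exists_swap h4 hb hb0 hbv
  have htv := c.T0 t ht
  -- an element of `H_0` commuting with `x` fixes `b`
  have key : ∀ g : H, g • v0 = v0 → g * x = x * g → g • b = b := by
    intro g hg hgx
    have h1 : sp (Subgroup.zpowers x) v0 ≤ fx M g := by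
      refine sp_le fun k hk => ?_
      rw [mem_fx, ← mul_smul, comm_of_mem_zpowers hk hgx, mul_smul, hg]
    rw [K.sp_eq c h5] at h1
    exact h1 (K.br_le hb)
  have hbne : t • b ≠ b := by
    rw [htb]
    intro h
    exact c.ne (by simpa using h)
  obtain ⟨n, hn, hn'⟩ : ∃ n < 5, x ^ n = t * x * t⁻¹ := by
    classical
    have h1 := K.nor c htv
    rw [mem_zpowers_iff_mem_range_orderOf] at h1
    obtain ⟨n, hn, h2⟩ := Finset.mem_image.mp h1
    exact ⟨n, by rw [h5] at hn; exact Finset.mem_range.mp hn, h2⟩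
  have hta : (t * a) • v0 = v0 := by rw [mul_smul, c.fix, htv]
  have htax : t * a * x * (t * a)⁻¹ = (t * x * t⁻¹)⁻¹ := by
    have e : t * a * x * (t * a)⁻¹ = t * (a * x * a⁻¹) * t⁻¹ := by group
    rw [e, K.inv]
    group
  interval_cases n
  · exfalso
    rw [pow_zero] at hn'
    apply K.ne_one
    have : x = t⁻¹ * (t * x * t⁻¹) * t := by group
    rw [this, ← hn']
    group
  · exfalso
    rw [pow_one] at hn'
    exact hbne (key t htv (mul_inv_eq_iff_eq_mul.mp hn'.symm))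
  · exact ⟨t, htv, hn'.symm⟩
  · refine ⟨t * a, hta, ?_⟩
    rw [htax, ← hn', inv_eq_iff_mul_eq_one, ← pow_add]
    exact hx5
  · exfalso
    have h1 : t * a * x * (t * a)⁻¹ = x := by
      rw [htax, ← hn', inv_eq_iff_mul_eq_one, ← pow_succ]
      exact hx5
    have h2 := key (t * a) hta (mul_inv_eq_iff_eq_mul.mp h1)
    rw [mul_smul, c.fix_br hb] at h2
    exact hbne h2

end Cyc

end Cfsg.Agent.Omega.NO3S.Fit.Abs

end

section


/-!
# NO-3S, natural lines, critical distance 1 (`OneQ`), helper279's (E) of #17428: the module part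

`H` acts faithfully on the 2-group `M` (additively written), `A ≤ H` elementary abelian and quadratic, `N` normal solvable of odd
order, `lam ≤ M` the line vector group, `E ≤ M` with `[E, A] ≤ lam` and `|M : E| ≤ |A|`; `LinRel` : an `F`-structure on `M / rad`
which commutes with `H` (relational form), `A` centralises `rad`, `lam` is 1-dimensional modulo `rad`.
If `A` is trivial on `[M, [N,A]]` or on `C_M([N,A])` (property (B) of #17428), then `A` centralises `N` (`comm_of`).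
-/

set_option autoImplicit false
set_option linter.unusedSectionVars false

namespace Cfsg.Agent.Omega.NO3S.OneQ.FitQ

open Subgroup Cfsg.Agent.Omega.NO3S.Fit.Abs

/-- an involution inverting an element, from a dihedral group -/
theorem exists_inv {H : Type*} [Group H] [Finite H] {B L : Subgroup H} {n : ℕ} (hB : Nat.card B = 2)
    (hL : Odd (Nat.card L)) (hn : Odd n) (h3 : 3 ≤ n) (e : ↥(B ⊔ L) ≃* DihedralGroup n) :
    ∃ a ∈ B, a ≠ 1 ∧ ∃ x ∈ L, x ≠ 1 ∧ a * x * a⁻¹ = x⁻¹ := by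
  classical
  obtain ⟨⟨a, ha⟩, ha1⟩ : ∃ a : B, a ≠ 1 := by
    have : Nontrivial B := by
      rw [← Finite.one_lt_card_iff_nontrivial, hB]; norm_num
    exact exists_ne 1
  have ha1' : a ≠ 1 := fun h => ha1 (Subtype.ext h)
  have haa : a * a = 1 := by
    have h1 : (⟨a, ha⟩ : B) ^ 2 = 1 := by rw [← hB]; exact pow_card_eq_one'
    have h2 := congrArg Subtype.val h1
    simpa only [pow_two, _root_.MulMemClass.mk_mul_mk, _root_.OneMemClass.coe_one] using h2
  have hL1 : L ≠ ⊥ := by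
    rintro rfl
    have h1 : Nat.card ↥(B ⊔ (⊥ : Subgroup H)) = 2 * n := by
      rw [Nat.card_congr e.toEquiv, DihedralGroup.nat_card]
    rw [sup_bot_eq, hB] at h1
    omega
  obtain ⟨⟨x, hx⟩, hx1'⟩ := Subgroup.ne_bot_iff_exists_ne_one.1 hL1
  have hx1 : x ≠ 1 := fun h => hx1' (Subtype.ext h)
  refine ⟨a, ha, ha1', x, hx, hx1, ?_⟩
  have hxo : Odd (orderOf x) := by
    have h1 : orderOf (⟨x, hx⟩ : L) ∣ Nat.card L := _root_.orderOf_dvd_natCard _
    rw [Subgroup.orderOf_mk] at h1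
    exact hL.of_dvd_nat h1
  let a' : ↥(B ⊔ L) := ⟨a, (le_sup_left : B ≤ B ⊔ L) ha⟩
  let x' : ↥(B ⊔ L) := ⟨x, (le_sup_right : L ≤ B ⊔ L) hx⟩
  have hx'o : Odd (orderOf (e x')) := by
    rw [MulEquiv.orderOf_eq, Subgroup.orderOf_mk]
    exact hxo
  have ha' : e a' * e a' = 1 := by
    rw [← map_mul]
    have : a' * a' = 1 := Subtype.ext haa
    rw [this, map_one]
  have ha'1 : e a' ≠ 1 := by
    intro h
    apply ha1'
    have := (map_eq_one_iff e e.injective).1 h
    exact congrArg Subtype.val this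
  have hx'1 : e x' ≠ 1 := by
    intro h
    apply hx1
    have := (map_eq_one_iff e e.injective).1 h
    exact congrArg Subtype.val this
  have key : e a' * e x' * (e a')⁻¹ = (e x')⁻¹ := by
    revert ha' ha'1 hx'o hx'1
    generalize e a' = α
    generalize e x' = ξ
    intro hξo hαα hα1 hξ1
    cases α with
    | r i =>
      exfalso
      apply hα1
      rw [DihedralGroup.r_mul_r, DihedralGroup.one_def] at hαα
      have h1 : i + i = 0 := DihedralGroup.r.inj hαα
      have h2 : i = 0 := by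
        obtain ⟨k, hk⟩ := hn
        have h3 : (n : ZMod n) = 0 := ZMod.natCast_self n
        have h4 : ((2 * k + 1 : ℕ) : ZMod n) * i = 0 := by rw [← hk, h3, zero_mul]
        push_cast at h4
        have h5 : (2 * (k : ZMod n) + 1) * i = (k : ZMod n) * (i + i) + i := by ring
        rw [h5, h1, mul_zero, zero_add] at h4
        exact h4
      rw [h2]; rfl
    | sr i =>
      cases ξ with
      | r j => simp
      | sr j =>
        exfalso
        rw [DihedralGroup.orderOf_sr] at hξo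
        exact absurd hξo (by decide)
  have h1 : a' * x' * a'⁻¹ = x'⁻¹ := by
    apply e.injective
    rw [map_mul, map_mul, map_inv, map_inv]
    exact key
  have h2 := congrArg Subtype.val h1
  simpa only [_root_.Subgroup.coe_mul, _root_.InvMemClass.coe_inv] using h2

/-- **Thompson's dihedral lemma** in the form used here -/
theorem exists_dih {H : Type*} [Group H] [Finite H] {L A : Subgroup H} (hLs : Group.IsSolvable L)
    (hLo : Odd (Nat.card L)) (hA : Cfsg.IsElementaryAbelian 2 A) {d : ℕ} (hd : 1 ≤ d) (hAd : Nat.card A = 2 ^ d)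
    (hAL : ∀ a ∈ A, ∀ l ∈ L, a * l * a⁻¹ ∈ L) (hf : ∀ a ∈ A, (∀ l ∈ L, a * l = l * a) → a = 1) :
    ∃ a x : Fin d → H, (∀ i, a i ∈ A) ∧ (∀ i, x i ∈ L) ∧ (∀ i, x i ≠ 1) ∧
      (∀ i, a i * x i * (a i)⁻¹ = (x i)⁻¹) ∧ (∀ i j, i ≠ j → a i * x j = x j * a i) ∧
      ∀ B : Subgroup H, (∀ i, a i ∈ B) → A ≤ B := by
  classical
  have hn : A ≤ normalizer (L : Set H) := by
    intro a ha
    rw [mem_normalizer_iff]
    intro l
    refine ⟨fun hl => hAL a ha l hl, fun hl => ?_⟩
    have := hAL a⁻¹ (inv_mem ha) _ hl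
    simpa [mul_assoc] using this
  have hfa : A ⊓ centralizer (L : Set H) = ⊥ := by
    rw [eq_bot_iff]
    intro a ha
    rw [mem_bot]
    refine hf a ha.1 fun l hl => ?_
    exact (mem_centralizer_iff.1 ha.2 l hl).symm
  obtain ⟨Ai, Li, n, h1, h2, h3⟩ := Cfsg.Agent.S1349.result L A hLs hLo hA d hd hAd hn hfa
  choose hAi hAc hLi hodd hn3 he using h1
  have hLio : ∀ i, Odd (Nat.card (Li i)) := fun i => hLo.of_dvd_nat (card_dvd_of_le (hLi i))
  have h4 : ∀ i, ∃ a ∈ Ai i, a ≠ 1 ∧ ∃ x ∈ Li i, x ≠ 1 ∧ a * x * a⁻¹ = x⁻¹ := fun i =>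
    exists_inv (hAc i) (hLio i) (hodd i) (hn3 i) (he i).some
  choose a ha ha1 x hx hx1 hax using h4
  refine ⟨a, x, fun i => hAi i (ha i), fun i => hLi i (hx i), hx1, hax, ?_, ?_⟩
  · intro i j hij
    exact h3 i j hij _ ((le_sup_left : Ai i ≤ _) (ha i)) _ ((le_sup_right : Li j ≤ _) (hx j))
  · intro B hB
    rw [← h2]
    refine iSup_le fun i => ?_
    have h5 : zpowers (a i) = Ai i := by
      apply eq_of_le_of_card_ge
      · rw [zpowers_le]; exact ha i
      · rw [hAc i]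
        have h6 : 1 < Nat.card (zpowers (a i)) := by
          rw [Finite.one_lt_card_iff_nontrivial]
          refine ⟨⟨⟨a i, mem_zpowers _⟩, 1, fun h => ha1 i (congrArg Subtype.val h)⟩⟩
        exact h6
    rw [← h5, zpowers_le]
    exact hB i

section Main

variable {H M : Type*} [Group H] [AddCommGroup M] [DistribMulAction H M] [Finite H]

/-- `A` is trivial on `C_M([N,A])` and faithful on `N` -/
theorem faithful [FaithfulSMul H M] (two : ∀ m : M, m + m = 0) {A N : Subgroup H}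
    (hq : ∀ a ∈ A, ∀ b ∈ A, ∀ m : M, a • (b • m - m) = b • m - m) (hNo : Odd (Nat.card N))
    (hAN : ∀ a ∈ A, ∀ f ∈ N, a * f * a⁻¹ ∈ N)
    (hB : (∀ a ∈ A, ∀ m ∈ brs M (cmm N A), a • m = m) ∨ (∀ a ∈ A, ∀ m ∈ fxs M (cmm N A), a • m = m))
    (hne : ∃ a ∈ A, ∃ f ∈ N, a * f ≠ f * a) :
    ∀ b ∈ A, (∀ f ∈ N, b * f = f * b) → b = 1 := by
  classical
  set P := cmm N A with hP
  have hPF : P ≤ N := cmm_le hAN
  have hPodd : Odd (Nat.card P) := Odd.of_dvd_nat hNo (Subgroup.card_dvd_of_le hPF)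
  have key : ∀ U : AddSubgroup M, (∀ f ∈ N, ∀ u ∈ U, f • u ∈ U) → (∀ a ∈ A, ∀ u ∈ U, a • u = u) →
      ∀ k ∈ P, ∀ u ∈ U, k • u = u := by
    intro U hU1 hU2 k hk u hu
    have : P ≤ MulAction.stabilizer H u := by
      rw [hP, cmm, Subgroup.closure_le]
      rintro _ ⟨f, hf, a, ha, rfl⟩
      change (f * a * f⁻¹ * a⁻¹) • u = u
      have h1 : a⁻¹ • u = u := by rw [inv_smul_eq_iff, hU2 a ha u hu]
      have h2 : f⁻¹ • u ∈ U := hU1 _ (inv_mem hf) u hu
      rw [mul_smul, mul_smul, mul_smul, h1, hU2 a ha _ h2, smul_inv_smul]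
    exact this hk
  have hPA : ∀ a ∈ A, ∀ k ∈ P, a * k * a⁻¹ ∈ P := fun a ha k hk =>
    conj_mem_cmm (hAN a ha) (fun b hb => mul_mem (mul_mem ha hb) (inv_mem ha)) hk
  -- A is nontrivial on [M,P]
  have hA1 : ¬ ∀ a ∈ A, ∀ m ∈ brs M P, a • m = m := by
    intro hcon
    have h1 : ∀ k ∈ P, ∀ u ∈ brs M P, k • u = u := by
      refine key (brs M P) (fun f hf u hu => smul_mem_brs (fun k hk => conj_mem_cmm' hf hk) hu)
        (fun a ha u hu => hcon a ha u hu)
    have h2 : ∀ k ∈ P, k = 1 := by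
      intro k hk
      refine FaithfulSMul.eq_of_smul_eq_smul (α := M) fun m => ?_
      have h3 : k • m - m ∈ brs M P := br_le_brs hk (sub_mem_br k m)
      have h4 : k • m - m ∈ fxs M P := mem_fxs.mpr fun g hg => h1 g hg _ h3
      rw [one_smul]
      exact sub_eq_zero.mp (brs_inf_fxs two hPodd h3 h4)
    obtain ⟨a, ha, f, hf, hne⟩ := hne
    apply hne
    have h3 : f * a * f⁻¹ * a⁻¹ = 1 := h2 _ (Subgroup.subset_closure ⟨f, hf, a, ha, rfl⟩)
    have h4 : f * a = a * f := mul_inv_eq_iff_eq_mul.mp (mul_inv_eq_one.mp h3)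
    exact h4.symm
  have hA2 : ∀ a ∈ A, ∀ m ∈ fxs M P, a • m = m := hB.resolve_left hA1
  intro b hb hbN
  refine FaithfulSMul.eq_of_smul_eq_smul (α := M) fun m => ?_
  rw [one_smul]
  obtain ⟨d, hd, c, hc, rfl⟩ := exists_decomp_sub two hPodd m
  rw [smul_add, hA2 b hb c hc]
  congr 1
  -- `[M,b]` is centralised by `P`
  have hbP : ∀ k ∈ P, b * k * b⁻¹ ∈ P := hPA b hb
  have h1 : b • d - d ∈ brs M P := sub_mem (smul_mem_brs hbP hd) hd
  have h2 : ∀ k ∈ P, ∀ u ∈ br M b, k • u = u := by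
    refine key (br M b) ?_ ?_
    · rintro f hf _ ⟨n, rfl⟩
      refine ⟨f • n, ?_⟩
      rw [← mul_smul, hbN f hf, mul_smul, smul_sub]
    · rintro a ha _ ⟨n, rfl⟩
      exact hq a ha b hb n
  have h3 : b • d - d ∈ fxs M P := mem_fxs.mpr fun k hk => h2 k hk _ ⟨d, rfl⟩
  exact sub_eq_zero.mp (brs_inf_fxs two hPodd h1 h3)

theorem odd_of_mem {N : Subgroup H} (hNo : Odd (Nat.card N)) {x : H} (hx : x ∈ N) : Odd (orderOf x) := by
  have h1 : orderOf (⟨x, hx⟩ : N) ∣ Nat.card N := _root_.orderOf_dvd_natCard _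
  rw [Subgroup.orderOf_mk] at h1
  exact hNo.of_dvd_nat h1

/-- `Mul c m m'` : `m' = c m` modulo `rad`, for an `F`-structure on `M / rad` which commutes with `H`; `A` centralises
`rad` -/
structure LinRel (H : Type*) {M F : Type*} [Group H] [AddCommGroup M] [DistribMulAction H M] (A : Subgroup H)
    (rad : AddSubgroup M) (Mul : F → M → M → Prop) : Prop where
  inv : ∀ (x : H), ∀ m ∈ rad, x • m ∈ rad
  cen : ∀ a ∈ A, ∀ m ∈ rad, a • m = m
  ex : ∀ c m, ∃ m', Mul c m m'
  smul : ∀ c m m' (x : H), Mul c m m' → Mul c (x • m) (x • m')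
  sub : ∀ c m m' n n', Mul c m m' → Mul c n n' → Mul c (m - n) (m' - n')
  zero : ∀ c m, Mul c 0 m → m ∈ rad
  inj : ∀ c c' m m', Mul c m m' → Mul c' m m' → c ≠ c' → m ∈ rad

/-- **(E) of #17428, module part**: `A` centralises `N` -/
theorem comm_of [Finite M] [FaithfulSMul H M] (two : ∀ m : M, m + m = 0) {A N : Subgroup H}
    (hq : ∀ a ∈ A, ∀ b ∈ A, ∀ m : M, a • (b • m - m) = b • m - m)
    (hA : Cfsg.IsElementaryAbelian 2 A) (hNs : Group.IsSolvable N) (hNo : Odd (Nat.card N))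
    (hAN : ∀ a ∈ A, ∀ f ∈ N, a * f * a⁻¹ ∈ N)
    (hB : (∀ a ∈ A, ∀ m ∈ brs M (cmm N A), a • m = m) ∨ (∀ a ∈ A, ∀ m ∈ fxs M (cmm N A), a • m = m))
    {lam E : AddSubgroup M} (hlam : ∀ a ∈ A, ∀ v ∈ lam, a • v = v)
    (hE : ∀ a ∈ A, ∀ m ∈ E, a • m - m ∈ lam) (hEi : E.index ≤ Nat.card A)
    (hst : ∀ x : H, (∀ v ∈ lam, x • v = v) → ∀ a ∈ A, x * a * x⁻¹ ∈ A)
    {F : Type*} {Mul : F → M → M → Prop} {rad : AddSubgroup M} (L : LinRel H A rad Mul)
    (hlin : ∀ u ∈ lam, u ≠ 0 → ∀ v ∈ lam, ∃ c : F, Mul c u v)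
    (hF : 4 ≤ Nat.card F) (hA4 : 2 < Nat.card A) :
    ∀ a ∈ A, ∀ f ∈ N, a * f = f * a := by
  classical
  by_contra hcon
  push Not at hcon
  obtain ⟨a0, ha0, f0, hf0, hne0⟩ := hcon
  have hf := faithful two hq hNo hAN hB ⟨a0, ha0, f0, hf0, hne0⟩
  -- the rank
  have hA2 : ∀ b ∈ A, b * b = 1 := fun b hb => by rw [← pow_two]; exact hA.2 b hb
  have hAp : IsPGroup 2 A := fun g => ⟨1, Subtype.ext (by
    rw [pow_one, Subgroup.coe_pow, pow_two]; exact hA2 _ g.2)⟩
  obtain ⟨d, hAd⟩ : ∃ d : ℕ, Nat.card A = 2 ^ d := IsPGroup.iff_card.mp hAp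
  have hd2 : 2 ≤ d := by
    by_contra hlt
    push Not at hlt
    interval_cases d
    · rw [hAd] at hA4; norm_num at hA4
    · rw [hAd] at hA4; norm_num at hA4
  obtain ⟨a, x, ha, hx, hx1, hinv, hcom, hgen⟩ := exists_dih hNs hNo hA (by omega) hAd hAN hf
  have hxo : ∀ i, Odd (orderOf (x i)) := fun i => odd_of_mem hNo (hx i)
  -- `a j` is trivial on `[M, x i]`
  have htr : ∀ i j, i ≠ j → ∀ m ∈ br M (x i), a j • m = m := fun i j hij m hm =>
    triv_on_br two (hxo i) (hinv i) (fun m => hq _ (ha i) _ (ha j) m) (hcom j i (Ne.symm hij)) hm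
  -- `x i` fixes no vector of `lam`
  have hfix : ∀ i, ∀ v ∈ lam, x i • v = v → v = 0 := by
    intro i v hv hxv
    by_contra hv0
    have h1 : ∀ w ∈ lam, x i • w - w ∈ rad := by
      intro w hw
      obtain ⟨c, hc⟩ := hlin v hv hv0 w hw
      have h2 := L.sub _ _ _ _ _ (L.smul _ _ _ (x i) hc) hc
      rw [hxv, sub_self] at h2
      exact L.zero _ _ h2
    have h2 : ∀ w ∈ lam, x i • w = w := by
      intro w hw
      have h3 : a i • (x i • w) = x i • w := by
        have h4 := L.cen _ (ha i) _ (h1 w hw)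
        rw [smul_sub, hlam _ (ha i) w hw] at h4
        exact sub_left_inj.mp h4
      rw [inv_smul_of_inv (hinv i) (hlam _ (ha i) w hw)] at h3
      refine fix_of_sq (hxo i) ?_
      rw [← h3, smul_inv_smul]
    have h5 := hst (x i) h2 (a i) (ha i)
    have h6 : x i * a i * (x i)⁻¹ = x i * x i * a i := by
      have h8 : a i * (x i)⁻¹ = x i * a i := mul_inv_eq_iff_eq_mul.mp (inv_symm (hinv i))
      rw [mul_assoc, h8, mul_assoc]
    have h7 : x i * x i ∈ A := by
      have : x i * x i = x i * a i * (x i)⁻¹ * (a i)⁻¹ := by rw [h6]; group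
      rw [this]
      exact mul_mem h5 (inv_mem (ha i))
    have h8 := hA2 _ h7
    have h9 : (x i) ^ 4 = 1 := by
      rw [show (4 : ℕ) = 2 + 2 from rfl, pow_add, pow_two]; exact h8
    have h10 : orderOf (x i) ∣ 4 := orderOf_dvd_of_pow_eq_one h9
    have h11 : Nat.Coprime (orderOf (x i)) 4 := by
      have h12 : Nat.Coprime (orderOf (x i)) 2 := (Nat.coprime_two_right).mpr (hxo i)
      exact Nat.Coprime.mul_right h12 h12
    have h12 : orderOf (x i) = 1 := Nat.Coprime.eq_one_of_dvd h11 h10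
    exact hx1 i (orderOf_eq_one_iff.mp h12)
  -- `a j` is trivial on `E`
  have hEa : ∀ j, ∀ m ∈ E, a j • m = m := by
    intro j m hm
    obtain ⟨i, hij⟩ : ∃ i : Fin d, i ≠ j := by
      have : Nontrivial (Fin d) := Fin.nontrivial_iff_two_le.mpr hd2
      exact exists_ne j
    have h1 : a j • m - m ∈ lam := hE _ (ha j) m hm
    have h2 : x i • (a j • m - m) = a j • m - m := by
      obtain ⟨m1, hm1, m2, hm2, rfl⟩ := exists_decomp two (hxo i) m
      have h3 : a j • (m1 + m2) - (m1 + m2) = a j • m2 - m2 := by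
        rw [smul_add, htr i j hij m1 hm1]; abel
      rw [h3, smul_sub, ← mul_smul, ← hcom j i (Ne.symm hij), mul_smul, mem_fx.mp hm2]
    exact sub_eq_zero.mp (hfix i _ h1 h2)
  -- the commutator map
  let Θ : M →+ (Fin d → M) :=
    { toFun := fun m i => a i • m - m
      map_zero' := by funext i; simp
      map_add' := fun m n => by funext i; simp only [smul_add, Pi.add_apply]; abel }
  have hEker : E ≤ Θ.ker := by
    intro m hm
    rw [AddMonoidHom.mem_ker]
    funext i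
    exact sub_eq_zero.mpr (hEa i m hm)
  have hup : Nat.card Θ.range ≤ 2 ^ d := by
    rw [← AddSubgroup.index_ker]
    have h1 : Θ.ker.index ≤ E.index := Nat.le_of_dvd (Nat.pos_of_ne_zero E.index_ne_zero_of_finite)
      (AddSubgroup.index_dvd_of_le hEker)
    rw [← hAd]
    exact h1.trans hEi
  -- lower bound
  let Z : Fin d → Set M := fun i => {z | ∃ m ∈ br M (x i), a i • m - m = z}
  have hZ : ∀ i, Nat.card F ≤ Nat.card (Z i) := by
    intro i
    -- a nonzero value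
    obtain ⟨n, hn⟩ : ∃ n : M, a i • (x i • n - n) - (x i • n - n) ∉ rad := by
      by_contra hcon
      push Not at hcon
      have h1 : ∀ m ∈ br M (x i), a i • m - m ∈ rad := by
        rintro _ ⟨n, rfl⟩
        exact hcon n
      have h2 : ∀ m ∈ br M (x i), (x i) • (x i) • m - m ∈ rad := by
        intro m hm
        have e1 : a i • (x i • m) = (x i)⁻¹ • (a i • m) := by
          rw [← mul_smul, ← mul_smul, conj_eq_of_inv (hinv i)]
        have e2 := L.inv (x i) _ (h1 _ (smul_mem_br_self hm))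
        rw [smul_sub, e1, smul_inv_smul] at e2
        have e3 := sub_mem (h1 m hm) e2
        have e4 : a i • m - m - (a i • m - x i • x i • m) = x i • x i • m - m := by abel
        rwa [e4] at e3
      have h4 : ∀ m ∈ br M (x i), x i • x i • m = m := by
        intro m hm
        have h5 : x i • x i • m - m ∈ br M (x i) := sub_mem (smul_mem_br_self (smul_mem_br_self hm)) hm
        have h8 : x i • (x i • x i • m - m) = x i • x i • m - m := by
          have e1 := L.cen _ (ha i) _ (h2 m hm)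
          have e2 := L.cen _ (ha i) _ (L.inv (x i) _ (h2 m hm))
          rw [inv_smul_of_inv (hinv i) e1] at e2
          refine fix_of_sq (hxo i) ?_
          rw [← e2, smul_inv_smul]
        exact sub_eq_zero.mp (br_inf_fx two (hxo i) h5 h8)
      exact hx1 i (eq_one_of_fix two (hxo i) fun m hm => fix_of_sq (hxo i) (h4 m hm))
    have hval : ∀ c : F, ∃ z ∈ Z i, Mul c (a i • (x i • n - n) - (x i • n - n)) z := by
      intro c
      obtain ⟨n', hn'⟩ := L.ex c n
      refine ⟨a i • (x i • n' - n') - (x i • n' - n'), ⟨_, sub_mem_br _ _, rfl⟩, ?_⟩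
      have h1 := L.sub _ _ _ _ _ (L.smul _ _ _ (x i) hn') hn'
      exact L.sub _ _ _ _ _ (L.smul _ _ _ (a i) h1) h1
    choose z hz hzw using hval
    have hinj : Function.Injective (fun c : F => (⟨z c, hz c⟩ : Z i)) := by
      intro c c' e
      have h1 : z c = z c' := congrArg Subtype.val e
      by_contra hne
      exact hn (L.inj c c' _ _ (hzw c) (h1 ▸ hzw c') hne)
    exact Nat.card_le_card_of_injective _ hinj
  have hlow : Nat.card F ^ d ≤ Nat.card Θ.range := by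
    have h1 : Nat.card F ^ d ≤ Nat.card (∀ i, Z i) := by
      rw [Nat.card_pi]
      calc Nat.card F ^ d = ∏ _i : Fin d, Nat.card F := by simp only [_root_.Finset.prod_const, _root_.Finset.card_univ, _root_.Fintype.card_fin]
        _ ≤ ∏ i : Fin d, Nat.card (Z i) := Finset.prod_le_prod' fun i _ => hZ i
    refine h1.trans ?_
    have h2 : ∀ g : (∀ i, Z i), (fun i => ((g i : Z i) : M)) ∈ Θ.range := by
      intro g
      choose m hm hmz using fun i => (g i).2
      refine ⟨∑ j, m j, ?_⟩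
      funext i
      change a i • (∑ j, m j) - (∑ j, m j) = ((g i : Z i) : M)
      rw [Finset.smul_sum, ← Finset.sum_sub_distrib]
      rw [Finset.sum_eq_single i]
      · exact hmz i
      · intro j _ hji
        rw [htr j i hji _ (hm j), sub_self]
      · intro h; exact absurd (Finset.mem_univ i) h
    refine Nat.card_le_card_of_injective (fun g => (⟨_, h2 g⟩ : Θ.range)) ?_
    intro g g' e
    have h3 := congrArg Subtype.val e
    funext i
    exact Subtype.ext (congrFun h3 i)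
  have h1 : 4 ^ d ≤ 2 ^ d := (Nat.pow_le_pow_left hF d).trans (hlow.trans hup)
  have h2 : 2 ^ d < 4 ^ d := Nat.pow_lt_pow_left (by norm_num) (by omega)
  omega

end Main

end Cfsg.Agent.Omega.NO3S.OneQ.FitQ

end

section


/-!
# NsF, F3: groups with cyclic Sylow 2-subgroups acting on `Y = R ⊕ D`; the case `|Y| ≤ 16`

* `comm_of_le_sixteen`: `K` normal of odd order in `A`, `A` of even order and faithful on an elementary abelian
  2-group of order at most 16: `K` is commutative;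
* `exists_complement`: a group with cyclic Sylow 2-subgroup has a normal 2-complement containing all subgroups of odd
  order.
-/

set_option autoImplicit false
set_option linter.unusedSectionVars false

namespace Cfsg.Agent.Omega.NOThreeL.NsF.NormD

open Subgroup Cfsg.Agent.Omega.NO3S.Fit.Abs

section Count

variable {A Y : Type*} [Group A] [Finite A] [AddCommGroup Y] [Finite Y] [DistribMulAction A Y]

/-- an element of prime order on an invariant subgroup -/
theorem modEq {p : ℕ} [hp : Fact p.Prime] {x : A} (hx : x ^ p = 1) {N : AddSubgroup Y}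
    (hN : ∀ m ∈ N, x • m ∈ N) :
    Nat.card N ≡ Nat.card (N ⊓ fx Y x : AddSubgroup Y) [MOD p] := by
  classical
  have := Fintype.ofFinite N
  let f : Function.End N := fun m => ⟨x • (m : Y), hN m m.2⟩
  have hf : ∀ (k : ℕ) (m : N), ((f ^ k) m : Y) = x ^ k • (m : Y) := by
    intro k
    induction k with
    | zero => intro m; rw [pow_zero, pow_zero, one_smul]; rfl
    | succ k ih =>
      intro m
      rw [pow_succ, pow_succ, mul_smul]
      exact ih (f m)
  have hfp : f ^ p ^ 1 = 1 := by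
    funext m
    apply Subtype.ext
    rw [hf, pow_one, hx, one_smul]
    rfl
  have h := Equiv.Perm.card_fixedPoints_modEq (p := p) (n := 1) hfp
  rw [← Nat.card_eq_fintype_card, ← Nat.card_eq_fintype_card] at h
  have key : Nat.card (Function.fixedPoints f) = Nat.card (N ⊓ fx Y x : AddSubgroup Y) := Nat.card_congr
    { toFun := fun m => ⟨((m : N) : Y), (m : N).2, congrArg Subtype.val (m.2 : f (m : N) = (m : N))⟩
      invFun := fun m => ⟨⟨(m : Y), m.2.1⟩, Subtype.ext (m.2.2 : x • (m : Y) = (m : Y))⟩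
      left_inv := fun m => rfl
      right_inv := fun m => rfl }
  rw [← key]
  exact h

theorem card_br_mul_fx (x : A) : Nat.card (br Y x) * Nat.card (fx Y x) = Nat.card Y := by
  let f : Y →+ Y :=
    { toFun := fun m => x • m - m
      map_zero' := by simp
      map_add' := fun m n => by rw [smul_add]; abel }
  have h1 : f.range = br Y x := by
    ext m
    rfl
  have h2 : f.ker = fx Y x := by
    ext m
    exact sub_eq_zero
  have h3 : Nat.card f.ker * Nat.card f.range = Nat.card Y := by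
    rw [← AddSubgroup.index_ker, AddSubgroup.card_mul_index]
  rw [h1, h2] at h3
  rw [mul_comm]
  exact h3

variable [FaithfulSMul A Y]

/-- an element of order 7 on a group of order at most 16 -/
theorem card_br_seven (two : ∀ m : Y, m + m = 0) (h16 : Nat.card Y ≤ 16) {x : A}
    (hx : orderOf x = 7) : Nat.card (br Y x) = 8 ∧ Nat.card (fx Y x) ≤ 2 := by
  have : Fact (Nat.Prime 7) := ⟨by decide⟩
  have hx7 : x ^ 7 = 1 := by rw [← hx]; exact pow_orderOf_eq_one x
  have hx1 : x ≠ 1 := by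
    rintro rfl
    rw [orderOf_one] at hx
    omega
  obtain ⟨a, ha⟩ := exists_card_two_pow two (br Y x)
  obtain ⟨b, hb⟩ := exists_card_two_pow two (fx Y x)
  have h1 := card_br_mul_fx (Y := Y) x
  have h2 : Nat.card (⊤ : AddSubgroup Y) ≡ Nat.card ((⊤ : AddSubgroup Y) ⊓ fx Y x : AddSubgroup Y)
    [MOD 7] := modEq hx7 fun m _ => AddSubgroup.mem_top _
  rw [top_inf_eq, AddSubgroup.card_top, ← h1, ha, hb] at h2
  rw [ha, hb] at h1
  have ha0 : a ≠ 0 := by
    rintro rfl
    rw [pow_zero, AddSubgroup.card_eq_one] at ha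
    exact ne_zero_of_br hx1 ha
  rw [← pow_add] at h1 h2
  have hab : a + b ≤ 4 := by
    by_contra hcon
    have : 2 ^ 5 ≤ 2 ^ (a + b) := Nat.pow_le_pow_right (by decide) (by omega)
    omega
  rw [ha, hb]
  have ha4 : a ≤ 4 := by omega
  have hb4 : b ≤ 4 := by omega
  clear ha hb h1
  revert h2 hab ha0
  unfold Nat.ModEq
  interval_cases a <;> interval_cases b <;> decide

/-- an involution normalising a group of order 7 -/
theorem not_seven (two : ∀ m : Y, m + m = 0) (h16 : Nat.card Y ≤ 16) {x s : A}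
    (hx : orderOf x = 7) (hs : orderOf s = 2) (hsx : s * x * s⁻¹ ∈ zpowers x) : False := by
  have : Fact (Nat.Prime 7) := ⟨by decide⟩
  have : Fact (Nat.Prime 2) := ⟨by decide⟩
  obtain ⟨h8, hf2⟩ := card_br_seven two h16 hx
  have hx7 : x ^ 7 = 1 := by rw [← hx]; exact pow_orderOf_eq_one x
  have hs2 : s ^ 2 = 1 := by rw [← hs]; exact pow_orderOf_eq_one s
  have hss : s * s = 1 := by rw [← pow_two]; exact hs2
  have hsi : s⁻¹ = s := inv_eq_of_mul_eq_one_left hss
  have hodd : Odd (orderOf x) := by rw [hx]; decide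
  have hs1 : s ≠ 1 := by
    rintro rfl
    rw [orderOf_one] at hs
    omega
  -- the exponent
  obtain ⟨k, hk7, hk⟩ : ∃ k < 7, x ^ k = s * x * s⁻¹ := by
    obtain ⟨k, hk⟩ := (mem_powers_iff_mem_zpowers.mpr hsx)
    refine ⟨k % 7, Nat.mod_lt _ (by decide), ?_⟩
    rw [← hk, ← hx]
    exact pow_mod_orderOf x k
  have hkk : x ^ (k * k) = x := by
    have h1 : (s * x * s⁻¹) ^ k = s * x ^ k * s⁻¹ := by
      rw [conj_pow]
    rw [pow_mul, hk, h1, hk, hsi]
    calc s * (s * x * s) * s = (s * s) * x * (s * s) := by group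
      _ = x := by rw [hss]; group
  have hmod : k * k ≡ 1 [MOD 7] := by
    rw [← hx, ← pow_eq_pow_iff_modEq, pow_one]
    exact hkk
  have hk16 : k = 1 ∨ k = 6 := by
    unfold Nat.ModEq at hmod
    clear hk hkk
    revert hmod
    interval_cases k <;> decide
  rcases hk16 with rfl | rfl
  · -- commuting
    have hcomm : s * x = x * s := by
      rw [pow_one] at hk
      have := congrArg (· * s) hk
      simp only [inv_mul_cancel_right] at this
      exact this.symm
    have hB1 : ∀ m ∈ br Y x, s • m ∈ br Y x := fun m hm => smul_mem_br_of_comm hcomm hm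
    have hB2 : ∀ m ∈ (br Y x ⊓ fx Y s : AddSubgroup Y), x • m ∈ (br Y x ⊓ fx Y s : AddSubgroup Y) :=
      fun m hm => ⟨smul_mem_br_self hm.1, smul_mem_fx_of_comm hcomm.symm hm.2⟩
    have e1 := modEq hs2 hB1
    have e2 := modEq hx7 hB2
    have e3 : ((br Y x ⊓ fx Y s : AddSubgroup Y) ⊓ fx Y x : AddSubgroup Y) = ⊥ := by
      rw [eq_bot_iff]
      rintro m ⟨⟨h1, _⟩, h2⟩
      exact br_inf_fx two hodd h1 h2
    rw [e3, AddSubgroup.card_bot] at e2
    rw [h8] at e1
    have e4 : Nat.card (br Y x ⊓ fx Y s : AddSubgroup Y) ≤ 8 := by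
      rw [← h8]
      exact AddSubgroup.card_le_of_le inf_le_left
    have e5 : Nat.card (br Y x ⊓ fx Y s : AddSubgroup Y) = 8 := by
      unfold Nat.ModEq at e1 e2
      have := Nat.card_pos (α := (br Y x ⊓ fx Y s : AddSubgroup Y))
      omega
    have e6 : br Y x ⊓ fx Y s = br Y x :=
      AddSubgroup.eq_of_le_of_card_ge inf_le_left (by rw [e5, h8])
    have hfx : ∀ m ∈ fx Y x, s • m ∈ fx Y x := fun m hm => smul_mem_fx_of_comm hcomm hm
    have e7 := modEq hs2 hfx
    have e8 : fx Y x ⊓ fx Y s = fx Y x := by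
      refine AddSubgroup.eq_of_le_of_card_ge inf_le_left ?_
      have h1 := Nat.card_pos (α := (fx Y x ⊓ fx Y s : AddSubgroup Y))
      have h2 := Nat.card_pos (α := fx Y x)
      unfold Nat.ModEq at e7
      omega
    apply hs1
    refine FaithfulSMul.eq_of_smul_eq_smul (α := Y) fun m => ?_
    rw [one_smul]
    obtain ⟨d, hd, c, hc, rfl⟩ := exists_decomp two hodd m
    have hd' : d ∈ br Y x ⊓ fx Y s := by rw [e6]; exact hd
    have hc' : c ∈ fx Y x ⊓ fx Y s := by rw [e8]; exact hc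
    rw [smul_add, hd'.2, hc'.2]
  · -- inverted
    have hi : s * x * s⁻¹ = x⁻¹ := by
      rw [← hk]
      refine eq_inv_of_mul_eq_one_left ?_
      rw [← pow_succ]
      exact hx7
    have h1 := (card_br_eq (M := Y) two hss hodd hi).1
    rw [h8] at h1
    have h2 : Nat.card (cx Y s x) < 3 := by nlinarith only [h1]
    interval_cases Nat.card (cx Y s x) <;> omega

end Count

/-! ### Groups of order dividing 45 -/

section FortyFive

variable {K : Type*} [Group K] [Finite K]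

theorem comm_of_isPGroup_card {P : Type*} [Group P] [Finite P] {p : ℕ} [hp : Fact p.Prime]
    (h : Nat.card P ∣ p ^ 2) : ∀ a b : P, a * b = b * a := by
  obtain ⟨k, hk, hk2⟩ := (Nat.dvd_prime_pow hp.out).mp h
  intro a b
  interval_cases k
  · rw [pow_zero] at hk2
    have := (Nat.card_eq_one_iff_unique.mp hk2).1
    exact Subsingleton.elim _ _
  · rw [pow_one] at hk2
    have := isCyclic_of_prime_card hk2
    obtain ⟨g, hg⟩ := IsCyclic.exists_generator (α := P)
    obtain ⟨i, rfl⟩ := mem_zpowers_iff.mp (hg a)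
    obtain ⟨j, rfl⟩ := mem_zpowers_iff.mp (hg b)
    rw [← zpow_add, ← zpow_add, add_comm]
  · exact (IsPGroup.isMulCommutative_of_card_eq_prime_sq hk2).is_comm.comm a b

theorem comm_of_card_dvd (h : Nat.card K ∣ 45) : ∀ a b : K, a * b = b * a := by
  have f3 : Fact (Nat.Prime 3) := ⟨by decide⟩
  have f5 : Fact (Nat.Prime 5) := ⟨by decide⟩
  obtain ⟨P⟩ : Nonempty (Sylow 3 K) := inferInstance
  obtain ⟨Q⟩ : Nonempty (Sylow 5 K) := inferInstance
  have hP : Nat.card P ∣ 9 := by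
    have h1 : Nat.card P ∣ 45 := (card_subgroup_dvd_card (P : Subgroup K)).trans h
    obtain ⟨k, hk⟩ := IsPGroup.iff_card.mp P.isPGroup'
    rw [hk] at h1 ⊢
    have h2 : Nat.Coprime (3 ^ k) 5 := Nat.Coprime.pow_left k (by decide)
    exact h2.dvd_of_dvd_mul_right (show 3 ^ k ∣ 9 * 5 from h1)
  have hQ : Nat.card Q ∣ 5 := by
    have h1 : Nat.card Q ∣ 45 := (card_subgroup_dvd_card (Q : Subgroup K)).trans h
    obtain ⟨k, hk⟩ := IsPGroup.iff_card.mp Q.isPGroup'
    rw [hk] at h1 ⊢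
    have h2 : Nat.Coprime (5 ^ k) 9 := Nat.Coprime.pow_left k (by decide)
    exact h2.dvd_of_dvd_mul_left (show 5 ^ k ∣ 9 * 5 from h1)
  have hPi : (P : Subgroup K).index ∣ 5 := by
    have h1 : (P : Subgroup K).index ∣ 45 := (index_dvd_card (P : Subgroup K)).trans h
    have h2 : Nat.Coprime (P : Subgroup K).index 9 := by
      have := (Nat.Prime.coprime_iff_not_dvd f3.out).mpr P.not_dvd_index
      exact (Nat.Coprime.pow_left 2 this).symm
    exact h2.dvd_of_dvd_mul_left (show (P : Subgroup K).index ∣ 9 * 5 from h1)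
  have hQi : (Q : Subgroup K).index ∣ 9 := by
    have h1 : (Q : Subgroup K).index ∣ 45 := (index_dvd_card (Q : Subgroup K)).trans h
    have h2 : Nat.Coprime (Q : Subgroup K).index 5 :=
      ((Nat.Prime.coprime_iff_not_dvd f5.out).mpr Q.not_dvd_index).symm
    exact h2.dvd_of_dvd_mul_right (show (Q : Subgroup K).index ∣ 9 * 5 from h1)
  have nP : Nat.card (Sylow 3 K) = 1 := by
    have h1 : Nat.card (Sylow 3 K) ∣ 5 := P.card_dvd_index.trans hPi
    have h2 := card_sylow_modEq_one 3 K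
    rcases (Nat.dvd_prime f5.out).mp h1 with h | h
    · exact h
    · rw [h] at h2
      exact absurd h2 (by decide)
  have nQ : Nat.card (Sylow 5 K) = 1 := by
    have h1 : Nat.card (Sylow 5 K) ∣ 9 := Q.card_dvd_index.trans hQi
    have h2 := card_sylow_modEq_one 5 K
    have h3 : Nat.card (Sylow 5 K) ≤ 9 := Nat.le_of_dvd (by decide) h1
    unfold Nat.ModEq at h2
    interval_cases Nat.card (Sylow 5 K) <;> simp_all only [_root_.zero_dvd_iff, _root_.OfNat.ofNat_ne_zero, _root_.isUnit_iff_eq_one, _root_.IsUnit.dvd, _root_.Nat.one_mod, _root_.Nat.one_le_ofNat, _root_.Nat.reduceDvd, _root_.Nat.reduceMod, _root_.OfNat.ofNat_ne_one, _root_.dvd_refl]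
  have sP : Subsingleton (Sylow 3 K) := (Nat.card_eq_one_iff_unique.mp nP).1
  have sQ : Subsingleton (Sylow 5 K) := (Nat.card_eq_one_iff_unique.mp nQ).1
  have cP : (P : Subgroup K).Normal := P.normal_of_subsingleton
  have cQ : (Q : Subgroup K).Normal := Q.normal_of_subsingleton
  have hcop : Nat.Coprime (Nat.card P) (Nat.card Q) :=
    Nat.Coprime.of_dvd hP hQ (by decide)
  have hdis : Disjoint (P : Subgroup K) (Q : Subgroup K) := by
    exact disjoint_of_coprime_natCard hcop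
  have htop : (P : Subgroup K) ⊔ (Q : Subgroup K) = ⊤ := by
    rw [← index_eq_one, ← Nat.dvd_one]
    have h1 : ((P : Subgroup K) ⊔ (Q : Subgroup K)).index ∣ 5 :=
      (index_dvd_of_le le_sup_left).trans hPi
    have h2 : ((P : Subgroup K) ⊔ (Q : Subgroup K)).index ∣ 9 :=
      (index_dvd_of_le le_sup_right).trans hQi
    exact Nat.dvd_gcd h1 h2
  have cPQ : ∀ a ∈ (P : Subgroup K), ∀ b ∈ (Q : Subgroup K), a * b = b * a := fun a ha b hb =>
    commute_of_normal_of_disjoint _ _ cP cQ hdis a b ha hb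
  have cPP : ∀ a ∈ (P : Subgroup K), ∀ b ∈ (P : Subgroup K), a * b = b * a := fun a ha b hb =>
    congrArg Subtype.val (comm_of_isPGroup_card (p := 3) (P := P) hP ⟨a, ha⟩ ⟨b, hb⟩)
  have cQQ : ∀ a ∈ (Q : Subgroup K), ∀ b ∈ (Q : Subgroup K), a * b = b * a := fun a ha b hb =>
    congrArg Subtype.val (comm_of_isPGroup_card (p := 5) (P := Q) (hQ.trans (by decide)) ⟨a, ha⟩ ⟨b, hb⟩)
  intro a b
  have ha : a ∈ (P : Subgroup K) ⊔ (Q : Subgroup K) := htop ▸ mem_top a
  have hb : b ∈ (P : Subgroup K) ⊔ (Q : Subgroup K) := htop ▸ mem_top b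
  rw [← SetLike.mem_coe, mul_normal, Set.mem_mul] at ha hb
  obtain ⟨a1, ha1, a2, ha2, rfl⟩ := ha
  obtain ⟨b1, hb1, b2, hb2, rfl⟩ := hb
  have ha1' : a1 ∈ (P : Subgroup K) := ha1
  have ha2' : a2 ∈ (Q : Subgroup K) := ha2
  have hb1' : b1 ∈ (P : Subgroup K) := hb1
  have hb2' : b2 ∈ (Q : Subgroup K) := hb2
  calc a1 * a2 * (b1 * b2) = a1 * (a2 * b1) * b2 := by group
    _ = a1 * b1 * (a2 * b2) := by rw [← cPQ b1 hb1' a2 ha2']; group
    _ = b1 * a1 * (b2 * a2) := by rw [cPP a1 ha1' b1 hb1', cQQ a2 ha2' b2 hb2']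
    _ = b1 * (a1 * b2) * a2 := by group
    _ = b1 * b2 * (a1 * a2) := by rw [cPQ a1 ha1' b2 hb2']; group

end FortyFive

end Cfsg.Agent.Omega.NOThreeL.NsF.NormD

end

private theorem dce_0090a600d451 : _root_.True := by
  try have : _root_.True := by simp only [_root_.Cfsg.Agent.Omega.NO3S.Fit.Abs.cmm.eq_1]
  try have : _root_.True := by simp only [_root_.Cfsg.Agent.Omega.NO3S.Fit.Abs.fxs.eq_1]
  try have : _root_.True := by simp only [_root_.Cfsg.Agent.Omega.NO3S.Fit.Abs.sp.eq_1]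
  exact _root_.True.intro
end

-- part: Mrg/Omega/EH3/Clif/Comp
section
prune_inst 0xe0400240300000000000000400000220000000020040000000000a040201004040000040020020100002000000000040004400000040000004000000000000000000800010000000000000000080000000000000000000000000000000000000000000000
set_option linter.all false
open scoped Cfsg.Agent.FastGrp

section


/-!
# EH3, Clifford step: splitting a group with two components

`Split N₁ N₂`: two commuting perfect nontrivial subgroups with normal product.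

* `two_components`: if `H` has two different components and `X` is a subgroup of exponent 2, then either
  `X` normalises both members of some `Split`, or some subgroup `A'` of index 2 in `X` normalises
  `N₁`, the elements of `X - A'` interchange `N₁` and `N₂`, and a subgroup of `N₁` normalised by `N₁` and
  `A'` is `N₁` or centralises `N₁`.
* `exists_normalizing`, `four_le_card`: an abelian Sylow 2-subgroup `T` of a perfect group `N₁` of even order
  has order at least 4 and is not centralised by its normaliser.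
-/

set_option autoImplicit false

namespace Cfsg.Agent.Omega.EH3.Clif.Comp

open Subgroup Cfsg Cfsg.Agent.Lib.ComponentSolvable
open Cfsg.Agent.S1270 (component_comm_of_normalizes component_comm_of_ne component_conj)
open scoped commutatorElement

variable {H : Type*} [Group H]

/-- Two commuting perfect nontrivial subgroups with normal product. -/
structure Split (N₁ N₂ : Subgroup H) : Prop where
  comm : ∀ x ∈ N₁, ∀ y ∈ N₂, x * y = y * x
  norm : (N₁ ⊔ N₂).Normal
  perf₁ : ⁅N₁, N₁⁆ = N₁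
  perf₂ : ⁅N₂, N₂⁆ = N₂
  ne₁ : N₁ ≠ ⊥
  ne₂ : N₂ ≠ ⊥

/-! ### Conjugation of subgroups -/

theorem conj_conj (K : Subgroup H) (a b : H) :
    (K.map (MulAut.conj a).toMonoidHom).map (MulAut.conj b).toMonoidHom =
      K.map (MulAut.conj (b * a)).toMonoidHom := by
  rw [Subgroup.map_map]
  congr 1
  ext x
  simp [mul_assoc]

theorem conj_one (K : Subgroup H) : K.map (MulAut.conj (1 : H)).toMonoidHom = K := by
  ext x
  simp only [Subgroup.mem_map, _root_.map_one, _root_.MulEquiv.toMonoidHom_eq_coe, _root_.Subgroup.mem_map, _root_.MonoidHom.coe_coe, _root_.MulAut.one_apply, _root_.exists_eq_right]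

theorem mem_normalizer_of_conj {K : Subgroup H} {a : H}
    (h : K.map (MulAut.conj a).toMonoidHom = K) : a ∈ normalizer (K : Set H) := by
  rw [mem_normalizer_iff]
  intro x
  constructor
  · intro hx
    rw [← h]
    exact ⟨x, hx, rfl⟩
  · intro hx
    rw [← h] at hx
    obtain ⟨y, hy, hxy⟩ := hx
    have : y = x := (MulAut.conj a).injective hxy
    exact this ▸ hy

theorem conj_eq_of_mem {K : Subgroup H} {a : H} (h : a ∈ normalizer (K : Set H)) :
    K.map (MulAut.conj a).toMonoidHom = K := by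
  ext x
  constructor
  · rintro ⟨y, hy, rfl⟩
    exact (mem_normalizer_iff.mp h y).mp hy
  · intro hx
    refine ⟨a⁻¹ * x * a, ?_, ?_⟩
    · rw [SetLike.mem_coe, mem_normalizer_iff.mp h]
      have e : a * (a⁻¹ * x * a) * a⁻¹ = x := by group
      rw [e]
      exact hx
    · change a * (a⁻¹ * x * a) * a⁻¹ = x
      group

/-- Conjugation of a supremum of subgroups. -/
theorem conj_sSup_le {s t : Set (Subgroup H)} {a : H}
    (h : ∀ K ∈ s, K.map (MulAut.conj a).toMonoidHom ∈ t) :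
    (sSup s).map (MulAut.conj a).toMonoidHom ≤ sSup t := by
  rw [map_le_iff_le_comap]
  refine sSup_le fun K hK => ?_
  rw [← map_le_iff_le_comap]
  exact le_sSup (h K hK)

theorem conj_sSup_eq {s t : Set (Subgroup H)} {a : H}
    (h : ∀ K ∈ s, K.map (MulAut.conj a).toMonoidHom ∈ t)
    (h' : ∀ K ∈ t, K.map (MulAut.conj a⁻¹).toMonoidHom ∈ s) :
    (sSup s).map (MulAut.conj a).toMonoidHom = sSup t := by
  apply le_antisymm (conj_sSup_le h)
  have h1 := Subgroup.map_mono (f := (MulAut.conj a).toMonoidHom) (conj_sSup_le h')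
  rwa [conj_conj, mul_inv_cancel, conj_one] at h1

/-! ### Products of components -/

theorem commutator_self {K : Subgroup H} (hK : IsComponent K) : ⁅K, K⁆ = K := by
  have h1 := Subgroup.map_subtype_commutator K
  have hp := hK.2.1
  rw [← h1]
  have h2 : _root_.commutator K = ⊤ := hp.commutator_eq_top
  rw [h2, ← MonoidHom.range_eq_map, Subgroup.range_subtype]

theorem ne_bot {K : Subgroup H} (hK : IsComponent K) : K ≠ ⊥ := by
  have := quasisimple_nontrivial hK.2
  exact (Subgroup.nontrivial_iff_ne_bot K).mp this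

theorem perf_sSup {s : Set (Subgroup H)} (hs : ∀ K ∈ s, IsComponent K) :
    ⁅sSup s, sSup s⁆ = sSup s := by
  apply le_antisymm
  · exact commutator_le_self _
  · refine sSup_le fun K hK => ?_
    rw [← commutator_self (hs K hK)]
    exact commutator_mono (le_sSup hK) (le_sSup hK)

theorem comm_sSup {s t : Set (Subgroup H)} (hs : ∀ K ∈ s, IsComponent K)
    (ht : ∀ K ∈ t, IsComponent K) (hd : ∀ K ∈ s, K ∉ t) :
    ∀ x ∈ sSup s, ∀ y ∈ sSup t, x * y = y * x := by
  have h1 : sSup s ≤ centralizer ((sSup t : Subgroup H) : Set H) := by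
    refine sSup_le fun K hK => ?_
    rw [le_centralizer_iff]
    refine sSup_le fun L hL => ?_
    have hne : L ≠ K := fun h => hd K hK (h ▸ hL)
    exact commutator_eq_bot_iff_le_centralizer.mp (component_comm_of_ne (ht L hL) (hs K hK) hne)
  intro x hx y hy
  exact ((mem_centralizer_iff.mp (h1 hx)) y hy).symm

theorem sSup_ne_bot {s : Set (Subgroup H)} (hs : ∀ K ∈ s, IsComponent K) {K : Subgroup H}
    (hK : K ∈ s) : sSup s ≠ ⊥ := by
  intro h
  exact ne_bot (hs K hK) (le_bot_iff.mp ((le_sSup hK).trans h.le))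

theorem normal_sSup {s t : Set (Subgroup H)} (h : ∀ K : Subgroup H, IsComponent K ↔ K ∈ s ∨ K ∈ t) :
    (sSup s ⊔ sSup t).Normal := by
  have e : sSup s ⊔ sSup t = sSup {K : Subgroup H | IsComponent K} := by
    rw [← sSup_union]
    congr 1
    ext K
    exact (h K).symm
  rw [e]
  constructor
  intro x hx g
  have h1 : (sSup {K : Subgroup H | IsComponent K}).map (MulAut.conj g).toMonoidHom ≤
      sSup {K : Subgroup H | IsComponent K} :=
    conj_sSup_le fun K hK => component_conj hK g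
  exact h1 ⟨x, hx, rfl⟩

theorem split_of {s t : Set (Subgroup H)} (h : ∀ K : Subgroup H, IsComponent K ↔ K ∈ s ∨ K ∈ t)
    (hd : ∀ K ∈ s, K ∉ t) {K L : Subgroup H} (hK : K ∈ s) (hL : L ∈ t) :
    Split (sSup s) (sSup t) where
  comm := comm_sSup (fun K hK => (h K).mpr (Or.inl hK)) (fun K hK => (h K).mpr (Or.inr hK)) hd
  norm := normal_sSup h
  perf₁ := perf_sSup fun K hK => (h K).mpr (Or.inl hK)
  perf₂ := perf_sSup fun K hK => (h K).mpr (Or.inr hK)
  ne₁ := sSup_ne_bot (fun K hK => (h K).mpr (Or.inl hK)) hK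
  ne₂ := sSup_ne_bot (fun K hK => (h K).mpr (Or.inr hK)) hL

/-! ### Subgroups of exponent 2 -/

theorem comm_of_sq {X : Subgroup H} (hX : ∀ x ∈ X, x * x = 1) {a b : H} (ha : a ∈ X) (hb : b ∈ X) :
    a * b = b * a := by
  have h1 : a⁻¹ = a := inv_eq_of_mul_eq_one_left (hX a ha)
  have h2 : b⁻¹ = b := inv_eq_of_mul_eq_one_left (hX b hb)
  have h3 : (a * b)⁻¹ = a * b := inv_eq_of_mul_eq_one_left (hX _ (X.mul_mem ha hb))
  rw [mul_inv_rev, h1, h2] at h3
  exact h3.symm

/-- A proper subgroup of a finite group of exponent 2 lies in a subgroup of index 2. -/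
theorem exists_index_two [Finite H] {X B : Subgroup H} (hX : ∀ x ∈ X, x * x = 1) (hBX : B ≤ X)
    (hne : B ≠ X) : ∃ A ≤ X, B ≤ A ∧ A ≠ X ∧ ∀ x ∈ X, x ∉ A → ∀ y ∈ X, y ∉ A → y * x ∈ A := by
  have hfin : (Set.univ : Set (Subgroup H)).Finite := Set.toFinite _
  obtain ⟨A, hBA, hA⟩ := Finite.exists_le_maximal (p := fun A : Subgroup H => A ≤ X ∧ A ≠ X)
    ⟨hBX, hne⟩
  refine ⟨A, hA.prop.1, hBA, hA.prop.2, ?_⟩
  intro x hx hxA
  let D : Subgroup H :=
    { carrier := {y | y ∈ X ∧ (y ∈ A ∨ y * x ∈ A)}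
      one_mem' := ⟨X.one_mem, Or.inl A.one_mem⟩
      mul_mem' := by
        rintro a b ⟨ha, ha'⟩ ⟨hb, hb'⟩
        refine ⟨X.mul_mem ha hb, ?_⟩
        have hbx := comm_of_sq hX hb hx
        rcases ha' with h1 | h1 <;> rcases hb' with h2 | h2
        · exact Or.inl (A.mul_mem h1 h2)
        · right
          rw [mul_assoc]
          exact A.mul_mem h1 h2
        · right
          have e : a * b * x = a * x * b := by rw [mul_assoc, hbx, ← mul_assoc]
          rw [e]
          exact A.mul_mem h1 h2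
        · left
          have e : a * b = a * x * (b * x) := by
            rw [hbx]
            calc a * b = a * 1 * b := by rw [mul_one]
              _ = a * (x * x) * b := by rw [hX x hx]
              _ = a * x * (x * b) := by group
          rw [e]
          exact A.mul_mem h1 h2
      inv_mem' := by
        rintro a ⟨ha, ha'⟩
        have h1 : a⁻¹ = a := inv_eq_of_mul_eq_one_left (hX a ha)
        change a⁻¹ ∈ X ∧ (a⁻¹ ∈ A ∨ a⁻¹ * x ∈ A)
        rw [h1]
        exact ⟨ha, ha'⟩ }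
  have hAD : A ≤ D := fun a ha => ⟨hA.prop.1 ha, Or.inl ha⟩
  have hDX : D ≤ X := fun a ha => ha.1
  have hxD : x ∈ D := ⟨hx, Or.inr (by rw [hX x hx]; exact A.one_mem)⟩
  have hD : D = X := by
    by_contra hcon
    exact hxA (hA.le_of_ge ⟨hDX, hcon⟩ hAD hxD)
  intro y hy hyA
  rw [← hD] at hy
  exact hy.2.resolve_left hyA

theorem relIndex_two {X A : Subgroup H} (hAX : A ≤ X) (hne : A ≠ X)
    (h : ∀ x ∈ X, x ∉ A → ∀ y ∈ X, y ∉ A → y * x ∈ A) : A.relIndex X = 2 := by
  obtain ⟨x, hx, hxA⟩ : ∃ x ∈ X, x ∉ A := by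
    by_contra hcon
    push Not at hcon
    exact hne (le_antisymm hAX hcon)
  rw [relIndex, index_eq_two_iff]
  refine ⟨⟨x, hx⟩, fun b => ?_⟩
  rw [mem_subgroupOf, mem_subgroupOf]
  by_cases hb : (b : H) ∈ A
  · right
    refine ⟨hb, fun hbx => hxA ?_⟩
    have h1 := A.mul_mem (A.inv_mem hb) hbx
    simpa using h1
  · left
    exact ⟨h x hx hxA b b.2 hb, hb⟩

/-! ### The theorem -/

theorem two_components [Finite H] (X : Subgroup H) (hX : ∀ x ∈ X, x * x = 1) {K K' : Subgroup H}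
    (hK : IsComponent K) (hK' : IsComponent K') (hne : K ≠ K') :
    (∃ N₁ N₂ : Subgroup H, Split N₁ N₂ ∧ X ≤ normalizer (N₁ : Set H) ∧
        X ≤ normalizer (N₂ : Set H) ∧ K ≤ N₁) ∨
      (∃ N₁ N₂ A' : Subgroup H, Split N₁ N₂ ∧ A' ≤ X ∧ A'.relIndex X = 2 ∧
        A' ≤ normalizer (N₁ : Set H) ∧
        (∀ x ∈ X, x ∉ A' → N₁.map (MulAut.conj x).toMonoidHom = N₂) ∧
        (∀ J ≤ N₁, N₁ ≤ normalizer (J : Set H) → A' ≤ normalizer (J : Set H) →
          J = N₁ ∨ J ≤ centralizer (N₁ : Set H)) ∧ K ≤ N₁) := by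
  by_cases htr : ∀ L : Subgroup H, IsComponent L → ∃ x ∈ X, K.map (MulAut.conj x).toMonoidHom = L
  · -- transitive case
    right
    obtain ⟨x₀, hx₀, hx₀K⟩ := htr K' hK'
    have hx₀n : x₀ ∉ normalizer (K : Set H) := fun h => hne (hx₀K ▸ (conj_eq_of_mem h).symm)
    obtain ⟨A, hAX, hBA, hAne, hA2⟩ := exists_index_two hX (B := X ⊓ normalizer (K : Set H))
      inf_le_left (fun h => hx₀n (h.ge hx₀).2)
    obtain ⟨x, hx, hxA⟩ : ∃ x ∈ X, x ∉ A := by
      by_contra hcon
      push Not at hcon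
      exact hAne (le_antisymm hAX hcon)
    let s : Set (Subgroup H) := {L | ∃ a ∈ A, K.map (MulAut.conj a).toMonoidHom = L}
    let t : Set (Subgroup H) := {L | ∃ a ∈ A, K.map (MulAut.conj (a * x)).toMonoidHom = L}
    have hd : ∀ L ∈ s, L ∉ t := by
      rintro L ⟨a, ha, rfl⟩ ⟨b, hb, hab⟩
      have h1 : K.map (MulAut.conj (a⁻¹ * (b * x))).toMonoidHom = K := by
        rw [← conj_conj, hab, conj_conj, inv_mul_cancel, conj_one]
      have h2 : a⁻¹ * (b * x) ∈ A :=
        hBA ⟨X.mul_mem (X.inv_mem (hAX ha)) (X.mul_mem (hAX hb) hx), mem_normalizer_of_conj h1⟩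
      apply hxA
      have h3 := A.mul_mem (A.inv_mem hb) (A.mul_mem ha h2)
      simpa [mul_assoc] using h3
    have hcov : ∀ L : Subgroup H, IsComponent L ↔ L ∈ s ∨ L ∈ t := by
      intro L
      constructor
      · intro hL
        obtain ⟨y, hy, hyL⟩ := htr L hL
        by_cases hyA : y ∈ A
        · exact Or.inl ⟨y, hyA, hyL⟩
        · refine Or.inr ⟨y * x, hA2 x hx hxA y hy hyA, ?_⟩
          rw [mul_assoc, hX x hx, mul_one]
          exact hyL
      · rintro (⟨a, -, rfl⟩ | ⟨a, -, rfl⟩) <;> exact component_conj hK _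
    have hKs : K ∈ s := ⟨1, A.one_mem, conj_one K⟩
    have hKt : K.map (MulAut.conj x).toMonoidHom ∈ t := ⟨1, A.one_mem, by rw [one_mul]⟩
    have hAs : ∀ a ∈ A, ∀ L ∈ s, L.map (MulAut.conj a).toMonoidHom ∈ s := by
      rintro a ha L ⟨b, hb, rfl⟩
      exact ⟨a * b, A.mul_mem ha hb, (conj_conj _ _ _).symm⟩
    refine ⟨sSup s, sSup t, A, split_of hcov hd hKs hKt, hAX, relIndex_two hAX hAne hA2, ?_, ?_, ?_,
      le_sSup hKs⟩
    · intro a ha
      exact mem_normalizer_of_conj (conj_sSup_eq (hAs a ha) (hAs a⁻¹ (A.inv_mem ha)))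
    · intro y hy hyA
      have hyx : y * x ∈ A := hA2 x hx hxA y hy hyA
      have hyi : y⁻¹ = y := inv_eq_of_mul_eq_one_left (hX y hy)
      apply conj_sSup_eq
      · rintro L ⟨a, ha, rfl⟩
        refine ⟨a * (y * x), A.mul_mem ha hyx, ?_⟩
        rw [conj_conj]
        congr 3
        have h1 := comm_of_sq hX hy (hAX ha)
        rw [mul_assoc, mul_assoc, hX x hx, mul_one, h1]
      · rw [hyi]
        rintro L ⟨a, ha, rfl⟩
        refine ⟨a * (y * x), A.mul_mem ha hyx, ?_⟩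
        rw [conj_conj]
        congr 3
        have h1 := comm_of_sq hX hy (hAX ha)
        rw [← mul_assoc, ← mul_assoc, h1]
    · intro J hJ hNJ hAJ
      by_cases hKJ : K ≤ J
      · left
        apply le_antisymm hJ
        refine sSup_le ?_
        rintro L ⟨a, ha, rfl⟩
        have h1 := Subgroup.map_mono (f := (MulAut.conj a).toMonoidHom) hKJ
        rwa [conj_eq_of_mem (hAJ ha)] at h1
      · right
        rw [le_centralizer_iff]
        refine sSup_le ?_
        rintro L ⟨a, ha, rfl⟩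
        have hLN : K.map (MulAut.conj a).toMonoidHom ≤ sSup s := le_sSup ⟨a, ha, rfl⟩
        have hLJ : ¬ K.map (MulAut.conj a).toMonoidHom ≤ J := by
          intro hcon
          apply hKJ
          have h1 := Subgroup.map_mono (f := (MulAut.conj a⁻¹).toMonoidHom) hcon
          rwa [conj_eq_of_mem (hAJ (A.inv_mem ha)), conj_conj, inv_mul_cancel, conj_one] at h1
        exact commutator_eq_bot_iff_le_centralizer.mp
          (component_comm_of_normalizes (component_conj hK a) (hLN.trans hNJ) hLJ)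
  · -- intransitive case
    left
    push Not at htr
    obtain ⟨L, hL, hLn⟩ := htr
    let s : Set (Subgroup H) := {L | ∃ a ∈ X, K.map (MulAut.conj a).toMonoidHom = L}
    let t : Set (Subgroup H) := {L | IsComponent L ∧ L ∉ s}
    have hcov : ∀ L : Subgroup H, IsComponent L ↔ L ∈ s ∨ L ∈ t := by
      intro L
      constructor
      · intro hL
        by_cases h : L ∈ s
        · exact Or.inl h
        · exact Or.inr ⟨hL, h⟩
      · rintro (⟨a, -, rfl⟩ | h)
        · exact component_conj hK _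
        · exact h.1
    have hXs : ∀ a ∈ X, ∀ L ∈ s, L.map (MulAut.conj a).toMonoidHom ∈ s := by
      rintro a ha L ⟨b, hb, rfl⟩
      exact ⟨a * b, X.mul_mem ha hb, (conj_conj _ _ _).symm⟩
    have hXt : ∀ a ∈ X, ∀ L ∈ t, L.map (MulAut.conj a).toMonoidHom ∈ t := by
      rintro a ha L ⟨hL, hLs⟩
      refine ⟨component_conj hL a, fun hcon => hLs ?_⟩
      have h1 := hXs a⁻¹ (X.inv_mem ha) _ hcon
      rwa [conj_conj, inv_mul_cancel, conj_one] at h1
    refine ⟨sSup s, sSup t, split_of hcov (fun L hL h => h.2 hL) (K := K) (L := L)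
      ⟨1, X.one_mem, conj_one K⟩ ⟨hL, fun ⟨a, ha, h⟩ => hLn a ha h⟩, ?_, ?_,
      le_sSup ⟨1, X.one_mem, conj_one K⟩⟩
    · intro a ha
      exact mem_normalizer_of_conj (conj_sSup_eq (hXs a ha) (hXs a⁻¹ (X.inv_mem ha)))
    · intro a ha
      exact mem_normalizer_of_conj (conj_sSup_eq (hXt a ha) (hXt a⁻¹ (X.inv_mem ha)))

/-! ### Burnside transfer in a perfect group -/

variable [Finite H]

end Cfsg.Agent.Omega.EH3.Clif.Comp

end

section


/-!
# N1, THEOREM COMP: the components of `Y` (project OMEGA)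

Text: helper390 (bb OMEGA #17539, (1)), part (III) of the split #18039. Typed by helper570.

`MinP T Mx` : `T` a Sylow 2-subgroup of `Y`, `Mx` the unique maximal subgroup over `T`, `O₂(Y) = 1`.

* `MinP.fr` : (FR) a normal subgroup `X` of even order has `X ⊔ T = ⊤`.
* `MinP.exists_comp` : a 2-subgroup `U ≠ 1` centralising `O(Y)` moves an element of a component of even order.
* `Sit T Mx K` : `MinP` and `K` is a component of even order.
* `Sit.layer_sup` : `layer Y ⊔ T = ⊤`;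
* `Sit.trans` : every component is `K^t`, `t ∈ T`;
* `Sit.cent_odd` : `C_Y(E(Y))` has odd order;
* `Sit.cent_inf` : a normal subgroup of even order contains `E(Y)`.
-/

set_option autoImplicit false
set_option linter.unusedSectionVars false

namespace Cfsg.Agent.Omega.NO1.Comp.Grp

open Subgroup Cfsg Cfsg.Agent.Lib.ComponentSolvable
open Cfsg.Agent.Omega.EH3.Clif.Comp
open Cfsg.Agent.S1270 (component_comm_of_normalizes component_comm_of_ne component_conj component_le_or_comm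
  subnormal_le_pPrimeCore)
open scoped commutatorElement

variable {Y : Type*} [Group Y] {T : Sylow 2 Y} {Mx : Subgroup Y}

/-- `T` a Sylow 2-subgroup of `Y`, `Mx` the unique maximal subgroup over `T`, `O₂(Y) = 1`. -/
structure MinP (T : Sylow 2 Y) (Mx : Subgroup Y) : Prop where
  core : ∀ N : Subgroup Y, N.Normal → IsPGroup 2 N → N = ⊥
  TM : (T : Subgroup Y) ≤ Mx
  Mne : Mx ≠ ⊤
  max : ∀ K : Subgroup Y, (T : Subgroup Y) ≤ K → K ≠ ⊤ → K ≤ Mx

/-- Frattini -/
theorem frattini_inf [Finite Y] (P : Sylow 2 Y) (N : Subgroup Y) [N.Normal] :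
    normalizer (((P : Subgroup Y) ⊓ N : Subgroup Y) : Set Y) ⊔ N = ⊤ := by
  have : Fact (Nat.Prime 2) := ⟨Nat.prime_two⟩
  have hd : ¬ 2 ∣ (P : Subgroup Y).relIndex N := by
    have h1 := relIndex_mul_relIndex ((P : Subgroup Y) ⊓ N) N ((P : Subgroup Y) ⊔ N) inf_le_right le_sup_right
    have h2 := relIndex_mul_relIndex ((P : Subgroup Y) ⊓ N) P ((P : Subgroup Y) ⊔ N) inf_le_left le_sup_left
    rw [inf_relIndex_left, ← relIndex_sup_right (H := (P : Subgroup Y)) (K := N), ← h1,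
      inf_relIndex_right, mul_comm] at h2
    have h3 : (N.relIndex ((P : Subgroup Y) ⊔ N)) ≠ 0 := index_ne_zero_of_finite
    have h4 := Nat.eq_of_mul_eq_mul_right (Nat.pos_of_ne_zero h3) h2
    rw [← h4]
    intro h5
    exact P.not_dvd_index (h5.trans (relIndex_dvd_index_of_le le_sup_left))
  let Q : Sylow 2 N := (P.2.comap_subtype (K := N)).toSylow hd
  have hQ : (Q : Subgroup N) = (P : Subgroup Y).subgroupOf N := rfl
  have h1 := Q.normalizer_sup_eq_top
  rw [hQ, subgroupOf_map_subtype] at h1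
  exact h1

theorem conj_isPGroup {P : Sylow 2 Y} {N : Subgroup Y} (h : (P : Subgroup Y) ⊓ N = ⊥) (hN : N.Normal) [Finite Y] :
    ¬ 2 ∣ Nat.card N := by
  have : Fact (Nat.Prime 2) := ⟨Nat.prime_two⟩
  intro h2
  obtain ⟨x, hx⟩ := exists_prime_orderOf_dvd_card' 2 h2
  have h3 : IsPGroup 2 (zpowers (x : Y)) := by
    have h4 : IsPGroup 2 (zpowers x) := IsPGroup.of_card (n := 1) (by rw [Nat.card_zpowers, hx, pow_one])
    have h5 := h4.map N.subtype
    rwa [MonoidHom.map_zpowers] at h5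
  obtain ⟨Q, hQ⟩ := h3.exists_le_sylow
  obtain ⟨g, hg⟩ := MulAction.exists_smul_eq Y Q P
  have h6 : (x : Y) ∈ Q := hQ (mem_zpowers _)
  have h7 : g * x * g⁻¹ ∈ P := by
    rw [← hg]
    exact Subgroup.smul_mem_pointwise_smul (x : Y) (MulAut.conj g) (Q : Subgroup Y) h6
  have h8 : g * x * g⁻¹ ∈ (P : Subgroup Y) ⊓ N := ⟨h7, hN.conj_mem _ x.2 g⟩
  rw [h, mem_bot, mul_inv_eq_one, mul_eq_left] at h8
  have h9 : x = 1 := Subtype.ext h8
  rw [h9, orderOf_one] at hx
  exact absurd hx (by norm_num)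

/-- (FR) -/
theorem MinP.fr [Finite Y] (h : MinP T Mx) {X : Subgroup Y} (hX : X.Normal) (h2 : 2 ∣ Nat.card X) :
    X ⊔ (T : Subgroup Y) = ⊤ := by
  by_contra hcon
  have h1 : X ⊔ (T : Subgroup Y) ≤ Mx := h.max _ le_sup_right hcon
  have h3 : (T : Subgroup Y) ≤ normalizer (((T : Subgroup Y) ⊓ X : Subgroup Y) : Set Y) := by
    intro t ht
    rw [mem_normalizer_iff]
    intro y
    constructor
    · rintro ⟨h4, h5⟩
      exact ⟨(T : Subgroup Y).mul_mem ((T : Subgroup Y).mul_mem ht h4) ((T : Subgroup Y).inv_mem ht),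
        hX.conj_mem _ h5 t⟩
    · rintro ⟨h4, h5⟩
      have e : y = t⁻¹ * (t * y * t⁻¹) * t⁻¹⁻¹ := by group
      rw [e]
      exact ⟨(T : Subgroup Y).mul_mem ((T : Subgroup Y).mul_mem ((T : Subgroup Y).inv_mem ht) h4)
        ((T : Subgroup Y).inv_mem ((T : Subgroup Y).inv_mem ht)), hX.conj_mem _ h5 t⁻¹⟩
  have h4 : normalizer (((T : Subgroup Y) ⊓ X : Subgroup Y) : Set Y) ≠ ⊤ := by
    intro h5
    have h6 : ((T : Subgroup Y) ⊓ X).Normal := normalizer_eq_top_iff.mp h5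
    have h7 := h.core _ h6 (T.2.to_le inf_le_left)
    exact conj_isPGroup h7 hX h2
  have h5 := h.max _ h3 h4
  apply h.Mne
  rw [eq_top_iff, ← frattini_inf T X]
  exact sup_le h5 (le_sup_left.trans h1)

/-- the odd part -/
theorem MinP.fitting_le [Finite Y] (h : MinP T Mx) : fittingSubgroup Y ≤ pPrimeCore 2 Y := by
  have : Fact (Nat.Prime 2) := ⟨Nat.prime_two⟩
  have h1 : pCore 2 Y = ⊥ := by
    exact h.core _ (Lib.Cores.pCore_normal 2) (Lib.Cores.pCore_isPGroup 2)
  apply le_sSup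
  refine ⟨Lib.Cores.fittingSubgroup_normal, ?_⟩
  rw [Nat.coprime_comm, Nat.Prime.coprime_iff_not_dvd Nat.prime_two]
  intro h2
  obtain ⟨x, hx⟩ := exists_prime_orderOf_dvd_card' 2 h2
  have h3 : IsPGroup 2 (zpowers (x : Y)) := by
    have h4 : IsPGroup 2 (zpowers x) := IsPGroup.of_card (n := 1) (by rw [Nat.card_zpowers, hx, pow_one])
    have h5 := h4.map (fittingSubgroup Y).subtype
    rwa [MonoidHom.map_zpowers] at h5
  have h4 := Lib.BenderMaximal.le_pCore_of_le_fittingSubgroup (p := 2) (K := zpowers (x : Y))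
    h3 (zpowers_le.mpr x.2)
  rw [h1, le_bot_iff, zpowers_eq_bot] at h4
  have h9 : x = 1 := Subtype.ext h4
  rw [h9, orderOf_one] at hx
  exact absurd hx (by norm_num)

/-- a 2-subgroup `≠ 1` centralising `O(Y)` moves an element of a component of even order -/
theorem MinP.exists_comp [Finite Y] (h : MinP T Mx) {U : Subgroup Y} (hU2 : IsPGroup 2 U) (hU1 : U ≠ ⊥)
    (hO : U ≤ centralizer (pPrimeCore 2 Y : Set Y)) :
    ∃ K : Subgroup Y, IsComponent K ∧ 2 ∣ Nat.card K ∧ ¬ U ≤ centralizer (K : Set Y) := by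
  have : Fact (Nat.Prime 2) := ⟨Nat.prime_two⟩
  by_contra hcon
  push Not at hcon
  have h1 : U ≤ centralizer (generalizedFittingSubgroup Y : Set Y) := by
    rw [le_centralizer_iff]
    refine sup_le (sSup_le ?_) ?_
    · intro K hK
      rw [le_centralizer_iff]
      by_cases h2 : 2 ∣ Nat.card K
      · exact hcon K hK h2
      · have h3 : K ≤ pPrimeCore 2 Y := by
          apply subnormal_le_pPrimeCore hK.1
          rw [Nat.coprime_comm, Nat.Prime.coprime_iff_not_dvd Nat.prime_two]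
          exact h2
        exact hO.trans (centralizer_le h3)
    · rw [le_centralizer_iff]
      exact hO.trans (centralizer_le h.fitting_le)
  have h2 : centralizer (generalizedFittingSubgroup Y : Set Y) ≤ generalizedFittingSubgroup Y :=
    Cfsg.Agent.Lib.GenFitting.centralizer_genFitting_le
  have hn : (centralizer (generalizedFittingSubgroup Y : Set Y)).Normal := by
    have : (generalizedFittingSubgroup Y).Normal := Lib.GenFitting.genFitting_normal
    infer_instance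
  have h3 : centralizer (generalizedFittingSubgroup Y : Set Y) ≤ fittingSubgroup Y := by
    apply le_sSup
    refine ⟨hn, ?_⟩
    have hc : IsMulCommutative (centralizer (generalizedFittingSubgroup Y : Set Y)) := by
      constructor
      constructor
      intro a b
      apply Subtype.ext
      exact (mem_centralizer_iff.mp b.2 a (h2 a.2))
    let _ : CommGroup (centralizer (generalizedFittingSubgroup Y : Set Y)) :=
      { (inferInstance : Group (centralizer (generalizedFittingSubgroup Y : Set Y))) with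
        mul_comm := fun a b => hc.is_comm.comm a b }
    exact CommGroup.isNilpotent
  have h4 := Lib.BenderMaximal.le_pCore_of_le_fittingSubgroup (p := 2) (K := U) hU2 (h1.trans h3)
  have h5 : pCore 2 Y = ⊥ := h.core _ (Lib.Cores.pCore_normal 2) (Lib.Cores.pCore_isPGroup 2)
  rw [h5, le_bot_iff] at h4
  exact hU1 h4

/-! ### one class of components -/

/-- a perfect subgroup lies in every normal subgroup `X` with `X ⊔ T = ⊤` -/
theorem le_of_perfect [Finite Y] {X L : Subgroup Y} (hX : X.Normal) (hXT : X ⊔ (T : Subgroup Y) = ⊤)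
    (hL : ⁅L, L⁆ = L) : L ≤ X := by
  have : Fact (Nat.Prime 2) := ⟨Nat.prime_two⟩
  have h1 : (T : Subgroup Y).map (QuotientGroup.mk' X) = ⊤ := by
    have h2 : (X ⊔ (T : Subgroup Y)).map (QuotientGroup.mk' X) = ⊤ := by
      rw [hXT, ← MonoidHom.range_eq_map, MonoidHom.range_eq_top]
      exact QuotientGroup.mk'_surjective X
    rw [Subgroup.map_sup, (map_eq_bot_iff X).mpr (by rw [QuotientGroup.ker_mk']), bot_sup_eq] at h2
    exact h2
  have h2 : IsPGroup 2 (Y ⧸ X) := by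
    have h3 := T.2.map (QuotientGroup.mk' X)
    rw [h1] at h3
    exact h3.of_equiv Subgroup.topEquiv
  have hn : Group.IsNilpotent (Y ⧸ X) := h2.isNilpotent
  have hs : Group.IsSolvable (Y ⧸ X) := inferInstance
  obtain ⟨n, hn⟩ := hs.solvable
  have h3 : ∀ m, L.map (QuotientGroup.mk' X) ≤ derivedSeries (Y ⧸ X) m := by
    intro m
    induction m with
    | zero => exact le_top
    | succ m ih =>
      rw [derivedSeries_succ, ← hL, map_commutator]
      exact commutator_mono ih ih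
  have h4 := h3 n
  rw [hn, le_bot_iff, Subgroup.map_eq_bot_iff, QuotientGroup.ker_mk'] at h4
  exact h4

/-- the conjugates of `K` -/
def cj (K : Subgroup Y) : Set (Subgroup Y) := {L | ∃ g : Y, K.map (MulAut.conj g).toMonoidHom = L}

theorem cj_self (K : Subgroup Y) : K ∈ cj K := ⟨1, conj_one K⟩

theorem cj_comp {K : Subgroup Y} (hK : IsComponent K) : ∀ L ∈ cj K, IsComponent L := by
  rintro L ⟨g, rfl⟩
  exact component_conj hK g

theorem cj_normal (K : Subgroup Y) : (sSup (cj K)).Normal := by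
  constructor
  intro x hx g
  have h1 : (sSup (cj K)).map (MulAut.conj g).toMonoidHom ≤ sSup (cj K) := by
    apply conj_sSup_le
    rintro L ⟨a, rfl⟩
    exact ⟨g * a, (conj_conj _ _ _).symm⟩
  exact h1 ⟨x, hx, rfl⟩

/-- `MinP` with a component `K` of even order -/
structure Sit (T : Sylow 2 Y) (Mx K : Subgroup Y) : Prop extends MinP T Mx where
  comp : IsComponent K
  even : 2 ∣ Nat.card K

/-- components normalise each other -/
theorem layer_le_normalizer {K : Subgroup Y} (hK : IsComponent K) : layer Y ≤ normalizer (K : Set Y) := by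
  apply sSup_le
  intro L hL
  by_cases h : L = K
  · rw [h]
    exact le_normalizer
  · exact (commutator_eq_bot_iff_le_centralizer.mp (component_comm_of_ne hL hK h)).trans
      (centralizer_le_normalizer _)

theorem layer_normal : (layer Y).Normal := by
  constructor
  intro x hx g
  have h1 : (sSup {K : Subgroup Y | IsComponent K}).map (MulAut.conj g).toMonoidHom ≤
      sSup {K : Subgroup Y | IsComponent K} :=
    conj_sSup_le fun K hK => component_conj hK g
  exact h1 ⟨x, hx, rfl⟩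

theorem perf_layer : ⁅layer Y, layer Y⁆ = layer Y := perf_sSup fun _ hK => hK

namespace Sit

variable {K : Subgroup Y} [Finite Y] (h : Sit T Mx K)
include h

theorem cj_sup : sSup (cj K) ⊔ (T : Subgroup Y) = ⊤ :=
  h.fr (cj_normal K) (h.even.trans (card_dvd_of_le (le_sSup (cj_self K))))

/-- all components are conjugate -/
theorem mem_cj {L : Subgroup Y} (hL : IsComponent L) : L ∈ cj K := by
  by_contra hcon
  have h1 : L ≤ sSup (cj K) := le_of_perfect (cj_normal K) h.cj_sup (commutator_self hL)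
  have h2 := comm_sSup (s := cj K) (t := {L}) (cj_comp h.comp) (by
    intro M hM
    rw [Set.mem_singleton_iff.mp hM]
    exact hL) (by
    intro M hM hM'
    rw [Set.mem_singleton_iff.mp hM'] at hM
    exact hcon hM)
  rw [sSup_singleton] at h2
  apply ne_bot hL
  rw [← commutator_self hL, commutator_eq_bot_iff_le_centralizer]
  intro x hx
  rw [mem_centralizer_iff]
  intro y hy
  exact h2 y (h1 hy) x hx

theorem layer_eq : layer Y = sSup (cj K) := by
  apply le_antisymm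
  · exact sSup_le fun L hL => le_sSup (h.mem_cj hL)
  · exact sSup_le fun L hL => le_sSup (cj_comp h.comp L hL)

/-- `Y = E(Y)T` -/
theorem layer_sup : layer Y ⊔ (T : Subgroup Y) = ⊤ := by
  rw [h.layer_eq]
  exact h.cj_sup

theorem exists_mul (y : Y) : ∃ t ∈ (T : Subgroup Y), ∃ x ∈ layer Y, t * x = y := by
  have : (layer Y).Normal := layer_normal
  have h1 : y ∈ (T : Subgroup Y) ⊔ layer Y := by
    rw [sup_comm, h.layer_sup]
    exact mem_top y
  exact mem_sup_of_normal_right.mp h1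

/-- `T` is transitive on the components -/
theorem trans {L : Subgroup Y} (hL : IsComponent L) :
    ∃ t ∈ (T : Subgroup Y), K.map (MulAut.conj t).toMonoidHom = L := by
  obtain ⟨g, rfl⟩ := h.mem_cj hL
  obtain ⟨t, ht, x, hx, rfl⟩ := h.exists_mul g
  refine ⟨t, ht, ?_⟩
  rw [← conj_conj, conj_eq_of_mem (layer_le_normalizer h.comp hx)]

/-- a normal subgroup of even order contains `E(Y)` -/
theorem layer_le {X : Subgroup Y} (hX : X.Normal) (h2 : 2 ∣ Nat.card X) : layer Y ≤ X :=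
  le_of_perfect hX (h.fr hX h2) perf_layer

theorem comp_le {L : Subgroup Y} (hL : IsComponent L) : L ≤ layer Y := le_sSup hL

/-- `C_Y(E(Y))` has odd order -/
theorem cent_odd : ¬ 2 ∣ Nat.card (centralizer (layer Y : Set Y)) := by
  intro h2
  have : (layer Y).Normal := layer_normal
  have h1 : layer Y ≤ centralizer (layer Y : Set Y) := h.layer_le inferInstance h2
  apply ne_bot h.comp
  rw [← commutator_self h.comp, commutator_eq_bot_iff_le_centralizer]
  exact (h.comp_le h.comp).trans (h1.trans (centralizer_le (h.comp_le h.comp)))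

/-- a 2-element centralising `E(Y)` is trivial -/
theorem eq_one_of_cent {y : Y} (hy : y * y = 1) (hc : ∀ x ∈ layer Y, y * x = x * y) : y = 1 := by
  have : Fact (Nat.Prime 2) := ⟨Nat.prime_two⟩
  by_contra hne
  apply h.cent_odd
  have h1 : orderOf y = 2 := orderOf_eq_prime (by rw [pow_two, hy]) hne
  have h2 : zpowers y ≤ centralizer (layer Y : Set Y) := by
    rw [zpowers_le, mem_centralizer_iff]
    intro x hx
    exact (hc x hx).symm
  have h3 := card_dvd_of_le h2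
  rwa [Nat.card_zpowers, h1] at h3

end Sit

/-! ### moving a component -/

/-- `U` moves a component: `N₁`, `N₂`, `N₃` are products of components, `A` of index 2 in `U` normalises them,
the elements of `U - A` interchange `N₁` and `N₂` -/
structure Mv (U K N₁ N₂ N₃ A : Subgroup Y) : Prop where
  le : K ≤ N₁
  sup : N₁ ⊔ N₂ ⊔ N₃ = layer Y
  p₁ : ⁅N₁, N₁⁆ = N₁
  p₂ : ⁅N₂, N₂⁆ = N₂
  p₃ : ⁅N₃, N₃⁆ = N₃
  c₁₂ : ∀ x ∈ N₁, ∀ y ∈ N₂, x * y = y * x
  c₁₃ : ∀ x ∈ N₁, ∀ y ∈ N₃, x * y = y * x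
  c₂₃ : ∀ x ∈ N₂, ∀ y ∈ N₃, x * y = y * x
  AU : A ≤ U
  idx : A.relIndex U = 2
  A₁ : A ≤ normalizer (N₁ : Set Y)
  A₂ : A ≤ normalizer (N₂ : Set Y)
  U₃ : U ≤ normalizer (N₃ : Set Y)
  sw : ∀ x ∈ U, x ∉ A → N₁.map (MulAut.conj x).toMonoidHom = N₂
  sw' : ∀ x ∈ U, x ∉ A → N₂.map (MulAut.conj x).toMonoidHom = N₁

theorem exists_mv [Finite Y] {U K : Subgroup Y} (hU : ∀ u ∈ U, u * u = 1) (hK : IsComponent K)
    (hmv : ¬ U ≤ normalizer (K : Set Y)) : ∃ N₁ N₂ N₃ A, Mv U K N₁ N₂ N₃ A := by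
  obtain ⟨A, hAU, hBA, hAne, hA2⟩ := exists_index_two hU (B := U ⊓ normalizer (K : Set Y))
    inf_le_left (fun h => hmv (fun u hu => (h.ge hu).2))
  obtain ⟨x, hx, hxA⟩ : ∃ x ∈ U, x ∉ A := by
    by_contra hcon
    push Not at hcon
    exact hAne (le_antisymm hAU hcon)
  let s : Set (Subgroup Y) := {L | ∃ a ∈ A, K.map (MulAut.conj a).toMonoidHom = L}
  let t : Set (Subgroup Y) := {L | ∃ a ∈ A, K.map (MulAut.conj (a * x)).toMonoidHom = L}
  let r : Set (Subgroup Y) := {L | IsComponent L ∧ L ∉ s ∧ L ∉ t}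
  have hs : ∀ L ∈ s, IsComponent L := by
    rintro L ⟨a, -, rfl⟩
    exact component_conj hK _
  have ht : ∀ L ∈ t, IsComponent L := by
    rintro L ⟨a, -, rfl⟩
    exact component_conj hK _
  have hr : ∀ L ∈ r, IsComponent L := fun L hL => hL.1
  have hd : ∀ L ∈ s, L ∉ t := by
    rintro L ⟨a, ha, rfl⟩ ⟨b, hb, hab⟩
    have h1 : K.map (MulAut.conj (a⁻¹ * (b * x))).toMonoidHom = K := by
      rw [← conj_conj, hab, conj_conj, inv_mul_cancel, conj_one]
    have h2 : a⁻¹ * (b * x) ∈ A :=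
      hBA ⟨U.mul_mem (U.inv_mem (hAU ha)) (U.mul_mem (hAU hb) hx), mem_normalizer_of_conj h1⟩
    apply hxA
    have h3 := A.mul_mem (A.inv_mem hb) (A.mul_mem ha h2)
    simpa [mul_assoc] using h3
  have hAs : ∀ a ∈ A, ∀ L ∈ s, L.map (MulAut.conj a).toMonoidHom ∈ s := by
    rintro a ha L ⟨b, hb, rfl⟩
    exact ⟨a * b, A.mul_mem ha hb, (conj_conj _ _ _).symm⟩
  have hAt : ∀ a ∈ A, ∀ L ∈ t, L.map (MulAut.conj a).toMonoidHom ∈ t := by
    rintro a ha L ⟨b, hb, rfl⟩
    exact ⟨a * b, A.mul_mem ha hb, by rw [conj_conj, mul_assoc]⟩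
  have hst : ∀ y ∈ U, y ∉ A → ∀ L ∈ s, L.map (MulAut.conj y).toMonoidHom ∈ t := by
    rintro y hy hyA L ⟨a, ha, rfl⟩
    have hyx : y * x ∈ A := hA2 x hx hxA y hy hyA
    refine ⟨a * (y * x), A.mul_mem ha hyx, ?_⟩
    rw [conj_conj]
    congr 3
    have h1 := comm_of_sq hU hy (hAU ha)
    rw [mul_assoc, mul_assoc, hU x hx, mul_one, h1]
  have hts : ∀ y ∈ U, y ∉ A → ∀ L ∈ t, L.map (MulAut.conj y).toMonoidHom ∈ s := by
    rintro y hy hyA L ⟨a, ha, rfl⟩
    have hyx : y * x ∈ A := hA2 x hx hxA y hy hyA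
    refine ⟨a * (y * x), A.mul_mem ha hyx, ?_⟩
    rw [conj_conj]
    congr 3
    have h1 := comm_of_sq hU hy (hAU ha)
    rw [← mul_assoc, ← mul_assoc, h1]
  have hUi : ∀ y ∈ U, y⁻¹ = y := fun y hy => inv_eq_of_mul_eq_one_left (hU y hy)
  have hUr : ∀ y ∈ U, ∀ L ∈ r, L.map (MulAut.conj y).toMonoidHom ∈ r := by
    rintro y hy L ⟨hL, hLs, hLt⟩
    have e : (L.map (MulAut.conj y).toMonoidHom).map (MulAut.conj y).toMonoidHom = L := by
      rw [conj_conj, hU y hy, conj_one]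
    refine ⟨component_conj hL y, fun hcon => ?_, fun hcon => ?_⟩
    · by_cases hyA : y ∈ A
      · have h1 := hAs y hyA _ hcon
        rw [e] at h1
        exact hLs h1
      · have h1 := hst y hy hyA _ hcon
        rw [e] at h1
        exact hLt h1
    · by_cases hyA : y ∈ A
      · have h1 := hAt y hyA _ hcon
        rw [e] at h1
        exact hLt h1
      · have h1 := hts y hy hyA _ hcon
        rw [e] at h1
        exact hLs h1
  refine ⟨sSup s, sSup t, sSup r, A, ?_⟩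
  exact
    { le := le_sSup ⟨1, A.one_mem, conj_one K⟩
      sup := by
        apply le_antisymm
        · exact sup_le (sup_le (sSup_le fun L hL => le_sSup (hs L hL)) (sSup_le fun L hL => le_sSup (ht L hL)))
            (sSup_le fun L hL => le_sSup (hr L hL))
        · refine sSup_le fun L hL => ?_
          by_cases h1 : L ∈ s
          · exact (le_sSup h1).trans (le_sup_left.trans le_sup_left)
          by_cases h2 : L ∈ t
          · exact (le_sSup h2).trans (le_sup_right.trans le_sup_left)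
          have h3 : L ∈ r := ⟨hL, h1, h2⟩
          exact (le_sSup h3).trans le_sup_right
      p₁ := perf_sSup hs
      p₂ := perf_sSup ht
      p₃ := perf_sSup hr
      c₁₂ := comm_sSup hs ht hd
      c₁₃ := comm_sSup hs hr fun L hL h => h.2.1 hL
      c₂₃ := comm_sSup ht hr fun L hL h => h.2.2 hL
      AU := hAU
      idx := relIndex_two hAU hAne hA2
      A₁ := fun a ha => mem_normalizer_of_conj (conj_sSup_eq (hAs a ha) (hAs a⁻¹ (A.inv_mem ha)))
      A₂ := fun a ha => mem_normalizer_of_conj (conj_sSup_eq (hAt a ha) (hAt a⁻¹ (A.inv_mem ha)))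
      U₃ := fun a ha => mem_normalizer_of_conj (conj_sSup_eq (hUr a ha) (by rw [hUi a ha]; exact hUr a ha))
      sw := fun y hy hyA => conj_sSup_eq (hst y hy hyA) (by rw [hUi y hy]; exact hts y hy hyA)
      sw' := fun y hy hyA => conj_sSup_eq (hts y hy hyA) (by rw [hUi y hy]; exact hst y hy hyA) }

end Cfsg.Agent.Omega.NO1.Comp.Grp

end

section


/-!
# THEOREM COMP (bb OMEGA #17539), step (0): the module facts of FLAT and the Induction Lemma

`V` an additive group of exponent 2 on which the group `H` acts, `U ≤ H`.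

* `FlatA U E F` : the module facts of FLAT: `F = C_V(U) ≤ E < V`, `[V,U] ≤ E`, `[E,U] ≤ F`,
  `E = [w,U] + F` for every `w ∈ V - E`, `U` acts as an elementary abelian 2-group;
* `FlatA.ks` **(KS)** : `V = A ⊕ B` (`U`-invariant) implies that `U` centralises `A` or `B`;
* `FlatA.ind` **(0)** : `V|_U = V₀ ⊕ X ⊕ X^s` with a subgroup `U₁` of index 2 of `U` leaving `X`
  invariant, `s ∈ U - U₁`, implies `X = 0` or `V = E ∪ (x + E)`.
-/

set_option autoImplicit false

namespace Cfsg.Agent.Omega.NO1.Comp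

universe u v

variable {H : Type u} [Group H] {V : Type v} [AddCommGroup V] [DistribMulAction H V]

/-- The module facts of FLAT for the action of `U` on `V`. -/
structure FlatA (U : Subgroup H) (E F : AddSubgroup V) : Prop where
  two : ∀ v : V, v + v = 0
  F_iff : ∀ v, v ∈ F ↔ ∀ u ∈ U, u • v = v
  VE : ∀ u ∈ U, ∀ v, u • v + v ∈ E
  EF : ∀ u ∈ U, ∀ v ∈ E, u • v + v ∈ F
  reg : ∀ w, w ∉ E → ∀ e ∈ E, ∃ u ∈ U, u • w + w + e ∈ F
  ab : ∀ s ∈ U, ∀ t ∈ U, ∀ v : V, s • t • v = t • s • v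
  inv : ∀ s ∈ U, ∀ v : V, s • s • v = v
  ne : ¬ E ≤ F
  ne' : ∃ w, w ∉ E

namespace FlatA

variable {U : Subgroup H} {E F : AddSubgroup V} (h : FlatA U E F)
include h

theorem neg (v : V) : -v = v := by
  rw [neg_eq_iff_add_eq_zero]
  exact h.two v

theorem add_eq {a b : V} : a + b = 0 ↔ a = b := by
  rw [add_eq_zero_iff_eq_neg, h.neg]

theorem cancel (a b : V) : a + (a + b) = b := by
  rw [← add_assoc, h.two, zero_add]

theorem fix {f : V} (hf : f ∈ F) {u : H} (hu : u ∈ U) : u • f = f := (h.F_iff f).1 hf u hu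

theorem F_le : F ≤ E := by
  intro f hf
  by_contra hfE
  apply h.ne
  intro e he
  obtain ⟨u, hu, h1⟩ := h.reg f hfE e he
  rwa [h.fix hf hu, h.two, zero_add] at h1

theorem mem_E {v : V} (hv : ∀ u ∈ U, u • v + v ∈ F) : v ∈ E := by
  by_contra hvE
  apply h.ne
  intro e he
  obtain ⟨u, hu, h1⟩ := h.reg v hvE e he
  exact (F.add_mem_cancel_left (hv u hu)).1 h1

/-- **(KS)** -/
theorem ks {A B : AddSubgroup V} (hA : ∀ u ∈ U, ∀ a ∈ A, u • a ∈ A) (hB : ∀ u ∈ U, ∀ b ∈ B, u • b ∈ B)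
    (hAB : A ⊓ B = ⊥) (hs : A ⊔ B = ⊤) : A ≤ F ∨ B ≤ F := by
  -- if `A ≰ E` then `B ∩ E ≤ F`
  have key : ∀ A B : AddSubgroup V, (∀ u ∈ U, ∀ a ∈ A, u • a ∈ A) → (∀ u ∈ U, ∀ b ∈ B, u • b ∈ B) →
      A ⊓ B = ⊥ → A ⊔ B = ⊤ → ¬ A ≤ E → ∀ b ∈ B, b ∈ E → b ∈ F := by
    intro A B hA hB hAB hs hAE b hb hbE
    obtain ⟨w, hw, hwE⟩ := SetLike.not_le_iff_exists.1 hAE
    obtain ⟨u, hu, h1⟩ := h.reg w hwE b hbE
    rw [h.F_iff]
    intro t ht
    have h2 := h.fix h1 ht
    have h3 : u • w + w ∈ A := A.add_mem (hA u hu w hw) hw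
    rw [smul_add] at h2
    have h4 : t • b - b ∈ A ⊓ B := by
      refine ⟨?_, B.sub_mem (hB t ht b hb) hb⟩
      have e : t • b - b = (u • w + w) - t • (u • w + w) := by
        rw [sub_eq_sub_iff_add_eq_add, add_comm, h2]
      rw [e]
      exact A.sub_mem h3 (hA t ht _ h3)
    rw [hAB, AddSubgroup.mem_bot] at h4
    exact sub_eq_zero.1 h4
  by_cases hAE : A ≤ E
  · by_cases hBE : B ≤ E
    · exfalso
      obtain ⟨w, hw⟩ := h.ne'
      have : w ∈ A ⊔ B := by rw [hs]; trivial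
      exact hw ((sup_le hAE hBE) this)
    · left
      intro a ha
      exact key B A hB hA (by rw [inf_comm]; exact hAB) (by rw [sup_comm]; exact hs) hBE a ha (hAE ha)
  · right
    intro b hb
    refine key A B hA hB hAB hs hAE b hb ?_
    by_contra hbE
    apply h.ne
    intro e he
    have : e ∈ A ⊔ B := by rw [hs]; trivial
    obtain ⟨a, ha, b', hb', rfl⟩ := AddSubgroup.mem_sup.1 this
    -- the coordinates of `e ∈ E`
    obtain ⟨w, hw, hwE⟩ := SetLike.not_le_iff_exists.1 hAE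
    obtain ⟨u, hu, h1⟩ := h.reg w hwE _ he
    obtain ⟨u', hu', h2⟩ := h.reg b hbE _ he
    rw [h.F_iff]
    intro t ht
    have h3 := h.fix h1 ht
    have h4 := h.fix h2 ht
    have e1 : u • w + w ∈ A := A.add_mem (hA u hu w hw) hw
    have e2 : u' • b + b ∈ B := B.add_mem (hB u' hu' b hb) hb
    have ha' : t • a = a := by
      have h5 : t • a - a ∈ A ⊓ B := by
        refine ⟨A.sub_mem (hA t ht a ha) ha, ?_⟩
        have e : t • a - a = (u' • b + b + b') - t • (u' • b + b + b') := by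
          rw [sub_eq_sub_iff_add_eq_add]
          have h6 : t • (u' • b + b + b') + t • a = (u' • b + b + b') + a := by
            rw [← smul_add]
            have : u' • b + b + b' + a = u' • b + b + (a + b') := by abel
            rw [this]; exact h4
          rw [add_comm, h6]
        rw [e]
        exact B.sub_mem (B.add_mem e2 hb') (hB t ht _ (B.add_mem e2 hb'))
      rw [hAB, AddSubgroup.mem_bot] at h5
      exact sub_eq_zero.1 h5
    have hb2 : t • b' = b' := by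
      have h5 : t • b' - b' ∈ A ⊓ B := by
        refine ⟨?_, B.sub_mem (hB t ht b' hb') hb'⟩
        have e : t • b' - b' = (u • w + w + a) - t • (u • w + w + a) := by
          rw [sub_eq_sub_iff_add_eq_add]
          have h6 : t • (u • w + w + a) + t • b' = (u • w + w + a) + b' := by
            rw [← smul_add]
            have : u • w + w + a + b' = u • w + w + (a + b') := by abel
            rw [this]; exact h3
          rw [add_comm, h6]
        rw [e]
        exact A.sub_mem (A.add_mem e1 ha) (hA t ht _ (A.add_mem e1 ha))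
      rw [hAB, AddSubgroup.mem_bot] at h5
      exact sub_eq_zero.1 h5
    rw [smul_add, ha', hb2]

/-- **(0)**, the Induction Lemma: `V = V₀ ⊕ X ⊕ sX`, `U = U₁ ∪ U₁s`, `U₁` leaves `X` invariant. -/
theorem ind {V0 X : AddSubgroup V} {U1 : Subgroup H} {s : H} (hs : s ∈ U) (hU1 : U1 ≤ U)
    (hU : ∀ u ∈ U, u ∈ U1 ∨ ∃ u1 ∈ U1, u = s * u1)
    (hV0 : ∀ u ∈ U, ∀ a ∈ V0, u • a ∈ V0) (hX : ∀ u ∈ U1, ∀ x ∈ X, u • x ∈ X)
    (hd : ∀ a ∈ V0, ∀ x ∈ X, ∀ y ∈ X, a + x + s • y = 0 → a = 0 ∧ x = 0 ∧ y = 0)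
    (hsup : ∀ v : V, ∃ a ∈ V0, ∃ x ∈ X, ∃ y ∈ X, v = a + x + s • y) (hX0 : X ≠ ⊥) :
    ∃ x, ∀ v : V, v ∈ E ∨ v + x ∈ E := by
  have hss : ∀ v : V, s • s • v = v := h.inv s hs
  -- comparison of coordinates
  have hcmp : ∀ a ∈ V0, ∀ a' ∈ V0, ∀ x ∈ X, ∀ x' ∈ X, ∀ y ∈ X, ∀ y' ∈ X,
      a + x + s • y = a' + x' + s • y' → a = a' ∧ x = x' ∧ y = y' := by
    intro a ha a' ha' x hx x' hx' y hy y' hy' he
    have := hd (a - a') (V0.sub_mem ha ha') (x - x') (X.sub_mem hx hx') (y - y') (X.sub_mem hy hy') (by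
      rw [smul_sub]
      have e : a - a' + (x - x') + (s • y - s • y') = (a + x + s • y) - (a' + x' + s • y') := by abel
      rw [e, he, sub_self])
    exact ⟨sub_eq_zero.1 this.1, sub_eq_zero.1 this.2.1, sub_eq_zero.1 this.2.2⟩
  -- `V₀ ≤ F`
  let Y : AddSubgroup V :=
    { carrier := {v | ∃ x ∈ X, ∃ y ∈ X, v = x + s • y}
      zero_mem' := ⟨0, X.zero_mem, 0, X.zero_mem, by simp⟩
      add_mem' := by
        rintro _ _ ⟨x, hx, y, hy, rfl⟩ ⟨x', hx', y', hy', rfl⟩
        exact ⟨x + x', X.add_mem hx hx', y + y', X.add_mem hy hy', by rw [smul_add]; abel⟩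
      neg_mem' := by
        rintro _ ⟨x, hx, y, hy, rfl⟩
        exact ⟨-x, X.neg_mem hx, -y, X.neg_mem hy, by rw [smul_neg]; abel⟩ }
  have hcomm : ∀ u ∈ U1, ∀ v : V, u • s • v = s • u • v := fun u hu v => h.ab u (hU1 hu) s hs v
  have hY : ∀ u ∈ U, ∀ v ∈ Y, u • v ∈ Y := by
    rintro u hu _ ⟨x, hx, y, hy, rfl⟩
    rcases hU u hu with h1 | ⟨u1, h1, rfl⟩
    · exact ⟨u • x, hX u h1 x hx, u • y, hX u h1 y hy, by rw [smul_add, hcomm u h1]⟩
    · refine ⟨u1 • y, hX u1 h1 y hy, u1 • x, hX u1 h1 x hx, ?_⟩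
      rw [mul_smul, smul_add, smul_add, hcomm u1 h1, hss, add_comm]
  obtain ⟨x0, hx0, hx00⟩ : ∃ x ∈ X, x ≠ 0 := by
    by_contra hcon
    push Not at hcon
    exact hX0 ((AddSubgroup.eq_bot_iff_forall X).2 hcon)
  have hV0F : V0 ≤ F := by
    refine (h.ks hV0 hY ?_ ?_).resolve_right ?_
    · rw [eq_bot_iff]
      rintro v ⟨hv, x, hx, y, hy, he⟩
      have := hcmp v hv 0 V0.zero_mem 0 X.zero_mem x hx 0 X.zero_mem y hy (by
        rw [smul_zero, add_zero, add_zero, zero_add]; exact he)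
      rw [this.1]; exact AddSubgroup.zero_mem _
    · rw [eq_top_iff]
      intro v _
      obtain ⟨a, ha, x, hx, y, hy, rfl⟩ := hsup v
      rw [add_assoc]
      exact AddSubgroup.add_mem_sup ha ⟨x, hx, y, hy, rfl⟩
    · intro hYF
      have h1 : x0 ∈ F := hYF ⟨x0, hx0, 0, X.zero_mem, by simp⟩
      have h2 := h.fix h1 hs
      have := hcmp 0 V0.zero_mem 0 V0.zero_mem 0 X.zero_mem x0 hx0 x0 hx0 0 X.zero_mem (by
        rw [smul_zero, h2, zero_add, zero_add, add_zero])
      exact hx00 this.2.2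
  -- the elements of `F`
  have hF : ∀ f ∈ F, ∃ a ∈ V0, ∃ c ∈ X, f = a + c + s • c ∧ ∀ u ∈ U1, u • c = c := by
    intro f hf
    obtain ⟨a, ha, x, hx, y, hy, rfl⟩ := hsup f
    have h1 := h.fix hf hs
    rw [smul_add, smul_add, hss, h.fix (hV0F ha) hs] at h1
    have h2 : a + y + s • x = a + x + s • y := by
      rw [← h1]; abel
    obtain ⟨-, h3, -⟩ := hcmp a ha a ha y hy x hx x hx y hy h2
    subst h3
    refine ⟨a, ha, y, hy, rfl, fun u hu => ?_⟩
    have h4 := h.fix hf (hU1 hu)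
    rw [smul_add, smul_add, hcomm u hu, h.fix (hV0F ha) (hU1 hu)] at h4
    exact (hcmp a ha a ha _ (hX u hu y hy) y hy _ (hX u hu y hy) y hy h4).2.1
  -- `x + sx ∈ E`
  have hxE : ∀ x : V, s • x + x ∈ E := fun x => h.VE s hs x
  -- `C = C_X(U₁) ≤ E`
  have hC : ∀ c ∈ X, (∀ u ∈ U1, u • c = c) → c ∈ E := by
    intro c hc hcu
    by_contra hcE
    apply h.ne
    intro e he
    obtain ⟨u, hu, h1⟩ := h.reg c hcE e he
    have hcF : s • c + c ∈ F := by
      rw [h.F_iff]
      intro t ht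
      rcases hU t ht with h2 | ⟨t1, h2, rfl⟩
      · rw [smul_add, hcomm t h2, hcu t h2]
      · rw [mul_smul, smul_add, hcomm t1 h2, hcu t1 h2, smul_add, hss, add_comm]
    rcases hU u hu with h2 | ⟨u1, h2, rfl⟩
    · rwa [hcu u h2, h.two, zero_add] at h1
    · rw [mul_smul, hcu u1 h2] at h1
      exact (F.add_mem_cancel_left hcF).1 h1
  -- an element of `X` outside `E`
  obtain ⟨x, hx, hxE'⟩ : ∃ x ∈ X, x ∉ E := by
    by_contra hcon
    push Not at hcon
    obtain ⟨w, hw⟩ := h.ne'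
    apply hw
    obtain ⟨a, ha, x, hx, y, hy, rfl⟩ := hsup w
    refine E.add_mem (E.add_mem (h.F_le (hV0F ha)) (hcon x hx)) ?_
    exact (E.add_mem_cancel_right (hcon y hy)).1 (hxE y)
  -- every `y ∈ X` is in `C` or in `x + C`
  have hy2 : ∀ y ∈ X, y ∈ E ∨ y + x ∈ E := by
    intro y hy
    obtain ⟨u, hu, h1⟩ := h.reg x hxE' _ (hxE y)
    obtain ⟨a, ha, c, hc, he, hcu⟩ := hF _ h1
    rcases hU u hu with h2 | ⟨u1, h2, rfl⟩
    · left
      have h3 : 0 + (u • x + x + y) + s • y = a + c + s • c := by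
        rw [← he]; abel
      obtain ⟨-, -, h4⟩ := hcmp 0 V0.zero_mem a ha _ (X.add_mem (X.add_mem (hX u h2 x hx) hx) hy) c hc
        y hy c hc h3
      rw [h4]
      exact hC c hc hcu
    · right
      have h3 : 0 + (x + y) + s • (u1 • x + y) = a + c + s • c := by
        rw [← he, mul_smul, smul_add]; abel
      obtain ⟨-, h4, -⟩ := hcmp 0 V0.zero_mem a ha _ (X.add_mem hx hy) c hc _
        (X.add_mem (hX u1 h2 x hx) hy) c hc h3
      rw [add_comm, h4]
      exact hC c hc hcu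
  refine ⟨x, fun v => ?_⟩
  obtain ⟨a, ha, y, hy, z, hz, rfl⟩ := hsup v
  have haE := h.F_le (hV0F ha)
  have hz' : s • z + z ∈ E := hxE z
  have e : a + y + s • z = (a + (s • z + z)) + (y + z) := by
    have : a + (s • z + z) + (y + z) = a + y + s • z + (z + z) := by abel
    rw [this, h.two, add_zero]
  rw [e]
  rcases hy2 (y + z) (X.add_mem hy hz) with h5 | h5
  · exact Or.inl (E.add_mem (E.add_mem haE hz') h5)
  · right
    rw [add_assoc]
    exact E.add_mem (E.add_mem haE hz') h5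

end FlatA

end Cfsg.Agent.Omega.NO1.Comp

end

section


/-!
# THEOREM COMP (bb OMEGA #17539), step (1): `U` centralises every `U`-invariant subgroup of odd order

* `odd_of_hyp` : an elementary abelian 2-group `A` normalising `O` of odd order centralises `O` if it centralises
  `C_O(B)` for every hyperplane `B` of `A`;
* `FlatA.odd_inv` : an element of odd order centralised by a hyperplane `U₁` and inverted by `s ∈ U - U₁` is trivial;
* `FlatA.odd_comm` **(1)**.
-/

set_option autoImplicit false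

namespace Cfsg.Agent.Omega.NO1.Comp

open Subgroup

universe u v

section Hyp

variable {H : Type u} [Group H]

/-- `B ∪ Bx` -/
def adj (B : Subgroup H) (x : H) (hx : x * x = 1) (hc : ∀ b ∈ B, x * b = b * x) : Subgroup H where
  carrier := {y | y ∈ B ∨ y * x ∈ B}
  one_mem' := Or.inl B.one_mem
  mul_mem' := by
    rintro y w (hy | hy) (hw | hw)
    · exact Or.inl (B.mul_mem hy hw)
    · right
      rw [mul_assoc]
      exact B.mul_mem hy hw
    · right
      rw [mul_assoc, ← hc w hw, ← mul_assoc]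
      exact B.mul_mem hy hw
    · left
      have h1 : y * w = y * x * (w * x) := by
        rw [mul_assoc y x, hc _ hw, mul_assoc w x x, hx, mul_one]
      rw [h1]
      exact B.mul_mem hy hw
  inv_mem' := by
    rintro y (hy | hy)
    · exact Or.inl (B.inv_mem hy)
    · right
      have h1 : (y * x)⁻¹ ∈ B := B.inv_mem hy
      have h2 : x⁻¹ = x := inv_eq_of_mul_eq_one_right hx
      rw [mul_inv_rev, h2] at h1
      have h3 := hc _ h1
      rw [← mul_assoc, hx, one_mul] at h3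
      have h4 : y⁻¹ * x = x * y⁻¹ := by
        calc y⁻¹ * x = x * y⁻¹ * x * x := by rw [← h3]
          _ = x * y⁻¹ := by rw [mul_assoc, hx, mul_one]
      rw [h4]
      exact h1

theorem mem_adj {B : Subgroup H} {x : H} {hx : x * x = 1} {hc : ∀ b ∈ B, x * b = b * x} {y : H} :
    y ∈ adj B x hx hc ↔ y ∈ B ∨ y * x ∈ B := Iff.rfl

/-- hyperplane generation for an elementary abelian 2-group acting on a group of odd order -/
theorem odd_of_hyp [Finite H] {A O : Subgroup H} (sq : ∀ a ∈ A, a * a = 1) (comm : ∀ a ∈ A, ∀ b ∈ A, a * b = b * a)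
    (hO : Odd (Nat.card O)) (hn : ∀ a ∈ A, ∀ x ∈ O, a * x * a⁻¹ ∈ O)
    (hyp : ∀ B ≤ A, B.relIndex A = 2 → O ⊓ centralizer (B : Set H) ≤ centralizer (A : Set H)) :
    O ≤ centralizer (A : Set H) := by
  -- all proper subgroups
  have main : ∀ B : Subgroup H, B < A → O ⊓ centralizer (B : Set H) ≤ centralizer (A : Set H) := by
    intro B
    induction B using WellFoundedGT.induction with
    | ind B ih =>
      intro hB
      by_cases h2 : B.relIndex A = 2
      · exact hyp B hB.le h2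
      have hBc : ∀ x ∈ A, ∀ b ∈ B, x * b = b * x := fun x hx b hb => comm x hx b (hB.le hb)
      have hstep : ∀ x, ∀ hx : x ∈ A, x ∉ B →
          B < adj B x (sq x hx) (hBc x hx) ∧ adj B x (sq x hx) (hBc x hx) < A := by
        intro x hx hxB
        have h3 : x ∈ adj B x (sq x hx) (hBc x hx) := Or.inr (by rw [sq x hx]; exact B.one_mem)
        refine ⟨lt_of_le_of_ne (fun b hb => Or.inl hb) fun h4 => hxB (h4 ▸ h3), lt_of_le_of_ne ?_ fun h4 => h2 ?_⟩
        · rintro y (hy | hy)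
          · exact hB.le hy
          · have h5 := A.mul_mem (hB.le hy) (A.inv_mem hx)
            rwa [mul_inv_cancel_right] at h5
        · rw [relIndex_eq_two_iff]
          refine ⟨x, hx, fun b hb => ?_⟩
          have h5 : b ∈ adj B x (sq x hx) (hBc x hx) := by
            rw [h4]
            exact hb
          by_cases h6 : b ∈ B
          · refine Or.inr ⟨h6, fun h7 => hxB ?_⟩
            have := B.mul_mem (B.inv_mem h6) h7
            rwa [inv_mul_cancel_left] at this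
          · exact Or.inl ⟨(mem_adj.1 h5).resolve_left h6, h6⟩
      obtain ⟨a, haA, haB⟩ := SetLike.exists_of_lt hB
      obtain ⟨ha1, ha2⟩ := hstep a haA haB
      obtain ⟨b, hbA, hbB⟩ := SetLike.exists_of_lt ha2
      have hbB' : b ∉ B := fun h3 => hbB (Or.inl h3)
      have hab : a * b ∉ B := fun h3 => hbB (Or.inr (by rw [comm b hbA a haA]; exact h3))
      obtain ⟨hb1, hb2⟩ := hstep b hbA hbB'
      obtain ⟨hc1, hc2⟩ := hstep (a * b) (A.mul_mem haA hbA) hab
      have hodd : Odd (Nat.card (O ⊓ centralizer (B : Set H) : Subgroup H)) :=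
        hO.of_dvd_nat (card_dvd_of_le inf_le_left)
      have hcB : ∀ x ∈ A, ∀ y ∈ O ⊓ centralizer (B : Set H), x * y * x⁻¹ ∈ O ⊓ centralizer (B : Set H) := by
        rintro x hx y ⟨hy1, hy2⟩
        refine ⟨hn x hx y hy1, mem_centralizer_iff.2 fun c hc => ?_⟩
        have c1 : Commute c y := mem_centralizer_iff.1 hy2 c hc
        have c2 : Commute c x := (hBc x hx c hc).symm
        exact ((c2.mul_right c1).mul_right c2.inv_right).eq
      have hcl : ∀ x, ∀ hx : x ∈ A, adj B x (sq x hx) (hBc x hx) < A → B < adj B x (sq x hx) (hBc x hx) →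
          ∀ y ∈ O ⊓ centralizer (B : Set H), x * y = y * x → y ∈ centralizer (A : Set H) := by
        intro x hx h3 h4 y hy hxy
        refine ih _ h4 h3 ⟨hy.1, mem_centralizer_iff.2 ?_⟩
        rintro c (hc | hc)
        · exact mem_centralizer_iff.1 hy.2 c hc
        · have h5 := mem_centralizer_iff.1 hy.2 _ hc
          have h6 : c * x * y = c * y * x := by rw [mul_assoc, hxy, ← mul_assoc]
          rw [h6] at h5
          have h7 : c * y * x = y * c * x := by rw [h5, mul_assoc]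
          exact mul_right_cancel h7
      refine Lib.KleinGen.le_of_klein (O ⊓ centralizer (B : Set H)) (centralizer (A : Set H)) hodd a b
        (sq a haA) (sq b hbA) (comm a haA b hbA) (hcB a haA) (hcB b hbA) ?_ ?_ ?_
      · exact fun y hy => hcl a haA ha2 ha1 y hy.1 (mem_centralizer_iff.1 hy.2 a rfl)
      · exact fun y hy => hcl b hbA hb2 hb1 y hy.1 (mem_centralizer_iff.1 hy.2 b rfl)
      · exact fun y hy => hcl (a * b) (A.mul_mem haA hbA) hc2 hc1 y hy.1 (mem_centralizer_iff.1 hy.2 _ rfl)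
  intro x hx
  rcases eq_or_ne A ⊥ with rfl | hA
  · rw [mem_centralizer_iff]
    intro b hb
    rw [SetLike.mem_coe, mem_bot] at hb
    rw [hb, one_mul, mul_one]
  have h0 : x ∈ centralizer ((⊥ : Subgroup H) : Set H) := by
    rw [mem_centralizer_iff]
    intro b hb
    rw [SetLike.mem_coe, mem_bot] at hb
    rw [hb, one_mul, mul_one]
  exact main ⊥ (bot_lt_iff_ne_bot.2 hA) ⟨hx, h0⟩

end Hyp

variable {H : Type u} [Group H] {V : Type v} [AddCommGroup V] [DistribMulAction H V]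

section nrm

/-- `v + d v + ... + d^(n-1) v` -/
def nrm (d : H) (n : ℕ) (v : V) : V := ∑ i ∈ Finset.range n, d ^ i • v

theorem nrm_add (d : H) (n : ℕ) (v w : V) : nrm d n (v + w) = nrm d n v + nrm d n w := by
  simp only [nrm, smul_add, Finset.sum_add_distrib]

theorem smul_nrm_comm {d g : H} (hg : Commute g d) (n : ℕ) (v : V) : g • nrm d n v = nrm d n (g • v) := by
  rw [nrm, nrm, Finset.smul_sum]
  refine Finset.sum_congr rfl fun i _ => ?_
  rw [← mul_smul, ← mul_smul, (hg.pow_right i).eq]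

theorem smul_nrm {d : H} {n : ℕ} (hn : d ^ n = 1) (v : V) : d • nrm d n v = nrm d n v := by
  have h1 := Finset.sum_range_succ (fun i => d ^ i • v) n
  have h2 := Finset.sum_range_succ' (fun i => d ^ i • v) n
  rw [h1] at h2
  simp only [hn, pow_zero, one_smul] at h2
  have h3 := add_right_cancel h2
  rw [nrm, Finset.smul_sum, h3]
  refine Finset.sum_congr rfl fun i _ => ?_
  rw [pow_succ', mul_smul]

theorem smul_nrm_inv {d s : H} {n : ℕ} (hn : d ^ n = 1) (hs : s * d = d⁻¹ * s) (v : V) :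
    s • nrm d n v = nrm d n (s • v) := by
  have h1 : ∀ i : ℕ, s * d ^ i = (d ^ i)⁻¹ * s := by
    intro i
    induction i with
    | zero => simp
    | succ i ih => rw [pow_succ, ← mul_assoc, ih, mul_assoc, hs, ← mul_assoc, ← mul_inv_rev, ← pow_succ', pow_succ]
  have h2 : ∀ w : V, ∑ i ∈ Finset.range n, (d ^ i)⁻¹ • w = nrm d n w := by
    intro w
    rw [← smul_nrm hn w, nrm, ← Finset.sum_range_reflect (fun i => d ^ i • w), Finset.smul_sum]
    refine Finset.sum_congr rfl fun i hi => ?_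
    have h3 : i < n := Finset.mem_range.1 hi
    have h4 : (d ^ i)⁻¹ = d * d ^ (n - 1 - i) := by
      rw [inv_eq_iff_mul_eq_one, ← pow_succ', ← pow_add, ← hn]
      congr 1
      omega
    rw [h4, mul_smul]
  rw [← h2 (s • v), nrm, Finset.smul_sum]
  refine Finset.sum_congr rfl fun i _ => ?_
  rw [← mul_smul, ← mul_smul, h1]

theorem nrm_of_fixed (two : ∀ v : V, v + v = 0) {d : H} {n : ℕ} (hn : Odd n) {v : V} (hv : d • v = v) :
    nrm d n v = v := by
  have h1 : ∀ i : ℕ, d ^ i • v = v := by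
    intro i
    induction i with
    | zero => simp
    | succ i ih => rw [pow_succ, mul_smul, hv, ih]
  obtain ⟨m, rfl⟩ := hn
  rw [nrm, Finset.sum_congr rfl fun i _ => h1 i, Finset.sum_const, Finset.card_range, add_smul, mul_smul,
    two_nsmul, two, one_smul, zero_add]

theorem half_sum (d : H) (m : ℕ) (v : V) :
    ∑ j ∈ Finset.range m, d ^ (2 * j) • v + d • ∑ j ∈ Finset.range m, d ^ (2 * j) • v =
      ∑ i ∈ Finset.range (2 * m), d ^ i • v := by
  induction m with
  | zero => simp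
  | succ m ih =>
    rw [Finset.sum_range_succ, show 2 * (m + 1) = 2 * m + 1 + 1 by ring, Finset.sum_range_succ,
      Finset.sum_range_succ, ← ih, smul_add, ← mul_smul, ← pow_succ']
    abel

end nrm

namespace FlatA

variable {U : Subgroup H} {E F : AddSubgroup V} (h : FlatA U E F)
include h

/-- an element of odd order, centralised by `U₁` and inverted by `s ∈ U - U₁`, acts trivially -/
theorem odd_inv (h4 : ∀ x, ∃ v, v ∉ E ∧ v + x ∉ E) {U1 : Subgroup H} {s d : H} (hs : s ∈ U) (hU1 : U1 ≤ U)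
    (hU : ∀ u ∈ U, u ∈ U1 ∨ ∃ u1 ∈ U1, u = s * u1) {n : ℕ} (hn : Odd n) (hd : d ^ n = 1)
    (hsd : s * d = d⁻¹ * s) (hc : ∀ u ∈ U1, u * d = d * u) (v : V) : d • v = v := by
  obtain ⟨m, hm⟩ := id hn
  let c : H := d ^ (m + 1)
  have hcc : c * c = d := by
    change d ^ (m + 1) * d ^ (m + 1) = d
    rw [← pow_add, show m + 1 + (m + 1) = n + 1 by omega, pow_succ, hd, one_mul]
  have hscc : ∀ i : ℕ, s * d ^ i = (d ^ i)⁻¹ * s := by
    intro i
    induction i with
    | zero => simp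
    | succ i ih => rw [pow_succ, ← mul_assoc, ih, mul_assoc, hsd, ← mul_assoc, ← mul_inv_rev, ← pow_succ', pow_succ]
  have hsc : s * c = c⁻¹ * s := hscc (m + 1)
  have hcsc : c * s * c = s := by rw [mul_assoc, hsc, mul_inv_cancel_left]
  have hcd : Commute c d := (Commute.refl d).pow_left (m + 1)
  have hUc : ∀ u ∈ U1, Commute u c := fun u hu => (show Commute u d from hc u hu).pow_right (m + 1)
  have hs' : ∀ v : V, s • s • v = v := h.inv s hs
  let V0 : AddSubgroup V :=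
    { carrier := {v | d • v = v}
      zero_mem' := smul_zero d
      add_mem' := fun {a b} ha hb => by
        change d • (a + b) = a + b
        rw [smul_add, show d • a = a from ha, show d • b = b from hb]
      neg_mem' := fun {a} ha => by
        change d • -a = -a
        rw [smul_neg, show d • a = a from ha] }
  let X : AddSubgroup V :=
    { carrier := {v | nrm d n v = 0 ∧ c • v = s • v}
      zero_mem' := ⟨by simp [nrm], by rw [smul_zero, smul_zero]⟩
      add_mem' := fun {a b} ha hb => ⟨by rw [nrm_add, ha.1, hb.1, add_zero], by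
        rw [smul_add, smul_add, ha.2, hb.2]⟩
      neg_mem' := fun {a} ha => by
        rw [h.neg]
        exact ha }
  have hsup : ∀ v : V, ∃ a ∈ V0, ∃ x ∈ X, ∃ y ∈ X, v = a + x + s • y := by
    intro v
    have hNN : nrm d n (nrm d n v) = nrm d n v := nrm_of_fixed h.two hn (smul_nrm hd v)
    set v' := v + nrm d n v with hv'
    have hv0 : nrm d n v' = 0 := by rw [hv', nrm_add, hNN, h.two]
    set w := ∑ j ∈ Finset.range (m + 1), d ^ (2 * j) • v' with hw
    have hw1 : w + d • w = v' := by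
      rw [hw, half_sum, show 2 * (m + 1) = n + 1 by omega, Finset.sum_range_succ, hd, one_smul]
      change nrm d n v' + v' = v'
      rw [hv0, zero_add]
    have hNw : nrm d n w = 0 := by
      have h1 : ∀ k : ℕ, nrm d n (∑ j ∈ Finset.range k, d ^ (2 * j) • v') = 0 := by
        intro k
        induction k with
        | zero => simp [nrm]
        | succ k ih =>
          rw [Finset.sum_range_succ, nrm_add, ih, zero_add,
            ← smul_nrm_comm ((Commute.refl d).pow_left (2 * k)), hv0, smul_zero]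
      exact h1 (m + 1)
    have hNs : ∀ z : V, nrm d n z = 0 → nrm d n (s • z) = 0 := fun z hz => by
      rw [← smul_nrm_inv hd hsd, hz, smul_zero]
    have hNc : ∀ z : V, nrm d n z = 0 → nrm d n (c • z) = 0 := fun z hz => by
      rw [← smul_nrm_comm hcd, hz, smul_zero]
    have hNd : ∀ z : V, nrm d n z = 0 → nrm d n (d • z) = 0 := fun z hz => by
      rw [← smul_nrm_comm (Commute.refl d), hz, smul_zero]
    have e1 : c • s • c • w = s • w := by rw [← mul_smul, ← mul_smul, hcsc]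
    have e2 : c • s • d • w = s • c • w := by
      have : c * s * d = s * c := by rw [← hcc, ← mul_assoc, hcsc]
      rw [← mul_smul, ← mul_smul, ← mul_smul, this]
    have e3 : c • c • w = d • w := by rw [← mul_smul, hcc]
    refine ⟨nrm d n v, smul_nrm hd v, s • c • w + w, ⟨?_, ?_⟩, s • d • w + c • w, ⟨?_, ?_⟩, ?_⟩
    · rw [nrm_add, hNs _ (hNc _ hNw), hNw, add_zero]
    · rw [smul_add, smul_add, e1, hs', add_comm]
    · rw [nrm_add, hNs _ (hNd _ hNw), hNc _ hNw, add_zero]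
    · rw [smul_add, smul_add, e2, e3, hs', add_comm]
    · rw [smul_add, hs']
      have e : nrm d n v + (s • c • w + w) + (d • w + s • c • w) =
          nrm d n v + (w + d • w) + (s • c • w + s • c • w) := by abel
      rw [e, h.two, add_zero, hw1, hv', add_comm v, ← add_assoc, h.two, zero_add]
  by_contra hne
  have hX0 : X ≠ ⊥ := by
    intro h0
    apply hne
    obtain ⟨a, ha, x, hx, y, hy, e⟩ := hsup v
    rw [h0, AddSubgroup.mem_bot] at hx hy
    rw [hx, hy, smul_zero, add_zero, add_zero] at e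
    rw [e]
    exact ha
  have g1 : ∀ u ∈ U, ∀ a ∈ V0, u • a ∈ V0 := by
    intro u hu a ha
    have ha' : d⁻¹ • a = a := by
      rw [inv_smul_eq_iff]
      exact (show d • a = a from ha).symm
    rcases hU u hu with h1 | ⟨u1, h1, rfl⟩
    · change d • u • a = u • a
      rw [← mul_smul, ← hc u h1, mul_smul, show d • a = a from ha]
    · change d • (s * u1) • a = (s * u1) • a
      have e : d * (s * u1) = s * u1 * d⁻¹ := by
        have e1 : d * s = s * d⁻¹ := by
          have : s * d⁻¹ = d * s := by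
            have e3 : d * (s * d) * d⁻¹ = d * (d⁻¹ * s) * d⁻¹ := by rw [hsd]
            rw [mul_inv_cancel_left] at e3
            rw [← e3]
            group
          exact this.symm
        have e2 : u1 * d⁻¹ = d⁻¹ * u1 := (show Commute u1 d from hc u1 h1).inv_right
        rw [← mul_assoc, e1, mul_assoc, mul_assoc, e2]
      rw [← mul_smul, e, mul_smul, ha']
  have g2 : ∀ u ∈ U1, ∀ x ∈ X, u • x ∈ X := by
    rintro u hu x ⟨hx1, hx2⟩
    refine ⟨?_, ?_⟩
    · rw [← smul_nrm_comm (hc u hu), hx1, smul_zero]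
    · rw [← mul_smul, ← (hUc u hu).eq, mul_smul, hx2, h.ab u (hU1 hu) s hs]
  have g3 : ∀ a ∈ V0, ∀ x ∈ X, ∀ y ∈ X, a + x + s • y = 0 → a = 0 ∧ x = 0 ∧ y = 0 := by
    rintro a ha x ⟨hx1, hx2⟩ y ⟨hy1, hy2⟩ he
    have h1 : nrm d n (a + x + s • y) = 0 := by rw [he]; simp [nrm]
    rw [nrm_add, nrm_add, hx1, ← smul_nrm_inv hd hsd, hy1, smul_zero, add_zero, add_zero,
      nrm_of_fixed h.two hn (show d • a = a from ha)] at h1
    rw [h1, zero_add, h.add_eq] at he
    have h2 : d • y = y := by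
      have e1 : c • x = y := by rw [hx2, he, hs']
      have e2 : c • x = d • y := by rw [he, ← hy2, ← mul_smul, hcc]
      rw [← e2, e1]
    have h3 : y = 0 := by rw [← nrm_of_fixed h.two hn h2, hy1]
    refine ⟨h1, ?_, h3⟩
    rw [he, h3, smul_zero]
  obtain ⟨x, hx⟩ := h.ind hs hU1 hU g1 g2 g3 hsup hX0
  obtain ⟨v, hv1, hv2⟩ := h4 x
  rcases hx v with h1 | h1
  · exact hv1 h1
  · exact hv2 h1

/-- **(1)** : `U` centralises every `U`-invariant subgroup of odd order. -/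
theorem odd_comm [Finite H] [FaithfulSMul H V] (h4 : ∀ x, ∃ v, v ∉ E ∧ v + x ∉ E) {O : Subgroup H}
    (hO : Odd (Nat.card O)) (hn : ∀ u ∈ U, ∀ x ∈ O, u * x * u⁻¹ ∈ O) : O ≤ centralizer (U : Set H) := by
  have sq : ∀ a ∈ U, a * a = 1 := fun a ha => FaithfulSMul.eq_of_smul_eq_smul (α := V) fun v => by
    rw [mul_smul, h.inv a ha, one_smul]
  have comm : ∀ a ∈ U, ∀ b ∈ U, a * b = b * a := fun a ha b hb =>
    FaithfulSMul.eq_of_smul_eq_smul (α := V) fun v => by rw [mul_smul, mul_smul, h.ab a ha b hb]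
  refine odd_of_hyp sq comm hO hn ?_
  rintro B hB h2 x ⟨hx, hxB⟩
  rw [mem_centralizer_iff]
  intro a ha
  by_cases haB : a ∈ B
  · exact mem_centralizer_iff.1 hxB a haB
  have hU : ∀ u ∈ U, u ∈ B ∨ ∃ u1 ∈ B, u = a * u1 := by
    intro u hu
    rw [relIndex_eq_two_iff] at h2
    obtain ⟨y, hy, h3⟩ := h2
    by_cases huB : u ∈ B
    · exact Or.inl huB
    · right
      have h5 : u * y ∈ B := by
        rcases h3 u hu with h6 | h6
        · exact h6.1
        · exact absurd h6.1 huB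
      have h6 : a * y ∈ B := by
        rcases h3 a ha with h6 | h6
        · exact h6.1
        · exact absurd h6.1 haB
      refine ⟨a * u, ?_, by rw [← mul_assoc, sq a ha, one_mul]⟩
      have e : a * u = a * y * (u * y) := by
        rw [comm u hu y hy, mul_assoc, ← mul_assoc y y u, sq y hy, one_mul]
      rw [e]
      exact B.mul_mem h6 h5
  have hai : a⁻¹ = a := inv_eq_of_mul_eq_one_right (sq a ha)
  have h5 : x⁻¹ * (a * x * a⁻¹) ∈ O := O.mul_mem (O.inv_mem hx) (hn a ha x hx)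
  have h6 : (x⁻¹ * (a * x * a⁻¹)) ^ Nat.card O = 1 := by
    have h5 : (⟨_, h5⟩ : O) ^ Nat.card O = 1 := pow_card_eq_one'
    exact congrArg Subtype.val h5
  have h7 : x⁻¹ * (a * x * a⁻¹) = 1 := by
    refine FaithfulSMul.eq_of_smul_eq_smul (α := V) fun v => ?_
    rw [one_smul]
    refine h.odd_inv h4 ha hB hU hO h6 ?_ ?_ v
    · rw [mul_inv_rev, mul_inv_rev, mul_inv_rev, inv_inv, inv_inv, hai]
      have : a * (x⁻¹ * (a * x * a)) = a * x⁻¹ * a * x * a := by group
      rw [this]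
      group
    · intro u hu
      have c1 : Commute u x := mem_centralizer_iff.1 hxB u hu
      have c2 : Commute u a := comm u (hB hu) a ha
      exact (c1.inv_right.mul_right ((c2.mul_right c1).mul_right c2.inv_right)).eq
  rw [inv_mul_eq_one] at h7
  rw [← mul_inv_eq_iff_eq_mul]
  exact h7.symm

end FlatA

end Cfsg.Agent.Omega.NO1.Comp

end

section


/-!
# THEOREM COMP (bb OMEGA #17539): the K-linear flat module, and step (3)

`KFlat act E F`: `K` a field, `U` a group of involutions acting `K`-linearly and faithfully on `V`,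
`E ≥ F` subspaces, `F = C_V(U)`, `[V,U] ≤ E`, `[E,U] ≤ F`, `{[w,u]} + F = E` for all `w ∉ E`;
`a = |V/E| ≥ 4`, `e = |E/F| ≥ a²`, and (9) `|V/C_V(u)| ≤ e`.
-/

namespace Cfsg.Agent.Omega.NO1.Comp

open Module

/-- the `K`-linear flat module -/
structure KFlat {K V U : Type*} [Field K] [AddCommGroup V] [Module K V] [Group U]
    (act : U →* Module.End K V) (E F : Submodule K V) : Prop where
  sq : ∀ u : U, u * u = 1
  faith : ∀ u, act u = 1 → u = 1
  fixF : ∀ v, v ∈ F ↔ ∀ u, act u v = v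
  VE : ∀ u v, act u v - v ∈ E
  EF : ∀ u, ∀ e ∈ E, act u e - e ∈ F
  reg : ∀ w, w ∉ E → ∀ e ∈ E, ∃ u, e - (act u w - w) ∈ F
  four : 4 * Nat.card E ≤ Nat.card V
  pf : Nat.card V ^ 2 * Nat.card F ≤ Nat.card E ^ 3
  rk : ∀ u, Nat.card (LinearMap.range (act u - 1)) * Nat.card F ≤ Nat.card E

namespace KFlat

variable {K V U : Type*} [Field K] [AddCommGroup V] [Module K V] [Group U]
  {act : U →* Module.End K V} {E F : Submodule K V}

theorem comm (h : KFlat act E F) (u v : U) : u * v = v * u := by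
  have h1 := h.sq (u * v)
  have h2 := h.sq u
  have h3 := h.sq v
  have hu : u⁻¹ = u := inv_eq_of_mul_eq_one_left h2
  have hv : v⁻¹ = v := inv_eq_of_mul_eq_one_left h3
  calc u * v = (u * v)⁻¹ := (inv_eq_of_mul_eq_one_left h1).symm
    _ = v⁻¹ * u⁻¹ := mul_inv_rev u v
    _ = v * u := by rw [hu, hv]

theorem act_comm (h : KFlat act E F) (u s : U) (v : V) : act u (act s v) = act s (act u v) := by
  rw [← Module.End.mul_apply, ← map_mul, h.comm u s, map_mul]; rfl

/-- `u ∈ N` -/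
def Nn (act : U →* Module.End K V) (E : Submodule K V) (u : U) : Prop := ∀ e ∈ E, act u e = e

/-- FLAT (5): for every `w ∉ E`: `u ∈ N ↔ [w,u] ∈ F` -/
theorem nn_iff (h : KFlat act E F) {w : V} (hw : w ∉ E) (u : U) :
    Nn act E u ↔ act u w - w ∈ F := by
  constructor
  · intro hu
    rw [h.fixF]
    intro s
    have h1 := hu _ (h.VE s w)
    simp only [map_sub] at h1 ⊢
    rw [h.act_comm s u]
    have : act u (act s w) - act s w = act u w - w := by
      have := h1
      rw [sub_eq_sub_iff_add_eq_add] at this ⊢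
      rw [this]; abel
    exact this
  · intro hu e he
    obtain ⟨s, hs⟩ := h.reg w hw e he
    have h1 := (h.fixF _).1 hs u
    have h2 := (h.fixF _).1 hu s
    simp only [map_sub] at h1 h2
    rw [h.act_comm s u] at h2
    -- act u e - (act u act s w - act u w) = e - (act s w - w)
    have h3 : act u (act s w) = act u w - w + act s w := by
      rw [sub_eq_iff_eq_add] at h2; exact h2
    rw [h3] at h1
    have h4 : act u e - (act u w - w + act s w - act u w) = act u e - (act s w - w) := by abel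
    rw [h4] at h1
    exact sub_left_injective h1

/-- the operator `D = act r - 1` -/
theorem D_apply (r : U) (v : V) : (act r - 1) v = act r v - v := rfl

theorem ker_le (h : KFlat act E F) {r : U} (hr : ¬ Nn act E r) {v : V} (hv : act r v = v) :
    v ∈ E := by
  by_contra hvE
  exact hr ((h.nn_iff hvE r).2 (by rw [hv, sub_self]; exact F.zero_mem))

variable (h : KFlat act E F)
include h

/-- (MR'1) -/
theorem mr_fix {r : U} (hr : ¬ Nn act E r) {v : V} : act r v - v ∈ F ↔ v ∈ E :=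
  ⟨fun hv => by
    by_contra hvE
    exact hr ((h.nn_iff hvE r).2 hv), fun hv => h.EF r v hv⟩

/-- (MR'2), the inclusion `[m,U] ⊆ M ⊓ F` -/
theorem mr_mem {r : U} {m : V} (hm : m ∈ LinearMap.range (act r - 1)) (s : U) :
    act s m - m ∈ LinearMap.range (act r - 1) ⊓ F := by
  obtain ⟨v, rfl⟩ := hm
  have e1 : act s ((act r - 1) v) - (act r - 1) v = (act r - 1) (act s v - v) := by
    simp only [D_apply, map_sub]
    rw [h.act_comm r s]
  rw [e1]
  exact ⟨⟨_, rfl⟩, h.EF r _ (h.VE s v)⟩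

/-- (MR'2) -/
theorem mr {r : U} {m : V} (hm : m ∈ LinearMap.range (act r - 1))
    (hmF : m ∉ F) {m' : V} (hm' : m' ∈ LinearMap.range (act r - 1)) (hm'F : m' ∈ F)
    (hr : ¬ Nn act E r) : ∃ s, act s m - m = m' := by
  obtain ⟨v, rfl⟩ := hm
  obtain ⟨v', rfl⟩ := hm'
  rw [D_apply, h.mr_fix hr] at hmF hm'F
  obtain ⟨s, hs⟩ := h.reg v hmF v' hm'F
  refine ⟨s, ?_⟩
  have e1 : act s ((act r - 1) v) - (act r - 1) v = (act r - 1) (act s v - v) := by
    simp only [D_apply, map_sub]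
    rw [h.act_comm r s]
  rw [e1]
  have h1 := (h.fixF _).1 hs r
  have h2 : (act r - 1) (v' - (act s v - v)) = 0 := by rw [D_apply, h1, sub_self]
  rw [map_sub, sub_eq_zero] at h2
  exact h2.symm

/-- (MR'3) `|M/M^U| = |V/E|` -/
theorem mr_card [Finite V] {r : U} (hr : ¬ Nn act E r) :
    Nat.card (LinearMap.range (act r - 1)) * Nat.card E =
      Nat.card V * Nat.card (LinearMap.range (act r - 1) ⊓ F : Submodule K V) := by
  classical
  set D := act r - 1 with hD
  -- `|V| = |range D| |ker D|`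
  have h1 : Nat.card V = Nat.card (LinearMap.range D) * Nat.card (LinearMap.ker D) := by
    have := Submodule.card_eq_card_quotient_mul_card (LinearMap.ker D)
    rw [this, mul_comm, Nat.card_congr D.quotKerEquivRange.toEquiv]
  -- `|E| = |D E| |ker D|`
  have h2 : Nat.card E = Nat.card (LinearMap.range D ⊓ F : Submodule K V) *
      Nat.card (LinearMap.ker D) := by
    have h3 := Submodule.card_eq_card_quotient_mul_card (LinearMap.ker (D.domRestrict E))
    rw [Nat.card_congr (D.domRestrict E).quotKerEquivRange.toEquiv] at h3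
    have h4 : LinearMap.range (D.domRestrict E) = LinearMap.range D ⊓ F := by
      ext m
      constructor
      · rintro ⟨⟨e, he⟩, rfl⟩
        exact ⟨⟨e, rfl⟩, h.EF r e he⟩
      · rintro ⟨⟨v, rfl⟩, hv⟩
        have : v ∈ E := (h.mr_fix hr).1 hv
        exact ⟨⟨v, this⟩, rfl⟩
    rw [h4] at h3
    have h5 : Nat.card (LinearMap.ker (D.domRestrict E)) = Nat.card (LinearMap.ker D) := by
      refine Nat.card_congr ⟨fun x => ⟨x.1.1, x.2⟩, fun y => ⟨⟨y.1, h.ker_le hr ?_⟩, y.2⟩, ?_, ?_⟩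
      · have := LinearMap.mem_ker.1 y.2
        exact sub_eq_zero.1 this
      · intro x; rfl
      · intro x; rfl
    rw [h5] at h3
    rw [h3, mul_comm]
  rw [h1, h2]; ring

omit h

theorem congr {V' : Type*} [AddCommGroup V'] [Module K V'] (φ : V ≃ₗ[K] V')
    {act' : U →* Module.End K V'} (h : KFlat act E F) (ha : ∀ u v, act' u (φ v) = φ (act u v)) :
    KFlat act' (E.map φ.toLinearMap) (F.map φ.toLinearMap) := by
  have hm : ∀ (S : Submodule K V) (v : V), φ v ∈ S.map φ.toLinearMap ↔ v ∈ S := by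
    intro S v
    constructor
    · rintro ⟨w, hw, hwv⟩
      rwa [← φ.injective hwv]
    · intro hv; exact ⟨v, hv, rfl⟩
  have hc : ∀ (S : Submodule K V), Nat.card (S.map φ.toLinearMap) = Nat.card S := fun S =>
    (Nat.card_congr (φ.submoduleMap S).toEquiv).symm
  have hV : Nat.card V' = Nat.card V := (Nat.card_congr φ.toEquiv).symm
  refine ⟨h.sq, ?_, ?_, ?_, ?_, ?_, ?_, ?_, ?_⟩
  · intro u hu
    refine h.faith u ?_
    ext v
    apply φ.injective
    rw [← ha, hu]; rfl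
  · intro v
    obtain ⟨v, rfl⟩ := φ.surjective v
    rw [hm, h.fixF]
    refine forall_congr' fun u => ?_
    rw [ha]
    exact φ.injective.eq_iff.symm
  · intro u v
    obtain ⟨v, rfl⟩ := φ.surjective v
    rw [ha, ← map_sub, hm]; exact h.VE u v
  · intro u v hv
    obtain ⟨v, rfl⟩ := φ.surjective v
    rw [hm] at hv
    rw [ha, ← map_sub, hm]; exact h.EF u v hv
  · intro w hw e he
    obtain ⟨w, rfl⟩ := φ.surjective w
    obtain ⟨e, rfl⟩ := φ.surjective e
    rw [hm] at hw he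
    obtain ⟨u, hu⟩ := h.reg w hw e he
    exact ⟨u, by rw [ha, ← map_sub, ← map_sub, hm]; exact hu⟩
  · rw [hc, hV]; exact h.four
  · rw [hc, hc, hV]; exact h.pf
  · intro u
    rw [hc, hc]
    have : LinearMap.range (act' u - 1) = (LinearMap.range (act u - 1)).map φ.toLinearMap := by
      ext y
      constructor
      · rintro ⟨x, rfl⟩
        obtain ⟨x, rfl⟩ := φ.surjective x
        refine ⟨(act u - 1) x, ⟨x, rfl⟩, ?_⟩
        simp only [D_apply, ha]
        exact map_sub φ _ _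
      · rintro ⟨_, ⟨x, rfl⟩, rfl⟩
        refine ⟨φ x, ?_⟩
        simp only [D_apply, ha]
        exact (map_sub φ _ _).symm
    rw [this, hc]
    exact h.rk u

end KFlat

end Cfsg.Agent.Omega.NO1.Comp

end

section


/-!
# THEOREM COMP (bb OMEGA #17539), step (2): `U` is `K`-linear

* `ringAut_eq` : a finite field of characteristic 2 has at most one automorphism of order 2;
* `FlatA.lin` **(2)** : if `U` acts semilinearly on the `K`-space `V`, then it acts linearly;
* `FlatA.smul_E`, `FlatA.smul_F`, `FlatA.EK`, `FlatA.FK` : `E` and `F` are `K`-subspaces;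
* `actK` : `U →* Module.End K V`; `FlatA.kflat` : the structure `KFlat`.
-/

set_option autoImplicit false

namespace Cfsg.Agent.Omega.NO1.Comp

open Subgroup

universe u v w

/-- two automorphisms of order 2 of a finite field of characteristic 2 coincide -/
theorem ringAut_eq {K : Type w} [Field K] [Finite K] [CharP K 2] {σ τ : K ≃+* K} (hσ : ∀ x, σ (σ x) = x)
    (hτ : ∀ x, τ (τ x) = x) (h1 : ∃ x, σ x ≠ x) (h2 : ∃ x, τ x ≠ x) (x : K) : σ x = τ x := by
  classical
  let _ := ZMod.algebra K 2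
  have key : ∀ ρ : K ≃+* K, ∀ r : ZMod 2, ρ (algebraMap (ZMod 2) K r) = algebraMap (ZMod 2) K r := fun ρ r =>
    RingHom.congr_fun (Subsingleton.elim ((ρ : K →+* K).comp (algebraMap (ZMod 2) K)) (algebraMap (ZMod 2) K)) r
  let f : (K ≃+* K) → (K ≃ₐ[ZMod 2] K) := fun ρ => AlgEquiv.ofRingEquiv (f := ρ) (key ρ)
  have hf : ∀ ρ : K ≃+* K, (∀ x, ρ (ρ x) = x) → f ρ ^ 2 = 1 := by
    intro ρ hρ
    ext x
    rw [pow_two]
    exact hρ x
  by_contra hne
  have hne' : f σ ≠ f τ := fun h => hne (DFunLike.congr_fun h x)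
  have hs1 : f σ ≠ 1 := by
    intro h
    obtain ⟨y, hy⟩ := h1
    exact hy (DFunLike.congr_fun h y)
  have ht1 : f τ ≠ 1 := by
    intro h
    obtain ⟨y, hy⟩ := h2
    exact hy (DFunLike.congr_fun h y)
  let _ : Fintype (K ≃ₐ[ZMod 2] K) := Fintype.ofFinite _
  have hc := IsCyclic.card_pow_eq_one_le (α := K ≃ₐ[ZMod 2] K) (n := 2) two_pos
  have hsub : ({1, f σ, f τ} : Finset (K ≃ₐ[ZMod 2] K)) ⊆ Finset.univ.filter fun a => a ^ 2 = 1 := by
    intro a ha
    rw [Finset.mem_filter]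
    refine ⟨Finset.mem_univ _, ?_⟩
    rw [Finset.mem_insert, Finset.mem_insert, Finset.mem_singleton] at ha
    rcases ha with rfl | rfl | rfl
    · exact one_pow 2
    · exact hf σ hσ
    · exact hf τ hτ
  have h3 := Finset.card_le_card hsub
  rw [Finset.card_insert_of_notMem, Finset.card_insert_of_notMem, Finset.card_singleton] at h3
  · exact absurd (h3.trans hc) (by norm_num)
  · rwa [Finset.mem_singleton]
  · rw [Finset.mem_insert, Finset.mem_singleton, not_or]
    exact ⟨hs1.symm, ht1.symm⟩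

variable {H : Type u} [Group H] {V : Type v} [AddCommGroup V] [DistribMulAction H V] {K : Type w} [Field K]
  [Module K V]

namespace FlatA

variable {U : Subgroup H} {E F : AddSubgroup V} (h : FlatA U E F)
include h

omit [Field K] [Module K V] in
theorem exists_ne_zero : ∃ v : V, v ≠ 0 := by
  obtain ⟨w, hw⟩ := h.ne'
  exact ⟨w, fun h0 => hw (h0 ▸ E.zero_mem)⟩

variable (K) in
theorem charP : CharP K 2 := by
  obtain ⟨v, hv⟩ := h.exists_ne_zero
  refine CharTwo.of_one_ne_zero_of_two_eq_zero one_ne_zero ?_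
  have h1 : (2 : K) • v = 0 := by rw [two_smul, h.two]
  exact (smul_eq_zero.1 h1).resolve_right hv

/-- **(2)** : if `U` acts semilinearly on the `K`-space `V`, `K` a finite field, then `U` is `K`-linear. -/
theorem lin [Finite K] (h4 : ∀ x, ∃ v, v ∉ E ∧ v + x ∉ E)
    (hσ : ∀ u ∈ U, ∃ σ : K ≃+* K, ∀ (k : K) (v : V), u • k • v = σ k • u • v) :
    ∀ u ∈ U, ∀ (k : K) (v : V), u • k • v = k • u • v := by
  have := h.charP K
  obtain ⟨v0, hv0⟩ := h.exists_ne_zero
  have hcan : ∀ a b : K, a • v0 = b • v0 → a = b := by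
    intro a b hab
    have : (a - b) • v0 = 0 := by rw [sub_smul, hab, sub_self]
    exact sub_eq_zero.1 ((smul_eq_zero.1 this).resolve_right hv0)
  by_contra hcon
  push Not at hcon
  obtain ⟨s, hs, k0, v1, hk0⟩ := hcon
  -- automorphisms
  have hinv : ∀ u ∈ U, ∀ σ : K ≃+* K, (∀ (k : K) (v : V), u • k • v = σ k • u • v) → ∀ k, σ (σ k) = k := by
    intro u hu σ hσ k
    apply hcan
    have h1 := h.inv u hu (k • v0)
    rw [hσ, hσ, h.inv u hu] at h1
    exact h1
  obtain ⟨σ, hσs⟩ := hσ s hs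
  have hσ2 := hinv s hs σ hσs
  have hσ0 : σ k0 ≠ k0 := by
    intro h0
    apply hk0
    rw [hσs, h0]
  let U1 : Subgroup H :=
    { carrier := {u | u ∈ U ∧ ∀ (k : K) (v : V), u • k • v = k • u • v}
      one_mem' := ⟨U.one_mem, fun k v => by rw [one_smul, one_smul]⟩
      mul_mem' := by
        rintro a b ⟨ha, ha'⟩ ⟨hb, hb'⟩
        exact ⟨U.mul_mem ha hb, fun k v => by rw [mul_smul, hb', ha', mul_smul]⟩
      inv_mem' := by
        rintro a ⟨ha, ha'⟩
        exact ⟨U.inv_mem ha, fun k v => by rw [inv_smul_eq_iff, ha', smul_inv_smul]⟩ }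
  have hU1 : U1 ≤ U := fun u hu => hu.1
  have hU : ∀ u ∈ U, u ∈ U1 ∨ ∃ u1 ∈ U1, u = s * u1 := by
    intro u hu
    by_cases h1 : u ∈ U1
    · exact Or.inl h1
    right
    refine ⟨s⁻¹ * u, ⟨U.mul_mem (U.inv_mem hs) hu, ?_⟩, by rw [mul_inv_cancel_left]⟩
    obtain ⟨τ, hτ⟩ := hσ u hu
    have hτ2 := hinv u hu τ hτ
    have hτ0 : ∃ x, τ x ≠ x := by
      by_contra hc
      push Not at hc
      exact h1 ⟨hu, fun k v => by rw [hτ, hc]⟩
    have hst := ringAut_eq hσ2 hτ2 ⟨k0, hσ0⟩ hτ0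
    intro k v
    rw [mul_smul, mul_smul, inv_smul_eq_iff, hσs, smul_inv_smul, hτ, hst]
  let X : AddSubgroup V :=
    { carrier := {v | ∃ c, s • c = c ∧ v = k0 • c}
      zero_mem' := ⟨0, smul_zero s, (smul_zero k0).symm⟩
      add_mem' := by
        rintro _ _ ⟨c, hc, rfl⟩ ⟨c', hc', rfl⟩
        exact ⟨c + c', by rw [smul_add, hc, hc'], by rw [smul_add]⟩
      neg_mem' := by
        rintro _ ⟨c, hc, rfl⟩
        exact ⟨-c, by rw [smul_neg, hc], by rw [smul_neg]⟩ }
  have hss : ∀ v : V, s • s • v = v := h.inv s hs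
  set l := k0 with hl
  set l' := σ k0 with hl'
  have hl2 : σ l' = l := hσ2 k0
  have hδ : (l + l') * (l + l') ≠ 0 := by
    intro h0
    have h1 : l + l' = 0 := mul_self_eq_zero.1 h0
    exact hσ0 (CharTwo.add_eq_zero.1 h1).symm
  have hδ' : l * l + l' * l' ≠ 0 := by
    intro h0
    apply hδ
    have : (l + l') * (l + l') = l * l + l' * l' + (l * l' + l * l') := by ring
    rw [this, h0, CharTwo.add_self_eq_zero, add_zero]
  have g1 : ∀ u ∈ U, ∀ a ∈ (⊥ : AddSubgroup V), u • a ∈ (⊥ : AddSubgroup V) := by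
    intro u _ a ha
    rw [AddSubgroup.mem_bot] at ha ⊢
    rw [ha, smul_zero]
  have g2 : ∀ u ∈ U1, ∀ x ∈ X, u • x ∈ X := by
    rintro u ⟨hu, hu'⟩ _ ⟨c, hc, rfl⟩
    exact ⟨u • c, by rw [h.ab s hs u hu, hc], hu' _ _⟩
  have g3 : ∀ a ∈ (⊥ : AddSubgroup V), ∀ x ∈ X, ∀ y ∈ X, a + x + s • y = 0 → a = 0 ∧ x = 0 ∧ y = 0 := by
    rintro a ha _ ⟨c, hc, rfl⟩ _ ⟨c', hc', rfl⟩ he
    rw [AddSubgroup.mem_bot] at ha
    subst ha
    rw [zero_add, hσs, hc', ← hl', ← hl] at he
    have he' : l' • c + l • c' = 0 := by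
      have h1 := congrArg (s • ·) he
      simp only [smul_add, smul_zero] at h1
      rw [hσs, hσs, hc, hc', hl2] at h1
      exact h1
    have hc0 : c = 0 := by
      have h1 : (l * l + l' * l') • c = l • (l • c + l' • c') + l' • (l' • c + l • c') +
          ((-(l * l')) • c' + (-(l * l')) • c') := by module
      rw [he, he', smul_zero, smul_zero, add_zero, zero_add, h.two] at h1
      exact (smul_eq_zero.1 h1).resolve_left hδ'
    subst hc0
    have hc0' : c' = 0 := by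
      rw [smul_zero, zero_add] at he he'
      by_contra hne
      have h1 := (smul_eq_zero.1 he).resolve_right hne
      have h2 := (smul_eq_zero.1 he').resolve_right hne
      apply hδ'
      rw [h1, h2, mul_zero, add_zero]
    subst hc0'
    exact ⟨rfl, smul_zero _, smul_zero _⟩
  have g4 : ∀ v : V, ∃ a ∈ (⊥ : AddSubgroup V), ∃ x ∈ X, ∃ y ∈ X, v = a + x + s • y := by
    intro v
    set δ := l * l + l' * l' with hδd
    have hσδ : σ δ⁻¹ = δ⁻¹ := by
      rw [map_inv₀, hδd, map_add, map_mul, map_mul, hl2, ← hl', add_comm]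
    have c1 : s • (δ⁻¹ • (l • v + l' • s • v)) = δ⁻¹ • (l • v + l' • s • v) := by
      rw [hσs, hσδ, smul_add, hσs, hσs, hss, hl2, ← hl', add_comm]
    have c2 : s • (δ⁻¹ • (l' • v + l • s • v)) = δ⁻¹ • (l' • v + l • s • v) := by
      rw [hσs, hσδ, smul_add, hσs, hσs, hss, hl2, ← hl', add_comm]
    refine ⟨0, AddSubgroup.zero_mem _, l • (δ⁻¹ • (l • v + l' • s • v)), ⟨_, c1, rfl⟩,
      l • (δ⁻¹ • (l' • v + l • s • v)), ⟨_, c2, rfl⟩, ?_⟩
    rw [zero_add, hσs, c2, ← hl']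
    have e : ∀ z : V, l • (δ⁻¹ • (l • v + l' • z)) + l' • (δ⁻¹ • (l' • v + l • z)) =
        (δ⁻¹ * (l * l + l' * l')) • v + ((δ⁻¹ * (l * l')) • z + (δ⁻¹ * (l * l')) • z) := fun z => by module
    rw [e, h.two, add_zero, ← hδd, inv_mul_cancel₀ hδ', one_smul]
  have hX0 : X ≠ ⊥ := by
    intro h0
    apply hv0
    obtain ⟨a, ha, x, hx, y, hy, e⟩ := g4 v0
    rw [h0, AddSubgroup.mem_bot] at hx hy
    rw [AddSubgroup.mem_bot] at ha
    rw [e, ha, hx, hy, smul_zero, add_zero, add_zero]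
  obtain ⟨x, hx⟩ := h.ind hs hU1 hU g1 g2 g3 g4 hX0
  obtain ⟨v, hv1, hv2⟩ := h4 x
  rcases hx v with h1 | h1
  · exact hv1 h1
  · exact hv2 h1

theorem smul_F (hl : ∀ u ∈ U, ∀ (k : K) (v : V), u • k • v = k • u • v) (k : K) {v : V} (hv : v ∈ F) :
    k • v ∈ F := by
  rw [h.F_iff]
  intro u hu
  rw [hl u hu, h.fix hv hu]

theorem smul_E (hl : ∀ u ∈ U, ∀ (k : K) (v : V), u • k • v = k • u • v) (k : K) {v : V} (hv : v ∈ E) :
    k • v ∈ E := by
  refine h.mem_E fun u hu => ?_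
  rw [hl u hu, ← smul_add]
  exact h.smul_F hl k (h.EF u hu v hv)

/-- `E` as a `K`-subspace -/
def EK (hl : ∀ u ∈ U, ∀ (k : K) (v : V), u • k • v = k • u • v) : Submodule K V :=
  { E with smul_mem' := fun k _ hv => h.smul_E hl k hv }

/-- `F` as a `K`-subspace -/
def FK (hl : ∀ u ∈ U, ∀ (k : K) (v : V), u • k • v = k • u • v) : Submodule K V :=
  { F with smul_mem' := fun k _ hv => h.smul_F hl k hv }

theorem mem_EK {hl : ∀ u ∈ U, ∀ (k : K) (v : V), u • k • v = k • u • v} {v : V} : v ∈ h.EK hl ↔ v ∈ E := Iff.rfl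

theorem mem_FK {hl : ∀ u ∈ U, ∀ (k : K) (v : V), u • k • v = k • u • v} {v : V} : v ∈ h.FK hl ↔ v ∈ F := Iff.rfl

end FlatA

/-- the `K`-linear action of `U` on `V` -/
def actK {U : Subgroup H} (hl : ∀ u ∈ U, ∀ (k : K) (v : V), u • k • v = k • u • v) : U →* Module.End K V where
  toFun u :=
    { toFun := fun v => (u : H) • v
      map_add' := smul_add (u : H)
      map_smul' := fun k v => hl u u.2 k v }
  map_one' := by
    ext v
    exact one_smul H v
  map_mul' := fun a b => by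
    ext v
    exact mul_smul (a : H) (b : H) v

theorem actK_apply {U : Subgroup H} (hl : ∀ u ∈ U, ∀ (k : K) (v : V), u • k • v = k • u • v) (u : U) (v : V) :
    actK hl u v = (u : H) • v := rfl

/-- the structure `KFlat` of (3)-(5) -/
theorem FlatA.kflat [FaithfulSMul H V] {U : Subgroup H} {E F : AddSubgroup V} (h : FlatA U E F)
    (hl : ∀ u ∈ U, ∀ (k : K) (v : V), u • k • v = k • u • v)
    (four : 4 * Nat.card E ≤ Nat.card V) (pf : Nat.card V ^ 2 * Nat.card F ≤ Nat.card E ^ 3)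
    (rk : ∀ u ∈ U, Nat.card {v : V | ∃ w, v = u • w - w} * Nat.card F ≤ Nat.card E) :
    KFlat (actK hl) (h.EK hl) (h.FK hl) where
  sq u := Subtype.ext <| FaithfulSMul.eq_of_smul_eq_smul (α := V) fun v => by
    change ((u : H) * u) • v = (1 : H) • v
    rw [mul_smul, h.inv u u.2, one_smul]
  faith u hu := Subtype.ext <| FaithfulSMul.eq_of_smul_eq_smul (α := V) fun v => by
    have h1 := LinearMap.congr_fun hu v
    rw [actK_apply] at h1
    rw [h1]
    exact (one_smul H v).symm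
  fixF v := by
    rw [h.mem_FK, h.F_iff]
    exact ⟨fun h1 u => h1 u u.2, fun h1 u hu => h1 ⟨u, hu⟩⟩
  VE u v := by
    rw [h.mem_EK, actK_apply, sub_eq_add_neg, h.neg]
    exact h.VE u u.2 v
  EF u e he := by
    rw [h.mem_FK, actK_apply, sub_eq_add_neg, h.neg]
    exact h.EF u u.2 e he
  reg w hw e he := by
    obtain ⟨u, hu, h1⟩ := h.reg w hw e he
    refine ⟨⟨u, hu⟩, ?_⟩
    rw [h.mem_FK, actK_apply]
    have e1 : e - (u • w - w) = u • w + w + e := by
      rw [sub_eq_add_neg, sub_eq_add_neg, h.neg, h.neg, add_comm]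
    rw [e1]
    exact h1
  four := four
  pf := pf
  rk u := by
    have e : Nat.card (LinearMap.range (actK hl u - 1)) = Nat.card {v : V | ∃ w, v = (u : H) • w - w} := by
      refine Nat.card_congr (Equiv.setCongr ?_)
      ext v
      constructor
      · rintro ⟨w, hw⟩
        exact ⟨w, hw.symm⟩
      · rintro ⟨w, hw⟩
        exact ⟨w, hw.symm⟩
    rw [e]
    exact rk u u.2

/-- `4 |E| ≤ |V|` -/
theorem four_of_card {E : AddSubgroup V} [Finite V] (four : 4 * Nat.card E ≤ Nat.card V) (x : V) :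
    ∃ v, v ∉ E ∧ v + x ∉ E := by
  by_contra hcon
  push Not at hcon
  have h1 : E.index ≤ 2 := by
    have h2 : Function.Surjective (fun b : Bool => (if b then (0 : V ⧸ E) else ((-x : V) : V ⧸ E))) := by
      intro q
      induction q using QuotientAddGroup.induction_on with
      | H v =>
        by_cases hv : v ∈ E
        · exact ⟨true, by simpa using ((QuotientAddGroup.eq_zero_iff v).2 hv).symm⟩
        · refine ⟨false, ?_⟩
          have h3 := hcon v hv
          simp only [Bool.false_eq_true, if_false]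
          rw [QuotientAddGroup.eq, neg_neg, add_comm]
          exact h3
    have h3 := Nat.card_le_card_of_surjective _ h2
    rw [Nat.card_eq_fintype_card (α := Bool), Fintype.card_bool] at h3
    exact h3
  have h2 := AddSubgroup.card_mul_index E
  have h3 : 0 < Nat.card E := Nat.card_pos
  nlinarith

end Cfsg.Agent.Omega.NO1.Comp

end

section


/-!
# Pure tensors (project OMEGA, N1, THEOREM COMP #17539, part (II)(b); helper168)

`K` a field, `A ⊗[K] B → A' ⊗[K] B'` an additive bijection `s`, semilinear with respect to `σ`, which intertwines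
the maps `ρ i ⊗ 1` and `ρ' i ⊗ 1` (`i` in any index type), where `A`, `A'` are irreducible under the `ρ i`, `ρ' i` and
only scalars commute with all `ρ' i`.  Then `s = α ⊗ β` (`pure`).  `K` finite of characteristic 2: a linear involution
which is a pure tensor is the tensor product of two uniquely determined involutions (`invol`, `invol_unique`), and an
abelian group of such involutions acts through two homomorphisms (`exists_hom`).
-/

set_option autoImplicit false
set_option linter.unusedSectionVars false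

namespace Cfsg.Agent.Omega.NO1.Comp.Pure

open TensorProduct

section contract

variable {K : Type*} [Field K] {A B : Type*} [AddCommGroup A] [Module K A] [AddCommGroup B] [Module K B]

/-- contraction of the right factor with a functional -/
noncomputable def con (φ : B →ₗ[K] K) : A ⊗[K] B →ₗ[K] A :=
  (TensorProduct.rid K A).toLinearMap ∘ₗ φ.lTensor A

/-- contraction of the left factor with a functional -/
noncomputable def con' (φ : A →ₗ[K] K) : A ⊗[K] B →ₗ[K] B :=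
  (TensorProduct.lid K B).toLinearMap ∘ₗ φ.rTensor B

@[simp] theorem con_tmul (φ : B →ₗ[K] K) (a : A) (b : B) : con φ (a ⊗ₜ[K] b) = φ b • a := by
  simp [con]

@[simp] theorem con'_tmul (φ : A →ₗ[K] K) (a : A) (b : B) : con' φ (a ⊗ₜ[K] b) = φ a • b := by
  simp [con']

theorem exists_dual {x : A} (hx : x ≠ 0) : ∃ φ : A →ₗ[K] K, φ x = 1 := by
  have h : ¬ ∀ φ : Module.Dual K A, φ x = 0 := fun h => hx ((Module.forall_dual_apply_eq_zero_iff K x).1 h)
  push Not at h
  obtain ⟨φ, hφ⟩ := h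
  exact ⟨(φ x)⁻¹ • φ, by simp [hφ]⟩

theorem eq_sum {ι : Type*} [Fintype ι] (bs : Module.Basis ι K B) (x : A ⊗[K] B) :
    x = ∑ j, con (bs.coord j) x ⊗ₜ[K] bs j := by
  classical
  induction x with
  | zero => simp only [_root_.map_zero, _root_.TensorProduct.zero_tmul, _root_.Finset.sum_const_zero]
  | tmul a b =>
    have h : ∀ j, con (bs.coord j) (a ⊗ₜ[K] b) ⊗ₜ[K] bs j = a ⊗ₜ[K] (bs.coord j b • bs j) := fun j => by
      rw [con_tmul, TensorProduct.smul_tmul]
    simp_rw [h, ← TensorProduct.tmul_sum]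
    congr 1
    exact (bs.sum_repr b).symm
  | add x y hx hy =>
    conv_lhs => rw [hx, hy]
    rw [← Finset.sum_add_distrib]
    refine Finset.sum_congr rfl fun j _ => ?_
    rw [map_add, TensorProduct.add_tmul]

theorem exists_con [FiniteDimensional K B] {x : A ⊗[K] B} (hx : x ≠ 0) : ∃ φ : B →ₗ[K] K, con φ x ≠ 0 := by
  by_contra! h
  exact hx (by rw [eq_sum (Module.finBasis K B) x]; simp only [h, _root_.TensorProduct.zero_tmul, _root_.Finset.sum_const_zero])

theorem tmul_ne_zero {a : A} {b : B} (ha : a ≠ 0) (hb : b ≠ 0) : a ⊗ₜ[K] b ≠ 0 := by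
  intro h
  obtain ⟨φ, hφ⟩ := exists_dual (K := K) hb
  have := congrArg (con φ) h
  rw [con_tmul, hφ, one_smul, map_zero] at this
  exact ha this

theorem con_rTensor {A' : Type*} [AddCommGroup A'] [Module K A'] (f : A →ₗ[K] A') (φ : B →ₗ[K] K)
    (x : A ⊗[K] B) : con φ (f.rTensor B x) = f (con φ x) := by
  induction x with
  | zero => simp
  | tmul a b => simp
  | add x y hx hy => simp only [hx, hy, _root_.map_add]

end contract

section pure

variable {K : Type*} [Field K] {A B A' B' : Type*} [AddCommGroup A] [Module K A] [AddCommGroup B] [Module K B]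
  [AddCommGroup A'] [Module K A'] [AddCommGroup B'] [Module K B'] [FiniteDimensional K B']
  {I : Type*}

/-- **`s = α ⊗ β`.** -/
theorem pure [Nontrivial A] [Nontrivial B] (σ : K ≃+* K) (s : A ⊗[K] B ≃+ A' ⊗[K] B')
    (hs : ∀ (k : K) (x), s (k • x) = σ k • s x)
    (ρ : I → A →ₗ[K] A) (ρ' : I → A' →ₗ[K] A')
    (hi : ∀ i x, s ((ρ i).rTensor B x) = (ρ' i).rTensor B' (s x))
    (irr : ∀ N : Submodule K A, (∀ i, ∀ a ∈ N, ρ i a ∈ N) → N = ⊥ ∨ N = ⊤)
    (irr' : ∀ N : Submodule K A', (∀ i, ∀ a ∈ N, ρ' i a ∈ N) → N = ⊥ ∨ N = ⊤)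
    (sc : ∀ f : A' →ₗ[K] A', (∀ i x, f (ρ' i x) = ρ' i (f x)) → ∃ k : K, ∀ x, f x = k • x) :
    ∃ (α : A ≃+ A') (β : B ≃+ B'), (∀ (k : K) (a), α (k • a) = σ k • α a) ∧
      (∀ (k : K) (b), β (k • b) = σ k • β b) ∧ (∀ a b, s (a ⊗ₜ b) = α a ⊗ₜ β b) ∧
      ∀ i a, α (ρ i a) = ρ' i (α a) := by
  classical
  obtain ⟨a₀, ha₀⟩ := exists_ne (0 : A)
  obtain ⟨b₀, hb₀⟩ := exists_ne (0 : B)
  have h0 : s (a₀ ⊗ₜ[K] b₀) ≠ 0 := fun h => tmul_ne_zero ha₀ hb₀ (s.injective (by rw [h, map_zero]))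
  obtain ⟨φ, hφ⟩ := exists_con h0
  -- the map α
  let α₀ : A →+ A' :=
    { toFun := fun a => con φ (s (a ⊗ₜ[K] b₀))
      map_zero' := by simp
      map_add' := fun a b => by rw [TensorProduct.add_tmul, map_add, map_add] }
  have hα : ∀ (k : K) (a : A), α₀ (k • a) = σ k • α₀ a := fun k a => by
    change con φ (s ((k • a) ⊗ₜ[K] b₀)) = σ k • con φ (s (a ⊗ₜ[K] b₀))
    rw [← TensorProduct.smul_tmul', hs, map_smul]
  have hαi : ∀ i a, α₀ (ρ i a) = ρ' i (α₀ a) := fun i a => by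
    change con φ (s (ρ i a ⊗ₜ[K] b₀)) = ρ' i (con φ (s (a ⊗ₜ[K] b₀)))
    rw [← con_rTensor, ← hi]
    simp
  have hinj : Function.Injective α₀ := by
    let N : Submodule K A :=
      { carrier := {a | α₀ a = 0}
        zero_mem' := map_zero _
        add_mem' := fun {a b} ha hb => by
          exact (map_add α₀ a b).trans (by rw [show α₀ a = 0 from ha, show α₀ b = 0 from hb, add_zero])
        smul_mem' := fun k a ha => by
          exact (hα k a).trans (by rw [show α₀ a = 0 from ha, smul_zero]) }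
    have hN : ∀ a, a ∈ N ↔ α₀ a = 0 := fun a => Iff.rfl
    rcases irr N (fun i a ha => by rw [hN] at *; rw [hαi, ha, map_zero]) with h | h
    · rw [injective_iff_map_eq_zero]
      intro a ha
      have : a ∈ N := ha
      rw [h] at this
      exact this
    · exact absurd (show a₀ ∈ N by rw [h]; trivial) hφ
  have hsurj : Function.Surjective α₀ := by
    let N : Submodule K A' :=
      { carrier := Set.range α₀
        zero_mem' := ⟨0, map_zero _⟩
        add_mem' := by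
          rintro _ _ ⟨a, rfl⟩ ⟨b, rfl⟩; exact ⟨a + b, map_add _ _ _⟩
        smul_mem' := by
          rintro k _ ⟨a, rfl⟩
          exact ⟨σ.symm k • a, by rw [hα, σ.apply_symm_apply]⟩ }
    have hN : ∀ a, a ∈ N ↔ ∃ c, α₀ c = a := fun a => Iff.rfl
    rcases irr' N (fun i a ha => by
      rw [hN] at *; obtain ⟨c, rfl⟩ := ha; exact ⟨ρ i c, hαi i c⟩) with h | h
    · exact absurd (show α₀ a₀ = 0 from by
        have : α₀ a₀ ∈ N := ⟨a₀, rfl⟩
        rw [h] at this
        exact this) hφ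
    · intro a
      have : a ∈ N := by rw [h]; trivial
      exact this
  let α : A ≃+ A' := AddEquiv.ofBijective α₀ ⟨hinj, hsurj⟩
  have hαa : ∀ a, α a = α₀ a := fun a => rfl
  have hαk : ∀ (k : K) (a : A), α (k • a) = σ k • α a := hα
  have hαs : ∀ (k : K) (a : A'), α.symm (k • a) = σ.symm k • α.symm a := fun k a => by
    apply α.injective
    rw [α.apply_symm_apply, hαk, σ.apply_symm_apply, α.apply_symm_apply]
  have hαI : ∀ i a, α (ρ i a) = ρ' i (α a) := hαi
  have hαsi : ∀ i a, α.symm (ρ' i a) = ρ i (α.symm a) := fun i a => by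
    apply α.injective
    rw [α.apply_symm_apply, hαI, α.apply_symm_apply]
  -- the scalars
  have key : ∀ (ψ : B' →ₗ[K] K) (b : B), ∃ k : K, ∀ a : A, con ψ (s (a ⊗ₜ[K] b)) = k • α a := by
    intro ψ b
    let f : A' →ₗ[K] A' :=
      { toFun := fun a => con ψ (s (α.symm a ⊗ₜ[K] b))
        map_add' := fun a c => by rw [map_add, TensorProduct.add_tmul, map_add, map_add]
        map_smul' := fun k a => by
          rw [hαs, ← TensorProduct.smul_tmul', hs, map_smul, σ.apply_symm_apply, RingHom.id_apply] }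
    obtain ⟨k, hk⟩ := sc f (fun i x => by
      change con ψ (s (α.symm (ρ' i x) ⊗ₜ[K] b)) = ρ' i (con ψ (s (α.symm x ⊗ₜ[K] b)))
      rw [hαsi, ← con_rTensor, ← hi]
      simp)
    refine ⟨k, fun a => ?_⟩
    have := hk (α a)
    change con ψ (s (α.symm (α a) ⊗ₜ[K] b)) = k • α a at this
    rwa [α.symm_apply_apply] at this
  choose κ hκ using key
  let bs := Module.finBasis K B'
  have hform : ∀ (b : B), ∃ y : B', ∀ a : A, s (a ⊗ₜ[K] b) = α a ⊗ₜ[K] y := by
    intro b
    refine ⟨∑ j, κ (bs.coord j) b • bs j, fun a => ?_⟩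
    conv_lhs => rw [eq_sum bs (s (a ⊗ₜ[K] b))]
    rw [TensorProduct.tmul_sum]
    refine Finset.sum_congr rfl fun j _ => ?_
    rw [hκ, TensorProduct.smul_tmul]
  choose β₁ hβ₁ using hform
  have hα₀ : α a₀ ≠ 0 := fun h => ha₀ (α.injective (by rw [h, map_zero]))
  obtain ⟨f, hf⟩ := exists_dual (K := K) hα₀
  have hβf : ∀ b, β₁ b = con' f (s (a₀ ⊗ₜ[K] b)) := fun b => by
    rw [hβ₁, con'_tmul, hf, one_smul]
  have hβk : ∀ (k : K) (b : B), β₁ (k • b) = σ k • β₁ b := fun k b => by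
    rw [hβf, hβf, TensorProduct.tmul_smul, hs, map_smul]
  let β₀ : B →+ B' :=
    { toFun := β₁
      map_zero' := by rw [hβf]; simp only [_root_.TensorProduct.tmul_zero, _root_.map_zero]
      map_add' := fun b c => by rw [hβf, hβf, hβf, TensorProduct.tmul_add, map_add, map_add] }
  have hβ₀ : ∀ b, β₀ b = β₁ b := fun b => rfl
  have hβinj : Function.Injective β₀ := by
    rw [injective_iff_map_eq_zero]
    intro b hb
    by_contra hb0
    apply tmul_ne_zero (K := K) ha₀ hb0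
    apply s.injective
    rw [hβ₁, ← hβ₀, hb, TensorProduct.tmul_zero, map_zero]
  have hβsurj : Function.Surjective β₀ := by
    intro c
    obtain ⟨x, hx⟩ := s.surjective (α a₀ ⊗ₜ[K] c)
    have h1 : ∀ x : A ⊗[K] B, ∃ b, con' f (s x) = β₀ b := by
      intro x
      induction x with
      | zero => exact ⟨0, by simp⟩
      | tmul a b =>
        refine ⟨σ.symm (f (α a)) • b, ?_⟩
        rw [hβ₁, con'_tmul, hβ₀, hβk, σ.apply_symm_apply]
      | add x y hx hy =>
        obtain ⟨b, hb⟩ := hx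
        obtain ⟨c, hc⟩ := hy
        exact ⟨b + c, by rw [map_add, map_add, hb, hc, map_add]⟩
    obtain ⟨b, hb⟩ := h1 x
    refine ⟨b, ?_⟩
    rw [← hb, hx, con'_tmul, hf, one_smul]
  exact ⟨α, AddEquiv.ofBijective β₀ ⟨hβinj, hβsurj⟩, hαk, hβk, fun a b => hβ₁ b a, hαI⟩

end pure

section invol

variable {K : Type*} [Field K] {A B : Type*} [AddCommGroup A] [Module K A] [AddCommGroup B] [Module K B]

/-- `α ⊗ β = α' ⊗ β'` ⟹ `α = k α'`, `β' = k β`, `k ≠ 0`. -/
theorem scal [Nontrivial A] [Nontrivial B] {α α' : A →ₗ[K] A} {β β' : B →ₗ[K] B}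
    (hα : Function.Injective α) (hβ : Function.Injective β)
    (h : ∀ a b, α a ⊗ₜ[K] β b = α' a ⊗ₜ[K] β' b) :
    ∃ k : K, k ≠ 0 ∧ (∀ a, α a = k • α' a) ∧ ∀ b, β' b = k • β b := by
  obtain ⟨a₀, ha₀⟩ := exists_ne (0 : A)
  obtain ⟨b₀, hb₀⟩ := exists_ne (0 : B)
  have hb1 : β b₀ ≠ 0 := fun h => hb₀ (hβ (by rw [h, map_zero]))
  have ha1 : α a₀ ≠ 0 := fun h => ha₀ (hα (by rw [h, map_zero]))
  obtain ⟨φ, hφ⟩ := exists_dual (K := K) hb1
  have h1 : ∀ a, α a = φ (β' b₀) • α' a := fun a => by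
    have := congrArg (con φ) (h a b₀)
    rwa [con_tmul, con_tmul, hφ, one_smul] at this
  have hk : φ (β' b₀) ≠ 0 := fun h0 => ha1 (by rw [h1, h0, zero_smul])
  refine ⟨φ (β' b₀), hk, h1, fun b => ?_⟩
  have ha2 : α' a₀ ≠ 0 := fun h0 => ha1 (by rw [h1, h0, smul_zero])
  obtain ⟨ψ, hψ⟩ := exists_dual (K := K) ha2
  have := congrArg (con' ψ) (h a₀ b)
  rw [con'_tmul, con'_tmul, hψ, one_smul, h1, map_smul, hψ, smul_eq_mul, mul_one] at this
  exact this.symm

variable [Finite K] [CharP K 2]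

theorem exists_sqrt (k : K) : ∃ m : K, m * m = k := by
  have h1 : Function.Injective (fun x : K => x * x) := by
    intro x y hxy
    have h2 : (x + y) * (x + y) = 0 := by
      have h3 : x * x = y * y := hxy
      calc (x + y) * (x + y) = x * x + y * y + 2 * (x * y) := by ring
        _ = 0 := by rw [h3, CharTwo.add_self_eq_zero, CharTwo.two_eq_zero, zero_mul, add_zero]
    have h4 : x + y = 0 := mul_self_eq_zero.1 h2
    exact CharTwo.add_eq_zero.1 h4
  obtain ⟨m, hm⟩ := (Finite.injective_iff_surjective.1 h1) k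
  exact ⟨m, hm⟩

omit [Finite K] in
theorem sq_eq_one {k : K} (h : k * k = 1) : k = 1 := by
  have h2 : (k + 1) * (k + 1) = 0 := by
    calc (k + 1) * (k + 1) = k * k + 1 + 2 * k := by ring
      _ = 0 := by rw [h, CharTwo.add_self_eq_zero, CharTwo.two_eq_zero, zero_mul, add_zero]
  exact CharTwo.add_eq_zero.1 (mul_self_eq_zero.1 h2)

/-- a pure tensor which is an involution is the tensor product of two involutions -/
theorem invol [Nontrivial A] [Nontrivial B] {α : A →ₗ[K] A} {β : B →ₗ[K] B}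
    (h : ∀ a b, α (α a) ⊗ₜ[K] β (β b) = a ⊗ₜ[K] b) :
    ∃ (α' : A →ₗ[K] A) (β' : B →ₗ[K] B), (∀ a, α' (α' a) = a) ∧ (∀ b, β' (β' b) = b) ∧
      ∀ a b, α' a ⊗ₜ[K] β' b = α a ⊗ₜ[K] β b := by
  obtain ⟨k, hk0, hk1, hk2⟩ := scal (K := K) (α := LinearMap.id) (β := LinearMap.id) (α' := α ∘ₗ α) (β' := β ∘ₗ β)
    Function.injective_id Function.injective_id (fun a b => by simpa using (h a b).symm)
  obtain ⟨m, hm⟩ := exists_sqrt k
  have hm0 : m ≠ 0 := fun h => hk0 (by rw [← hm, h, zero_mul])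
  refine ⟨m • α, m⁻¹ • β, fun a => ?_, fun b => ?_, fun a b => ?_⟩
  · have := hk1 a
    simp only [LinearMap.id_coe, id_eq, LinearMap.coe_comp, Function.comp_apply] at this
    simp only [LinearMap.smul_apply, map_smul, smul_smul]
    rw [hm]
    exact this.symm
  · have := hk2 b
    simp only [LinearMap.id_coe, id_eq, LinearMap.coe_comp, Function.comp_apply] at this
    simp only [LinearMap.smul_apply, map_smul, smul_smul]
    rw [this, smul_smul, ← hm]
    have : m⁻¹ * m⁻¹ * (m * m) = 1 := by field_simp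
    rw [this, one_smul]
  · simp only [LinearMap.smul_apply]
    rw [TensorProduct.smul_tmul, smul_smul, mul_inv_cancel₀ hm0, one_smul]

omit [Finite K] in
theorem invol_unique [Nontrivial A] [Nontrivial B] {α α' : A →ₗ[K] A} {β β' : B →ₗ[K] B}
    (h1 : ∀ a, α (α a) = a) (h2 : ∀ b, β (β b) = b) (h3 : ∀ a, α' (α' a) = a) (_h4 : ∀ b, β' (β' b) = b)
    (h : ∀ a b, α a ⊗ₜ[K] β b = α' a ⊗ₜ[K] β' b) : α = α' ∧ β = β' := by
  have i1 : Function.Injective α := Function.LeftInverse.injective h1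
  have i2 : Function.Injective β := Function.LeftInverse.injective h2
  obtain ⟨k, hk0, hk1, hk2⟩ := scal i1 i2 h
  obtain ⟨a₀, ha₀⟩ := exists_ne (0 : A)
  have hk : k * k = 1 := by
    have h5 : (k * k) • a₀ = a₀ := by
      calc (k * k) • a₀ = k • k • α' (α' a₀) := by rw [h3, smul_smul]
        _ = k • α' (k • α' a₀) := by rw [map_smul]
        _ = α (α a₀) := by rw [hk1 (α a₀), hk1 a₀]
        _ = a₀ := h1 a₀
    by_contra hne
    have h6 : (k * k - 1) • a₀ = 0 := by rw [sub_smul, h5, one_smul, sub_self]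
    rcases smul_eq_zero.1 h6 with h7 | h7
    · exact hne (sub_eq_zero.1 h7)
    · exact ha₀ h7
  have hk1' := sq_eq_one hk
  subst hk1'
  exact ⟨LinearMap.ext fun a => by rw [hk1, one_smul], LinearMap.ext fun b => by rw [hk2, one_smul]⟩

/-- **an elementary abelian group of pure tensors acts through two homomorphisms** -/
theorem exists_hom [Nontrivial A] [Nontrivial B] {U : Type*} [Group U] (r : U →* Module.End K (A ⊗[K] B))
    (h2 : ∀ u : U, u * u = 1)
    (hp : ∀ u : U, ∃ (α : A →ₗ[K] A) (β : B →ₗ[K] B), ∀ a b, r u (a ⊗ₜ b) = α a ⊗ₜ β b) :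
    ∃ (rA : U →* Module.End K A) (rB : U →* Module.End K B), ∀ u a b, r u (a ⊗ₜ b) = rA u a ⊗ₜ rB u b := by
  have hp' : ∀ u : U, ∃ (α : A →ₗ[K] A) (β : B →ₗ[K] B), (∀ a, α (α a) = a) ∧ (∀ b, β (β b) = b) ∧
      ∀ a b, r u (a ⊗ₜ b) = α a ⊗ₜ β b := by
    intro u
    obtain ⟨α, β, h⟩ := hp u
    obtain ⟨α', β', h1, h2, h3⟩ := invol (α := α) (β := β) (fun a b => by
      have : r u (r u (a ⊗ₜ b)) = a ⊗ₜ b := by
        rw [← Module.End.mul_apply, ← map_mul, h2, map_one, Module.End.one_apply]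
      rw [h, h] at this
      exact this)
    exact ⟨α', β', h1, h2, fun a b => by rw [h, h3]⟩
  choose f g hf hg hfg using hp'
  have hcomm : ∀ u v : U, u * v = v * u := fun u v => by
    have h3 : u⁻¹ = u := inv_eq_of_mul_eq_one_left (h2 u)
    have h4 : v⁻¹ = v := inv_eq_of_mul_eq_one_left (h2 v)
    have h5 : (u * v)⁻¹ = u * v := inv_eq_of_mul_eq_one_left (h2 (u * v))
    calc u * v = (u * v)⁻¹ := h5.symm
      _ = v * u := by rw [mul_inv_rev, h3, h4]
  have inj : ∀ u, Function.Injective (f u) := fun u => Function.LeftInverse.injective (hf u)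
  have injg : ∀ u, Function.Injective (g u) := fun u => Function.LeftInverse.injective (hg u)
  have hprod : ∀ u v a b, r (u * v) (a ⊗ₜ b) = f u (f v a) ⊗ₜ g u (g v b) := fun u v a b => by
    rw [map_mul, Module.End.mul_apply, hfg, hfg]
  -- f u and f v commute
  have cf : ∀ u v, (∀ a, f u (f v a) = f v (f u a)) ∧ ∀ b, g u (g v b) = g v (g u b) := by
    intro u v
    obtain ⟨k, hk0, hk1, hk2⟩ := scal (K := K) (α := f u ∘ₗ f v) (β := g u ∘ₗ g v) (α' := f v ∘ₗ f u)
      (β' := g v ∘ₗ g u) ((inj u).comp (inj v)) ((injg u).comp (injg v)) (fun a b => by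
        simp only [LinearMap.coe_comp, Function.comp_apply]
        rw [← hprod, hcomm, hprod])
    simp only [LinearMap.coe_comp, Function.comp_apply] at hk1 hk2
    obtain ⟨a₀, ha₀⟩ := exists_ne (0 : A)
    have hk : k * k = 1 := by
      have h5 : (k * k) • a₀ = a₀ := by
        have e1 : f u (f v (f v (f u a₀))) = a₀ := by rw [hf, hf]
        have e2 : f u (f v (f v (f u a₀))) = (k * k) • a₀ := by
          rw [hk1 (f v (f u a₀)), show f u (f v (f u a₀)) = k • f v (f u (f u a₀)) from hk1 (f u a₀), hf,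
            map_smul, hf, smul_smul]
        rw [← e2, e1]
      by_contra hne
      have h6 : (k * k - 1) • a₀ = 0 := by rw [sub_smul, h5, one_smul, sub_self]
      rcases smul_eq_zero.1 h6 with h7 | h7
      · exact hne (sub_eq_zero.1 h7)
      · exact ha₀ h7
    have hk1' := sq_eq_one hk
    subst hk1'
    exact ⟨fun a => by rw [hk1, one_smul], fun b => by rw [hk2, one_smul]⟩
  have hmul : ∀ u v : U, f (u * v) = f u ∘ₗ f v ∧ g (u * v) = g u ∘ₗ g v := by
    intro u v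
    refine invol_unique (hf _) (hg _) (fun a => ?_) (fun b => ?_) (fun a b => ?_)
    · simp only [LinearMap.coe_comp, Function.comp_apply]
      rw [(cf u v).1 (f u (f v a)), hf, hf]
    · simp only [LinearMap.coe_comp, Function.comp_apply]
      rw [(cf u v).2 (g u (g v b)), hg, hg]
    · simp only [LinearMap.coe_comp, Function.comp_apply]
      rw [← hfg, hprod]
  have hone : f 1 = LinearMap.id ∧ g 1 = LinearMap.id := by
    refine invol_unique (hf _) (hg _) (fun a => rfl) (fun b => rfl) (fun a b => ?_)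
    rw [← hfg, map_one]
    rfl
  exact ⟨{ toFun := f, map_one' := hone.1, map_mul' := fun u v => (hmul u v).1 },
    { toFun := g, map_one' := hone.2, map_mul' := fun u v => (hmul u v).2 }, hfg⟩

end invol

end Cfsg.Agent.Omega.NO1.Comp.Pure

end

section


/-!
# Three tensor factors and a swap (project OMEGA, N1, THEOREM COMP #17539, part (II)(c); helper168)

`V = A ⊗ (B ⊗ X)` over a field `K`.

* `pure3` : an additive semilinear bijection which normalises the groups acting on `A` and on `B` (and nothing else) is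
  `α ⊗ β ⊗ γ`.
* `swap3` : one that interchanges them is `a ⊗ b ⊗ x ↦ β b ⊗ α a ⊗ γ x`.
* `norm_form` (`K` finite, characteristic 2): an elementary abelian group `U` of linear maps of `V`, `U₁ ≤ U` consisting of
  pure tensors, `s ∈ U` of swap type: `V ≃ A ⊗ (A ⊗ X)` with `s = swap ⊗ sX` and `u = u₊ ⊗ u₊ ⊗ uX` for `u ∈ U₁`.
-/

set_option autoImplicit false
set_option linter.unusedSectionVars false

namespace Cfsg.Agent.Omega.NO1.Comp.Swap

open TensorProduct Cfsg.Agent.Omega.NO1.Comp.Pure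

section three

variable {K : Type*} [Field K] {A B X A' B' X' : Type*} [AddCommGroup A] [Module K A] [AddCommGroup B] [Module K B]
  [AddCommGroup X] [Module K X] [AddCommGroup A'] [Module K A'] [AddCommGroup B'] [Module K B']
  [AddCommGroup X'] [Module K X'] [FiniteDimensional K B'] [FiniteDimensional K X']
  {I J : Type*}

theorem tmul_right_inj {a : A} (ha : a ≠ 0) {x y : B} (h : a ⊗ₜ[K] x = a ⊗ₜ[K] y) : x = y := by
  obtain ⟨φ, hφ⟩ := exists_dual (K := K) ha
  have := congrArg (con' φ) h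
  rwa [con'_tmul, con'_tmul, hφ, one_smul, one_smul] at this

/-- **three factors** -/
theorem pure3 [Nontrivial A] [Nontrivial B] [Nontrivial X] (σ : K ≃+* K)
    (s : A ⊗[K] (B ⊗[K] X) ≃+ A' ⊗[K] (B' ⊗[K] X'))
    (hs : ∀ (k : K) (x), s (k • x) = σ k • s x)
    (ρ : I → A →ₗ[K] A) (ρ' : I → A' →ₗ[K] A') (τ : J → B →ₗ[K] B) (τ' : J → B' →ₗ[K] B')
    (hi : ∀ i x, s ((ρ i).rTensor (B ⊗[K] X) x) = (ρ' i).rTensor (B' ⊗[K] X') (s x))
    (hj : ∀ j x, s (((τ j).rTensor X).lTensor A x) = ((τ' j).rTensor X').lTensor A' (s x))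
    (irr : ∀ N : Submodule K A, (∀ i, ∀ a ∈ N, ρ i a ∈ N) → N = ⊥ ∨ N = ⊤)
    (irr' : ∀ N : Submodule K A', (∀ i, ∀ a ∈ N, ρ' i a ∈ N) → N = ⊥ ∨ N = ⊤)
    (sc : ∀ f : A' →ₗ[K] A', (∀ i x, f (ρ' i x) = ρ' i (f x)) → ∃ k : K, ∀ x, f x = k • x)
    (irrB : ∀ N : Submodule K B, (∀ i, ∀ a ∈ N, τ i a ∈ N) → N = ⊥ ∨ N = ⊤)
    (irrB' : ∀ N : Submodule K B', (∀ i, ∀ a ∈ N, τ' i a ∈ N) → N = ⊥ ∨ N = ⊤)
    (scB : ∀ f : B' →ₗ[K] B', (∀ i x, f (τ' i x) = τ' i (f x)) → ∃ k : K, ∀ x, f x = k • x) :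
    ∃ (α : A ≃+ A') (β : B ≃+ B') (γ : X ≃+ X'), (∀ (k : K) (a), α (k • a) = σ k • α a) ∧
      (∀ (k : K) (b), β (k • b) = σ k • β b) ∧ (∀ (k : K) (b), γ (k • b) = σ k • γ b) ∧
      ∀ a b x, s (a ⊗ₜ (b ⊗ₜ x)) = α a ⊗ₜ (β b ⊗ₜ γ x) := by
  obtain ⟨α, ψ, hα, hψ, hs1, -⟩ := pure σ s hs ρ ρ' hi irr irr' sc
  obtain ⟨a₀, ha₀⟩ := exists_ne (0 : A)
  have hα₀ : α a₀ ≠ 0 := fun h => ha₀ (α.injective (by rw [h, map_zero]))
  obtain ⟨β, γ, hβ, hγ, hs2, -⟩ := pure σ ψ hψ τ τ' (fun j x => by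
    apply tmul_right_inj (K := K) hα₀
    have e1 := hj j (a₀ ⊗ₜ[K] x)
    rw [LinearMap.lTensor_tmul, hs1, hs1, LinearMap.lTensor_tmul] at e1
    exact e1) irrB irrB' scB
  exact ⟨α, β, γ, hα, hβ, hγ, fun a b x => by rw [hs1, hs2]⟩

/-- **swap** -/
theorem swap3 [Nontrivial A] [Nontrivial B] [Nontrivial X] [FiniteDimensional K A'] (σ : K ≃+* K)
    (s : A ⊗[K] (B ⊗[K] X) ≃+ A' ⊗[K] (B' ⊗[K] X'))
    (hs : ∀ (k : K) (x), s (k • x) = σ k • s x)
    (ρ : I → A →ₗ[K] A) (τ' : I → B' →ₗ[K] B') (τ : J → B →ₗ[K] B) (ρ' : J → A' →ₗ[K] A')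
    (hi : ∀ i x, s ((ρ i).rTensor (B ⊗[K] X) x) = ((τ' i).rTensor X').lTensor A' (s x))
    (hj : ∀ j x, s (((τ j).rTensor X).lTensor A x) = (ρ' j).rTensor (B' ⊗[K] X') (s x))
    (irr : ∀ N : Submodule K A, (∀ i, ∀ a ∈ N, ρ i a ∈ N) → N = ⊥ ∨ N = ⊤)
    (irr' : ∀ N : Submodule K B', (∀ i, ∀ a ∈ N, τ' i a ∈ N) → N = ⊥ ∨ N = ⊤)
    (sc : ∀ f : B' →ₗ[K] B', (∀ i x, f (τ' i x) = τ' i (f x)) → ∃ k : K, ∀ x, f x = k • x)
    (irrB : ∀ N : Submodule K B, (∀ i, ∀ a ∈ N, τ i a ∈ N) → N = ⊥ ∨ N = ⊤)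
    (irrB' : ∀ N : Submodule K A', (∀ i, ∀ a ∈ N, ρ' i a ∈ N) → N = ⊥ ∨ N = ⊤)
    (scB : ∀ f : A' →ₗ[K] A', (∀ i x, f (ρ' i x) = ρ' i (f x)) → ∃ k : K, ∀ x, f x = k • x) :
    ∃ (α : A ≃+ B') (β : B ≃+ A') (γ : X ≃+ X'), (∀ (k : K) (a), α (k • a) = σ k • α a) ∧
      (∀ (k : K) (b), β (k • b) = σ k • β b) ∧ (∀ (k : K) (b), γ (k • b) = σ k • γ b) ∧
      ∀ a b x, s (a ⊗ₜ (b ⊗ₜ x)) = β b ⊗ₜ (α a ⊗ₜ γ x) := by
  let lc : A' ⊗[K] (B' ⊗[K] X') ≃ₗ[K] B' ⊗[K] (A' ⊗[K] X') := TensorProduct.leftComm K A' B' X'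
  have l1 : ∀ (f : B' →ₗ[K] B') (x : A' ⊗[K] (B' ⊗[K] X')), lc ((f.rTensor X').lTensor A' x) =
      f.rTensor (A' ⊗[K] X') (lc x) := by
    intro f x
    induction x with
    | zero => simp
    | tmul a y =>
      induction y with
      | zero => simp only [_root_.TensorProduct.tmul_zero, _root_.map_zero]
      | tmul b z => simp [lc]
      | add y z hy hz => rw [TensorProduct.tmul_add, map_add, map_add, map_add, map_add, hy, hz]
    | add x y hx hy => rw [map_add, map_add, map_add, map_add, hx, hy]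
  have l2 : ∀ (f : A' →ₗ[K] A') (x : A' ⊗[K] (B' ⊗[K] X')), lc (f.rTensor (B' ⊗[K] X') x) =
      (f.rTensor X').lTensor B' (lc x) := by
    intro f x
    induction x with
    | zero => simp only [_root_.map_zero]
    | tmul a y =>
      induction y with
      | zero => simp
      | tmul b z => simp [lc]
      | add y z hy hz => rw [TensorProduct.tmul_add, map_add, map_add, map_add, map_add, hy, hz]
    | add x y hx hy => rw [map_add, map_add, map_add, map_add, hx, hy]
  obtain ⟨α, β, γ, h1, h2, h3, h4⟩ := pure3 σ (s.trans lc.toAddEquiv) (fun k x => by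
      change lc (s (k • x)) = σ k • lc (s x)
      rw [hs, map_smul]) ρ τ' τ ρ'
    (fun i x => by
      change lc (s _) = (τ' i).rTensor _ (lc (s x))
      rw [hi, l1])
    (fun j x => by
      change lc (s _) = ((ρ' j).rTensor _).lTensor _ (lc (s x))
      rw [hj, l2]) irr irr' sc irrB irrB' scB
  refine ⟨α, β, γ, h1, h2, h3, fun a b x => ?_⟩
  apply lc.injective
  have := h4 a b x
  change lc (s (a ⊗ₜ (b ⊗ₜ x))) = α a ⊗ₜ (β b ⊗ₜ γ x) at this
  rw [this]
  rfl

end three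

section norm

variable {K : Type*} [Field K] [Finite K] [CharP K 2] {A B X V : Type*} [AddCommGroup A] [Module K A]
  [AddCommGroup B] [Module K B] [AddCommGroup X] [Module K X] [AddCommGroup V] [Module K V]
  [Nontrivial A] [Nontrivial B] [Nontrivial X]

/-- transport of a homomorphism -/
noncomputable def tr {W : Type*} [AddCommGroup W] [Module K W] (ψ : W ≃ₗ[K] V) {U : Type*} [Group U]
    (r : U →* Module.End K V) : U →* Module.End K W where
  toFun u := ψ.symm.toLinearMap ∘ₗ r u ∘ₗ ψ.toLinearMap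
  map_one' := by
    ext w
    simp only [_root_.map_one, _root_.LinearMap.coe_comp, _root_.LinearEquiv.coe_coe, _root_.Function.comp_apply, _root_.Module.End.one_apply, _root_.LinearEquiv.symm_apply_apply]
  map_mul' u v := by
    ext w
    simp only [_root_.map_mul, _root_.LinearMap.coe_comp, _root_.LinearEquiv.coe_coe, _root_.Function.comp_apply, _root_.Module.End.mul_apply, _root_.LinearEquiv.apply_symm_apply]

theorem tr_apply {W : Type*} [AddCommGroup W] [Module K W] (ψ : W ≃ₗ[K] V) {U : Type*} [Group U]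
    (r : U →* Module.End K V) (u : U) (w : W) : ψ (tr ψ r u w) = r u (ψ w) := by
  simp only [tr, _root_.Cfsg.Agent.Omega.NO1.Comp.Swap.tr, _root_.MonoidHom.coe_mk, _root_.OneHom.coe_mk, _root_.LinearMap.coe_comp, _root_.LinearEquiv.coe_coe, _root_.Function.comp_apply, _root_.LinearEquiv.apply_symm_apply]

/-- two factors: an elementary abelian group of pure tensors on `V` -/
theorem exists_hom_V (φ : A ⊗[K] B ≃ₗ[K] V) {U : Type*} [Group U] (r : U →* Module.End K V)
    (h2 : ∀ u : U, u * u = 1)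
    (hp : ∀ u : U, ∃ (α : A →ₗ[K] A) (β : B →ₗ[K] B), ∀ a b, r u (φ (a ⊗ₜ b)) = φ (α a ⊗ₜ β b)) :
    ∃ (rA : U →* Module.End K A) (rB : U →* Module.End K B),
      ∀ u a b, r u (φ (a ⊗ₜ b)) = φ (rA u a ⊗ₜ rB u b) := by
  obtain ⟨rA, rB, h⟩ := exists_hom (tr φ r) h2 (fun u => by
    obtain ⟨α, β, h⟩ := hp u
    exact ⟨α, β, fun a b => φ.injective (by rw [tr_apply, h])⟩)
  exact ⟨rA, rB, fun u a b => by rw [← tr_apply, h]⟩

/-- three factors -/
theorem exists_hom3 (φ : A ⊗[K] (B ⊗[K] X) ≃ₗ[K] V) {U : Type*} [Group U] (r : U →* Module.End K V)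
    (h2 : ∀ u : U, u * u = 1)
    (hp : ∀ u : U, ∃ (α : A →ₗ[K] A) (β : B →ₗ[K] B) (γ : X →ₗ[K] X),
      ∀ a b x, r u (φ (a ⊗ₜ (b ⊗ₜ x))) = φ (α a ⊗ₜ (β b ⊗ₜ γ x))) :
    ∃ (rA : U →* Module.End K A) (rB : U →* Module.End K B) (rX : U →* Module.End K X),
      ∀ u a b x, r u (φ (a ⊗ₜ (b ⊗ₜ x))) = φ (rA u a ⊗ₜ (rB u b ⊗ₜ rX u x)) := by
  obtain ⟨rA, rBX, h⟩ := exists_hom_V φ r h2 (fun u => by
    obtain ⟨α, β, γ, h⟩ := hp u
    refine ⟨α, TensorProduct.map β γ, fun a y => ?_⟩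
    induction y with
    | zero => simp only [_root_.TensorProduct.tmul_zero, _root_.map_zero]
    | tmul b x => rw [h]; simp
    | add x y hx hy => rw [TensorProduct.tmul_add, map_add, map_add, hx, hy, map_add, TensorProduct.tmul_add, map_add])
  have hinv : ∀ (u : U) (a : A), rA u (rA u a) = a := fun u a => by
    rw [← Module.End.mul_apply, ← map_mul, h2, map_one, Module.End.one_apply]
  have hinv' : ∀ (u : U) (y : B ⊗[K] X), rBX u (rBX u y) = y := fun u y => by
    rw [← Module.End.mul_apply, ← map_mul, h2, map_one, Module.End.one_apply]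
  obtain ⟨b₀, hb₀⟩ := exists_ne (0 : B)
  obtain ⟨x₀, hx₀⟩ := exists_ne (0 : X)
  have : Nontrivial (B ⊗[K] X) := ⟨⟨b₀ ⊗ₜ x₀, 0, tmul_ne_zero hb₀ hx₀⟩⟩
  obtain ⟨rB, rX, h'⟩ := exists_hom rBX h2 (fun u => by
    obtain ⟨α, β, γ, h1⟩ := hp u
    obtain ⟨k, hk0, hk1, hk2⟩ := scal (K := K) (α := rA u) (β := rBX u) (α' := α) (β' := TensorProduct.map β γ)
      (Function.LeftInverse.injective (hinv u)) (Function.LeftInverse.injective (hinv' u)) (fun a y => by
        apply φ.injective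
        rw [← h]
        induction y with
        | zero => simp only [_root_.TensorProduct.tmul_zero, _root_.map_zero]
        | tmul b x => rw [h1]; simp
        | add x y hx hy =>
          rw [TensorProduct.tmul_add, map_add, map_add, hx, hy, map_add, TensorProduct.tmul_add, map_add])
    refine ⟨k⁻¹ • β, γ, fun b x => ?_⟩
    have h3 := hk2 (b ⊗ₜ x)
    rw [TensorProduct.map_tmul] at h3
    rw [LinearMap.smul_apply, ← TensorProduct.smul_tmul', h3, smul_smul, inv_mul_cancel₀ hk0, one_smul])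
  exact ⟨rA, rB, rX, fun u a b x => by rw [h, h']⟩

/-- **the normal form with a swap** (with the form of `ψ`) -/
theorem norm_form' (φ : A ⊗[K] (B ⊗[K] X) ≃ₗ[K] V) {U : Type*} [Group U] (r : U →* Module.End K V)
    (h2 : ∀ u : U, u * u = 1) (U₁ : Subgroup U) (s : U)
    (hp : ∀ u ∈ U₁, ∃ (α : A →ₗ[K] A) (β : B →ₗ[K] B) (γ : X →ₗ[K] X),
      ∀ a b x, r u (φ (a ⊗ₜ (b ⊗ₜ x))) = φ (α a ⊗ₜ (β b ⊗ₜ γ x)))
    (α : A ≃ₗ[K] B) (β : B →ₗ[K] A) (γ : X →ₗ[K] X)
    (hsw : ∀ a b x, r s (φ (a ⊗ₜ (b ⊗ₜ x))) = φ (β b ⊗ₜ (α a ⊗ₜ γ x))) :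
    ∃ (ψ : A ⊗[K] (A ⊗[K] X) ≃ₗ[K] V) (rA : U₁ →* Module.End K A) (rX : U₁ →* Module.End K X)
      (sX : Module.End K X),
      (∀ (u : U₁) a a' x, r u (ψ (a ⊗ₜ (a' ⊗ₜ x))) = ψ (rA u a ⊗ₜ (rA u a' ⊗ₜ rX u x))) ∧
      (∀ a a' x, r s (ψ (a ⊗ₜ (a' ⊗ₜ x))) = ψ (a' ⊗ₜ (a ⊗ₜ sX x))) ∧ sX * sX = 1 ∧
      (∀ u, sX * rX u = rX u * sX) ∧ ∀ a a' x, ψ (a ⊗ₜ (a' ⊗ₜ x)) = φ (a ⊗ₜ (α a' ⊗ₜ x)) := by
  obtain ⟨a₀, ha₀⟩ := exists_ne (0 : A)
  obtain ⟨b₀, hb₀⟩ := exists_ne (0 : B)
  obtain ⟨x₀, hx₀⟩ := exists_ne (0 : X)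
  have : Nontrivial (B ⊗[K] X) := ⟨⟨b₀ ⊗ₜ x₀, 0, tmul_ne_zero hb₀ hx₀⟩⟩
  have hrr : ∀ v, r s (r s v) = v := fun v => by
    rw [← Module.End.mul_apply, ← map_mul, h2, map_one, Module.End.one_apply]
  -- β ∘ α is a scalar
  obtain ⟨k, hk0, hk1, -⟩ := scal (K := K) (α := LinearMap.id) (β := LinearMap.id) (α' := β ∘ₗ α.toLinearMap)
    (β' := TensorProduct.map (α.toLinearMap ∘ₗ β) (γ ∘ₗ γ)) Function.injective_id Function.injective_id (fun a y => by
      apply φ.injective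
      induction y with
      | zero => simp
      | tmul b x =>
        have := hrr (φ (a ⊗ₜ (b ⊗ₜ x)))
        rw [hsw, hsw] at this
        simpa only [_root_.LinearMap.id_coe, _root_.id_eq, _root_.LinearMap.coe_comp, _root_.LinearEquiv.coe_coe, _root_.Function.comp_apply, _root_.TensorProduct.map_tmul, _root_.EmbeddingLike.apply_eq_iff_eq] using this.symm
      | add x y hx hy =>
        simp only [map_add, TensorProduct.tmul_add] at hx hy ⊢
        rw [hx, hy])
  have hβα : ∀ a, β (α a) = k⁻¹ • a := fun a => by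
    have h3 := hk1 a
    simp only [LinearMap.id_coe, id_eq, LinearMap.coe_comp, LinearEquiv.coe_coe, Function.comp_apply] at h3
    rw [show k⁻¹ • a = k⁻¹ • (k • β (α a)) from by rw [← h3], smul_smul, inv_mul_cancel₀ hk0, one_smul]
  let ψ : A ⊗[K] (A ⊗[K] X) ≃ₗ[K] V :=
    (TensorProduct.congr (LinearEquiv.refl K A) (TensorProduct.congr α (LinearEquiv.refl K X))).trans φ
  have hψ : ∀ a a' x, ψ (a ⊗ₜ (a' ⊗ₜ x)) = φ (a ⊗ₜ (α a' ⊗ₜ x)) := fun a a' x => rfl
  let sX : Module.End K X := k⁻¹ • γ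
  have hsX : ∀ a a' x, r s (ψ (a ⊗ₜ (a' ⊗ₜ x))) = ψ (a' ⊗ₜ (a ⊗ₜ sX x)) := fun a a' x => by
    rw [hψ, hsw, hβα, hψ, ← TensorProduct.smul_tmul']
    simp only [sX, LinearMap.smul_apply, TensorProduct.tmul_smul]
  have tinj : ∀ x y : X, ψ (a₀ ⊗ₜ (a₀ ⊗ₜ x)) = ψ (a₀ ⊗ₜ (a₀ ⊗ₜ y)) → x = y := fun x y h =>
    tmul_right_inj ha₀ (tmul_right_inj ha₀ (ψ.injective h))
  have hsX2 : sX * sX = 1 := by
    apply LinearMap.ext
    intro x
    apply tinj
    rw [Module.End.mul_apply, ← hsX, ← hsX, hrr]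
    rfl
  obtain ⟨rA, rA', rX, hr⟩ := exists_hom3 ψ (r.comp U₁.subtype) (fun u => Subtype.ext (h2 u)) (fun u => by
    obtain ⟨α₁, β₁, γ₁, h1⟩ := hp u u.2
    refine ⟨α₁, α.symm.toLinearMap ∘ₗ β₁ ∘ₗ α.toLinearMap, γ₁, fun a b x => ?_⟩
    rw [hψ, hψ]
    change r u _ = _
    rw [h1]
    simp)
  have hr' : ∀ (u : U₁) a a' x, r u (ψ (a ⊗ₜ (a' ⊗ₜ x))) = ψ (rA u a ⊗ₜ (rA' u a' ⊗ₜ rX u x)) := hr
  have hc : ∀ u : U₁, ∀ v, r s (r u v) = r u (r s v) := fun u v => by
    rw [← Module.End.mul_apply, ← map_mul, ← Module.End.mul_apply, ← map_mul]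
    have hcomm : s * u = u * s := by
      have h3 : s⁻¹ = s := inv_eq_of_mul_eq_one_left (h2 s)
      have h4 : (u : U)⁻¹ = u := inv_eq_of_mul_eq_one_left (h2 u)
      have h5 : (s * (u : U))⁻¹ = s * u := inv_eq_of_mul_eq_one_left (h2 (s * u))
      calc s * (u : U) = (s * u)⁻¹ := h5.symm
        _ = u * s := by rw [mul_inv_rev, h3, h4]
    rw [hcomm]
  have hA2 : ∀ (u : U₁) a, rA u (rA u a) = a := fun u a => by
    rw [← Module.End.mul_apply, ← map_mul, show u * u = 1 from Subtype.ext (h2 u), map_one, Module.End.one_apply]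
  have hA2' : ∀ (u : U₁) a, rA' u (rA' u a) = a := fun u a => by
    rw [← Module.End.mul_apply, ← map_mul, show u * u = 1 from Subtype.ext (h2 u), map_one, Module.End.one_apply]
  have hX2 : ∀ (u : U₁) a, rX u (rX u a) = a := fun u a => by
    rw [← Module.End.mul_apply, ← map_mul, show u * u = 1 from Subtype.ext (h2 u), map_one, Module.End.one_apply]
  have hsX2' : ∀ x, sX (sX x) = x := fun x => by rw [← Module.End.mul_apply, hsX2, Module.End.one_apply]
  have main : ∀ (u : U₁) a a' x, rA' u a' ⊗ₜ[K] (rA u a ⊗ₜ[K] sX (rX u x)) =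
      rA u a' ⊗ₜ[K] (rA' u a ⊗ₜ[K] rX u (sX x)) := fun u a a' x => by
    apply ψ.injective
    rw [← hsX, ← hr', hc, hsX, hr']
  have heq : ∀ u, rA' u = rA u := by
    intro u
    have : Nontrivial (A ⊗[K] X) := ⟨⟨a₀ ⊗ₜ x₀, 0, tmul_ne_zero ha₀ hx₀⟩⟩
    obtain ⟨m, hm0, hm1, hm2⟩ := scal (K := K) (α := rA' u) (α' := rA u)
      (β := TensorProduct.map (rA u) (sX * rX u)) (β' := TensorProduct.map (rA' u) (rX u * sX))
      (Function.LeftInverse.injective (hA2' u)) (by
        apply Function.LeftInverse.injective (g := TensorProduct.map (rA u) (rX u * sX))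
        intro y
        rw [← LinearMap.comp_apply, ← TensorProduct.map_comp]
        have e1 : rA u ∘ₗ rA u = LinearMap.id := LinearMap.ext (hA2 u)
        have e2 : (rX u * sX) ∘ₗ (sX * rX u) = LinearMap.id := LinearMap.ext fun x => by
          simp only [LinearMap.coe_comp, Function.comp_apply, Module.End.mul_apply, LinearMap.id_coe, id_eq]
          rw [hsX2', hX2]
        rw [e1, e2, TensorProduct.map_id]; rfl) (fun a y => by
        induction y with
        | zero => simp only [_root_.map_zero, _root_.TensorProduct.tmul_zero]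
        | tmul b x => simpa only [_root_.TensorProduct.map_tmul, _root_.Module.End.mul_apply] using main u b a x
        | add x y hx hy => simp only [map_add, TensorProduct.tmul_add, hx, hy])
    have hm : m * m = 1 := by
      have h5 : (m * m) • a₀ = a₀ := by
        calc (m * m) • a₀ = m • m • rA u (rA u a₀) := by rw [hA2, smul_smul]
          _ = m • rA u (m • rA u a₀) := by rw [map_smul]
          _ = rA' u (rA' u a₀) := by rw [hm1 (rA' u a₀), hm1 a₀]
          _ = a₀ := hA2' u a₀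
      by_contra hne
      have h6 : (m * m - 1) • a₀ = 0 := by rw [sub_smul, h5, one_smul, sub_self]
      rcases smul_eq_zero.1 h6 with h7 | h7
      · exact hne (sub_eq_zero.1 h7)
      · exact ha₀ h7
    have := sq_eq_one hm
    subst this
    exact LinearMap.ext fun a => by rw [hm1, one_smul]
  refine ⟨ψ, rA, rX, sX, fun u a a' x => by rw [hr', heq], hsX, hsX2, fun u => LinearMap.ext fun x => ?_, hψ⟩
  have h7 := main u a₀ a₀ x
  rw [heq] at h7
  have h8 : rA u a₀ ≠ 0 := fun h => ha₀ (by rw [← hA2 u a₀, h, map_zero])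
  exact tmul_right_inj h8 (tmul_right_inj h8 h7)

/-- **the normal form with a swap** -/
theorem norm_form (φ : A ⊗[K] (B ⊗[K] X) ≃ₗ[K] V) {U : Type*} [Group U] (r : U →* Module.End K V)
    (h2 : ∀ u : U, u * u = 1) (U₁ : Subgroup U) (s : U)
    (hp : ∀ u ∈ U₁, ∃ (α : A →ₗ[K] A) (β : B →ₗ[K] B) (γ : X →ₗ[K] X),
      ∀ a b x, r u (φ (a ⊗ₜ (b ⊗ₜ x))) = φ (α a ⊗ₜ (β b ⊗ₜ γ x)))
    (α : A ≃ₗ[K] B) (β : B →ₗ[K] A) (γ : X →ₗ[K] X)
    (hsw : ∀ a b x, r s (φ (a ⊗ₜ (b ⊗ₜ x))) = φ (β b ⊗ₜ (α a ⊗ₜ γ x))) :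
    ∃ (ψ : A ⊗[K] (A ⊗[K] X) ≃ₗ[K] V) (rA : U₁ →* Module.End K A) (rX : U₁ →* Module.End K X)
      (sX : Module.End K X),
      (∀ (u : U₁) a a' x, r u (ψ (a ⊗ₜ (a' ⊗ₜ x))) = ψ (rA u a ⊗ₜ (rA u a' ⊗ₜ rX u x))) ∧
      (∀ a a' x, r s (ψ (a ⊗ₜ (a' ⊗ₜ x))) = ψ (a' ⊗ₜ (a ⊗ₜ sX x))) ∧ sX * sX = 1 ∧
      ∀ u, sX * rX u = rX u * sX := by
  obtain ⟨ψ, rA, rX, sX, h1, h3, h4, h5, -⟩ := norm_form' φ r h2 U₁ s hp α β γ hsw
  exact ⟨ψ, rA, rX, sX, h1, h3, h4, h5⟩

end norm

end Cfsg.Agent.Omega.NO1.Comp.Swap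

end

private theorem dce_f8d9b4af9ed1 : _root_.True := by
  try have : _root_.True := by simp only [_root_.Cfsg.Agent.Omega.NO1.Comp.nrm.eq_1]
  try have : _root_.True := by simp only [_root_.Cfsg.Agent.Omega.NO1.Comp.Pure.con'.eq_1]
  try have : _root_.True := by simp only [_root_.Cfsg.Agent.Omega.NO1.Comp.Swap.tr.eq_1]
  try have : _root_.True := by simp only [_root_.Cfsg.Agent.Omega.NO1.Comp.Pure.con.eq_1]
  exact _root_.True.intro
end

-- part: Mrg/Omega/NO1/NatFiveC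
section
prune_inst 0x1102404402202000000008201001e0282000000000b000060000804048a1c4185002620f0000800080888040031002002dc00004000000000008000011d00a08402c2028248a004040009000000000000000000000000000000000000041004000000000
set_option linter.all false
open scoped Cfsg.Agent.FastGrp

-- merged: Cfsg.Agent.Mrg.Omega.NO1.NatFiveA
section

section


/-!
# Theorem NAT of NO-1', step (5), part A

The configuration `Fv`, the component `W1` of `p = cl e`, the group `M1 = ⟨V1^J⟩`, and the homomorphisms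
`m ↦ c m c⁻¹ m⁻¹` of the elements `c ∈ J` that act trivially on `W1`.
-/

set_option autoImplicit false
set_option linter.unusedSectionVars false

namespace Cfsg.Agent.Omega.NO1.NatFive

open Subgroup Cfsg.Agent.Omega.Transv Cfsg.Agent.Omega.NO1.MiniMcL

universe u v

variable {G : Type u} [Group G]

/-- the orbit of `cl e` -/
def Pt (C : Subgroup G) {M : Type v} [AddCommGroup M] [DistribMulAction C M] (a : M) : Set M :=
  {m | ∃ c : C, m = c • a}

theorem self_mem_Pt (C : Subgroup G) {M : Type v} [AddCommGroup M] [DistribMulAction C M] (a : M) :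
    a ∈ Pt C a := ⟨1, (one_smul C a).symm⟩

/-- input of (5): `M = W / Wc`, `cl : W → M` -/
structure Fv (C J V V1 W Wc : Subgroup G) (z e : G) {M : Type v} [AddCommGroup M]
    [Module (ZMod 2) M] [DistribMulAction C M] (cl : G → M) : Prop where
  JC : J ≤ C
  Jn : ∀ c ∈ C, ∀ x ∈ J, c * x * c⁻¹ ∈ J
  VJ : V ≤ J
  Jgen : ∀ X : Subgroup G, (∀ c ∈ C, ∀ v ∈ V, c * v * c⁻¹ ∈ X) → J ≤ X
  V1V : V1 ≤ V
  V1W : V1 ≤ W
  V1_iff : ∀ x, x ∈ V1 ↔ x = 1 ∨ x = z ∨ x = e ∨ x = e * z
  Wn : ∀ c ∈ C, ∀ w ∈ W, c * w * c⁻¹ ∈ W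
  Wcomm : ∀ a ∈ W, ∀ b ∈ W, a * b = b * a
  Wsq : ∀ a ∈ W, a * a = 1
  Wgen : ∀ X : Subgroup G, (∀ c ∈ C, ∀ v ∈ V1, c * v * c⁻¹ ∈ X) → W ≤ X
  WcW : Wc ≤ W
  WcJ : ∀ w ∈ Wc, ∀ x ∈ J, x * w = w * x
  zWc : z ∈ Wc
  zC : ∀ c ∈ C, c * z = z * c
  comm_mem : ∀ v ∈ V, ∀ w ∈ W, v * w * v⁻¹ * w⁻¹ ∈ V1
  comm_surj : ∀ v ∈ V, v ∉ V1 → ∀ y ∈ V1, ∃ w ∈ W, v * w * v⁻¹ * w⁻¹ = y
  four : ∃ a ∈ V, ∃ b ∈ V, a ∉ V1 ∧ b ∉ V1 ∧ a * b ∉ V1
  cl_mul : ∀ a ∈ W, ∀ b ∈ W, cl (a * b) = cl a + cl b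
  cl_ker : ∀ a ∈ W, (cl a = 0 ↔ a ∈ Wc)
  cl_smul : ∀ c : C, ∀ a ∈ W, c • cl a = cl (c * a * (c : G)⁻¹)
  exists_cl : ∀ m : M, ∃ a ∈ W, cl a = m
  act : ∀ v : C, (v : G) ∈ V → ∃ φ : Du M, ∀ m : M, v • m = m + φ m • cl e
  cfg : Cfg (J.subgroupOf C) (Pt C (cl e))

variable {C J V V1 W Wc : Subgroup G} {z e : G} {M : Type v} [AddCommGroup M]
  [Module (ZMod 2) M] [DistribMulAction C M] {cl : G → M}

namespace Fv

variable (F : Fv C J V V1 W Wc z e cl)
include F

theorem eV1 : e ∈ V1 := (F.V1_iff e).2 (Or.inr (Or.inr (Or.inl rfl)))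

theorem zV1 : z ∈ V1 := (F.V1_iff z).2 (Or.inr (Or.inl rfl))

theorem eW : e ∈ W := F.V1W F.eV1

theorem VC : V ≤ C := F.VJ.trans F.JC

theorem ne : cl e ≠ 0 := F.cfg.ne _ (self_mem_Pt C _)

theorem cl_one : cl 1 = 0 := (F.cl_ker 1 (one_mem _)).2 (one_mem _)

theorem cl_z : cl z = 0 := (F.cl_ker z (F.WcW F.zWc)).2 F.zWc

theorem cl_inv {a : G} (ha : a ∈ W) : cl a⁻¹ = cl a := by
  rw [inv_eq_of_mul_eq_one_left (F.Wsq a ha)]

theorem cl_ez : cl (e * z) = cl e := by
  rw [F.cl_mul e F.eW z (F.WcW F.zWc), F.cl_z, add_zero]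

theorem zsq : z * z = 1 := F.Wsq z (F.WcW F.zWc)

/-- elements of `V1` -/
theorem V1_cases {x : G} (hx : x ∈ V1) : (cl x = 0 ∧ (x = 1 ∨ x = z)) ∨ (cl x = cl e ∧ (x = e ∨ x = e * z)) := by
  rcases (F.V1_iff x).1 hx with h | h | h | h
  · subst h; exact Or.inl ⟨F.cl_one, Or.inl rfl⟩
  · subst h; exact Or.inl ⟨F.cl_z, Or.inr rfl⟩
  · subst h; exact Or.inr ⟨rfl, Or.inl rfl⟩
  · subst h; exact Or.inr ⟨F.cl_ez, Or.inr rfl⟩

theorem V1_zero {x : G} (hx : x ∈ V1) (h : cl x = 0) : x = 1 ∨ x = z := by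
  rcases F.V1_cases hx with h1 | h1
  · exact h1.2
  · rw [h1.1] at h
    exact absurd h F.ne

theorem V1_ne {x : G} (hx : x ∈ V1) (h : cl x ≠ 0) : cl x = cl e ∧ (x = e ∨ x = e * z) := by
  rcases F.V1_cases hx with h1 | h1
  · exact absurd h1.1 h
  · exact h1

/-- the component of `p = cl e` -/
noncomputable def W1 [Finite M] : Submodule (ZMod 2) M := F.cfg.comp (self_mem_Pt C (cl e))

theorem p_mem [Finite M] : cl e ∈ F.W1 := F.cfg.self_mem_comp _

theorem mem_Phi {q : M} {φ : Du M} (h : φ ∈ Phi (J.subgroupOf C) q) :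
    φ q = 0 ∧ ∃ d : C, (d : G) ∈ J ∧ ∀ m : M, d • m = m + φ m • q := by
  obtain ⟨h1, d, h2, h3⟩ := h
  exact ⟨h1, d, h2, h3⟩

/-- the functional of `v ∈ V` -/
theorem exists_phi {v : C} (hv : (v : G) ∈ V) :
    ∃ φ ∈ Phi (J.subgroupOf C) (cl e), ∀ m : M, v • m = m + φ m • cl e := by
  obtain ⟨φ, h1⟩ := F.act v hv
  refine ⟨φ, ⟨?_, v, F.VJ hv, h1⟩, h1⟩
  refine eq_zero_of_ne fun h2 => F.ne ?_
  have h3 := h1 (cl e)
  rw [h2, one_smul, add_self] at h3
  have h4 : v⁻¹ • (v • cl e) = v⁻¹ • (0 : M) := by rw [h3]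
  rwa [inv_smul_smul, smul_zero] at h4

/-- `J` acts on the component -/
theorem J_W1 [Finite M] {x : C} (hx : (x : G) ∈ J) {m : M} (hm : m ∈ F.W1) : x • m ∈ F.W1 := by
  let Y : Subgroup C :=
    { carrier := {c | ∀ m : M, m ∈ F.W1 ↔ c • m ∈ F.W1}
      one_mem' := fun m => by rw [one_smul]
      mul_mem' := fun {a b} ha hb m => by rw [mul_smul, ← ha, ← hb]
      inv_mem' := fun {a} ha m => by rw [ha (a⁻¹ • m), smul_inv_smul] }
  have h1 : J ≤ Y.map C.subtype := by
    refine F.Jgen _ fun c hc v hv => ?_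
    have key : ∀ v : G, v ∈ V → ∀ (h : c * v * c⁻¹ ∈ C) (m : M), m ∈ F.W1 →
        (⟨c * v * c⁻¹, h⟩ : C) • m ∈ F.W1 := by
      intro v hv h m hm
      obtain ⟨φ, h2, h3⟩ := F.exists_phi (v := ⟨v, F.VC hv⟩) hv
      have := F.cfg.nor
      have h4 := Phi_smul (⟨c, hc⟩ : C) h2
      have h5 : (⟨c * v * c⁻¹, h⟩ : C) = ⟨c, hc⟩ * ⟨v, F.VC hv⟩ * (⟨c, hc⟩ : C)⁻¹ := rfl
      have h6 : (⟨c * v * c⁻¹, h⟩ : C) • m = m + dua (⟨c, hc⟩ : C) φ m • ((⟨c, hc⟩ : C) • cl e) := by
        rw [h5, mul_smul, mul_smul, h3, smul_add, smul_inv_smul, smul_zmod, dua_apply]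
      rw [h6]
      exact F.cfg.comp_add _ ⟨_, rfl⟩ h4 hm
    have hC : c * v * c⁻¹ ∈ C := mul_mem (mul_mem hc (F.VC hv)) (inv_mem hc)
    refine ⟨⟨c * v * c⁻¹, hC⟩, fun m => ⟨key v hv hC m, fun h => ?_⟩, rfl⟩
    have hC' : c * v⁻¹ * c⁻¹ ∈ C := mul_mem (mul_mem hc (inv_mem (F.VC hv))) (inv_mem hc)
    have h2 := key v⁻¹ (inv_mem hv) hC' _ h
    rw [← mul_smul] at h2
    have h3 : (⟨c * v⁻¹ * c⁻¹, hC'⟩ : C) * ⟨c * v * c⁻¹, hC⟩ = 1 := by
      apply Subtype.ext
      change c * v⁻¹ * c⁻¹ * (c * v * c⁻¹) = 1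
      group
    rwa [h3, one_smul] at h2
  obtain ⟨y, hy, h2⟩ := h1 hx
  have h3 : y = x := Subtype.ext h2
  subst h3
  exact (hy m).1 hm

omit F in
/-- `M1 = ⟨V1^J⟩` -/
def M1 (J V1 : Subgroup G) : Subgroup G := closure {y | ∃ x ∈ J, ∃ u ∈ V1, y = x * u * x⁻¹}

theorem V1_le : V1 ≤ M1 J V1 := fun u hu => subset_closure ⟨1, one_mem J, u, hu, by group⟩

theorem M1_le : M1 J V1 ≤ W := by
  rw [M1, closure_le]
  rintro y ⟨x, hx, u, hu, rfl⟩
  exact F.Wn x (F.JC hx) u (F.V1W hu)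

omit F in
theorem M1_conj {c : G} (h1 : ∀ x ∈ J, c * x * c⁻¹ ∈ J) (h2 : ∀ u ∈ V1, c * u * c⁻¹ ∈ V1) {m : G}
    (hm : m ∈ M1 J V1) : c * m * c⁻¹ ∈ M1 J V1 := by
  have h : M1 J V1 ≤ (M1 J V1).comap (MulAut.conj c).toMonoidHom := by
    conv_lhs => rw [M1]
    rw [closure_le]
    rintro y ⟨x, hx, u, hu, rfl⟩
    refine subset_closure ⟨c * x * c⁻¹, h1 x hx, c * u * c⁻¹, h2 u hu, ?_⟩
    simp only [MulEquiv.toMonoidHom_eq_coe, MonoidHom.coe_coe, MulAut.conj_apply]
    group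
  exact h hm

omit F in
theorem M1_conj_J {c : G} (hc : c ∈ J) {m : G} (hm : m ∈ M1 J V1) : c * m * c⁻¹ ∈ M1 J V1 := by
  have h : M1 J V1 ≤ (M1 J V1).comap (MulAut.conj c).toMonoidHom := by
    conv_lhs => rw [M1]
    rw [closure_le]
    rintro y ⟨x, hx, u, hu, rfl⟩
    refine subset_closure ⟨c * x, mul_mem hc hx, u, hu, ?_⟩
    simp only [MulEquiv.toMonoidHom_eq_coe, MonoidHom.coe_coe, MulAut.conj_apply]
    group
  exact h hm

theorem cl_M1 [Finite M] {m : G} (hm : m ∈ M1 J V1) : cl m ∈ F.W1 := by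
  have h : ∀ m ∈ M1 J V1, m ∈ W ∧ cl m ∈ F.W1 := by
    intro m hm
    rw [M1] at hm
    induction hm using closure_induction with
    | mem y hy =>
      obtain ⟨x, hx, u, hu, rfl⟩ := hy
      refine ⟨F.Wn x (F.JC hx) u (F.V1W hu), ?_⟩
      rw [← F.cl_smul ⟨x, F.JC hx⟩ u (F.V1W hu)]
      refine F.J_W1 hx ?_
      rcases F.V1_cases hu with h | h
      · rw [h.1]; exact zero_mem _
      · rw [h.1]; exact F.p_mem
    | one => exact ⟨one_mem _, by rw [F.cl_one]; exact zero_mem _⟩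
    | mul a b ha hb h1 h2 => exact ⟨mul_mem h1.1 h2.1, by rw [F.cl_mul a h1.1 b h2.1]; exact add_mem h1.2 h2.2⟩
    | inv a ha h1 => exact ⟨inv_mem h1.1, by rw [F.cl_inv h1.1]; exact h1.2⟩
  exact (h m hm).2

/-- `J` is transitive on the component -/
theorem exists_J [Finite M] {q : M} (hq : q ∈ F.W1) (h0 : q ≠ 0) : ∃ x : C, (x : G) ∈ J ∧ x • cl e = q := by
  by_cases hqp : q = cl e
  · exact ⟨1, one_mem _, by rw [one_smul, hqp]⟩
  have hp := self_mem_Pt C (cl e)
  have h1 : cl e + q ∈ F.W1 := add_mem F.p_mem hq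
  have h2 : cl e + q ≠ 0 := fun h => hqp (eq_of_add h).symm
  have h3 : cl e + q ≠ cl e := fun h => h0 (left_eq_add.mp h.symm)
  have h4 := F.cfg.comp_pts hp h1 h2
  obtain ⟨φ, h5, h6⟩ := F.cfg.Phi_sep hp h1 h2 h3
  obtain ⟨ψ, h7, h8⟩ := F.cfg.adj_symm hp h4 ⟨φ, h5, h6⟩
  obtain ⟨-, d, h9, h10⟩ := F.mem_Phi h7
  refine ⟨d, h9, ?_⟩
  rw [h10, h8, one_smul, ← add_assoc, add_self, zero_add]

theorem exists_M1 [Finite M] {q : M} (hq : q ∈ F.W1) : ∃ m ∈ M1 J V1, cl m = q := by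
  by_cases h0 : q = 0
  · exact ⟨1, one_mem _, by rw [h0, F.cl_one]⟩
  obtain ⟨x, hx, h1⟩ := F.exists_J hq h0
  refine ⟨x * e * (x : G)⁻¹, subset_closure ⟨x, hx, e, F.eV1, rfl⟩, ?_⟩
  rw [← F.cl_smul x e F.eW, h1]

/-- the elements of `J` that act trivially on the component -/
def KW [Finite M] : Subgroup C where
  carrier := {x | (x : G) ∈ J ∧ ∀ m ∈ F.W1, x • m = m}
  one_mem' := ⟨one_mem _, fun m _ => one_smul _ m⟩
  mul_mem' := fun {a b} ha hb => ⟨mul_mem ha.1 hb.1, fun m hm => by rw [mul_smul, hb.2 m hm, ha.2 m hm]⟩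
  inv_mem' := fun {a} ha => ⟨inv_mem ha.1, fun m hm => by
    conv_lhs => rw [← ha.2 m hm]
    rw [inv_smul_smul]⟩

theorem KW_conj [Finite M] {x c : C} (hx : (x : G) ∈ J) (hc : c ∈ F.KW) : x * c * x⁻¹ ∈ F.KW := by
  refine ⟨mul_mem (mul_mem hx hc.1) (inv_mem hx), fun m hm => ?_⟩
  rw [mul_smul, mul_smul, hc.2 _ (F.J_W1 (x := x⁻¹) (inv_mem hx) hm), smul_inv_smul]

omit F in
/-- `c m c⁻¹ m⁻¹` -/
def fc (c : C) (m : G) : G := c * m * (c : G)⁻¹ * m⁻¹

theorem fc_mem [Finite M] {c : C} (hc : c ∈ F.KW) {m : G} (hm : m ∈ M1 J V1) : fc c m ∈ Wc := by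
  have h1 := F.M1_le hm
  have h2 := F.Wn c c.2 m h1
  have h3 : fc c m ∈ W := mul_mem h2 (inv_mem h1)
  rw [← F.cl_ker _ h3, fc, F.cl_mul _ h2 _ (inv_mem h1), F.cl_inv h1, ← F.cl_smul c m h1,
    hc.2 _ (F.cl_M1 hm), add_self]

/-- `f_c` is a homomorphism -/
theorem fc_mul [Finite M] {c : C} (hc : c ∈ F.KW) {m m' : G} (hm : m ∈ M1 J V1) (hm' : m' ∈ M1 J V1) :
    fc c (m * m') = fc c m * fc c m' := by
  have h1 := F.WcW (F.fc_mem hc hm')
  have h2 := F.Wcomm _ (F.M1_le hm) _ h1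
  have e : fc c (m * m') = (c * m * (c : G)⁻¹) * (fc c m' * m⁻¹) := by
    rw [fc, fc]; group
  have h3 := F.Wcomm _ (inv_mem (F.M1_le hm)) _ h1
  rw [e, ← h3, ← mul_assoc]
  rfl

/-- `f_c` vanishes on `Wc` -/
theorem fc_Wc {c : C} (hc : (c : G) ∈ J) {m : G} (hm : m ∈ Wc) : fc c m = 1 := by
  rw [fc, F.WcJ m hm c hc]
  group

theorem fc_eq_of_cl [Finite M] {c : C} (hc : c ∈ F.KW) {m m' : G} (hm : m ∈ M1 J V1) (hm' : m' ∈ M1 J V1)
    (h : cl m = cl m') : fc c m = fc c m' := by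
  have h1 : m * m' ∈ Wc := by
    rw [← F.cl_ker _ (mul_mem (F.M1_le hm) (F.M1_le hm')), F.cl_mul _ (F.M1_le hm) _ (F.M1_le hm'), h,
      add_self]
  have h2 := F.fc_mul hc hm hm'
  rw [F.fc_Wc hc.1 h1] at h2
  have h3 := F.Wsq _ (F.WcW (F.fc_mem hc hm'))
  have h4 : fc c m * fc c m' = fc c m' * fc c m' := by rw [← h2, h3]
  exact mul_right_cancel h4

/-- `f_{cc'} = f_c f_{c'}` -/
theorem fc_mul_left [Finite M] {c c' : C} (hc : c ∈ F.KW) (hc' : c' ∈ F.KW) {m : G} (hm : m ∈ M1 J V1) :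
    fc (c * c') m = fc c m * fc c' m := by
  have h1 := F.fc_mem hc' hm
  have h2 := F.WcJ _ h1 _ hc.1
  have h3 : fc (c * c') m = (c * fc c' m) * m * (c : G)⁻¹ * m⁻¹ := by
    rw [fc, fc, Subgroup.coe_mul]; group
  have h4 := F.Wcomm _ (F.WcW h1) _ (F.WcW (F.fc_mem hc hm))
  rw [h3, h2, ← h4]
  rw [fc, fc]; group

/-- conjugation by `x ∈ J` -/
theorem fc_conj [Finite M] {x c : C} (hx : (x : G) ∈ J) (hc : c ∈ F.KW) {m : G} (hm : m ∈ M1 J V1) :
    fc (x * c * x⁻¹) m = fc c ((x : G)⁻¹ * m * x) := by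
  have h0 : (x : G)⁻¹ * m * x ∈ M1 J V1 := by
    have := M1_conj_J (V1 := V1) (inv_mem hx) hm
    rwa [inv_inv] at this
  have h1 := F.WcJ _ (F.fc_mem hc h0) _ hx
  have h2 : fc (x * c * x⁻¹) m = (x * fc c ((x : G)⁻¹ * m * x)) * (x : G)⁻¹ := by
    rw [fc, fc, Subgroup.coe_mul, Subgroup.coe_mul, Subgroup.coe_inv]; group
  rw [h2, h1, mul_inv_cancel_right]

end Fv

end Cfsg.Agent.Omega.NO1.NatFive

end

section


/-!
# Theorem NAT of NO-1', step (5), part B

The group `WP` of the `w ∈ Wc` such that `J ∩ C(W1)` realises all rank one maps `m ↦ φ(m) w`; it contains all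
values `c m c⁻¹ m⁻¹`, `c ∈ J ∩ C(W1)`, `m ∈ M1`.
-/

set_option autoImplicit false
set_option linter.unusedSectionVars false

namespace Cfsg.Agent.Omega.NO1.NatFive

open Subgroup Cfsg.Agent.Omega.Transv Cfsg.Agent.Omega.NO1.MiniMcL

universe u v

variable {G : Type u} [Group G]

/-- `w ^ a` -/
def pw (a : ZMod 2) (w : G) : G := if a = 0 then 1 else w

theorem pw_zero (w : G) : pw 0 w = 1 := if_pos rfl

theorem pw_one (w : G) : pw 1 w = w := if_neg one_ne

variable {C J V V1 W Wc : Subgroup G} {z e : G} {M : Type v} [AddCommGroup M]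
  [Module (ZMod 2) M] [DistribMulAction C M] {cl : G → M}

namespace Fv

/-- `c` induces `m ↦ φ(m) w` -/
def Rl (J V1 : Subgroup G) (cl : G → M) (c : C) (φ : Du M) (w : G) : Prop :=
  ∀ m ∈ M1 J V1, fc c m = pw (φ (cl m)) w

variable (F : Fv C J V V1 W Wc z e cl) [Finite M]
include F

theorem Rl_mul {c c' : C} (hc : c ∈ F.KW) (hc' : c' ∈ F.KW) {φ : Du M} {w w' : G}
    (h : Rl J V1 cl c φ w) (h' : Rl J V1 cl c' φ w') : Rl J V1 cl (c * c') φ (w * w') := by
  intro m hm
  rw [F.fc_mul_left hc hc' hm, h m hm, h' m hm]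
  rcases zmod_cases (φ (cl m)) with h1 | h1
  · rw [h1, pw_zero, pw_zero, pw_zero, one_mul]
  · rw [h1, pw_one, pw_one, pw_one]

/-- conjugation with a transvection -/
theorem Rl_conj {x c : C} (hx : (x : G) ∈ J) (hc : c ∈ F.KW) {φ χ : Du M} {r : M}
    (hχ : χ r = 0) (hxr : ∀ m : M, x • m = m + χ m • r) {w : G} (h : Rl J V1 cl c φ w) :
    Rl J V1 cl (x * c * x⁻¹) (φ + φ r • χ) w := by
  intro m hm
  have h0 : (x : G)⁻¹ * m * x ∈ M1 J V1 := by
    have := M1_conj_J (V1 := V1) (inv_mem hx) hm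
    rwa [inv_inv] at this
  rw [F.fc_conj hx hc hm, h _ h0]
  congr 1
  have h1 : cl ((x : G)⁻¹ * m * x) = x⁻¹ • cl m := by
    rw [F.cl_smul x⁻¹ m (F.M1_le hm), Subgroup.coe_inv, inv_inv]
  rw [h1, ← dua_apply, dua_of_act hχ hxr]

/-- `WP` -/
def WP : Subgroup G where
  carrier := {w | w ∈ Wc ∧ ∀ q ∈ F.W1, q ≠ 0 → ∀ φ ∈ Phi (J.subgroupOf C) q, ∃ c ∈ F.KW, Rl J V1 cl c φ w}
  one_mem' := by
    refine ⟨one_mem _, fun q _ _ φ _ => ⟨1, one_mem _, fun m hm => ?_⟩⟩
    rcases zmod_cases (φ (cl m)) with h1 | h1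
    · rw [h1, pw_zero, fc, OneMemClass.coe_one]; group
    · rw [h1, pw_one, fc, OneMemClass.coe_one]; group
  mul_mem' := by
    rintro w w' ⟨hw, h⟩ ⟨hw', h'⟩
    refine ⟨mul_mem hw hw', fun q hq h0 φ hφ => ?_⟩
    obtain ⟨c, hc, h1⟩ := h q hq h0 φ hφ
    obtain ⟨c', hc', h1'⟩ := h' q hq h0 φ hφ
    exact ⟨c * c', mul_mem hc hc', F.Rl_mul hc hc' h1 h1'⟩
  inv_mem' := by
    rintro w ⟨hw, h⟩
    rw [inv_eq_of_mul_eq_one_left (F.Wsq w (F.WcW hw))]
    exact ⟨hw, h⟩

theorem mem_WP {w : G} : w ∈ F.WP ↔ w ∈ Wc ∧ ∀ q ∈ F.W1, q ≠ 0 → ∀ φ ∈ Phi (J.subgroupOf C) q,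
    ∃ c ∈ F.KW, Rl J V1 cl c φ w := Iff.rfl

/-- a nonzero functional of `Phi q` is nonzero on the component of `q` -/
theorem Phi_nz {q : M} (hq : q ∈ F.W1) (h0 : q ≠ 0) {φ : Du M} (hφ : φ ∈ Phi (J.subgroupOf C) q)
    (h1 : φ ≠ 0) : ∃ m ∈ F.W1, φ m = 1 := by
  by_contra hcon
  push Not at hcon
  have hp := self_mem_Pt C (cl e)
  have h2 := F.cfg.comp_pts hp hq h0
  refine h1 (F.cfg.Phi_ext h2 hφ (zero_mem _) fun v hv => ?_)
  rw [F.cfg.comp_eq hp h2 hq] at hv
  rw [eq_zero_of_ne (hcon v hv)]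
  rfl

/-- all functionals of `W1` that vanish at `q` come from `Phi q` -/
theorem Phi_full {q : M} (hq : q ∈ F.W1) (h0 : q ≠ 0) {χ : Du M} (hχ : χ q = 0) :
    ∃ φ ∈ Phi (J.subgroupOf C) q, ∀ m ∈ F.W1, φ m = χ m := by
  have hp := self_mem_Pt C (cl e)
  have h2 := F.cfg.comp_pts hp hq h0
  obtain ⟨φ, h3, h4⟩ := F.cfg.Phi_full h2 (χ.comp (F.cfg.comp h2).subtype) hχ
  refine ⟨φ, h3, fun m hm => ?_⟩
  have h5 : m ∈ F.cfg.comp h2 := by
    rw [F.cfg.comp_eq hp h2 hq]
    exact hm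
  exact h4 ⟨m, h5⟩

/-- there is a nonzero functional in `Phi q` -/
theorem exists_Phi {q : M} (hq : q ∈ F.W1) (h0 : q ≠ 0) : ∃ φ ∈ Phi (J.subgroupOf C) q, φ ≠ 0 := by
  obtain ⟨φ, h1, -, -, h2, -, -⟩ := F.cfg.two q (F.cfg.comp_pts (self_mem_Pt C (cl e)) hq h0)
  exact ⟨φ, h1, h2⟩

/-- **all values are in `WP`** -/
theorem fc_mem_WP {c : C} (hc : c ∈ F.KW) {m : G} (hm : m ∈ M1 J V1) : fc c m ∈ F.WP := by
  have hw := F.fc_mem hc hm
  have hww := F.Wsq _ (F.WcW hw)
  by_cases hq0 : cl m = 0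
  · rw [F.fc_Wc hc.1 ((F.cl_ker m (F.M1_le hm)).1 hq0)]
    exact one_mem _
  have hq := F.cl_M1 hm
  refine ⟨hw, ?_⟩
  -- functionals of `Phi (cl m)`
  have step1 : ∀ φ ∈ Phi (J.subgroupOf C) (cl m), ∃ c' ∈ F.KW, Rl J V1 cl c' φ (fc c m) := by
    intro φ hφ
    obtain ⟨h1, x, hx, hxq⟩ := F.mem_Phi hφ
    refine ⟨x * c * x⁻¹ * c, mul_mem (F.KW_conj hx hc) hc, fun m' hm' => ?_⟩
    rw [F.fc_mul_left (F.KW_conj hx hc) hc hm', F.fc_conj hx hc hm']
    have h0 : (x : G)⁻¹ * m' * x ∈ M1 J V1 := by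
      have := M1_conj_J (V1 := V1) (inv_mem hx) hm'
      rwa [inv_inv] at this
    have h2 : cl ((x : G)⁻¹ * m' * x) = cl m' + φ (cl m') • cl m := by
      have h3 : cl ((x : G)⁻¹ * m' * x) = x⁻¹ • cl m' := by
        rw [F.cl_smul x⁻¹ m' (F.M1_le hm'), Subgroup.coe_inv, inv_inv]
      rw [h3, inv_smul_eq_iff, hxq, map_add, map_smul, h1, smul_zero, add_zero, add_add_self]
    have h4 := F.Wsq _ (F.WcW (F.fc_mem hc hm'))
    rcases zmod_cases (φ (cl m')) with h5 | h5
    · rw [h5, zero_smul, add_zero] at h2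
      rw [F.fc_eq_of_cl hc h0 hm' h2, h4, h5, pw_zero]
    · rw [h5, one_smul, ← F.cl_mul _ (F.M1_le hm') _ (F.M1_le hm)] at h2
      rw [F.fc_eq_of_cl hc h0 (mul_mem hm' hm) h2, F.fc_mul hc hm' hm, h5, pw_one,
        F.Wcomm _ (F.WcW (F.fc_mem hc hm')) _ (F.WcW hw), mul_assoc, h4, mul_one]
  intro q hqm hq1 ψ hψ
  by_cases hψ0 : ψ = 0
  · refine ⟨1, one_mem _, fun m' hm' => ?_⟩
    rw [hψ0, LinearMap.zero_apply, pw_zero, fc, OneMemClass.coe_one]
    group
  obtain ⟨φ, hφ, hφ0⟩ := F.exists_Phi hq hq0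
  obtain ⟨c', hc', h1⟩ := step1 φ hφ
  obtain ⟨r, hr, hr1, hr2⟩ := exists_one_one (F.Phi_nz hq hq0 hφ hφ0) (F.Phi_nz hqm hq1 hψ hψ0)
  have hr0 : r ≠ 0 := fun h => by rw [h, map_zero] at hr1; exact one_ne hr1.symm
  obtain ⟨χ, h2, h3⟩ := F.Phi_full hr hr0 (χ := φ + ψ) (by rw [LinearMap.add_apply, hr1, hr2, one_add_one])
  obtain ⟨h4, x, hx, hxr⟩ := F.mem_Phi h2
  refine ⟨x * c' * x⁻¹, F.KW_conj hx hc', fun m' hm' => ?_⟩
  rw [F.Rl_conj hx hc' h4 hxr h1 m' hm', LinearMap.add_apply, LinearMap.smul_apply, hr1, one_smul,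
    h3 _ (F.cl_M1 hm'), LinearMap.add_apply, ← add_assoc, add_self, zero_add]

/-- a functional of `Phi q`, `q ∈ W1`, that takes the value `1` at `p` -/
theorem exists_at_p : ∃ q ∈ F.W1, q ≠ 0 ∧ ∃ φ ∈ Phi (J.subgroupOf C) q, φ (cl e) = 1 := by
  have hp := self_mem_Pt C (cl e)
  obtain ⟨r, hr, hpr, -⟩ := F.cfg.exists_second (q := cl e) hp
  have h0 := F.cfg.ne r hr
  have h1 := F.cfg.adj_symm hp hr hpr
  obtain ⟨φ, h2, h3⟩ := h1
  exact ⟨r, Or.inr (Or.inr ⟨hr, hpr⟩), h0, φ, h2, h3⟩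

/-- elements of `V - V1` have nonzero functionals -/
theorem phi_ne {v : C} (hv : (v : G) ∈ V) (hv1 : (v : G) ∉ V1) {φ : Du M}
    (h : ∀ m : M, v • m = m + φ m • cl e) : φ ≠ 0 := by
  rintro rfl
  obtain ⟨w, hw, h1⟩ := F.comm_surj v hv hv1 e F.eV1
  have h2 := h (cl w)
  rw [LinearMap.zero_apply, zero_smul, add_zero, F.cl_smul v w hw] at h2
  have h3 : cl e = 0 := by
    have h4 := F.Wn v v.2 w hw
    rw [← h1, F.cl_mul _ h4 _ (inv_mem hw), F.cl_inv hw, h2, add_self]
  exact F.ne h3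

/-- `v ∈ V - V1` whose functional vanishes at `q` -/
theorem exists_v (q : M) : ∃ v : C, (v : G) ∈ V ∧ (v : G) ∉ V1 ∧ ∃ φ ∈ Phi (J.subgroupOf C) (cl e),
    (∀ m : M, v • m = m + φ m • cl e) ∧ φ q = 0 ∧ φ ≠ 0 := by
  obtain ⟨a, ha, b, hb, ha1, hb1, hab1⟩ := F.four
  obtain ⟨φ, h1, h2⟩ := F.exists_phi (v := ⟨a, F.VC ha⟩) ha
  obtain ⟨ψ, h3, h4⟩ := F.exists_phi (v := ⟨b, F.VC hb⟩) hb
  have h1' := F.phi_ne (v := ⟨a, F.VC ha⟩) ha ha1 h2
  have h3' := F.phi_ne (v := ⟨b, F.VC hb⟩) hb hb1 h4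
  rcases zmod_cases (φ q) with h5 | h5
  · exact ⟨⟨a, F.VC ha⟩, ha, ha1, φ, h1, h2, h5, h1'⟩
  rcases zmod_cases (ψ q) with h6 | h6
  · exact ⟨⟨b, F.VC hb⟩, hb, hb1, ψ, h3, h4, h6, h3'⟩
  have h7 : ∀ m : M, (⟨a * b, F.VC (mul_mem ha hb)⟩ : C) • m = m + (φ + ψ) m • cl e := by
    intro m
    have h8 : (⟨a * b, F.VC (mul_mem ha hb)⟩ : C) = ⟨a, F.VC ha⟩ * ⟨b, F.VC hb⟩ := rfl
    rw [h8, mul_smul, h4, h2, map_add, map_smul, h1.1, smul_zero, add_zero, LinearMap.add_apply, add_smul]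
    abel
  exact ⟨⟨a * b, F.VC (mul_mem ha hb)⟩, mul_mem ha hb, hab1, φ + ψ, add_mem h1 h3, h7,
    by rw [LinearMap.add_apply, h5, h6, one_add_one],
    F.phi_ne (v := ⟨a * b, F.VC (mul_mem ha hb)⟩) (mul_mem ha hb) hab1 h7⟩

/-- **the common computation**: `x ∈ J` acts as the transvection `(q, ψ)`, `ψ p = 0`.  There are `u ∈ V1` and `u' ∈ V1^x`
with `cl u = cl u' = p` and `u' = f_c(u) u f_c(m)` -/
theorem common {x : C} (hx : (x : G) ∈ J) {q : M} {ψ : Du M} (hψ : ψ ∈ Phi (J.subgroupOf C) q) (hψp : ψ (cl e) = 0) (hxq : ∀ m : M, x • m = m + ψ m • q) :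
    ∃ u ∈ V1, ∃ u' ∈ V1, ∃ c ∈ F.KW, ∃ m ∈ M1 J V1, cl u = cl e ∧ cl u' = cl e ∧
      (x : G) * u' * (x : G)⁻¹ = fc c u * u * fc c m := by
  obtain ⟨v, hv, hv1, φ, hφ, hvp, hφq, hφ0⟩ := F.exists_v q
  have hp := self_mem_Pt C (cl e)
  -- `v' = x v x⁻¹` acts in the same way
  have hxp : x • cl e = cl e := by rw [hxq, hψp, zero_smul, add_zero]
  have h1 : ∀ m : M, (x * v * x⁻¹) • m = m + φ m • cl e := by
    intro m
    rw [mul_smul, mul_smul, hvp, smul_add, smul_inv_smul, smul_zmod, hxp, ← dua_apply,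
      dua_of_act hψ.1 hxq, hφq, zero_smul, add_zero]
  -- `c = v' v⁻¹`
  have hc : x * v * x⁻¹ * v⁻¹ ∈ F.KW := by
    refine ⟨mul_mem (mul_mem (mul_mem hx (F.VJ hv)) (inv_mem hx)) (inv_mem (F.VJ hv)), fun m _ => ?_⟩
    rw [mul_smul, h1, ← hvp, smul_inv_smul]
  obtain ⟨t, ht, ht1⟩ := F.Phi_nz F.p_mem F.ne hφ hφ0
  obtain ⟨m, hm, rfl⟩ := F.exists_M1 ht
  have hmW := F.M1_le hm
  -- `u`
  have hu := F.comm_mem v hv m hmW
  have hclu : cl ((v : G) * m * (v : G)⁻¹ * m⁻¹) = cl e := by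
    rw [F.cl_mul _ (F.Wn v v.2 m hmW) _ (inv_mem hmW), F.cl_inv hmW, ← F.cl_smul v m hmW, hvp, ht1, one_smul,
      add_comm (cl m), add_add_self]
  -- `u'`
  have hm' : (x : G)⁻¹ * m * x ∈ W := by
    have := F.Wn (x : G)⁻¹ (inv_mem x.2) m hmW
    rwa [inv_inv] at this
  have hu' := F.comm_mem v hv _ hm'
  have h2 : (x : G) * (v * ((x : G)⁻¹ * m * x) * (v : G)⁻¹ * ((x : G)⁻¹ * m * x)⁻¹) * (x : G)⁻¹ =
      fc (x * v * x⁻¹ * v⁻¹) ((v : G) * m * (v : G)⁻¹ * m⁻¹) * ((v : G) * m * (v : G)⁻¹ * m⁻¹) *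
        fc (x * v * x⁻¹ * v⁻¹) m := by
    rw [fc, fc]
    simp only [Subgroup.coe_mul, Subgroup.coe_inv]
    group
  have hclu' : cl ((v : G) * ((x : G)⁻¹ * m * x) * (v : G)⁻¹ * ((x : G)⁻¹ * m * x)⁻¹) = cl e := by
    rw [F.cl_mul _ (F.Wn v v.2 _ hm') _ (inv_mem hm'), F.cl_inv hm', ← F.cl_smul v _ hm', hvp]
    have h3 : cl ((x : G)⁻¹ * m * x) = x⁻¹ • cl m := by
      rw [F.cl_smul x⁻¹ m hmW, Subgroup.coe_inv, inv_inv]
    have h4 : φ (cl ((x : G)⁻¹ * m * x)) = 1 := by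
      rw [h3, ← dua_apply, dua_of_act hψ.1 hxq, hφq, zero_smul, add_zero, ht1]
    rw [h4, one_smul, add_comm (cl ((x : G)⁻¹ * m * x)), add_add_self]
  exact ⟨_, hu, _, hu', _, hc, m, hm, hclu, hclu', h2⟩

end Fv

end Cfsg.Agent.Omega.NO1.NatFive

end

end

-- merged: Cfsg.Agent.Mrg.Omega.NO1.NatFiveC
section

section


/-!
# Theorem NAT of NO-1', step (5), part C

* `Fv.lift_A` (`κ ≠ 0`): the transvections `(q, ψ)`, `ψ p = 0`, of `W1` are induced by `J ∩ C(V1)`.
* `Fv.parity`: this is impossible, because `S ∩ C(V1)` centralises a 2-space of functionals.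
-/

set_option autoImplicit false
set_option linter.unusedSectionVars false

namespace Cfsg.Agent.Omega.NO1.NatFive

open Subgroup Cfsg.Agent.Omega.Transv Cfsg.Agent.Omega.NO1.MiniMcL

universe u v

variable {G : Type u} [Group G]

variable {C J V V1 W Wc : Subgroup G} {z e : G} {M : Type v} [AddCommGroup M]
  [Module (ZMod 2) M] [DistribMulAction C M] {cl : G → M}

/-- the action of the Sylow group -/
structure Sy (S C J V V1 W : Subgroup G) (z e : G) : Prop where
  SC : S ≤ C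
  SV : ∀ s ∈ S, ∀ v ∈ V, s * v * s⁻¹ ∈ V
  SV1 : ∀ s ∈ S, ∀ v ∈ V1, s * v * s⁻¹ ∈ V1
  SHV : ∀ s ∈ S, s * e = e * s → ∀ v ∈ V, s * v * s⁻¹ * v⁻¹ ∈ V1
  two : IsPGroup 2 S
  Sz : ∀ w ∈ W, w ≠ 1 → (∀ s ∈ S, s * w = w * s) → w = z
  odd : ¬ 2 ∣ (S ⊓ (centralizer (V1 : Set G) ⊓ J)).relIndex (centralizer (V1 : Set G) ⊓ J)

namespace Fv

section A

variable (F : Fv C J V V1 W Wc z e cl) [Finite M]
include F

theorem mem_cent {x : C} : (x : G) ∈ centralizer (V1 : Set G) ↔ (x : G) * e = e * x := by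
  rw [mem_centralizer_iff]
  constructor
  · intro h
    exact (h e F.eV1).symm
  · intro h y hy
    have hz := F.zC x x.2
    rcases (F.V1_iff y).1 hy with h1 | h1 | h1 | h1
    · subst h1; rw [one_mul, mul_one]
    · subst h1; exact hz.symm
    · subst h1; exact h.symm
    · subst h1
      rw [mul_assoc, ← hz, ← mul_assoc, ← h, mul_assoc]

/-- **case `κ ≠ 0`** -/
theorem lift_A (hz : z ∈ F.WP) {x : C} (hx : (x : G) ∈ J) {q : M} (hq : q ∈ F.W1)
    {ψ : Du M} (hψ : ψ ∈ Phi (J.subgroupOf C) q) (hψp : ψ (cl e) = 0) (hxq : ∀ m : M, x • m = m + ψ m • q) :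
    ∃ x' : C, (x' : G) ∈ centralizer (V1 : Set G) ∧ (x' : G) ∈ J ∧ ∀ m ∈ F.W1, x' • m = m + ψ m • q := by
  obtain ⟨u, hu, u', hu', c, hc, m, hm, hclu, hclu', h1⟩ := F.common hx hψ hψp hxq
  have key : ∀ y ∈ V1, cl y = cl e → ∃ a ∈ F.WP, a ∈ zpowers z ∧ y = e * a := by
    intro y hy h
    rcases (F.V1_ne hy (h ▸ F.ne)).2 with h2 | h2
    · exact ⟨1, one_mem _, one_mem _, by rw [h2, mul_one]⟩
    · exact ⟨z, hz, mem_zpowers z, h2⟩
  obtain ⟨a, ha, -, hua⟩ := key u hu hclu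
  obtain ⟨b, hb, hbz, hub⟩ := key u' hu' hclu'
  have hf1 := F.fc_mem_WP hc (F.V1_le hu)
  have hf2 := F.fc_mem_WP hc hm
  have hWP : ∀ w ∈ F.WP, w ∈ Wc := fun w hw => hw.1
  have hxb : (x : G) * b * (x : G)⁻¹ = b := by
    have hzx := F.zC x x.2
    have h2 : Commute (x : G) z := hzx
    obtain ⟨n, rfl⟩ := mem_zpowers_iff.1 hbz
    rw [(h2.zpow_right n).eq, mul_inv_cancel_right]
  -- `x e x⁻¹ = e w`
  have h2 : (x : G) * e * (x : G)⁻¹ = e * (fc c u * a * fc c m * b) := by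
    have hbb := F.Wsq b (F.WcW (hWP b hb))
    have h3 : (x : G) * e * (x : G)⁻¹ = ((x : G) * u' * (x : G)⁻¹) * ((x : G) * b * (x : G)⁻¹) := by
      rw [hub]
      have : (x : G) * (e * b) * (x : G)⁻¹ * ((x : G) * b * (x : G)⁻¹) = (x : G) * e * (b * b) * (x : G)⁻¹ := by
        group
      rw [this, hbb, mul_one]
    have h4 := F.Wcomm _ (F.WcW (F.fc_mem hc (F.V1_le hu))) e F.eW
    rw [h3, h1, hxb]
    generalize fc c u = f1 at h4 ⊢
    rw [hua, ← mul_assoc f1 e a, h4]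
    group
  set w := fc c u * a * fc c m * b with hw
  have hwP : w ∈ F.WP := mul_mem (mul_mem (mul_mem hf1 ha) hf2) hb
  obtain ⟨q', hq', hq'0, φ, hφ, hφp⟩ := F.exists_at_p
  obtain ⟨c1, hc1, hR⟩ := (F.mem_WP.1 hwP).2 q' hq' hq'0 φ hφ
  have h3 := hR e (F.V1_le F.eV1)
  rw [hφp, pw_one, fc] at h3
  have hce : (c1 : G) * e * (c1 : G)⁻¹ = e * w := by
    rw [← F.Wcomm w (F.WcW (hWP w hwP)) e F.eW, ← h3]; group
  refine ⟨c1⁻¹ * x, ?_, mul_mem (inv_mem hc1.1) hx, fun m hm => ?_⟩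
  · rw [F.mem_cent, Subgroup.coe_mul, Subgroup.coe_inv]
    have h4 : ((c1 : G)⁻¹ * x) * e * ((c1 : G)⁻¹ * x)⁻¹ = e := by
      have h5 : ((c1 : G)⁻¹ * x) * e * ((c1 : G)⁻¹ * x)⁻¹ = (c1 : G)⁻¹ * ((x : G) * e * (x : G)⁻¹) * c1 := by
        group
      rw [h5, h2, ← hce]; group
    exact mul_inv_eq_iff_eq_mul.1 h4
  · rw [mul_smul, hxq]
    have h5 : m + ψ m • q ∈ F.W1 := add_mem hm (Submodule.smul_mem _ _ hq)
    exact (inv_mem hc1 : c1⁻¹ ∈ F.KW).2 _ h5

end A

section S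

variable (F : Fv C J V V1 W Wc z e cl) [Finite M] {S : Subgroup G} (Y : Sy S C J V V1 W z e)
include F Y

/-- `S` fixes `p` -/
theorem S_p {s : C} (hs : (s : G) ∈ S) : s • cl e = cl e := by
  have h1 := Y.SV1 s hs e F.eV1
  have h2 := F.cl_smul s e F.eW
  rw [h2]
  refine (F.V1_ne h1 ?_).1
  rw [← h2]
  intro h
  have h3 : s⁻¹ • (s • cl e) = s⁻¹ • (0 : M) := by rw [h]
  rw [inv_smul_smul, smul_zero] at h3
  exact F.ne h3

theorem S_W1 {s : C} (hs : (s : G) ∈ S) {m : M} (hm : m ∈ F.W1) : s • m ∈ F.W1 :=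
  F.cfg.comp_smul_self _ (F.S_p Y hs) hm

theorem S_M1 {s : C} (hs : (s : G) ∈ S) {m : G} (hm : m ∈ M1 J V1) : (s : G) * m * (s : G)⁻¹ ∈ M1 J V1 :=
  M1_conj (fun x hx => F.Jn s s.2 x hx) (fun u hu => Y.SV1 s hs u hu) hm

theorem S_KW {s c : C} (hs : (s : G) ∈ S) (hc : c ∈ F.KW) : s * c * s⁻¹ ∈ F.KW := by
  refine ⟨F.Jn s s.2 c hc.1, fun m hm => ?_⟩
  rw [mul_smul, mul_smul, hc.2 _ (F.S_W1 Y (s := s⁻¹) (inv_mem hs) hm), smul_inv_smul]

/-- `S` normalises `WP` -/
theorem S_WP {s : C} (hs : (s : G) ∈ S) {w : G} (hw : w ∈ F.WP) : (s : G) * w * (s : G)⁻¹ ∈ F.WP := by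
  have hwc := hw.1
  have hWc : (s : G) * w * (s : G)⁻¹ ∈ Wc := by
    rw [← F.cl_ker _ (F.Wn s s.2 w (F.WcW hwc)), ← F.cl_smul s w (F.WcW hwc),
      (F.cl_ker w (F.WcW hwc)).2 hwc, smul_zero]
  have := F.cfg.nor
  refine ⟨hWc, fun q hq hq0 φ hφ => ?_⟩
  have h1 := Phi_smul s⁻¹ hφ
  have hq' : s⁻¹ • q ≠ 0 := fun h => hq0 (by
    have h3 : s • (s⁻¹ • q) = s • (0 : M) := by rw [h]
    rwa [smul_inv_smul, smul_zero] at h3)
  obtain ⟨c, hc, h2⟩ := hw.2 _ (F.S_W1 Y (s := s⁻¹) (inv_mem hs) hq) hq' _ h1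
  refine ⟨s * c * s⁻¹, F.S_KW Y hs hc, fun m hm => ?_⟩
  have hm' : (s : G)⁻¹ * m * s ∈ M1 J V1 := by
    have := F.S_M1 Y (s := s⁻¹) (inv_mem hs) hm
    rwa [Subgroup.coe_inv, inv_inv] at this
  have h3 := h2 _ hm'
  have h4 : cl ((s : G)⁻¹ * m * s) = s⁻¹ • cl m := by
    rw [F.cl_smul s⁻¹ m (F.M1_le hm), Subgroup.coe_inv, inv_inv]
  rw [h4, dua_apply, inv_inv, smul_inv_smul] at h3
  have h5 : fc (s * c * s⁻¹) m = (s : G) * fc c ((s : G)⁻¹ * m * s) * (s : G)⁻¹ := by
    rw [fc, fc]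
    simp only [Subgroup.coe_mul, Subgroup.coe_inv]
    group
  rw [h5, h3]
  rcases zmod_cases (φ (cl m)) with h6 | h6
  · rw [h6, pw_zero, pw_zero, mul_one, mul_inv_cancel]
  · rw [h6, pw_one, pw_one]

/-- `κ ≠ 0` ⟹ `z ∈ WP` -/
theorem z_mem_WP [Finite G] (h : ∃ c ∈ F.KW, ∃ m ∈ M1 J V1, fc c m ≠ 1) : z ∈ F.WP := by
  obtain ⟨c, hc, m, hm, h1⟩ := h
  have : Fact (Nat.Prime 2) := ⟨Nat.prime_two⟩
  have hWP : IsPGroup 2 F.WP := by
    intro w
    refine ⟨1, Subtype.ext ?_⟩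
    have h2 := F.Wsq w (F.WcW w.2.1)
    change (w : G) ^ 2 ^ 1 = 1
    rw [pow_one, pow_two, h2]
  have hne : F.WP ≠ ⊥ := by
    intro h2
    have h3 := F.fc_mem_WP hc hm
    rw [h2, mem_bot] at h3
    exact h1 h3
  have hn : S ≤ normalizer (F.WP : Set G) := by
    intro s hs
    rw [mem_normalizer_iff]
    intro w
    constructor
    · intro hw
      exact F.S_WP Y (s := ⟨s, Y.SC hs⟩) hs hw
    · intro hw
      have h2 := F.S_WP Y (s := ⟨s⁻¹, Y.SC (inv_mem hs)⟩) (inv_mem hs) hw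
      change s⁻¹ * (s * w * s⁻¹) * s⁻¹⁻¹ ∈ F.WP at h2
      have h3 : s⁻¹ * (s * w * s⁻¹) * s⁻¹⁻¹ = w := by group
      rwa [h3] at h2
  obtain ⟨w, hw, hw1, hw2⟩ := Classification.ZNEndA.exists_fixed hWP hne Y.two hn
  have h3 := Y.Sz w (F.WcW hw.1) hw1 hw2
  rwa [h3] at hw

/-- `S ∩ C(V1)` fixes the functionals of `V` -/
theorem S_phi {s : C} (hs : (s : G) ∈ S) (hse : (s : G) * e = e * s) {v : C} (hv : (v : G) ∈ V) {φ : Du M}
    (hφ : φ ∈ Phi (J.subgroupOf C) (cl e)) (h : ∀ m : M, v • m = m + φ m • cl e) : dua s φ = φ := by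
  have := F.cfg.nor
  have h1 := F.S_p Y hs
  have h2 := Phi_smul s hφ
  rw [h1] at h2
  have h3 : ∀ m : M, (s * v * s⁻¹) • m = m + dua s φ m • cl e := by
    intro m
    rw [mul_smul, mul_smul, h, smul_add, smul_inv_smul, smul_zmod, h1, dua_apply]
  have h4 := Y.SHV s hs hse v hv
  -- `s v s⁻¹ v⁻¹ ∈ V1` acts trivially
  have h5 : ∀ m : M, (s * v * s⁻¹ * v⁻¹) • m = m := by
    intro m
    obtain ⟨w, hw, rfl⟩ := F.exists_cl m
    rw [F.cl_smul _ w hw]
    congr 1
    have h6 := F.Wcomm _ (F.V1W h4) w hw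
    have h7 : ((s * v * s⁻¹ * v⁻¹ : C) : G) = s * v * (s : G)⁻¹ * (v : G)⁻¹ := rfl
    rw [h7, h6, mul_inv_cancel_right]
  ext m
  have h6 : (s * v * s⁻¹) • m = v • m := by
    have h7 := h5 (v • m)
    rwa [← mul_smul, inv_mul_cancel_right] at h7
  rw [h3, h] at h6
  have h7 := add_left_cancel h6
  have h8 : (dua s φ m - φ m) • cl e = 0 := by rw [sub_smul, h7, sub_self]
  by_contra h9
  have h10 : dua s φ m - φ m ≠ 0 := fun h0 => h9 (sub_eq_zero.mp h0)
  rw [eq_one_of_ne h10, one_smul] at h8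
  exact F.ne h8

end S

end Fv

end Cfsg.Agent.Omega.NO1.NatFive

end

section


/-!
# Theorem NAT of NO-1', step (5), part D: parity

`S ∩ C(V1) ∩ J` is a Sylow 2-subgroup of `L = C(V1) ∩ J` and centralises the functionals `φ₁, φ₂` of `V`.  If `L` induces
all transvections `(q, ψ)`, `ψ p = 0`, then `L_{φ₁}` is transitive on the even set `Phi p - {0, φ₁}`.
-/

set_option autoImplicit false
set_option linter.unusedSectionVars false

namespace Cfsg.Agent.Omega.NO1.NatFive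

open Subgroup Cfsg.Agent.Omega.Transv Cfsg.Agent.Omega.NO1.MiniMcL

universe u v

variable {G : Type u} [Group G]

variable {C J V V1 W Wc : Subgroup G} {z e : G} {M : Type v} [AddCommGroup M]
  [Module (ZMod 2) M] [DistribMulAction C M] {cl : G → M}

theorem even_ncard (A : Submodule (ZMod 2) (Du M)) [Finite M] {φ : Du M} (hφ : φ ∈ A) (h0 : φ ≠ 0) :
    2 ∣ ((A : Set (Du M)) \ {0, φ}).ncard := by
  have : Finite (Du M) := Finite.of_injective (fun φ : Du M => (φ : M → ZMod 2)) DFunLike.coe_injective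
  have h1 : 2 ∣ Nat.card A := by
    have h2 : addOrderOf (⟨φ, hφ⟩ : A) = 2 := by
      apply addOrderOf_eq_prime
      · apply Subtype.ext
        change (2 : ℕ) • φ = 0
        rw [two_nsmul]
        exact Transv.add_self φ
      · intro h
        exact h0 (congrArg Subtype.val h)
    have h3 := addOrderOf_dvd_natCard (⟨φ, hφ⟩ : A)
    rwa [h2] at h3
  have h2 : ({0, φ} : Set (Du M)) ⊆ A := by
    rintro x (rfl | rfl)
    · exact zero_mem A
    · exact hφ
  have h3 : ({0, φ} : Set (Du M)).ncard = 2 := Set.ncard_pair (Ne.symm h0)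
  have h4 : ((A : Set (Du M)) \ {0, φ}).ncard + ({0, φ} : Set (Du M)).ncard = (A : Set (Du M)).ncard :=
    Set.ncard_sdiff_add_ncard_of_subset h2
  have h5 : (A : Set (Du M)).ncard = Nat.card A := rfl
  omega

namespace Fv

variable (F : Fv C J V V1 W Wc z e cl) [Finite M] {S : Subgroup G} (Y : Sy S C J V V1 W z e)
include F Y

/-- **parity** -/
theorem parity [Finite G]
    (hL : ∀ q ∈ F.W1, q ≠ 0 → q ≠ cl e → ∀ ψ ∈ Phi (J.subgroupOf C) q, ψ (cl e) = 0 →
      ∃ x' : C, (x' : G) ∈ centralizer (V1 : Set G) ∧ (x' : G) ∈ J ∧ ∀ m ∈ F.W1, x' • m = m + ψ m • q) :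
    False := by
  let _ : DistribMulAction C (Du M) := dualAct C M
  have hp := self_mem_Pt C (cl e)
  have hnor := F.cfg.nor
  obtain ⟨a, ha, b, hb, ha1, hb1, hab1⟩ := F.four
  obtain ⟨φ₁, h1, h1'⟩ := F.exists_phi (v := ⟨a, F.VC ha⟩) ha
  obtain ⟨φ₂, h2, h2'⟩ := F.exists_phi (v := ⟨b, F.VC hb⟩) hb
  have n1 := F.phi_ne (v := ⟨a, F.VC ha⟩) ha ha1 h1'
  have n2 := F.phi_ne (v := ⟨b, F.VC hb⟩) hb hb1 h2'
  have n12 : φ₂ ≠ φ₁ := by
    rintro rfl
    refine F.phi_ne (v := ⟨a * b, F.VC (mul_mem ha hb)⟩) (mul_mem ha hb) hab1 (φ := 0) (fun m => ?_) rfl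
    have h8 : (⟨a * b, F.VC (mul_mem ha hb)⟩ : C) = ⟨a, F.VC ha⟩ * ⟨b, F.VC hb⟩ := rfl
    rw [h8, mul_smul, h2', h1', map_add, map_smul, h1.1, smul_zero, add_zero, LinearMap.zero_apply,
      zero_smul, add_zero, add_add_self]
  -- `L` fixes `p`
  have hLp : ∀ l : C, (l : G) ∈ centralizer (V1 : Set G) → l • cl e = cl e := by
    intro l hl
    rw [F.cl_smul l e F.eW, F.mem_cent.1 hl, mul_inv_cancel_right]
  let L : Subgroup C := (centralizer (V1 : Set G) ⊓ J).subgroupOf C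
  let L1 : Subgroup C := L ⊓ MulAction.stabilizer C φ₁
  let T : Subgroup C := (S ⊓ (centralizer (V1 : Set G) ⊓ J)).subgroupOf C
  have hKC : centralizer (V1 : Set G) ⊓ J ≤ C := inf_le_right.trans F.JC
  have hTL : T.relIndex L = (S ⊓ (centralizer (V1 : Set G) ⊓ J)).relIndex (centralizer (V1 : Set G) ⊓ J) :=
    relIndex_subgroupOf hKC
  have hTf : ∀ s ∈ T, dua s φ₁ = φ₁ ∧ dua s φ₂ = φ₂ := by
    intro s hs
    have hsS : (s : G) ∈ S := hs.1
    have hse := F.mem_cent.1 (hs.2.1 : (s : G) ∈ centralizer (V1 : Set G))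
    exact ⟨F.S_phi Y hsS hse (v := ⟨a, F.VC ha⟩) ha h1 h1', F.S_phi Y hsS hse (v := ⟨b, F.VC hb⟩) hb h2 h2'⟩
  have hT1 : T ≤ L1 := fun s hs => ⟨hs.2, (hTf s hs).1⟩
  have hLL : L1 ≤ L := inf_le_left
  -- the orbit
  have horb : MulAction.orbit L1 φ₂ = (Phi (J.subgroupOf C) (cl e) : Set (Du M)) \ {0, φ₁} := by
    ext φ₃
    constructor
    · rintro ⟨l, rfl⟩
      change dua (l : C) φ₂ ∈ _
      have h3 := Phi_smul (l : C) h2
      rw [hLp _ l.2.1.1] at h3
      have h4 : dua (l : C) φ₁ = φ₁ := l.2.2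
      refine ⟨h3, ?_⟩
      rintro (h5 | h5)
      · have h6 : dua (l : C) φ₂ = dua (l : C) 0 := by
          rw [h5]; rfl
        exact n2 (dua_injective _ h6)
      · have h6 : dua (l : C) φ₂ = dua (l : C) φ₁ := by
          rw [h4]; exact h5
        exact n12 (dua_injective _ h6)
    · rintro ⟨h3, h4⟩
      rw [Set.mem_insert_iff, Set.mem_singleton_iff, not_or] at h4
      obtain ⟨q, hq, hq0, hqp, h5, h6, h7, h8⟩ := F.cfg.exists_move hp h1 h2 h3 n2 h4.1 n12 h4.2
      have hψp : (φ₂ + φ₃) (cl e) = 0 := by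
        rw [LinearMap.add_apply, h2.1, h3.1, add_zero]
      obtain ⟨x, hx1, hx2, hx3⟩ := hL q hq hq0 hqp _ h5 hψp
      have key : ∀ φ ∈ Phi (J.subgroupOf C) (cl e), dua x φ = φ + φ q • (φ₂ + φ₃) := by
        intro φ hφ
        have h9 := Phi_smul x hφ
        rw [hLp x hx1] at h9
        refine F.cfg.Phi_ext hp h9 (add_mem hφ (Submodule.smul_mem _ _ (add_mem h2 h3))) fun m hm => ?_
        have h10 : x⁻¹ • m = m + (φ₂ + φ₃) m • q := by
          have hm' : m + (φ₂ + φ₃) m • q ∈ F.W1 := add_mem hm (Submodule.smul_mem _ _ hq)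
          rw [inv_smul_eq_iff, hx3 _ hm', map_add, map_smul, h5.1, smul_zero, add_zero, add_add_self]
        rw [dua_apply, h10, map_add, map_smul, LinearMap.add_apply φ, LinearMap.smul_apply, smul_eq_mul,
          smul_eq_mul, mul_comm]
      have hx4 : dua x φ₁ = φ₁ := by rw [key _ h1, h6, zero_smul, add_zero]
      refine ⟨⟨x, ⟨⟨hx1, hx2⟩, hx4⟩⟩, ?_⟩
      change dua x φ₂ = φ₃
      rw [key _ h2, h7, one_smul, ← add_assoc, Transv.add_self, zero_add]
  have h3 : (MulAction.stabilizer L1 φ₂).index = ((Phi (J.subgroupOf C) (cl e) : Set (Du M)) \ {0, φ₁}).ncard := by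
    rw [MulAction.index_stabilizer, horb]
  have h4 := even_ncard _ h1 n1
  rw [← h3] at h4
  have h5 : T.subgroupOf L1 ≤ MulAction.stabilizer L1 φ₂ := fun s hs => (hTf (s : C) hs).2
  have h6 : (MulAction.stabilizer L1 φ₂).index ∣ T.relIndex L1 := index_dvd_of_le h5
  have h7 := relIndex_mul_relIndex T L1 L hT1 hLL
  apply Y.odd
  rw [← hTL, ← h7]
  exact (h4.trans h6).trans (Dvd.intro _ rfl)

end Fv

end Cfsg.Agent.Omega.NO1.NatFive

end

section


/-!
# Theorem NAT of NO-1', step (5), part E: `κ = 0`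

`J ∩ C(W1)` centralises `M1`.  Then `N_C(p) ≤ N(V1)`, `M1` is the union of the conjugates `V1^x`, `x ∈ J`, `M1 ∩ Wc = ⟨z⟩`.
-/

set_option autoImplicit false
set_option linter.unusedSectionVars false

namespace Cfsg.Agent.Omega.NO1.NatFive

open Subgroup Cfsg.Agent.Omega.Transv Cfsg.Agent.Omega.NO1.MiniMcL

universe u v

variable {G : Type u} [Group G]

variable {C J V V1 W Wc : Subgroup G} {z e : G} {M : Type v} [AddCommGroup M]
  [Module (ZMod 2) M] [DistribMulAction C M] {cl : G → M}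

namespace Fv

/-- `κ = 0` -/
def Kz (F : Fv C J V V1 W Wc z e cl) [Finite M] : Prop := ∀ c ∈ F.KW, ∀ m ∈ M1 J V1, fc c m = 1

variable (F : Fv C J V V1 W Wc z e cl) [Finite M] (hB : F.Kz)
include F

theorem act_add {x : C} {q : M} {ψ : Du M} (hψ : ψ q = 0) (hxq : ∀ m : M, x • m = m + ψ m • q) (m : M) :
    x⁻¹ • m = m + ψ m • q := by
  rw [inv_smul_eq_iff, hxq, map_add, map_smul, hψ, smul_zero, add_zero, add_add_self]

/-- `v w v⁻¹ w⁻¹` is a homomorphism on `W` -/
theorem fc_mul_W (v : C) {w w' : G} (hw : w ∈ W) (hw' : w' ∈ W) : fc v (w * w') = fc v w * fc v w' := by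
  have h2 := F.Wn v v.2 w' hw'
  have h3 : fc v w' ∈ W := mul_mem h2 (inv_mem hw')
  have h4 := F.Wcomm _ (inv_mem hw) _ h3
  have e1 : fc v (w * w') = ((v : G) * w * (v : G)⁻¹) * (fc v w' * w⁻¹) := by
    rw [fc, fc]; group
  rw [e1, ← h4, ← mul_assoc]
  rfl

theorem cl_fc (v : C) {w : G} (hw : w ∈ W) : cl (fc v w) = v • cl w + cl w := by
  rw [fc, F.cl_mul _ (F.Wn v v.2 w hw) _ (inv_mem hw), F.cl_inv hw, F.cl_smul v w hw]

include hB

theorem Kz.comm {c : C} (hc : c ∈ F.KW) {m : G} (hm : m ∈ M1 J V1) : (c : G) * m * (c : G)⁻¹ = m := by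
  have h := hB c hc m hm
  rw [fc] at h
  exact mul_inv_eq_one.1 h

/-- (E1) -/
theorem norm_of_act {x : C} (hx : (x : G) ∈ J) {q : M} {ψ : Du M} (hψ : ψ ∈ Phi (J.subgroupOf C) q)
    (hψp : ψ (cl e) = 0) (hxq : ∀ m : M, x • m = m + ψ m • q) {y : G} (hy : y ∈ V1) :
    (x : G) * y * (x : G)⁻¹ ∈ V1 := by
  obtain ⟨u, hu, u', hu', c, hc, m, hm, -, hclu', h1⟩ := F.common hx hψ hψp hxq
  rw [hB c hc u (F.V1_le hu), hB c hc m hm, one_mul, mul_one] at h1
  have hz : (x : G) * z * (x : G)⁻¹ = z := by rw [F.zC x x.2, mul_inv_cancel_right]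
  have he : (x : G) * e * (x : G)⁻¹ ∈ V1 := by
    rcases (F.V1_ne hu' (hclu' ▸ F.ne)).2 with h2 | h2
    · rw [h2] at h1
      rwa [h1]
    · rw [h2] at h1
      have h3 : (x : G) * e * (x : G)⁻¹ = ((x : G) * (e * z) * (x : G)⁻¹) * ((x : G) * z * (x : G)⁻¹)⁻¹ := by
        group
      rw [h3, h1, hz]
      exact mul_mem hu (inv_mem F.zV1)
  rcases (F.V1_iff y).1 hy with h | h | h | h
  · rw [h, mul_one, mul_inv_cancel]; exact one_mem _
  · rw [h, hz]; exact F.zV1
  · rw [h]; exact he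
  · have h3 : (x : G) * (e * z) * (x : G)⁻¹ = ((x : G) * e * (x : G)⁻¹) * ((x : G) * z * (x : G)⁻¹) := by group
    rw [h, h3, hz]
    exact mul_mem he F.zV1

/-- (E2) : `[M1, v] = V1` -/
theorem M1_surj {v : C} (hv : (v : G) ∈ V) (hv1 : (v : G) ∉ V1) {y : G} (hy : y ∈ V1) :
    ∃ m ∈ M1 J V1, fc v m = y := by
  let B : Subgroup G :=
    { carrier := {w | w ∈ W ∧ ∃ m ∈ M1 J V1, fc v m = fc v w}
      one_mem' := ⟨one_mem _, 1, one_mem _, rfl⟩
      mul_mem' := by
        rintro a b ⟨ha, m, hm, h1⟩ ⟨hb, m', hm', h2⟩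
        refine ⟨mul_mem ha hb, m * m', mul_mem hm hm', ?_⟩
        rw [F.fc_mul_W v (F.M1_le hm) (F.M1_le hm'), F.fc_mul_W v ha hb, h1, h2]
      inv_mem' := by
        rintro a ⟨ha, m, hm, h1⟩
        refine ⟨inv_mem ha, m, hm, ?_⟩
        rw [inv_eq_of_mul_eq_one_left (F.Wsq a ha), h1] }
  have hp := self_mem_Pt C (cl e)
  obtain ⟨φ, hφ, hφv⟩ := F.exists_phi hv
  have key : W ≤ B := by
    refine F.Wgen B fun c hc u hu => ?_
    have huW := F.V1W hu
    have hcu := F.Wn c hc u huW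
    refine ⟨hcu, ?_⟩
    have hcl := F.cl_smul ⟨c, hc⟩ u huW
    by_cases h1 : (⟨c, hc⟩ : C) • cl u ∈ F.W1
    · -- `c u c⁻¹ = m w₀`
      obtain ⟨m, hm, h2⟩ := F.exists_M1 h1
      refine ⟨m, hm, ?_⟩
      have hmW := F.M1_le hm
      have h3 : m * (c * u * c⁻¹) ∈ Wc := by
        rw [← F.cl_ker _ (mul_mem hmW hcu), F.cl_mul _ hmW _ hcu, h2, hcl]
        exact Transv.add_self _
      have h4 := F.fc_mul_W v hmW hcu
      rw [F.fc_Wc (F.VJ hv) h3] at h4
      have h5 : fc v (c * u * c⁻¹) * fc v (c * u * c⁻¹) = 1 := by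
        refine F.Wsq _ (mul_mem (F.Wn v v.2 _ hcu) (inv_mem hcu))
      exact mul_right_cancel (h4.symm.trans h5.symm)
    · -- `v` centralises `c u c⁻¹`
      have hp' : cl u = cl e := by
        rcases F.V1_cases hu with h2 | h2
        · rw [h2.1, smul_zero] at h1
          exact absurd (zero_mem _) h1
        · exact h2.1
      refine ⟨1, one_mem _, ?_⟩
      have hcC : (⟨c, hc⟩ : C) • cl e ∈ Pt C (cl e) := ⟨_, rfl⟩
      -- `c⁻¹ v c` is trivial on `W1`
      have hk : (⟨c, hc⟩ : C)⁻¹ * v * ⟨c, hc⟩ ∈ F.KW := by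
        refine ⟨?_, fun m hm => ?_⟩
        · have := F.Jn c⁻¹ (inv_mem hc) v (F.VJ hv)
          rwa [inv_inv] at this
        · rw [mul_smul, mul_smul, inv_smul_eq_iff, hφv]
          have h3 : φ ((⟨c, hc⟩ : C) • m) = 0 := by
            by_cases h0 : m = 0
            · rw [h0, smul_zero, map_zero]
            have h4 := F.cfg.comp_smul hp ⟨c, hc⟩ hm
            have hm0 : (⟨c, hc⟩ : C) • m ≠ 0 := fun h => h0 (by
              have h5 : (⟨c, hc⟩ : C)⁻¹ • ((⟨c, hc⟩ : C) • m) = (⟨c, hc⟩ : C)⁻¹ • (0 : M) := by rw [h]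
              rwa [inv_smul_smul, smul_zero] at h5)
            have h5 := F.cfg.comp_pts hcC h4 hm0
            refine F.cfg.Phi_off hp h5 (fun h6 => h1 ?_) hφ
            have h7 := F.cfg.comp_eq hcC h5 h4
            have h8 := F.cfg.comp_eq hp h5 h6
            have h9 := F.cfg.self_mem_comp hcC
            rw [← h7, h8] at h9
            rw [hp']
            exact h9
          rw [h3, zero_smul, add_zero]
      have h2 := Kz.comm F hB hk (F.V1_le hu)
      have h3 : fc v (c * u * c⁻¹) = c * ((((⟨c, hc⟩ : C)⁻¹ * v * ⟨c, hc⟩ : C) : G) * u *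
          (((⟨c, hc⟩ : C)⁻¹ * v * ⟨c, hc⟩ : C) : G)⁻¹ * u⁻¹) * c⁻¹ := by
        rw [fc]
        simp only [Subgroup.coe_mul, Subgroup.coe_inv]
        group
      rw [h3, h2, mul_inv_cancel, mul_one, mul_inv_cancel, fc]
      group
  obtain ⟨w, hw, h1⟩ := F.comm_surj v hv hv1 y hy
  obtain ⟨-, m, hm, h2⟩ := key hw
  exact ⟨m, hm, by rw [h2]; exact h1⟩

/-- (E3) : the transvection `(p, φ)` is induced by a conjugate of an element of `V` -/
theorem exists_tv {φ : Du M} (hφ : φ ∈ Phi (J.subgroupOf C) (cl e)) (h0 : φ ≠ 0) :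
    ∃ y : C, (y : G) ∈ J ∧ ∃ a : C, (a : G) ∈ V ∧ (∀ m : M, (y * a * y⁻¹) • m = m + φ m • cl e) ∧
      ∀ m ∈ M1 J V1, fc (y * a * y⁻¹) m ∈ V1 := by
  have hp := self_mem_Pt C (cl e)
  obtain ⟨a, ha, ha1, φa, hφa, hact, -, hφa0⟩ := F.exists_v 0
  by_cases h1 : φ = φa
  · subst h1
    refine ⟨1, one_mem _, a, ha, fun m => by rw [one_mul, inv_one, mul_one, hact], fun m hm => ?_⟩
    rw [one_mul, inv_one, mul_one]
    exact F.comm_mem a ha m (F.M1_le hm)
  obtain ⟨q, hq, h2, h3⟩ := exists_one_one (F.Phi_nz F.p_mem F.ne hφa hφa0) (F.Phi_nz F.p_mem F.ne hφ h0)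
  have hq0 : q ≠ 0 := fun h => by rw [h, map_zero] at h2; exact one_ne h2.symm
  have hqP := F.cfg.comp_pts hp hq hq0
  have h4 : φa + φ ∈ Per (J.subgroupOf C) (cl e) q :=
    ⟨add_mem hφa hφ, by rw [LinearMap.add_apply, h2, h3, one_add_one]⟩
  have h4p : (φa + φ) (cl e) = 0 := h4.1.1
  rw [F.cfg.per_comm hp hqP ⟨φa, hφa, h2⟩] at h4
  obtain ⟨h5, y, hy, hyq⟩ := F.mem_Phi h4.1
  have hyp : y • cl e = cl e := by rw [hyq, h4p, zero_smul, add_zero]
  refine ⟨y, hy, a, ha, fun m => ?_, fun m hm => ?_⟩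
  · rw [mul_smul, mul_smul, hact, smul_add, smul_inv_smul, smul_zmod, hyp, ← dua_apply,
      dua_of_act h5 hyq, h2, one_smul, ← add_assoc, Transv.add_self, zero_add]
  · have hm' : (y : G)⁻¹ * m * y ∈ M1 J V1 := by
      have := M1_conj_J (V1 := V1) (inv_mem hy) hm
      rwa [inv_inv] at this
    have h6 := F.norm_of_act hB hy h4.1 h4p hyq (F.comm_mem a ha _ (F.M1_le hm'))
    have h7 : fc (y * a * y⁻¹) m = (y : G) * (a * ((y : G)⁻¹ * m * y) * (a : G)⁻¹ * ((y : G)⁻¹ * m * y)⁻¹) *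
        (y : G)⁻¹ := by
      rw [fc]
      simp only [Subgroup.coe_mul, Subgroup.coe_inv]
      group
    rw [h7]
    exact h6

/-- (E4) : `N_C(p) ≤ N(V1)` -/
theorem norm_of_fix {c : C} (hc : c • cl e = cl e) {y : G} (hy : y ∈ V1) : (c : G) * y * (c : G)⁻¹ ∈ V1 := by
  have hnor := F.cfg.nor
  obtain ⟨a, ha, ha1, φa, hφa, hact, -, hφa0⟩ := F.exists_v 0
  have h1 := Phi_smul c hφa
  rw [hc] at h1
  have h2 : dua c φa ≠ 0 := fun h => hφa0 (dua_injective c (by rw [h]; rfl))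
  obtain ⟨k, hk, b, hb, h3, h4⟩ := F.exists_tv hB h1 h2
  have hkb : ((k * b * k⁻¹ : C) : G) ∈ J := mul_mem (mul_mem hk (F.VJ hb)) (inv_mem hk)
  have h5 : ∀ m : M, (c * a * c⁻¹) • m = m + dua c φa m • cl e := by
    intro m
    rw [mul_smul, mul_smul, hact, smul_add, smul_inv_smul, smul_zmod, hc, dua_apply]
  have hv2 : ((c * a * c⁻¹ : C) : G) ∈ J := F.Jn c c.2 a (F.VJ ha)
  have h6 : (c * a * c⁻¹) * (k * b * k⁻¹)⁻¹ ∈ F.KW := by
    refine ⟨mul_mem hv2 (inv_mem hkb), fun m _ => ?_⟩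
    rw [mul_smul, F.act_add (q := cl e) (ψ := dua c φa) h1.1 h3, h5, map_add, map_smul, h1.1, smul_zero,
      add_zero, add_add_self]
  obtain ⟨m, hm, rfl⟩ := F.M1_surj hB ha ha1 hy
  have hmW := F.Wn c c.2 m (F.M1_le hm)
  have h7 : c • cl m ∈ F.W1 := F.cfg.comp_smul_self _ hc (F.cl_M1 hm)
  obtain ⟨m1, hm1, h8⟩ := F.exists_M1 h7
  have hm1W := F.M1_le hm1
  have h9 : m1 * ((c : G) * m * (c : G)⁻¹) ∈ Wc := by
    rw [← F.cl_ker _ (mul_mem hm1W hmW), F.cl_mul _ hm1W _ hmW, h8, F.cl_smul c m (F.M1_le hm)]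
    exact Transv.add_self _
  have h10 := F.fc_mul_W (c * a * c⁻¹) hm1W hmW
  rw [F.fc_Wc hv2 h9] at h10
  have h11 : fc (c * a * c⁻¹) ((c : G) * m * (c : G)⁻¹) * fc (c * a * c⁻¹) ((c : G) * m * (c : G)⁻¹) = 1 :=
    F.Wsq _ (mul_mem (F.Wn _ (c * a * c⁻¹ : C).2 _ hmW) (inv_mem hmW))
  have h12 : fc (c * a * c⁻¹) m1 = fc (c * a * c⁻¹) ((c : G) * m * (c : G)⁻¹) :=
    mul_right_cancel (h10.symm.trans h11.symm)
  have h13 : fc (c * a * c⁻¹) ((c : G) * m * (c : G)⁻¹) = (c : G) * fc a m * (c : G)⁻¹ := by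
    rw [fc, fc]
    simp only [Subgroup.coe_mul, Subgroup.coe_inv]
    group
  rw [← h13, ← h12]
  -- `c a c⁻¹ = k₁ (k b k⁻¹)`
  have h14 := Kz.comm F hB h6 (M1_conj_J (V1 := V1) hkb hm1)
  have h15 : fc (c * a * c⁻¹) m1 = fc (k * b * k⁻¹) m1 := by
    have h16 : ((c * a * c⁻¹ * (k * b * k⁻¹)⁻¹ : C) : G) * (((k * b * k⁻¹ : C) : G) * m1 *
        ((k * b * k⁻¹ : C) : G)⁻¹) * ((c * a * c⁻¹ * (k * b * k⁻¹)⁻¹ : C) : G)⁻¹ =
        ((c * a * c⁻¹ : C) : G) * m1 * ((c * a * c⁻¹ : C) : G)⁻¹ := by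
      rw [Subgroup.coe_mul (H := C) (c * a * c⁻¹) (k * b * k⁻¹)⁻¹, Subgroup.coe_inv C (k * b * k⁻¹)]
      group
    rw [h16] at h14
    rw [fc, fc, h14]
  rw [h15]
  exact h4 m1 hm1

/-- (E5) : `M1` is the union of the conjugates of `V1` -/
theorem M1_union {m : G} (hm : m ∈ M1 J V1) : ∃ x : C, (x : G) ∈ J ∧ ∃ y ∈ V1, m = x * y * (x : G)⁻¹ := by
  have hnor := F.cfg.nor
  have hp := self_mem_Pt C (cl e)
  have hcent : ∀ x : C, ∀ y ∈ V1, cl y = 0 → (x : G) * y * (x : G)⁻¹ = y := by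
    intro x y hy h
    rcases F.V1_zero hy h with h1 | h1
    · rw [h1]; group
    · rw [h1, F.zC x x.2, mul_inv_cancel_right]
  have hz0 : ∀ (x : C), ∀ y ∈ V1, cl ((x : G) * y * (x : G)⁻¹) = 0 → cl y = 0 := by
    intro x y hy h
    rw [← F.cl_smul x y (F.V1W hy)] at h
    have h1 : x⁻¹ • (x • cl y) = x⁻¹ • (0 : M) := by rw [h]
    rwa [inv_smul_smul, smul_zero] at h1
  rw [M1] at hm
  induction hm using closure_induction with
  | mem y hy =>
    obtain ⟨x, hx, u, hu, rfl⟩ := hy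
    exact ⟨⟨x, F.JC hx⟩, hx, u, hu, rfl⟩
  | one => exact ⟨1, one_mem _, 1, one_mem _, by simp⟩
  | inv a ha h1 =>
    obtain ⟨x, hx, y, hy, rfl⟩ := h1
    exact ⟨x, hx, y⁻¹, inv_mem hy, by group⟩
  | mul a b ha hb h1 h2 =>
    obtain ⟨x, hx, y, hy, rfl⟩ := h1
    obtain ⟨x', hx', y', hy', rfl⟩ := h2
    have hyW := F.V1W hy
    have hyW' := F.V1W hy'
    have haW := F.Wn x x.2 y hyW
    have hbW := F.Wn x' x'.2 y' hyW'
    by_cases ha0 : cl ((x : G) * y * (x : G)⁻¹) = 0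
    · have h3 := hz0 x y hy ha0
      refine ⟨x', hx', y * y', mul_mem hy hy', ?_⟩
      rw [hcent x y hy h3]
      have h4 := hcent x' y hy h3
      calc y * ((x' : G) * y' * (x' : G)⁻¹) = ((x' : G) * y * (x' : G)⁻¹) * ((x' : G) * y' * (x' : G)⁻¹) := by
            rw [h4]
        _ = _ := by group
    by_cases hb0 : cl ((x' : G) * y' * (x' : G)⁻¹) = 0
    · have h3 := hz0 x' y' hy' hb0
      refine ⟨x, hx, y * y', mul_mem hy hy', ?_⟩
      rw [hcent x' y' hy' h3]
      have h4 := hcent x y' hy' h3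
      calc (x : G) * y * (x : G)⁻¹ * y' = (x : G) * y * (x : G)⁻¹ * ((x : G) * y' * (x : G)⁻¹) := by rw [h4]
        _ = _ := by group
    have hyp : cl y = cl e := (F.V1_ne hy fun h => ha0 (by
      rw [← F.cl_smul x y hyW, h, smul_zero])).1
    have hyp' : cl y' = cl e := (F.V1_ne hy' fun h => hb0 (by
      rw [← F.cl_smul x' y' hyW', h, smul_zero])).1
    have hca : cl ((x : G) * y * (x : G)⁻¹) = x • cl e := by rw [← F.cl_smul x y hyW, hyp]
    have hcb : cl ((x' : G) * y' * (x' : G)⁻¹) = x' • cl e := by rw [← F.cl_smul x' y' hyW', hyp']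
    by_cases hab : cl ((x : G) * y * (x : G)⁻¹) = cl ((x' : G) * y' * (x' : G)⁻¹)
    · -- the same conjugate
      rw [hca, hcb] at hab
      have h3 : (x'⁻¹ * x) • cl e = cl e := by rw [mul_smul, hab, inv_smul_smul]
      have h4 := F.norm_of_fix hB h3 hy
      refine ⟨x', hx', _, mul_mem h4 hy', ?_⟩
      simp only [Subgroup.coe_mul, Subgroup.coe_inv]
      group
    · -- different conjugates
      have haM : (x : G) * y * (x : G)⁻¹ ∈ M1 J V1 := subset_closure ⟨x, hx, y, hy, rfl⟩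
      have hq := F.cl_M1 haM
      have hr : x' • cl e ∈ F.W1 := F.J_W1 hx' F.p_mem
      have hrP : x' • cl e ∈ Pt C (cl e) := ⟨x', rfl⟩
      rw [hcb] at hab hb0
      have hq' : cl ((x : G) * y * (x : G)⁻¹) ∈ F.cfg.comp hrP := by
        rw [F.cfg.comp_eq hp hrP hr]
        exact hq
      obtain ⟨φ, hφ, hφq⟩ := F.cfg.Phi_sep hrP hq' ha0 hab
      have h3 := Phi_smul x'⁻¹ hφ
      rw [inv_smul_smul] at h3
      have hφ0 : dua x'⁻¹ φ ≠ 0 := by
        intro h
        have h4 : φ = 0 := dua_injective x'⁻¹ (by rw [h]; rfl)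
        rw [h4] at hφq
        exact one_ne hφq.symm
      obtain ⟨k, hk, b, hbV, h4, h5⟩ := F.exists_tv hB h3 hφ0
      set v1 : C := k * b * k⁻¹ with hv1
      have hv1J : (v1 : G) ∈ J := mul_mem (mul_mem hk (F.VJ hbV)) (inv_mem hk)
      -- `v' = x' v₁ x'⁻¹`
      have hm' : (x' : G)⁻¹ * ((x : G) * y * (x : G)⁻¹) * x' ∈ M1 J V1 := by
        have := M1_conj_J (V1 := V1) (inv_mem hx') haM
        rwa [inv_inv] at this
      have h6 := h5 _ hm'
      have hclm' : cl ((x' : G)⁻¹ * ((x : G) * y * (x : G)⁻¹) * x') = x'⁻¹ • cl ((x : G) * y * (x : G)⁻¹) := by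
        rw [F.cl_smul x'⁻¹ _ haW, Subgroup.coe_inv, inv_inv]
      have h7 : cl (fc v1 ((x' : G)⁻¹ * ((x : G) * y * (x : G)⁻¹) * x')) = cl e := by
        rw [F.cl_fc v1 (F.M1_le hm'), h4, hclm', dua_apply, inv_inv, smul_inv_smul, hφq, one_smul,
          add_comm _ (cl e), add_add_self]
      have h8 := (F.V1_ne h6 (h7 ▸ F.ne)).2
      have h9 := (F.V1_ne hy' (hyp' ▸ F.ne)).2
      -- `g = b t`, `t ∈ {1, z}`
      obtain ⟨t, ht, htz, h10⟩ : ∃ t ∈ V1, (t = 1 ∨ t = z) ∧
          fc v1 ((x' : G)⁻¹ * ((x : G) * y * (x : G)⁻¹) * x') = y' * t := by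
        rcases h8 with h8 | h8 <;> rcases h9 with h9 | h9
        · exact ⟨1, one_mem _, Or.inl rfl, by rw [h8, h9, mul_one]⟩
        · exact ⟨z, F.zV1, Or.inr rfl, by rw [h8, h9, mul_assoc, F.zsq, mul_one]⟩
        · exact ⟨z, F.zV1, Or.inr rfl, by rw [h8, h9]⟩
        · exact ⟨1, one_mem _, Or.inl rfl, by rw [h8, h9, mul_one]⟩
      have htC : ∀ c : C, (c : G) * t = t * c := by
        intro c
        rcases htz with h | h
        · rw [h, mul_one, one_mul]
        · rw [h]; exact F.zC c c.2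
      have htt : t * t = 1 := F.Wsq t (F.V1W ht)
      refine ⟨x' * v1 * x'⁻¹ * x, mul_mem (mul_mem (mul_mem hx' hv1J) (inv_mem hx')) hx, y * t,
        mul_mem hy ht, ?_⟩
      -- `x' fc x'⁻¹ a = (x' v₁ x'⁻¹) a (x' v₁ x'⁻¹)⁻¹`
      have h11 : (x' : G) * fc v1 ((x' : G)⁻¹ * ((x : G) * y * (x : G)⁻¹) * x') * (x' : G)⁻¹ *
          ((x : G) * y * (x : G)⁻¹) = ((x' * v1 * x'⁻¹ * x : C) : G) * y * ((x' * v1 * x'⁻¹ * x : C) : G)⁻¹ := by
        rw [fc]
        simp only [Subgroup.coe_mul, Subgroup.coe_inv]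
        group
      rw [h10] at h11
      have h12 : ((x' * v1 * x'⁻¹ * x : C) : G) * (y * t) * ((x' * v1 * x'⁻¹ * x : C) : G)⁻¹ =
          ((x' * v1 * x'⁻¹ * x : C) : G) * y * ((x' * v1 * x'⁻¹ * x : C) : G)⁻¹ * t := by
        have h13 := htC (x' * v1 * x'⁻¹ * x)⁻¹
        rw [Subgroup.coe_inv] at h13
        rw [mul_assoc, mul_assoc y t, ← h13]
        group
      rw [h12, ← h11]
      have h14 := htC x'⁻¹
      rw [Subgroup.coe_inv] at h14
      have h15 := htC x
      have h16 := htC x⁻¹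
      rw [Subgroup.coe_inv] at h16
      have h17 := F.Wcomm y hyW t (F.V1W ht)
      have h18 : (x' : G) * (y' * t) * (x' : G)⁻¹ * ((x : G) * y * (x : G)⁻¹) * t =
          ((x' : G) * y' * (x' : G)⁻¹) * ((x : G) * y * (x : G)⁻¹) := by
        have h19 : t * ((x : G) * y * (x : G)⁻¹) = ((x : G) * y * (x : G)⁻¹) * t := F.Wcomm t (F.V1W ht) _ haW
        calc (x' : G) * (y' * t) * (x' : G)⁻¹ * ((x : G) * y * (x : G)⁻¹) * t
            = (x' : G) * y' * (t * (x' : G)⁻¹) * ((x : G) * y * (x : G)⁻¹) * t := by group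
          _ = (x' : G) * y' * (x' : G)⁻¹ * (t * ((x : G) * y * (x : G)⁻¹)) * t := by rw [← h14]; group
          _ = (x' : G) * y' * (x' : G)⁻¹ * ((x : G) * y * (x : G)⁻¹) * (t * t) := by rw [h19]; group
          _ = _ := by rw [htt, mul_one]
      rw [h18]
      exact F.Wcomm _ haW _ hbW

/-- (E6) : `M1 ∩ Wc = ⟨z⟩` -/
theorem M1_ker {m : G} (hm : m ∈ M1 J V1) (h : cl m = 0) : m = 1 ∨ m = z := by
  obtain ⟨x, -, y, hy, rfl⟩ := F.M1_union hB hm
  rw [← F.cl_smul x y (F.V1W hy)] at h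
  have h1 : x⁻¹ • (x • cl y) = x⁻¹ • (0 : M) := by rw [h]
  rw [inv_smul_smul, smul_zero] at h1
  rcases F.V1_zero hy h1 with h2 | h2
  · left; rw [h2]; group
  · right; rw [h2, F.zC x x.2, mul_inv_cancel_right]

end Fv

end Cfsg.Agent.Omega.NO1.NatFive

end

section


/-!
# Theorem NAT of NO-1', step (5), part F: `dim W1 = 3`, `|M1| = 16`
-/

set_option autoImplicit false
set_option linter.unusedSectionVars false

namespace Cfsg.Agent.Omega.NO1.NatFive

open Subgroup Cfsg.Agent.Omega.Transv Cfsg.Agent.Omega.NO1.MiniMcL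

universe u v

variable {G : Type u} [Group G]

variable {C J V V1 W Wc : Subgroup G} {z e : G} {M : Type v} [AddCommGroup M]
  [Module (ZMod 2) M] [DistribMulAction C M] {cl : G → M}

namespace Fv

section A

variable (F : Fv C J V V1 W Wc z e cl) [Finite M]
include F

/-- `dim W1 ≥ 3` -/
theorem three_le : 3 ≤ Module.finrank (ZMod 2) F.W1 := by
  have hp := self_mem_Pt C (cl e)
  obtain ⟨φ, hφ, ψ, hψ, h1, h2, h3⟩ := F.cfg.two (cl e) hp
  obtain ⟨r, hr, h4, h5⟩ := exists_one_one (F.Phi_nz F.p_mem F.ne hφ h1) (F.Phi_nz F.p_mem F.ne hψ h2)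
  obtain ⟨s, hs, h6⟩ : ∃ s ∈ F.W1, φ s ≠ ψ s := by
    by_contra hcon
    push Not at hcon
    exact h3 (F.cfg.Phi_ext hp hφ hψ hcon)
  let f : F.W1 →ₗ[ZMod 2] ZMod 2 × ZMod 2 := (φ.comp F.W1.subtype).prod (ψ.comp F.W1.subtype)
  have hf : ∀ m : F.W1, f m = (φ m, ψ m) := fun m => rfl
  have hsurj : Function.Surjective f := by
    have key : ∃ a b : F.W1, f a = (1, 0) ∧ f b = (0, 1) := by
      rcases zmod_cases (φ s) with h7 | h7 <;> rcases zmod_cases (ψ s) with h8 | h8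
      · exact absurd (h7.trans h8.symm) h6
      · refine ⟨⟨r + s, add_mem hr hs⟩, ⟨s, hs⟩, ?_, ?_⟩
        · rw [hf]
          change (φ (r + s), ψ (r + s)) = _
          rw [map_add, map_add, h4, h5, h7, h8, add_zero, one_add_one]
        · rw [hf]
          change (φ s, ψ s) = _
          rw [h7, h8]
      · refine ⟨⟨s, hs⟩, ⟨r + s, add_mem hr hs⟩, ?_, ?_⟩
        · rw [hf]
          change (φ s, ψ s) = _
          rw [h7, h8]
        · rw [hf]
          change (φ (r + s), ψ (r + s)) = _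
          rw [map_add, map_add, h4, h5, h7, h8, add_zero, one_add_one]
      · exact absurd (h7.trans h8.symm) h6
    obtain ⟨a, b, ha, hb⟩ := key
    rintro ⟨x, y⟩
    refine ⟨x • a + y • b, ?_⟩
    rw [map_add, map_smul, map_smul, ha, hb]
    ext <;> simp
  have : Module.Finite (ZMod 2) F.W1 := Module.Finite.of_finite
  have h7 := LinearMap.finrank_range_add_finrank_ker f
  rw [LinearMap.range_eq_top.2 hsurj, finrank_top, Module.finrank_prod, Module.finrank_self] at h7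
  have h8 : 0 < Module.finrank (ZMod 2) (LinearMap.ker f) := by
    rw [Module.finrank_pos_iff]
    refine ⟨⟨⟨⟨cl e, F.p_mem⟩, ?_⟩, 0, fun h => F.ne ?_⟩⟩
    · rw [LinearMap.mem_ker, hf]
      change (φ (cl e), ψ (cl e)) = 0
      rw [hφ.1, hψ.1]
      rfl
    · exact congrArg (fun x : LinearMap.ker f => ((x : F.W1) : M)) h
  omega

variable (hB : F.Kz)
include hB

/-- (F6) -/
theorem faith {c : G} (hc : c ∈ C) (hn : ∀ m ∈ M1 J V1, c * m * c⁻¹ ∈ M1 J V1)
    (h : ∀ m ∈ M1 J V1, cl (c * m * c⁻¹) = cl m) {m : G} (hm : m ∈ M1 J V1) : c * m * c⁻¹ = m := by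
  -- `f m = c m c⁻¹ m⁻¹ ∈ {1, z}`
  have h1 : ∀ m ∈ M1 J V1, fc (⟨c, hc⟩ : C) m = 1 ∨ fc (⟨c, hc⟩ : C) m = z := by
    intro m hm
    refine F.M1_ker hB (mul_mem (hn m hm) (inv_mem hm)) ?_
    change cl (c * m * c⁻¹ * m⁻¹) = 0
    rw [F.cl_mul _ (F.M1_le (hn m hm)) _ (inv_mem (F.M1_le hm)), F.cl_inv (F.M1_le hm), h m hm,
      Transv.add_self]
  have hmul : ∀ m ∈ M1 J V1, ∀ m' ∈ M1 J V1,
      fc (⟨c, hc⟩ : C) (m * m') = fc (⟨c, hc⟩ : C) m * fc (⟨c, hc⟩ : C) m' := fun m hm m' hm' =>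
    F.fc_mul_W _ (F.M1_le hm) (F.M1_le hm')
  have htriv : ∀ m ∈ F.W1, (⟨c, hc⟩ : C) • m = m := by
    intro m hm
    obtain ⟨x, hx, rfl⟩ := F.exists_M1 hm
    rw [F.cl_smul _ x (F.M1_le hx)]
    exact h x hx
  -- conjugation by `x ∈ J`
  have h2 : ∀ x : C, (x : G) ∈ J → ∀ m ∈ M1 J V1,
      fc (⟨c, hc⟩ : C) ((x : G)⁻¹ * m * x) = fc (⟨c, hc⟩ : C) m := by
    intro x hx m hm
    have hk : x * ⟨c, hc⟩ * x⁻¹ * (⟨c, hc⟩ : C)⁻¹ ∈ F.KW := by
      refine ⟨?_, fun m hm => ?_⟩
      · have h3 : (x : G) * (c * (x : G)⁻¹ * c⁻¹) ∈ J := mul_mem hx (F.Jn c hc _ (inv_mem hx))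
        have e1 : ((x * ⟨c, hc⟩ * x⁻¹ * (⟨c, hc⟩ : C)⁻¹ : C) : G) = (x : G) * (c * (x : G)⁻¹ * c⁻¹) := by
          simp only [Subgroup.coe_mul, Subgroup.coe_inv]
          group
        rw [e1]
        exact h3
      · have h3 : (⟨c, hc⟩ : C)⁻¹ • m = m := by rw [inv_smul_eq_iff, htriv m hm]
        rw [mul_smul, mul_smul, mul_smul, h3, htriv _ (F.J_W1 (x := x⁻¹) (inv_mem hx) hm), smul_inv_smul]
    have h4 := Kz.comm F hB hk (hn m hm)
    have h5 := F.cl_one
    have h6 : (x : G)⁻¹ * m * x ∈ M1 J V1 := by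
      have := M1_conj_J (V1 := V1) (inv_mem hx) hm
      rwa [inv_inv] at this
    have h7 : ((x * ⟨c, hc⟩ * x⁻¹ * (⟨c, hc⟩ : C)⁻¹ : C) : G) * (c * m * c⁻¹) *
        ((x * ⟨c, hc⟩ * x⁻¹ * (⟨c, hc⟩ : C)⁻¹ : C) : G)⁻¹ =
        (x : G) * (c * ((x : G)⁻¹ * m * x) * c⁻¹) * (x : G)⁻¹ := by
      simp only [Subgroup.coe_mul, Subgroup.coe_inv]
      group
    rw [h7] at h4
    have h8 : fc (⟨c, hc⟩ : C) ((x : G)⁻¹ * m * x) = (x : G)⁻¹ * ((x : G) * (c * ((x : G)⁻¹ * m * x) * c⁻¹) *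
        (x : G)⁻¹ * m⁻¹) * x := by
      rw [fc]; group
    rw [h8, h4]
    have h9 : c * m * c⁻¹ * m⁻¹ = fc (⟨c, hc⟩ : C) m := rfl
    rw [h9]
    rcases h1 m hm with h10 | h10
    · rw [h10]; group
    · rw [h10, mul_assoc, ← F.zC x x.2]; group
  -- conclusion
  suffices h3 : fc (⟨c, hc⟩ : C) m = 1 from mul_inv_eq_one.1 h3
  have hz1 : fc (⟨c, hc⟩ : C) z = 1 := by
    rw [fc]
    change c * z * c⁻¹ * z⁻¹ = 1
    rw [F.zC c hc]; group
  have hker : ∀ m ∈ M1 J V1, cl m = 0 → fc (⟨c, hc⟩ : C) m = 1 := by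
    intro m hm h0
    rcases F.M1_ker hB hm h0 with h4 | h4
    · rw [h4, fc]
      change c * 1 * c⁻¹ * 1⁻¹ = 1
      group
    · rw [h4]; exact hz1
  by_cases h0 : cl m = 0
  · exact hker m hm h0
  have hr := F.cl_M1 hm
  obtain ⟨χ, hχ, hχ0⟩ := F.exists_Phi hr h0
  obtain ⟨t, ht, htχ⟩ := F.Phi_nz hr h0 hχ hχ0
  obtain ⟨y, hy, rfl⟩ := F.exists_M1 ht
  obtain ⟨h4, x, hx, hxr⟩ := F.mem_Phi hχ
  have h5 : (x : G)⁻¹ * y * x ∈ M1 J V1 := by
    have := M1_conj_J (V1 := V1) (inv_mem hx) hy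
    rwa [inv_inv] at this
  have h6 := h2 x hx y hy
  have h7 : cl ((x : G)⁻¹ * y * x) = cl y + cl m := by
    have h8 : cl ((x : G)⁻¹ * y * x) = x⁻¹ • cl y := by
      rw [F.cl_smul x⁻¹ y (F.M1_le hy), Subgroup.coe_inv, inv_inv]
    rw [h8, F.act_add h4 hxr, htχ, one_smul]
  -- `x⁻¹ y x · y · m ∈ ⟨z⟩`
  have h8 : cl ((x : G)⁻¹ * y * x * y * m) = 0 := by
    rw [F.cl_mul _ (F.M1_le (mul_mem h5 hy)) _ (F.M1_le hm), F.cl_mul _ (F.M1_le h5) _ (F.M1_le hy), h7,
      show cl y + cl m + cl y + cl m = (cl y + cl y) + (cl m + cl m) by abel, Transv.add_self,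
      Transv.add_self, add_zero]
  have h9 := hker _ (mul_mem (mul_mem h5 hy) hm) h8
  rw [hmul _ (mul_mem h5 hy) _ hm, hmul _ h5 _ hy, h6] at h9
  have h10 : fc (⟨c, hc⟩ : C) y * fc (⟨c, hc⟩ : C) y = 1 := by
    rcases h1 y hy with h11 | h11
    · rw [h11, mul_one]
    · rw [h11, F.zsq]
  rwa [h10, one_mul] at h9

/-- (F7) : all transvections of `W1` are induced by conjugates of elements of `V` -/
theorem full {q : M} (hq : q ∈ F.W1) (hq0 : q ≠ 0) (χ : Du M) (hχ : χ q = 0) (hχ0 : ∃ m ∈ F.W1, χ m = 1) :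
    ∃ x : C, (x : G) ∈ J ∧ ∃ a ∈ V, ∀ m ∈ M1 J V1,
      cl ((x : G) * a * (x : G)⁻¹ * m * ((x : G) * a * (x : G)⁻¹)⁻¹) = cl m + χ (cl m) • q := by
  have hnor := F.cfg.nor
  obtain ⟨φ, hφ, hφ1⟩ := F.Phi_full hq hq0 hχ
  obtain ⟨y, hy, rfl⟩ := F.exists_J hq hq0
  have h1 := Phi_smul y⁻¹ hφ
  rw [inv_smul_smul] at h1
  have h2 : dua y⁻¹ φ ≠ 0 := by
    intro h
    have h3 : φ = 0 := dua_injective y⁻¹ (by rw [h]; rfl)
    obtain ⟨m, hm, h4⟩ := hχ0
    rw [← hφ1 m hm, h3] at h4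
    exact one_ne h4.symm
  obtain ⟨k, hk, a, ha, h3, -⟩ := F.exists_tv hB h1 h2
  refine ⟨y * k, mul_mem hy hk, a, ha, fun m hm => ?_⟩
  have h4 : ∀ m : M, (y * (k * a * k⁻¹) * y⁻¹) • m = m + φ m • (y • cl e) := by
    intro m
    rw [mul_smul, mul_smul, h3, smul_add, smul_inv_smul, smul_zmod, dua_apply, inv_inv, smul_inv_smul]
  have h5 := h4 (cl m)
  rw [F.cl_smul _ m (F.M1_le hm), hφ1 _ (F.cl_M1 hm)] at h5
  rw [← h5]
  congr 1
  simp only [Subgroup.coe_mul, Subgroup.coe_inv]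
  group

end A

section B

variable (F : Fv C J V V1 W Wc z e cl) [Finite M] (hB : F.Kz) {S : Subgroup G} (Y : Sy S C J V V1 W z e)
include F hB Y

/-- `|W1| ≤ 8` -/
theorem card_le [Finite G] : Nat.card F.W1 ≤ 8 := by
  by_contra hcon
  push Not at hcon
  have hp := self_mem_Pt C (cl e)
  refine F.parity Y fun q hq hq0 hqp ψ hψ hψp => ?_
  obtain ⟨r, hr, χ, hr0, hrp, hψr, hχ, hχp, hχr⟩ := F.cfg.exists_comm hp hcon hq hq0 hqp hψ hψp
  obtain ⟨h1, d, hd, hdq⟩ := F.mem_Phi hχ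
  obtain ⟨h2, d', hd', hdr⟩ := F.mem_Phi hψr
  have h3 : ψ q = 0 := hψ.1
  -- both normalise `V1`
  have key : ∀ x : C, (x : G) * e * (x : G)⁻¹ ∈ V1 → x • cl e = cl e →
      ∃ t, (t = 1 ∨ t = z) ∧ (x : G) * e = e * t * x := by
    intro x h4 h5
    have h6 : cl ((x : G) * e * (x : G)⁻¹) ≠ 0 := by
      rw [← F.cl_smul x e F.eW, h5]; exact F.ne
    rcases (F.V1_ne h4 h6).2 with h7 | h7
    · exact ⟨1, Or.inl rfl, by rw [mul_one]; exact mul_inv_eq_iff_eq_mul.1 h7⟩
    · exact ⟨z, Or.inr rfl, mul_inv_eq_iff_eq_mul.1 h7⟩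
  have hdp : d • cl e = cl e := by rw [hdq, hχp, zero_smul, add_zero]
  have hdp' : d' • cl e = cl e := by rw [hdr, hψp, zero_smul, add_zero]
  obtain ⟨s, hs, hds⟩ := key d (F.norm_of_act hB hd hχ hχp hdq F.eV1) hdp
  obtain ⟨t, ht, hdt⟩ := key d' (F.norm_of_act hB hd' hψr hψp hdr F.eV1) hdp'
  have hcen : ∀ t : G, (t = 1 ∨ t = z) → ∀ x : C, (x : G) * t = t * x := by
    intro t ht x
    rcases ht with h | h
    · rw [h, mul_one, one_mul]
    · rw [h]; exact F.zC x x.2
  have hst : s * t = t * s := by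
    rcases hs with h | h <;> rcases ht with h' | h' <;> rw [h, h'] <;> simp
  have h4 : ((d : G) * d') * e = e * (s * t) * (d * d') := by
    have h5 := hcen t ht d
    have h6 := hcen s hs d
    calc ((d : G) * d') * e = d * (d' * e) := by group
      _ = (d * e) * t * d' := by rw [hdt]; group
      _ = e * s * (d * t) * d' := by rw [hds]; group
      _ = e * (s * t) * (d * d') := by rw [h5]; group
  have h5 : ((d' : G) * d) * e = e * (s * t) * (d' * d) := by
    have h5 := hcen t ht d'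
    have h6 := hcen s hs d'
    calc ((d' : G) * d) * e = d' * (d * e) := by group
      _ = (d' * e) * s * d := by rw [hds]; group
      _ = e * t * (d' * s) * d := by rw [hdt]; group
      _ = e * (t * s) * (d' * d) := by rw [h6]; group
      _ = _ := by rw [hst]
  refine ⟨d * d' * d⁻¹ * d'⁻¹, ?_, mul_mem (mul_mem (mul_mem hd hd') (inv_mem hd)) (inv_mem hd'), fun m _ =>
    comm_act h1 h2 h3 hχr hdq hdr m⟩
  rw [F.mem_cent]
  have h6 : ((d * d' * d⁻¹ * d'⁻¹ : C) : G) = (d * d') * ((d' : G) * d)⁻¹ := by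
    simp only [Subgroup.coe_mul, Subgroup.coe_inv]
    group
  have hc1 : ((d : G) * d') * (s * t) = (s * t) * (d * d') := by
    have h7 := hcen s hs (d * d')
    have h8 := hcen t ht (d * d')
    rw [Subgroup.coe_mul] at h7 h8
    calc ((d : G) * d') * (s * t) = ((d : G) * d' * s) * t := by group
      _ = s * ((d : G) * d' * t) := by rw [h7]; group
      _ = _ := by rw [h8]; group
  have h7 : ((d' : G) * d)⁻¹ * e = e * ((d' : G) * d)⁻¹ * (s * t)⁻¹ := by
    have h8 : e = ((d' : G) * d)⁻¹ * (e * (s * t) * (d' * d)) := by rw [← h5]; group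
    have hc2 : (s * t) * ((d' : G) * d) = ((d' : G) * d) * (s * t) := by
      have h7 := hcen s hs (d' * d)
      have h8 := hcen t ht (d' * d)
      rw [Subgroup.coe_mul] at h7 h8
      calc (s * t) * ((d' : G) * d) = s * (t * (d' * d)) := by group
        _ = (s * (d' * d)) * t := by rw [← h8]; group
        _ = _ := by rw [← h7]; group
    rw [mul_assoc e, hc2] at h8
    calc ((d' : G) * d)⁻¹ * e = (((d' : G) * d)⁻¹ * (e * ((d' : G) * d * (s * t)))) * (s * t)⁻¹ *
          ((d' : G) * d)⁻¹ := by group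
      _ = e * ((s * t)⁻¹ * ((d' : G) * d)⁻¹) := by rw [← h8]; group
      _ = e * (((d' : G) * d) * (s * t))⁻¹ := by group
      _ = e * ((s * t) * ((d' : G) * d))⁻¹ := by rw [hc2]
      _ = _ := by group
  rw [h6]
  calc ((d : G) * d') * ((d' : G) * d)⁻¹ * e = ((d : G) * d') * (((d' : G) * d)⁻¹ * e) := by group
    _ = (((d : G) * d') * e) * ((d' : G) * d)⁻¹ * (s * t)⁻¹ := by rw [h7]; group
    _ = e * (s * t) * (d * d') * ((d' : G) * d)⁻¹ * (s * t)⁻¹ := by rw [h4]
    _ = e * ((d : G) * d' * (s * t)) * ((d' : G) * d)⁻¹ * (s * t)⁻¹ := by rw [hc1]; group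
    _ = e * ((d : G) * d') * ((s * t) * ((d' : G) * d)⁻¹) * (s * t)⁻¹ := by group
    _ = e * ((d : G) * d') * (((d' : G) * d)⁻¹ * (s * t)) * (s * t)⁻¹ := by
        have hc2 : (s * t) * ((d' : G) * d) = ((d' : G) * d) * (s * t) := by
          have h7 := hcen s hs (d' * d)
          have h8 := hcen t ht (d' * d)
          rw [Subgroup.coe_mul] at h7 h8
          calc (s * t) * ((d' : G) * d) = s * (t * (d' * d)) := by group
            _ = (s * (d' * d)) * t := by rw [← h8]; group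
            _ = _ := by rw [← h7]; group
        have h9 : (s * t) * ((d' : G) * d)⁻¹ = ((d' : G) * d)⁻¹ * (s * t) := by
          rw [mul_inv_eq_iff_eq_mul, mul_assoc, hc2]
          group
        rw [h9]
    _ = _ := by group

/-- `dim W1 = 3` -/
theorem finrank_eq [Finite G] : Module.finrank (ZMod 2) F.W1 = 3 := by
  have h1 := F.three_le
  have h2 := F.card_le hB Y
  have : Module.Finite (ZMod 2) F.W1 := Module.Finite.of_finite
  rw [Module.natCard_eq_pow_finrank (K := ZMod 2), Nat.card_zmod] at h2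
  by_contra hcon
  have h3 : 4 ≤ Module.finrank (ZMod 2) F.W1 := by omega
  have h4 : 2 ^ 4 ≤ 2 ^ Module.finrank (ZMod 2) F.W1 := Nat.pow_le_pow_right (by norm_num) h3
  omega

/-- `|M1| = 16` -/
theorem card_M1 [Finite G] (hz : z ≠ 1) : Nat.card (M1 J V1) = 16 := by
  have : Module.Finite (ZMod 2) F.W1 := Module.Finite.of_finite
  let f : M1 J V1 →* Multiplicative F.W1 :=
    { toFun := fun m => Multiplicative.ofAdd ⟨cl m, F.cl_M1 m.2⟩
      map_one' := by
        rw [← ofAdd_zero]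
        congr 1
        exact Subtype.ext F.cl_one
      map_mul' := fun a b => by
        rw [← ofAdd_add]
        congr 1
        exact Subtype.ext (F.cl_mul _ (F.M1_le a.2) _ (F.M1_le b.2)) }
  have hf : ∀ m : M1 J V1, f m = 1 ↔ cl m = 0 := by
    intro m
    constructor
    · intro h
      have h1 : (⟨cl m, F.cl_M1 m.2⟩ : F.W1) = 0 := h
      exact congrArg Subtype.val h1
    · intro h
      have h1 : (⟨cl m, F.cl_M1 m.2⟩ : F.W1) = 0 := Subtype.ext h
      exact congrArg Multiplicative.ofAdd h1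
  have hsurj : Function.Surjective f := by
    intro y
    obtain ⟨m, hm, h⟩ := F.exists_M1 (Multiplicative.toAdd y).2
    exact ⟨⟨m, hm⟩, congrArg Multiplicative.ofAdd (Subtype.ext h)⟩
  have h1 : Nat.card f.ker = 2 := by
    have hzM : z ∈ M1 J V1 := F.V1_le F.zV1
    rw [Nat.card_eq_two_iff]
    refine ⟨⟨1, one_mem _⟩, ⟨⟨z, hzM⟩, (hf _).2 F.cl_z⟩, ?_, ?_⟩
    · intro h
      exact hz (congrArg (fun x : f.ker => ((x : M1 J V1) : G)) h).symm
    · ext m
      simp only [Set.mem_insert_iff, Set.mem_singleton_iff, Set.mem_univ, iff_true]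
      have h2 := (hf m).1 m.2
      rcases F.M1_ker hB m.1.2 h2 with h3 | h3
      · left; exact Subtype.ext (Subtype.ext h3)
      · right; exact Subtype.ext (Subtype.ext h3)
  have h2 := card_mul_index f.ker
  rw [Subgroup.index_ker, MonoidHom.range_eq_top.2 hsurj, Subgroup.card_top, h1] at h2
  have h3 : Nat.card (Multiplicative F.W1) = 8 := by
    have h4 : Nat.card F.W1 = 8 := by
      rw [Module.natCard_eq_pow_finrank (K := ZMod 2), Nat.card_zmod, F.finrank_eq hB Y]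
      rfl
    exact h4
  rw [h3] at h2
  omega

/-- `C_{M1}(v) = V1` -/
theorem cent_M1 [Finite G] (hz : z ≠ 1) (h4 : Nat.card V1 = 4) {v : C} (hv : (v : G) ∈ V) (hv1 : (v : G) ∉ V1)
    (hc : ∀ y ∈ V1, (v : G) * y = y * v) {m : G} (hm : m ∈ M1 J V1) (h : (v : G) * m = m * v) : m ∈ V1 := by
  let f : M1 J V1 →* V1 :=
    { toFun := fun m => ⟨fc v m, F.comm_mem v hv m (F.M1_le m.2)⟩
      map_one' := Subtype.ext (by change fc v 1 = 1; rw [fc]; group)
      map_mul' := fun a b => Subtype.ext (F.fc_mul_W v (F.M1_le a.2) (F.M1_le b.2)) }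
  have hsurj : Function.Surjective f := by
    intro y
    obtain ⟨m, hm, h⟩ := F.M1_surj hB hv hv1 y.2
    exact ⟨⟨m, hm⟩, Subtype.ext h⟩
  have h2 := card_mul_index f.ker
  rw [Subgroup.index_ker, MonoidHom.range_eq_top.2 hsurj, Subgroup.card_top, h4, F.card_M1 hB Y hz] at h2
  have h3 : Nat.card f.ker = 4 := by omega
  have h5 : (V1.subgroupOf (M1 J V1)) ≤ f.ker := by
    intro y hy
    have hy' : (y : G) ∈ V1 := hy
    rw [MonoidHom.mem_ker]
    apply Subtype.ext
    change fc v y = 1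
    rw [fc, hc y hy']; group
  have h6 : Nat.card (V1.subgroupOf (M1 J V1)) = 4 := by
    rw [← h4]
    exact Nat.card_congr (subgroupOfEquivOfLe F.V1_le).toEquiv
  have h7 : V1.subgroupOf (M1 J V1) = f.ker := eq_of_le_of_card_ge h5 (by rw [h3, h6])
  have h8 : (⟨m, hm⟩ : M1 J V1) ∈ f.ker := by
    rw [MonoidHom.mem_ker]
    apply Subtype.ext
    change fc v m = 1
    rw [fc, h]; group
  rw [← h7] at h8
  exact h8

end B

end Fv

end Cfsg.Agent.Omega.NO1.NatFive

end

end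

private theorem dce_63ffccbd2e2a : _root_.True := by
  try have : _root_.True := by simp only [_root_.Cfsg.Agent.Omega.NO1.NatFive.Fv.W1.congr_simp]
  try have : _root_.True := by simp only [_root_.Cfsg.Agent.Omega.NO1.NatFive.Fv.M1.eq_1]
  try have : _root_.True := by simp only [_root_.Cfsg.Agent.Omega.NO1.NatFive.Fv.fc.eq_1]
  exact _root_.True.intro
end
end
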