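import Cfsg.Agent.Mrg.Omega.TC.Crit_m3
import Cfsg.Agent.Mrg.Omega.NO3S.EThree.CoreOf
import Cfsg.Agent.Lib.NormalAbelian
import Cfsg.Agent.Mrg.Omega.OM.NX_m3
import Cfsg.Agent.Mrg.Omega.NO3S.BetaFF.UniqZ_m3
import Cfsg.Agent.Mrg.ParSys.QuadSig_mg_m3
import Cfsg.Agent.Mrg.Omega.NOThreeL.RTools.Two_m3
import Cfsg.Agent.Mrg.Omega.ML.MinIrr
import Cfsg.Agent.Mrg.Omega.IId.TwoK_m3
import Cfsg.Agent.Mrg.Omega.Transv.Point
import Cfsg.Agent.Mrg.Omega.Transv.Basic
import Cfsg.Agent.GTwoFour.Tools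
import Cfsg.Agent.Mrg.Omega.IId.Cv.TwoV_m3
import Mathlib
import Cfsg.Agent.Mrg.Omega.NO1.Sym.EndOne_m3
import Cfsg.Agent.Mrg.Omega.NO3S.EThree.ExactB_m3
import Cfsg.Agent.Mrg.Omega.IId.ThmJFull_m3
import Cfsg.Agent.FastGrp
import Cfsg.Agent.Prune
set_option linter.all false

section
prune_inst 0x7fbcfefbabf8bddfdfff7e7fafdcdffc39949ffff6dff94bffe46bffcb9f03060de12b8d89f018fc4ef6629410b87853fdffc23fea6bd87ffffd1ff45ffbee0fe5f7bd0851d68c340fbc2fff63f0778e7f3fffffffffffffffffffffffffffbeffffffffffff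

-- part: Mrg/Omega/KL/QF/PtV
section
prune_inst 0x400000040402202000018050230002004140000920060000199400346024e93206d0321404c2039101812ae000000002002880050005000000400000000010120802a520093080104240009803087180c00000000000000000000000000041000000000000
set_option linter.all false
open scoped Cfsg.Agent.FastGrp

section


/-!
# The frame `Bg`, `k = 2`: points of `V_P`, the action of `T = C_S(Z i)` (#22723, #22058; helper20)

* `exists_fix_mod` : a 2-group has fixed points modulo a normal subgroup;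
* `C_eq`, `ZJ_le` : `C i = W j`, `Z_J = Z i Z j`;
* `ptV` : an element of `V_P` conjugate into `Z i` lies in `W i` or in `W j`; `cjW` : `(W l)^g ≤ V_P` is `W i` or `W j`;
* `syl_T`, `TB`, `com`, `nB`, `nT` : the fields of `QFr` on `T`.
-/

set_option autoImplicit false
set_option linter.unusedSectionVars false
set_option maxHeartbeats 400000

namespace Cfsg.Agent.Omega.KL.QF.PtV

open Subgroup Cfsg Cfsg.Agent.ZN.ChoiceBase
open Cfsg.Agent.ZN (jj zj bau zc zl o2)
open Cfsg.Agent.ZN.ChoiceSit (Syl exists_syl syl_conj)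
open Cfsg.Agent.Omega.OM Cfsg.Agent.Omega.OM.Uni
open Cfsg.Agent.Omega.NO3S.EThree.Frame
open Cfsg.Agent.Omega.MinPar (NonLoc)
open scoped Pointwise

universe u

variable {G : Type u} [Group G]

/-- A 2-group `X` acting on `T / K` has a fixed point. -/
theorem exists_fix_mod [Finite G] {X K T : Subgroup G} (hX : IsPGroup 2 X) (hT : T ≤ X)
    (hXT : X ≤ normalizer (T : Set G)) (hXK : X ≤ normalizer (K : Set G)) (hne : ¬ T ≤ K) :
    ∃ o ∈ T, o ∉ K ∧ ∀ x ∈ X, x * o * x⁻¹ * o⁻¹ ∈ K := by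
  have hf : Fact (Nat.Prime 2) := ⟨Nat.prime_two⟩
  have hKn : (K.subgroupOf X).Normal := normal_subgroupOf_of_le_normalizer hXK
  have hTn : (T.subgroupOf X).Normal := normal_subgroupOf_of_le_normalizer hXT
  have hQ : IsPGroup 2 (X ⧸ K.subgroupOf X) := hX.to_quotient _
  have hnil : Group.IsNilpotent (X ⧸ K.subgroupOf X) := hQ.isNilpotent
  have hTm : ((T.subgroupOf X).map (QuotientGroup.mk' (K.subgroupOf X))).Normal :=
    hTn.map _ (QuotientGroup.mk'_surjective _)
  have h1 : (T.subgroupOf X).map (QuotientGroup.mk' (K.subgroupOf X)) ≠ ⊥ := by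
    intro h0
    apply hne
    intro t ht
    have h2 : QuotientGroup.mk' (K.subgroupOf X) ⟨t, hT ht⟩ ∈
        (T.subgroupOf X).map (QuotientGroup.mk' (K.subgroupOf X)) := ⟨_, ht, rfl⟩
    rw [h0, mem_bot] at h2
    exact (QuotientGroup.eq_one_iff (⟨t, hT ht⟩ : X)).1 h2
  have h2 := Lib.NormalAbelian.normal_inf_center_ne_bot _ h1
  obtain ⟨⟨x, hx⟩, hx1⟩ := Subgroup.ne_bot_iff_exists_ne_one.1 h2
  obtain ⟨⟨o, ho, hox⟩, hcen⟩ := hx
  refine ⟨o, ho, fun hK => hx1 (Subtype.ext ?_), fun y hy => ?_⟩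
  · change x = 1
    rw [← hox]
    exact (QuotientGroup.eq_one_iff o).2 hK
  · have h3 := mem_center_iff.1 hcen (QuotientGroup.mk' (K.subgroupOf X) ⟨y, hy⟩)
    rw [← hox, ← map_mul, ← map_mul] at h3
    have h4 : QuotientGroup.mk' (K.subgroupOf X) ((⟨y, hy⟩ : X) * o * (⟨y, hy⟩ : X)⁻¹ * o⁻¹) = 1 := by
      rw [map_mul, map_mul, h3, ← map_mul, ← map_mul]
      have e : o * (⟨y, hy⟩ : X) * (⟨y, hy⟩ : X)⁻¹ * o⁻¹ = 1 := by group
      rw [e, map_one]
    exact mem_subgroupOf.1 ((QuotientGroup.eq_one_iff (N := K.subgroupOf X)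
      ((⟨y, hy⟩ : X) * o * (⟨y, hy⟩ : X)⁻¹ * o⁻¹)).1 h4)

section base

variable [Finite G] {S : Sylow 2 G} {P : Subgroup G} {ι : Type} [Finite ι] {B ZJ : Subgroup G}
  {L W Z C : ι → Subgroup G} {q : ℕ} (h : Bg S P B ZJ L W Z C q) {i j : ι} {s : G}
  (p : Pa (S : Subgroup G) W i j s) (h2 : ∀ l : ι, l = i ∨ l = j)

include h

theorem card_W (l : ι) : Nat.card (W l) = q * q := by rw [(h.fr.blk l).card, h.fr.cardZ l]

theorem comWZ {l m : ι} (hlm : l ≠ m) {x y : G} (hx : x ∈ centralizer (C l : Set G)) (hy : y ∈ W m) :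
    x * y * x⁻¹ = y := by
  rw [← mem_centralizer_iff.1 hx y (h.fr.WjC l m hlm hy), mul_inv_cancel_right]

/-- the hypothesis `p` is only used through `j ≠ i` and `s` -/
theorem B_cent (l : ι) : B ≤ centralizer (Z l : Set G) :=
  fun b hb => mem_centralizer_iff.2 fun z hz => ((h.fr.blk l).cZ b hb z hz).symm

theorem B_le_T (l : ι) : B ≤ (S : Subgroup G) ⊓ centralizer (Z l : Set G) := le_inf h.BS (B_cent h l)

theorem W_le_B (l : ι) : W l ≤ B := (h.fr.blk l).VB

theorem syl_T (l : ι) : Syl ((S : Subgroup G) ⊓ centralizer (Z l : Set G)) (centralizer (Z l : Set G)) := by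
  refine ⟨inf_le_right, S.isPGroup'.to_le inf_le_left, fun R hR h3 hle => ?_⟩
  obtain ⟨R', hR', hle'⟩ := exists_syl h3 (hR.trans (centralizer_le_normalizer _))
  obtain ⟨x, hx, e⟩ := syl_conj (h.syl l) hR'
  have h4 : R ≤ cj x ((S : Subgroup G) ⊓ centralizer (Z l : Set G)) := by
    rw [cj_inf, cj_centralizer, cj_eq_of_mem_normalizer hx]
    refine le_inf ?_ hR
    refine (hle'.trans e.ge).trans (cj_mono x inf_le_left)
  symm
  refine Subgroup.eq_of_le_of_card_ge hle ?_
  rw [← card_cj x ((S : Subgroup G) ⊓ centralizer (Z l : Set G))]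
  exact Subgroup.card_le_of_le h4

include h2

theorem C_eq (hij : i ≠ j) : C i = W j := by
  refine le_antisymm ((h.C_le i).trans (iSup_le fun l => ?_)) (h.fr.WjC i j hij)
  rcases h2 l with e | e
  · exact absurd e l.2
  · rw [e]

theorem ZJ_le (hij : i ≠ j) : ZJ ≤ Z i ⊔ Z j := by
  intro z hz
  obtain ⟨w, hw, c, hc, hcz, rfl⟩ := h.fr.split_ZJ i hz
  rw [C_eq h h2 hij] at hc
  refine mul_mem (mem_sup_left hw) (mem_sup_right ?_)
  exact (h.fr.blk j).toMd.mem_Z_iff.2 ⟨hc, fun b hb => ((h.fr.mem_ZJ c).1 hcz).2 b hb⟩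

theorem ZJ_eq (hij : i ≠ j) : ZJ = Z i ⊔ Z j :=
  le_antisymm (ZJ_le h h2 hij) (sup_le (h.fr.Z_le i) (h.fr.Z_le j))

theorem V_eq (hij : i ≠ j) : zl (S : Subgroup G) P = W i ⊔ W j := by
  refine le_antisymm (fun v hv => ?_) (sup_le (h.fr.WV i) (h.fr.WV j))
  obtain ⟨w, hw, c, hc, rfl⟩ := h.fr.WC i v hv
  rw [C_eq h h2 hij] at hc
  exact mul_mem (mem_sup_left hw) (mem_sup_right hc)

/-- **points of `V_P`** -/
theorem ptV (hij : i ≠ j) {x g : G} (hx : x ∈ zl (S : Subgroup G) P) (hg : g⁻¹ * x * g ∈ Z i) : x ∈ W i ∨ x ∈ W j := by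
  obtain ⟨w, hw, c, hc, rfl⟩ := h.fr.WC i x hx
  rw [C_eq h h2 hij] at hc
  by_cases hw1 : w = 1
  · right; rw [hw1, one_mul]; exact hc
  by_cases hc1 : c = 1
  · left; rw [hc1, mul_one]; exact hw
  exfalso
  obtain ⟨l, -, hlc, z, hz, e⟩ := h.tr i w hw hw1
  obtain ⟨l', -, hlc', z', hz', e'⟩ := h.tr j c hc hc1
  have h3 : l' * z * l'⁻¹ = z := comWZ h hij.symm hlc' ((h.fr.blk i).ZV hz)
  have h4 : l * c * l⁻¹ = c := comWZ h hij hlc hc
  have h5 : (l * l') * (z * z') * (l * l')⁻¹ = w * c := by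
    calc (l * l') * (z * z') * (l * l')⁻¹ = l * ((l' * z * l'⁻¹) * (l' * z' * l'⁻¹)) * l⁻¹ := by group
      _ = l * (z * c) * l⁻¹ := by rw [h3, e']
      _ = (l * z * l⁻¹) * (l * c * l⁻¹) := by group
      _ = w * c := by rw [e, h4]
  have hzz : z * z' ∈ ZJ := mul_mem (h.fr.Z_le i hz) (h.fr.Z_le j hz')
  obtain ⟨m, hm⟩ := h.fus (i := i) (x := z * z') (g := (l * l')⁻¹ * g) hzz (by
    have e1 : ((l * l')⁻¹ * g)⁻¹ * (z * z') * ((l * l')⁻¹ * g) = g⁻¹ * ((l * l') * (z * z') * (l * l')⁻¹) * g := by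
      group
    rw [e1, h5]
    exact hg)
  have hbot := h.Z_disj hij
  rcases h2 m with rfl | rfl
  · have h6 : z' ∈ Z m ⊓ Z j := ⟨((Z m).mul_mem_cancel_left hz).1 hm, hz'⟩
    rw [hbot, mem_bot] at h6
    rw [h6] at e'
    apply hc1
    rw [← e']; group
  · have h6 : z ∈ Z i ⊓ Z m := ⟨hz, ((Z m).mul_mem_cancel_right hz').1 hm⟩
    rw [hbot, mem_bot] at h6
    rw [h6] at e
    apply hw1
    rw [← e]; group

include p

theorem W_pt (l : ι) {x : G} (hx : x ∈ W l) : ∃ g, g⁻¹ * x * g ∈ Z i := by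
  by_cases hx1 : x = 1
  · exact ⟨1, by rw [hx1]; simp [one_mem]⟩
  obtain ⟨m, -, -, z, hz, rfl⟩ := h.tr l x hx hx1
  rcases h2 l with rfl | rfl
  · refine ⟨m, ?_⟩
    have e : m⁻¹ * (m * z * m⁻¹) * m = z := by group
    rwa [e]
  · refine ⟨m * s, ?_⟩
    have e : (m * s)⁻¹ * (m * z * m⁻¹) * (m * s) = s⁻¹ * z * s := by group
    rw [e, ← mem_cj, h.cj_s_Z p]
    exact hz

theorem le_or {A : Subgroup G} (hA : A ≤ zl (S : Subgroup G) P) (hpt : ∀ x ∈ A, ∃ g, g⁻¹ * x * g ∈ Z i) :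
    A ≤ W i ∨ A ≤ W j := by
  by_contra hcon
  push Not at hcon
  obtain ⟨h3, h4⟩ := hcon
  obtain ⟨x, hx, hxi⟩ := SetLike.not_le_iff_exists.1 h3
  obtain ⟨y, hy, hyj⟩ := SetLike.not_le_iff_exists.1 h4
  have key : ∀ x ∈ A, x ∈ W i ∨ x ∈ W j := fun x hx => by
    obtain ⟨g, hg⟩ := hpt x hx
    exact ptV h h2 p.ne (hA hx) hg
  have hxj : x ∈ W j := (key x hx).resolve_left hxi
  have hyi : y ∈ W i := (key y hy).resolve_right hyj
  rcases key (x * y) (mul_mem hx hy) with h5 | h5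
  · exact hxi (((W i).mul_mem_cancel_right hyi).1 h5)
  · exact hyj (((W j).mul_mem_cancel_left hxj).1 h5)

theorem cjW (l : ι) {g : G} (hg : cj g (W l) ≤ zl (S : Subgroup G) P) : cj g (W l) = W i ∨ cj g (W l) = W j := by
  rcases le_or h p h2 hg (fun x hx => by
    obtain ⟨k, hk⟩ := W_pt h p h2 l (mem_cj.1 hx)
    refine ⟨g * k, ?_⟩
    have e : (g * k)⁻¹ * x * (g * k) = k⁻¹ * (g⁻¹ * x * g) * k := by group
    rwa [e]) with h3 | h3
  · left
    exact Subgroup.eq_of_le_of_card_ge h3 (by rw [card_cj, card_W h, card_W h])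
  · right
    exact Subgroup.eq_of_le_of_card_ge h3 (by rw [card_cj, card_W h, card_W h])

/-- an element of `C(Z i)` normalising `V_P` (or mapping `W i` into `V_P`) normalises `W i` -/
theorem cjWi {g : G} (hg : g ∈ centralizer (Z i : Set G)) (hgV : cj g (W i) ≤ zl (S : Subgroup G) P) :
    cj g (W i) = W i := by
  rcases cjW h p h2 i hgV with h3 | h3
  · exact h3
  exfalso
  apply h.Z_ne i
  rw [eq_bot_iff, ← h.W_disj p.ne]
  refine le_inf (h.fr.blk i).ZV ?_
  rw [← h3]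
  intro z hz
  rw [mem_cj]
  have e : g⁻¹ * z * g = z := by
    rw [mul_assoc, mem_centralizer_iff.1 hg z hz]; group
  rw [e]
  exact (h.fr.blk i).ZV hz

/-- an element mapping `W j` into `W j Z i` normalises `W j` -/
theorem cjWj {g : G} (hgV : cj g (W j) ≤ W j ⊔ Z i) :
    cj g (W j) = W j := by
  have hV : W j ⊔ Z i ≤ zl (S : Subgroup G) P := sup_le (h.fr.WV j) (h.fr.ZV i)
  rcases cjW h p h2 j (hgV.trans hV) with h3 | h3
  · exfalso
    have h4 : W i ≤ Z i := by
      intro x hx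
      have h5 := hgV (h3 ▸ hx)
      obtain ⟨w, hw, z, hz, rfl⟩ := SQ1.Bau.mem_sup_comm
        (fun a ha b hb => h.fr.Vc (h.fr.WV j ha) (h.fr.ZV i hb)) h5
      have h6 : w ∈ W i ⊓ W j := ⟨((W i).mul_mem_cancel_right ((h.fr.blk i).ZV hz)).1 hx, hw⟩
      rw [h.W_disj p.ne, mem_bot] at h6
      rw [h6, one_mul]
      exact hz
    have h5 := Subgroup.card_le_of_le h4
    rw [card_W h, h.fr.cardZ] at h5
    have h6 := (h.fr.blk i).one
    nlinarith
  · exact h3

theorem T_nor : (S : Subgroup G) ⊓ centralizer (Z i : Set G) ≤ (S : Subgroup G) ⊓ normalizer (Z i : Set G) :=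
  inf_le_inf_left _ (centralizer_le_normalizer _)

theorem T1 : (S : Subgroup G) ⊓ centralizer (Z i : Set G) ≤ normalizer (Z j : Set G) :=
  (T_nor h p h2).trans ((h.T_le p).trans inf_le_right)

theorem TU0 : (S : Subgroup G) ⊓ centralizer (Z i : Set G) ≤ normalizer (W i : Set G) := by
  refine (T_nor h p h2).trans ?_
  rw [h.inf_normalizer i]
  exact inf_le_right

theorem TU1 : (S : Subgroup G) ⊓ centralizer (Z i : Set G) ≤ normalizer (W j : Set G) := by
  have h3 : (S : Subgroup G) ⊓ centralizer (Z i : Set G) ≤ (S : Subgroup G) ⊓ normalizer (Z j : Set G) :=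
    le_inf inf_le_left (T1 h p h2)
  rw [h.inf_normalizer j] at h3
  exact h3.trans inf_le_right

theorem TB : ((S : Subgroup G) ⊓ centralizer (Z i : Set G)) ⊓ centralizer (Z j : Set G) = B := by
  conv_rhs => rw [h.eqB, ZJ_eq h h2 p.ne]
  rw [inf_assoc]
  congr 1
  apply le_antisymm
  · rintro x ⟨hx1, hx2⟩
    have h3 : Z i ⊔ Z j ≤ centralizer {x} := by
      refine sup_le (fun z hz => ?_) fun z hz => ?_
      · exact mem_centralizer_singleton_iff.2 (mem_centralizer_iff.1 hx1 z hz)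
      · exact mem_centralizer_singleton_iff.2 (mem_centralizer_iff.1 hx2 z hz)
    exact mem_centralizer_iff.2 fun z hz => mem_centralizer_singleton_iff.1 (h3 hz)
  · exact le_inf (centralizer_le (le_sup_left : Z i ≤ Z i ⊔ Z j)) (centralizer_le (le_sup_right : Z j ≤ Z i ⊔ Z j))

/-- **`[W i, T] ≤ Z i`** -/
theorem com {t : G} (ht : t ∈ (S : Subgroup G) ⊓ centralizer (Z i : Set G)) {x : G} (hx : x ∈ W i) :
    t * x * t⁻¹ * x⁻¹ ∈ Z i := by
  set T : Subgroup G := (S : Subgroup G) ⊓ centralizer (Z i : Set G) with hT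
  have hfb := h.fr.blk i
  have hcz : ∀ t ∈ T, ∀ z ∈ Z i, t * z * t⁻¹ = z := fun t ht z hz => by
    rw [← mem_centralizer_iff.1 ht.2 z hz, mul_inv_cancel_right]
  have hTB : ∀ t ∈ T, ∀ b ∈ B, t * b * t⁻¹ ∈ B := fun t ht b hb =>
    (mem_normalizer_iff.1 (h.S_norm_B ht.1) b).1 hb
  have hTW : ∀ t ∈ T, ∀ w ∈ W i, t * w * t⁻¹ ∈ W i := fun t ht w hw =>
    (mem_normalizer_iff.1 (TU0 h p h2 ht) w).1 hw
  have hne : ¬ W i ≤ Z i := by
    intro h4
    have h5 := Subgroup.card_le_of_le h4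
    rw [card_W h, h.fr.cardZ] at h5
    have h6 := hfb.one
    nlinarith
  obtain ⟨o, ho, hoZ, hfix⟩ := exists_fix_mod (X := T) (T := W i) (K := Z i) (S.isPGroup'.to_le inf_le_left)
    ((W_le_B h i).trans (B_le_T h i)) (TU0 h p h2) (inf_le_right.trans (centralizer_le_normalizer _)) hne
  -- `t = b t'`, `t'` centralises `o`
  obtain ⟨b, hb, -, hbo⟩ := h.root i o ho hoZ _ (hfix t ht)
  have hbT : b ∈ T := B_le_T h i hb
  set t' : G := b⁻¹ * t with ht'
  have ht'T : t' ∈ T := T.mul_mem (inv_mem hbT) ht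
  have ht'o : t' * o * t'⁻¹ = o := by
    have e1 : t * o * t⁻¹ = b * o * b⁻¹ := mul_right_cancel hbo.symm
    calc t' * o * t'⁻¹ = b⁻¹ * (t * o * t⁻¹) * b := by rw [ht']; group
      _ = b⁻¹ * (b * o * b⁻¹) * b := by rw [e1]
      _ = o := by group
  -- `[t', x] ∈ Z i`
  have h3 : t' * x * t'⁻¹ * x⁻¹ ∈ Z i := by
    refine hfb.toMd.mem_Z_iff.2 ⟨mul_mem (hTW t' ht'T x hx) (inv_mem hx), fun c hc => ?_⟩
    -- `c' = t' c t'⁻¹` acts as `c`
    set c' := t' * c * t'⁻¹ with hc'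
    have hc'B : c' ∈ B := hTB t' ht'T c hc
    have e1 : c' * o * c'⁻¹ * o⁻¹ = c * o * c⁻¹ * o⁻¹ := by
      have e2 : c' * o * c'⁻¹ * o⁻¹ = t' * (c * (t'⁻¹ * o * t') * c⁻¹ * (t'⁻¹ * o * t')⁻¹) * t'⁻¹ := by
        rw [hc']; group
      have e3 : t'⁻¹ * o * t' = o := by
        calc t'⁻¹ * o * t' = t'⁻¹ * (t' * o * t'⁻¹) * t' := by rw [ht'o]
          _ = o := by group
      rw [e2, e3]
      exact hcz t' ht'T _ (hfb.com c hc o ho)
    have h4 : (c'⁻¹ * c) * o = o * (c'⁻¹ * c) := by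
      have e2 : c' * o * c'⁻¹ = c * o * c⁻¹ := mul_right_cancel e1
      calc (c'⁻¹ * c) * o = c'⁻¹ * (c * o * c⁻¹) * c := by group
        _ = c'⁻¹ * (c' * o * c'⁻¹) * c := by rw [e2]
        _ = o * (c'⁻¹ * c) := by group
    have h5 := hfb.free (c'⁻¹ * c) (mul_mem (inv_mem hc'B) hc) o ho hoZ h4
    -- `c x c⁻¹ = c' x c'⁻¹` for all `x ∈ W i`
    have h6 : ∀ u ∈ W i, c' * u * c'⁻¹ = c * u * c⁻¹ := by
      intro u hu
      have h7 := h5 u hu
      calc c' * u * c'⁻¹ = c' * (u * (c'⁻¹ * c)) * c⁻¹ := by group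
        _ = c' * ((c'⁻¹ * c) * u) * c⁻¹ := by rw [h7]
        _ = c * u * c⁻¹ := by group
    -- `[c, t' x t'⁻¹] = [c', t' x t'⁻¹] = t' [c, x] t'⁻¹ = [c, x]`
    have h7 : c * (t' * x * t'⁻¹) * c⁻¹ * (t' * x * t'⁻¹)⁻¹ = c * x * c⁻¹ * x⁻¹ := by
      rw [← h6 _ (hTW t' ht'T x hx)]
      have e2 : c' * (t' * x * t'⁻¹) * c'⁻¹ * (t' * x * t'⁻¹)⁻¹ = t' * (c * x * c⁻¹ * x⁻¹) * t'⁻¹ := by
        rw [hc']; group
      rw [e2]
      exact hcz t' ht'T _ (hfb.com c hc x hx)
    set y := t' * x * t'⁻¹ with hy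
    have hyW : y ∈ W i := hTW t' ht'T x hx
    have e2 : c * (y * x⁻¹) * c⁻¹ = y * x⁻¹ := by
      have e3 : c * y * c⁻¹ = (c * x * c⁻¹ * x⁻¹) * y := by
        rw [← h7]; group
      have e4 : c * (y * x⁻¹) * c⁻¹ = (c * y * c⁻¹) * (c * x * c⁻¹)⁻¹ := by group
      have hz := hfb.com c hc x hx
      set z := c * x * c⁻¹ * x⁻¹ with hzd
      have e5 : c * x * c⁻¹ = z * x := by rw [hzd]; group
      rw [e4, e3, e5]
      have e6 : z * y * (z * x)⁻¹ = z * (y * x⁻¹) * z⁻¹ := by group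
      rw [e6, hfb.comm (hfb.ZV hz) (mul_mem hyW (inv_mem hx)), mul_inv_cancel_right]
    exact mul_inv_eq_iff_eq_mul.1 e2
  have e1 : t * x * t⁻¹ * x⁻¹ = b * (t' * x * t'⁻¹ * x⁻¹) * b⁻¹ * (b * x * b⁻¹ * x⁻¹) := by
    rw [ht']; group
  rw [e1, hcz b hbT _ h3]
  exact mul_mem h3 (hfb.com b hb x hx)

/-- **`C(Z i) ∩ N(B) ≤ N(Z j) ∩ N(W i)`** -/
theorem nB' {g : G} (hg : g ∈ centralizer (Z i : Set G)) (hgB : g ∈ normalizer (B : Set G)) :
    cj g (Z j) = Z j ∧ cj g (W i) = W i := by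
  obtain ⟨hV, hZ⟩ := h.nrm g hgB
  refine ⟨?_, cjWi h p h2 hg ((cj_mono g (h.fr.WV i)).trans hV.le)⟩
  obtain ⟨l, hl, -⟩ := hZ j
  rcases h2 l with rfl | rfl
  · exfalso
    have h3 : cj g (Z l) = Z l := cj_eq_of_mem_normalizer (centralizer_le_normalizer _ hg)
    have h4 : cj g⁻¹ (cj g (Z j)) = cj g⁻¹ (cj g (Z l)) := by rw [hl, h3]
    rw [cj_inv_cj, cj_inv_cj] at h4
    exact p.ne (h.Z_inj h4).symm
  · exact hl

theorem nT' {g : G} (hgT : g ∈ normalizer (((S : Subgroup G) ⊓ centralizer (Z i : Set G) : Subgroup G) : Set G)) :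
    g ∈ normalizer (B : Set G) := by
  refine mem_normalizer_iff_cj.2 (h.wc ((S : Subgroup G) ⊓ centralizer (Z i : Set G))
    (S.isPGroup'.to_le inf_le_left) (B_le_T h i) g ?_)
  have h3 := cj_mono g (B_le_T h i)
  rwa [cj_eq_of_mem_normalizer hgT] at h3

end base

end Cfsg.Agent.Omega.KL.QF.PtV

end

section


/-!
# `QFr` from the frame `Bg`, `k = 2`, any `q` (#22058, #22723; helper20)

* `GenU` : generation by blocks: the minimal parabolics `R` over `T = C_S(Z i)` in `C(Z i)` which move `Z j` are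
  `⟨T, L'⟩`, `L'` a natural block with `[V', B] = Z l`, `V' ≤ W l Z_J`;
* `FixU` : `r ∈ R`, `w ∈ W i`, `r w r⁻¹ ∈ O₂(P)`, `[r w r⁻¹, O₂(P)] ≤ Z i` : `r w r⁻¹ ∈ V_P`;
* `qfr_of` : **`QFr ![Z i, Z j] ![W i, W j] B T`**.
-/

set_option autoImplicit false
set_option linter.unusedSectionVars false
set_option maxHeartbeats 400000

namespace Cfsg.Agent.Omega.KL.QF.OfBg

open Subgroup Cfsg Cfsg.Agent.ZN.ChoiceBase
open Cfsg.Agent.ZN (jj zj bau zc zl o2)
open Cfsg.Agent.ZN.ChoiceSit (Syl exists_syl syl_conj)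
open Cfsg.Agent.Omega.OM Cfsg.Agent.Omega.OM.Uni
open Cfsg.Agent.Omega.OM.UniPlus (NB)
open Cfsg.Agent.Omega.NO3S.EThree.Frame
open Cfsg.Agent.Omega.MinPar (NonLoc)
open Cfsg.Agent.MinSimple.MinParabolic (IsMinPar)
open PtV
open scoped Pointwise

universe u

variable {G : Type u} [Group G]

/-- The minimal parabolics over `T = C_S(Z i)` in `C(Z i)` which move `Z j` are `⟨T, L'⟩`, `L'` a block. -/
def GenU (S : Subgroup G) (B ZJ : Subgroup G) {ι : Type} (W Z : ι → Subgroup G) (q : ℕ) (i j : ι) : Prop :=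
  ∀ R : Subgroup G, IsMinPar (S ⊓ centralizer (Z i : Set G)) R → R ≤ centralizer (Z i : Set G) →
    ¬ R ≤ normalizer (Z j : Set G) → ∃ (L' V' : Subgroup G) (l : ι), L' ≤ R ∧
      R ≤ (S ⊓ centralizer (Z i : Set G)) ⊔ L' ∧ NB B L' V' (Z l) q ∧ V' ≤ W l ⊔ ZJ

/-- FIX for the conjugates of `W i` in `C(Z i)`. -/
def FixU (S P : Subgroup G) {ι : Type} (W Z : ι → Subgroup G) (i j : ι) : Prop :=
  ∀ R : Subgroup G, IsMinPar (S ⊓ centralizer (Z i : Set G)) R → R ≤ centralizer (Z i : Set G) →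
    ¬ R ≤ normalizer (Z j : Set G) → ∀ r ∈ R, ∀ w ∈ W i, r * w * r⁻¹ ∈ o2 P →
      (∀ b ∈ o2 P, r * w * r⁻¹ * b * (r * w * r⁻¹)⁻¹ * b⁻¹ ∈ Z i) → r * w * r⁻¹ ∈ zl S P

section

variable [Finite G] {S : Sylow 2 G} {P : Subgroup G} {ι : Type} [Finite ι] {B ZJ : Subgroup G}
  {L W Z C : ι → Subgroup G} {q : ℕ} (h : Bg S P B ZJ L W Z C q) {i j : ι} {s : G}
  (p : Pa (S : Subgroup G) W i j s) (h2 : ∀ l : ι, l = i ∨ l = j)
  (hTI : TI (Z i))
  (hnl : NonLoc (normalizer (Z i : Set G)) (normalizer (Z j : Set G)))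
include h

include hTI in
/-- (TI) -/
theorem ti {a b : Subgroup G} (ha : PG.IsPt ![Z i, Z j] a) (hb : PG.IsPt ![Z i, Z j] b) {x : G} (hx : x ∈ a)
    (hx' : x ∈ b) (hx1 : x ≠ 1) : a = b := by
  obtain ⟨k, rfl⟩ := ha
  obtain ⟨l, rfl⟩ := hb
  have h1 : cj (l⁻¹ * k) (Z i) = Z i := by
    apply hTI
    intro hbot
    have h3 : l⁻¹ * x * l ∈ cj (l⁻¹ * k) (Z i) ⊓ Z i := by
      refine mem_inf.2 ⟨?_, mem_cj.1 hx'⟩
      rw [mem_cj]
      have e : (l⁻¹ * k)⁻¹ * (l⁻¹ * x * l) * (l⁻¹ * k) = k⁻¹ * x * k := by group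
      rw [e]
      exact mem_cj.1 hx
    rw [hbot, mem_bot] at h3
    apply hx1
    have e : x = l * (l⁻¹ * x * l) * l⁻¹ := by group
    rw [e, h3]; group
  have h3 := congrArg (cj l) h1
  rw [cj_cj, mul_inv_cancel_left] at h3
  exact h3

omit h in
theorem pti : PG.IsPt ![Z i, Z j] (Z i) := ⟨1, by rw [map_one, one_smul]; rfl⟩

include p in
theorem ptj : PG.IsPt ![Z i, Z j] (Z j) := ⟨s, (h.cj_s_Z p).symm⟩

include h2 in
theorem U1N (hij : i ≠ j) : W j ≤ PG.NN ![Z i, Z j] (Z i) := by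
  intro x hx
  by_cases hx1 : x = 1
  · rw [hx1]; exact one_mem _
  obtain ⟨l, -, hlc, z, hz, rfl⟩ := h.tr j x hx hx1
  have h3 : l ∈ centralizer (Z i : Set G) :=
    centralizer_le ((h.fr.blk i).ZV.trans (h.fr.WjC j i hij.symm)) hlc
  have h4 : PG.Adj ![Z i, Z j] (Z i) (cj l (Z j)) := by
    refine ⟨l, ?_, rfl⟩
    exact (cj_eq_of_mem_normalizer (centralizer_le_normalizer _ h3)).symm
  exact h4.le_NN ⟨z, hz, rfl⟩

theorem pts {x : G} (hx : x ∈ W i) (hx1 : x ≠ 1) : ∃ a, PG.IsPt ![Z i, Z j] a ∧ x ∈ a ∧ a ≤ W i := by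
  obtain ⟨l, hl, hlc, z, hz, rfl⟩ := h.tr i x hx hx1
  refine ⟨cj l (Z i), ⟨l, rfl⟩, ⟨z, hz, rfl⟩, ?_⟩
  rw [← h.fix hl hlc i]
  exact cj_mono l (h.fr.blk i).ZV

include hTI in
theorem prod {a : Subgroup G} (ha : PG.IsPt ![Z i, Z j] a) (haW : a ≤ W i) (hne : a ≠ Z i) : W i ≤ Z i ⊔ a := by
  have h3 : Z i ⊓ a = ⊥ := by
    rw [eq_bot_iff]
    rintro x ⟨hx, hx'⟩
    by_contra hx1
    exact hne (ti h hTI (i := i) (j := j) ha pti hx' hx hx1)
  have h4 : Nat.card a = q := by
    obtain ⟨k, rfl⟩ := ha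
    rw [← h.fr.cardZ i]
    exact card_cj k (Z i)
  have h5 := SQ1.Bau.card_sup_comm (A := Z i) (B := a)
    fun x hx y hy => (h.fr.blk i).comm ((h.fr.blk i).ZV hx) (haW hy)
  rw [h3, card_bot, mul_one, h4, h.fr.cardZ] at h5
  exact (Subgroup.eq_of_le_of_card_ge (sup_le (h.fr.blk i).ZV haW) (by rw [h5, card_W h])).ge

/-! ### UNI -/

include p h2 in
/-- `R ≤ N(W j)` and `V' = W j` -/
theorem uni_a {R L' V' : Subgroup G} {l : ι} (hRC : R ≤ centralizer (Z i : Set G))
    (hLR : L' ≤ R) (hR : R ≤ ((S : Subgroup G) ⊓ centralizer (Z i : Set G)) ⊔ L') (hb : NB B L' V' (Z l) q)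
    (hV : V' ≤ W l ⊔ ZJ) : R ≤ normalizer (W j : Set G) ∧ l = j ∧ V' = W j := by
  have hZi : ∀ z ∈ Z i, (∀ x ∈ L', x * z = z * x) := fun z hz x hx =>
    (mem_centralizer_iff.1 (hRC (hLR hx)) z hz).symm
  have hl : l = j := by
    rcases h2 l with rfl | rfl
    · exfalso
      apply h.Z_ne l
      rw [eq_bot_iff]
      intro z hz
      exact mem_bot.2 (hb.cent hz (hZi z hz))
    · rfl
  subst hl
  set Y : Subgroup G := W l ⊔ Z i with hY
  have hVY : V' ≤ Y := by
    refine hV.trans ?_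
    rw [ZJ_eq h h2 p.ne]
    exact sup_le le_sup_left (sup_le le_sup_right ((h.fr.blk l).ZV.trans le_sup_left))
  have hYV : Y ≤ zl (S : Subgroup G) P := sup_le (h.fr.WV l) (h.fr.ZV i)
  have hcardY : Nat.card Y = q * q * q := by
    have h3 := SQ1.Bau.card_sup_comm (A := W l) (B := Z i) fun a ha b hb => h.fr.Vc (h.fr.WV l ha) (h.fr.ZV i hb)
    have h4 : W l ⊓ Z i = ⊥ := by
      rw [eq_bot_iff, ← h.W_disj p.ne]
      exact le_inf (inf_le_right.trans (h.fr.blk i).ZV) inf_le_left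
    rwa [h4, card_bot, mul_one, card_W h, h.fr.cardZ] at h3
  have hYV' : Y = V' ⊔ Z i := by
    symm
    refine Subgroup.eq_of_le_of_card_ge (sup_le hVY le_sup_right) ?_
    have h3 := SQ1.Bau.card_sup_comm (A := V') (B := Z i)
      fun a ha b hb => h.fr.Vc (hYV (hVY ha)) (h.fr.ZV i hb)
    have h4 : V' ⊓ Z i = ⊥ := by
      rw [eq_bot_iff]
      rintro x ⟨hx, hx'⟩
      refine mem_bot.2 (hb.cent ?_ (hZi x hx'))
      exact hb.toMd.mem_Z_iff.2 ⟨hx, fun b hbB => (h.fr.blk i).cZ b hbB x hx'⟩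
    rw [h4, card_bot, mul_one, hb.card, hb.cardZ, h.fr.cardZ] at h3
    rw [h3, hcardY]
  have hTY : (S : Subgroup G) ⊓ centralizer (Z i : Set G) ≤ normalizer (Y : Set G) :=
    PG.ThmG.norm_sup (TU1 h p h2) (inf_le_right.trans (centralizer_le_normalizer _))
  have hLY : L' ≤ normalizer (Y : Set G) := by
    rw [hYV']
    refine PG.ThmG.norm_sup (fun x hx => ?_) ((hLR.trans hRC).trans (centralizer_le_normalizer _))
    refine mem_normalizer_of_cj_le ?_
    rintro _ ⟨v, hv, rfl⟩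
    exact hb.nV x hx v hv
  have hRY : R ≤ normalizer (Y : Set G) := hR.trans (sup_le hTY hLY)
  have hRW : R ≤ normalizer (W l : Set G) := by
    intro r hr
    refine mem_normalizer_iff_cj.2 (cjWj h p h2 ?_)
    refine (cj_mono r (le_sup_left : W l ≤ Y)).trans ?_
    rw [cj_eq_of_mem_normalizer (hRY hr)]
  refine ⟨hRW, rfl, ?_⟩
  obtain ⟨k, hk, hs, -⟩ := hb.spl
  refine Subgroup.eq_of_le_of_card_ge ?_ (by rw [hb.card, hb.cardZ, card_W h])
  rw [hs]
  refine sup_le (h.fr.blk l).ZV ?_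
  refine (cj_mono k (h.fr.blk l).ZV).trans ?_
  rw [cj_eq_of_mem_normalizer (hRW (hLR hk))]

/-- transitivity on the nonzero vectors of `W j` -/
theorem uni_c {R L' : Subgroup G} (hBR : B ≤ R) (hLR : L' ≤ R) (hb : NB B L' (W j) (Z j) q) {x y : G} (hx : x ∈ W j)
    (hx1 : x ≠ 1) (hy : y ∈ W j) (hy1 : y ≠ 1) : ∃ r ∈ R, r * x * r⁻¹ = y := by
  obtain ⟨k, hk, hs, hbot⟩ := hb.spl
  -- every vector is conjugate into `Z j`
  have key : ∀ x ∈ W j, x ≠ 1 → ∃ r ∈ R, r * x * r⁻¹ ∈ Z j := by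
    intro x hx hx1
    by_cases hxZ : x ∈ Z j
    · exact ⟨1, one_mem _, by simpa using hxZ⟩
    have hx' := hx
    rw [hs] at hx'
    obtain ⟨z, hz, c, hc, rfl⟩ := SQ1.Bau.mem_sup_comm
      (fun a ha b hb' => hb.comm (hb.ZV ha) (hb.cjV hk hb')) hx'
    -- `b` maps `z c` to `c`
    obtain ⟨b, hbB, -, e⟩ := h.root j (z * c) hx hxZ z⁻¹ (inv_mem hz)
    have e1 : b * (z * c) * b⁻¹ = c := by
      calc b * (z * c) * b⁻¹ = (b * (z * c) * b⁻¹ * (z * c)⁻¹) * (z * c) := by group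
        _ = z⁻¹ * (z * c) := by rw [e]
        _ = c := by group
    refine ⟨k⁻¹ * b, mul_mem (inv_mem (hLR hk)) (hBR hbB), ?_⟩
    have e2 : k⁻¹ * b * (z * c) * (k⁻¹ * b)⁻¹ = k⁻¹ * (b * (z * c) * b⁻¹) * k := by group
    rw [e2, e1]
    exact mem_cj.1 hc
  obtain ⟨r, hr, h3⟩ := key x hx hx1
  obtain ⟨r', hr', h4⟩ := key y hy hy1
  obtain ⟨m, hm, -, e⟩ := hb.tor' h3 (fun e => hx1 (conj_eq_one_iff.1 e)) h4 (fun e => hy1 (conj_eq_one_iff.1 e))
  refine ⟨r'⁻¹ * m * r, mul_mem (mul_mem (inv_mem hr') (hLR hm)) hr, ?_⟩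
  calc r'⁻¹ * m * r * x * (r'⁻¹ * m * r)⁻¹ = r'⁻¹ * (m * (r * x * r⁻¹) * m⁻¹) * r' := by group
    _ = r'⁻¹ * (r' * y * r'⁻¹) * r' := by rw [e]
    _ = y := by group

include p h2 hTI in
/-- the last part of UNI -/
theorem uni_d {R : Subgroup G} (hBR : B ≤ R) (hRW : R ≤ normalizer (W j : Set G))
    (hne : ¬ R ≤ normalizer (Z j : Set G)) :
    ∃ r ∈ R, r ∉ normalizer (Z j : Set G) ∧ ∃ l, l ∈ centralizer (W i : Set G) ∧
      ∀ x ∈ W j, l * x * l⁻¹ = r * x * r⁻¹ := by
  obtain ⟨r₀, hr₀, hr₀n⟩ := SetLike.not_le_iff_exists.1 hne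
  have hfb := h.fr.blk j
  obtain ⟨x₀, hx₀, v₀, hv₀, hne₀⟩ := hfb.ne
  set a : Subgroup G := cj r₀ (Z j) with ha
  have haW : a ≤ W j := by
    refine (cj_mono r₀ hfb.ZV).trans ?_
    rw [cj_eq_of_mem_normalizer (hRW hr₀)]
  have hpa : PG.IsPt ![Z i, Z j] a := ⟨r₀ * s, by
    have h3 := h.cj_s_Z p
    change a = cj (r₀ * s) (Z i)
    rw [← cj_cj, h3]⟩
  have hpj : PG.IsPt ![Z i, Z j] (Z j) := ptj h p
  have haZ : a ≠ Z j := fun e => hr₀n (mem_normalizer_iff_cj.2 e)
  have hbot : ∀ x, x ∈ a → x ∈ Z j → x = 1 := by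
    intro x hx hx'
    by_contra hx1
    exact haZ (ti h hTI hpa hpj hx hx' hx1)
  set r : G := r₀ * x₀ * r₀⁻¹ with hr
  have hrR : r ∈ R := mul_mem (mul_mem hr₀ (hBR hx₀)) (inv_mem hr₀)
  have hr₀i : ∀ x ∈ W j, r₀⁻¹ * x * r₀ ∈ W j := by
    intro x hx
    have := (mem_normalizer_iff.1 (inv_mem (hRW hr₀)) x).1 hx
    rwa [inv_inv] at this
  -- `[W j, r] ≤ a`, `r` centralises `a`
  have hra : ∀ x ∈ W j, r * x * r⁻¹ * x⁻¹ ∈ a := by
    intro x hx
    rw [ha, mem_cj]
    have e : r₀⁻¹ * (r * x * r⁻¹ * x⁻¹) * r₀ = x₀ * (r₀⁻¹ * x * r₀) * x₀⁻¹ * (r₀⁻¹ * x * r₀)⁻¹ := by rw [hr]; group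
    rw [e]
    exact hfb.com x₀ hx₀ _ (hr₀i x hx)
  have hrc : ∀ x ∈ a, r * x * r⁻¹ = x := by
    intro x hx
    have h3 := hfb.cZ x₀ hx₀ _ (mem_cj.1 hx)
    have e : r * x * r⁻¹ = r₀ * (x₀ * (r₀⁻¹ * x * r₀) * x₀⁻¹) * r₀⁻¹ := by rw [hr]; group
    rw [e, h3]; group
  -- `W j = Z j a`
  have hWa : W j = Z j ⊔ a := by
    symm
    have h3 : Z j ⊓ a = ⊥ := by
      rw [eq_bot_iff]
      rintro x ⟨hx, hx'⟩
      exact mem_bot.2 (hbot x hx' hx)
    have h5 := SQ1.Bau.card_sup_comm (A := Z j) (B := a) fun x hx y hy => hfb.comm (hfb.ZV hx) (haW hy)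
    rw [h3, card_bot, mul_one, ha, card_cj, h.fr.cardZ, ← ha] at h5
    exact Subgroup.eq_of_le_of_card_ge (sup_le hfb.ZV haW) (by rw [h5, card_W h])
  -- `r ∉ N(Z j)`
  have hrn : r ∉ normalizer (Z j : Set G) := by
    intro hrn
    apply hne₀
    have h3 : ∀ x ∈ W j, r * x * r⁻¹ = x := by
      intro x hx
      rw [hWa] at hx
      obtain ⟨z, hz, c, hc, rfl⟩ := SQ1.Bau.mem_sup_comm (fun x hx y hy => hfb.comm (hfb.ZV hx) (haW hy)) hx
      have h4 : r * z * r⁻¹ * z⁻¹ = 1 := by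
        refine hbot _ (hra z (hfb.ZV hz)) (mul_mem ((mem_normalizer_iff.1 hrn z).1 hz) (inv_mem hz))
      have h5 : r * z * r⁻¹ = z := mul_inv_eq_one.1 h4
      calc r * (z * c) * r⁻¹ = (r * z * r⁻¹) * (r * c * r⁻¹) := by group
        _ = z * c := by rw [h5, hrc c hc]
    have hv' : r₀ * v₀ * r₀⁻¹ ∈ W j := (mem_normalizer_iff.1 (hRW hr₀) v₀).1 hv₀
    have h4 := h3 _ hv'
    have h5 : x₀ * v₀ * x₀⁻¹ = v₀ := by
      have e : r * (r₀ * v₀ * r₀⁻¹) * r⁻¹ = r₀ * (x₀ * v₀ * x₀⁻¹) * r₀⁻¹ := by rw [hr]; group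
      rw [e] at h4
      exact mul_left_cancel (mul_right_cancel h4)
    exact mul_inv_eq_iff_eq_mul.1 h5
  -- the element `l`
  obtain ⟨z, hz, hz1⟩ : ∃ z ∈ Z j, z ≠ 1 := by
    by_contra hcon
    push Not at hcon
    exact h.Z_ne j ((eq_bot_iff_forall _).2 hcon)
  have hy : r₀ * z * r₀⁻¹ ∈ a := ⟨z, hz, rfl⟩
  have hy1 : r₀ * z * r₀⁻¹ ≠ 1 := fun e => hz1 (conj_eq_one_iff.1 e)
  obtain ⟨l₀, hl₀P, hl₀, z₁, hz₁, e₁⟩ := h.tr j _ (haW hy) hy1
  have hl₀a : cj l₀ (Z j) = a := by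
    refine ti h hTI (i := i) (j := j) (x := r₀ * z * r₀⁻¹) ?_ hpa ?_ hy hy1
    · have h3 := hpj.conj l₀
      exact h3
    · rw [← e₁]; exact ⟨z₁, hz₁, rfl⟩
  have hl₀W : cj l₀ (W j) = W j := h.fix hl₀P hl₀ j
  have hl₀i : ∀ x ∈ W j, l₀⁻¹ * x * l₀ ∈ W j := by
    intro x hx
    rw [← mem_cj, hl₀W]
    exact hx
  have hz' : l₀⁻¹ * z * l₀ ∉ Z j := by
    intro h3
    rw [← mem_cj, hl₀a] at h3
    exact hz1 (hbot z h3 hz)
  have hδ : l₀⁻¹ * (r * z * r⁻¹ * z⁻¹) * l₀ ∈ Z j := by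
    rw [← mem_cj, hl₀a]
    exact hra z (hfb.ZV hz)
  obtain ⟨b', hb', hb'c, e₂⟩ := h.root j _ (hl₀i z (hfb.ZV hz)) hz' _ hδ
  set l : G := l₀ * b' * l₀⁻¹ with hl
  have hlC : l ∈ centralizer (C j : Set G) := mul_mem (mul_mem hl₀ hb'c) (inv_mem hl₀)
  have hlz : l * z * l⁻¹ = r * z * r⁻¹ := by
    have e3 : l * z * l⁻¹ * z⁻¹ = l₀ * (b' * (l₀⁻¹ * z * l₀) * b'⁻¹ * (l₀⁻¹ * z * l₀)⁻¹) * l₀⁻¹ := by rw [hl]; group
    rw [e₂] at e3
    have e4 : l * z * l⁻¹ * z⁻¹ = r * z * r⁻¹ * z⁻¹ := by rw [e3]; group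
    exact mul_right_cancel e4
  have hla : ∀ x ∈ W j, l * x * l⁻¹ * x⁻¹ ∈ a := by
    intro x hx
    rw [← hl₀a, mem_cj]
    have e : l₀⁻¹ * (l * x * l⁻¹ * x⁻¹) * l₀ = b' * (l₀⁻¹ * x * l₀) * b'⁻¹ * (l₀⁻¹ * x * l₀)⁻¹ := by rw [hl]; group
    rw [e]
    exact hfb.com b' hb' _ (hl₀i x hx)
  have hlc : ∀ x ∈ a, l * x * l⁻¹ = x := by
    intro x hx
    rw [← hl₀a, mem_cj] at hx
    have h3 := hfb.cZ b' hb' _ hx
    have e : l * x * l⁻¹ = l₀ * (b' * (l₀⁻¹ * x * l₀) * b'⁻¹) * l₀⁻¹ := by rw [hl]; group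
    rw [e, h3]; group
  refine ⟨r, hrR, hrn, l, centralizer_le (h.fr.WjC j i p.ne.symm) hlC, ?_⟩
  -- `g = l⁻¹ r` centralises `W j`
  set g : G := l⁻¹ * r with hg
  have hgz : g * z * g⁻¹ = z := by
    calc g * z * g⁻¹ = l⁻¹ * (r * z * r⁻¹) * l := by rw [hg]; group
      _ = l⁻¹ * (l * z * l⁻¹) * l := by rw [hlz]
      _ = z := by group
  have hgn : cj g (Z j) = Z j := by
    refine ti h hTI (i := i) (j := j) (x := z) ?_ hpj ?_ hz hz1
    · exact hpj.conj g
    · rw [mem_cj]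
      have e : g⁻¹ * z * g = z := by
        calc g⁻¹ * z * g = g⁻¹ * (g * z * g⁻¹) * g := by rw [hgz]
          _ = z := by group
      rwa [e]
  have hgZ : ∀ x ∈ Z j, g * x * g⁻¹ = x := by
    intro x hx
    have h3 : g * x * g⁻¹ * x⁻¹ ∈ Z j := by
      refine mul_mem ?_ (inv_mem hx)
      rw [← hgn]
      exact ⟨x, hx, rfl⟩
    have h4 : g * x * g⁻¹ * x⁻¹ ∈ a := by
      -- `l⁻¹ (r x r⁻¹) l = l⁻¹ (r x r⁻¹ x⁻¹) l * (l⁻¹ x l)`
      have hri := hra x (hfb.ZV hx)
      have e1 : l⁻¹ * (r * x * r⁻¹ * x⁻¹) * l = r * x * r⁻¹ * x⁻¹ := by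
        calc l⁻¹ * (r * x * r⁻¹ * x⁻¹) * l = l⁻¹ * (l * (r * x * r⁻¹ * x⁻¹) * l⁻¹) * l := by rw [hlc _ hri]
          _ = r * x * r⁻¹ * x⁻¹ := by group
      have e2 : l⁻¹ * (l * x * l⁻¹ * x⁻¹) * l = l * x * l⁻¹ * x⁻¹ := by
        calc l⁻¹ * (l * x * l⁻¹ * x⁻¹) * l = l⁻¹ * (l * (l * x * l⁻¹ * x⁻¹) * l⁻¹) * l := by rw [hlc _ (hla x (hfb.ZV hx))]
          _ = l * x * l⁻¹ * x⁻¹ := by group
      have e3 : g * x * g⁻¹ * x⁻¹ = (l⁻¹ * (r * x * r⁻¹ * x⁻¹) * l) * (l⁻¹ * (l * x * l⁻¹ * x⁻¹) * l)⁻¹ := by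
        rw [hg]; group
      rw [e3, e1, e2]
      exact mul_mem hri (inv_mem (hla x (hfb.ZV hx)))
    exact mul_inv_eq_one.1 (hbot _ h4 h3)
  have hga : ∀ x ∈ a, g * x * g⁻¹ = x := by
    intro x hx
    have e1 : g * x * g⁻¹ = l⁻¹ * (r * x * r⁻¹) * l := by rw [hg]; group
    rw [e1, hrc x hx]
    calc l⁻¹ * x * l = l⁻¹ * (l * x * l⁻¹) * l := by rw [hlc x hx]
      _ = x := by group
  intro x hx
  have hgx : g * x * g⁻¹ = x := by
    rw [hWa] at hx
    obtain ⟨z, hz, c, hc, rfl⟩ := SQ1.Bau.mem_sup_comm (fun x hx y hy => hfb.comm (hfb.ZV hx) (haW hy)) hx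
    calc g * (z * c) * g⁻¹ = (g * z * g⁻¹) * (g * c * g⁻¹) := by group
      _ = z * c := by rw [hgZ z hz, hga c hc]
  calc l * x * l⁻¹ = l * (g * x * g⁻¹) * l⁻¹ := by rw [hgx]
    _ = r * x * r⁻¹ := by rw [hg]; group

include p h2 hTI hnl in
/-- `R ≤ N(V_P)` -/
theorem uni_b (self : W i ≤ PG.NN ![Z i, Z j] (Z i)) (hfix : FixU (S : Subgroup G) P W Z i j) {R L' : Subgroup G}
    (hmp : IsMinPar ((S : Subgroup G) ⊓ centralizer (Z i : Set G)) R)
    (hRC : R ≤ centralizer (Z i : Set G)) (hne : ¬ R ≤ normalizer (Z j : Set G))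
    (hLR : L' ≤ R) (hR : R ≤ ((S : Subgroup G) ⊓ centralizer (Z i : Set G)) ⊔ L') (hb : NB B L' (W j) (Z j) q)
    (hRW : R ≤ normalizer (W j : Set G)) : R ≤ normalizer ((W i ⊔ W j : Subgroup G) : Set G) := by
  have PP' := h.toPP p hTI hnl
  have hV := V_eq h h2 p.ne
  have hNc : PG.NN ![Z i, Z j] (Z i) ≤ centralizer (PG.NN ![Z i, Z j] (Z i) : Set G) := PP'.NN_comm pti
  have hNB : PG.NN ![Z i, Z j] (Z i) ≤ B := PP'.N_le_Q.trans (h.o2_le i)
  have hNQ : PG.NN ![Z i, Z j] (Z i) ≤ o2 P := by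
    intro n hn
    refine (h.fr.mem_Q n (hNB hn)).2 fun v hv => ?_
    rw [hV] at hv
    have h3 : W i ⊔ W j ≤ PG.NN ![Z i, Z j] (Z i) := sup_le self (U1N h h2 p.ne)
    exact (mem_centralizer_iff.1 (hNc hn) v (h3 hv)).symm
  have hCN : centralizer (Z i : Set G) ≤ normalizer (PG.NN ![Z i, Z j] (Z i) : Set G) :=
    (centralizer_le_normalizer _).trans (PG.PP.HH_le_NN _)
  refine hR.trans (sup_le (PG.ThmG.norm_sup (TU0 h p h2) (TU1 h p h2)) fun r hr => ?_)
  have hrR := hLR hr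
  have hrc : ∀ z ∈ Z i, r * z * r⁻¹ = z := fun z hz => by
    rw [← mem_centralizer_iff.1 (hRC hrR) z hz, mul_inv_cancel_right]
  refine mem_normalizer_of_cj_le ?_
  rintro _ ⟨v, hv, rfl⟩
  change r * v * r⁻¹ ∈ W i ⊔ W j
  obtain ⟨w, hw, c, hc, rfl⟩ := SQ1.Bau.mem_sup_comm
    (fun a ha b hb => h.fr.Vc (h.fr.WV i ha) (h.fr.WV j hb)) hv
  have e1 : r * (w * c) * r⁻¹ = (r * w * r⁻¹) * (r * c * r⁻¹) := by group
  rw [e1]
  refine mul_mem ?_ (mem_sup_right ((mem_normalizer_iff.1 (hRW hrR) c).1 hc))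
  rw [← hV]
  have hn : r * w * r⁻¹ ∈ PG.NN ![Z i, Z j] (Z i) := (mem_normalizer_iff.1 (hCN (hRC hrR)) w).1 (self hw)
  refine hfix R hmp hRC hne r hrR w hw (hNQ hn) fun b hbQ => ?_
  have hbB := h.fr.QB hbQ
  have h3 : r⁻¹ * b * r ∈ B := by
    have := hb.cor r⁻¹ (inv_mem hr) b hbB fun v hv => h.fr.cQ hbQ (h.fr.WV j hv)
    rwa [inv_inv] at this
  have h4 := (h.fr.blk i).com _ h3 w hw
  have e2 : r * w * r⁻¹ * b * (r * w * r⁻¹)⁻¹ * b⁻¹ =
      r * ((r⁻¹ * b * r) * w * (r⁻¹ * b * r)⁻¹ * w⁻¹)⁻¹ * r⁻¹ := by group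
  rw [e2, hrc _ (inv_mem h4)]
  exact inv_mem h4

include p h2 hTI hnl in
/-- **`QFr` from the frame `Bg`, `k = 2`.** -/
theorem qfr_of (self : W i ≤ PG.NN ![Z i, Z j] (Z i)) (huni : GenU (S : Subgroup G) B ZJ W Z q i j)
    (hfix : FixU (S : Subgroup G) P W Z i j) :
    QFr ![Z i, Z j] ![W i, W j] B ((S : Subgroup G) ⊓ centralizer (Z i : Set G)) := by
  have PP' := h.toPP p hTI hnl
  refine
    { toPP := PP'
      ti := fun a b ha hb x hx hx' hx1 => ti h hTI ha hb hx hx' hx1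
      fus := ?_
      inf := h.W_disj p.ne
      ZU1 := (h.fr.blk j).ZV
      U0N := self
      U1N := U1N h h2 p.ne
      pts := fun x hx hx1 => pts h hx hx1
      prod := fun a ha haU hne => prod h hTI ha haU hne
      syl := syl_T h i
      TB := TB h p h2
      T1 := T1 h p h2
      TU0 := TU0 h p h2
      TU1 := TU1 h p h2
      com := fun t ht x hx => com h p h2 ht hx
      fixU := ?_
      fixU1 := ?_
      nT := ?_
      nB := ?_
      uni := ?_ }
  · rintro a ⟨g, rfl⟩ x hx hx' hx1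
    change x ∈ Z i ⊔ Z j at hx'
    obtain ⟨l, hl⟩ := h.fus (sup_le (h.fr.Z_le i) (h.fr.Z_le j) hx') (mem_cj.1 hx)
    rcases h2 l with rfl | rfl
    · left
      exact ti h hTI ⟨g, rfl⟩ pti hx hl hx1
    · right
      exact ti h hTI ⟨g, rfl⟩ (ptj h p) hx hl hx1
  · intro x hx hfx
    exact (h.fr.blk i).toMd.mem_Z_iff.2 ⟨hx, fun b hb => mul_inv_eq_iff_eq_mul.1 (hfx b (B_le_T h i hb))⟩
  · intro x hx hfx
    exact (h.fr.blk j).toMd.mem_Z_iff.2 ⟨hx, fun b hb => mul_inv_eq_iff_eq_mul.1 (hfx b (B_le_T h i hb))⟩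
  · rintro g ⟨hg, hgT⟩
    obtain ⟨h3, h4⟩ := nB' h p h2 hg (nT' h p h2 hgT)
    exact ⟨mem_normalizer_iff_cj.2 h3, mem_normalizer_iff_cj.2 h4⟩
  · rintro g ⟨hg, hgB⟩
    exact mem_normalizer_iff_cj.2 (nB' h p h2 hg hgB).2
  · intro R hmp hRC hne
    obtain ⟨L', V', l, hLR, hR, hb, hV⟩ := huni R hmp hRC hne
    obtain ⟨hRW, rfl, rfl⟩ := uni_a h p h2 hRC hLR hR hb hV
    have hBR : B ≤ R := (B_le_T h i).trans hmp.le
    refine ⟨hRW, uni_b h p h2 hTI hnl self hfix hmp hRC hne hLR hR hb hRW,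
      fun x hx hx1 y hy hy1 => uni_c h hBR hLR hb hx hx1 hy hy1, ?_⟩
    obtain ⟨r, hr, hrn, m, hm, hmr⟩ := uni_d h p h2 hTI hBR hRW hne
    exact ⟨r, hr, hrn, m, centralizer_le (h.fr.blk i).ZV hm, hm, hmr⟩

end

end Cfsg.Agent.Omega.KL.QF.OfBg

end
end

-- part: Mrg/Omega/KL/QF/Plug
section
prune_inst 0x410000140440002000018050230003c46b6000092006b00019940034606ce9f206d072760ec603b101812ae4400300000024400500078000024000800411901a0802a52029308a10425000980b087180c00000000000000000000000000041000000000000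
set_option linter.all false
open scoped Cfsg.Agent.FastGrp


/-!
# CARD #18791 `[H]` (iii), `q ≥ 4`, all levels: from the frame to the module (helper49; helper381 #22723 (Gq))

`C = C_G(Z 0)` acts on `M = N₀ / Z 0`, `N₀ = NN Z (Z 0)`; `X = Z 1 ~`, `Y = U 0 / Z 0` (`V = U 1 ~`).

* `QFx Z U B T` : `QFr`, `|U 0 : Z 0| ≥ 4`, `H₀ = C_G(Z 0) N_{H₀}(Z 1)`, `O₂(H₀ / C(N₀)) = 1`;
* **`QFx.preG`** : the frame and an exact group give `PreG`, the input of the abstract half (`KL/Q/DefG.lean`).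
-/

set_option autoImplicit false
set_option linter.unusedSectionVars false
set_option maxHeartbeats 400000

namespace Cfsg.Agent.Omega.KL.QF

open Subgroup Cfsg Cfsg.Agent.ZN Cfsg.Agent.Omega.MinPar Cfsg.Agent.Omega.OM.PG
open Cfsg.Agent.ClassTwoFusion.Quad Cfsg.Agent.Omega.ML.MinFrame
open Cfsg.Agent.Omega.KL.Q.Def (nrm mem_nrm)
open Cfsg.Agent.Omega.KL.Q.DefG (PreG gen_of_orb)
open Cfsg.Agent.Omega.OM.PG.Peel (Exa)
open Cfsg.Agent.ZN.ChoiceSit (Syl syl_not_dvd)
open Cfsg.Agent.MinSimple.MinParabolic (IsMinPar)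
open Cfsg.Agent.MinSimple.VModule (o2_isPGroup)
open Cfsg.Agent.Omega.NoFF.Basic (conj_conj mem_conj conj_le_iff conj_le_centralizer comm_symm comm_mono)
open Cfsg.Agent.Omega.NOThreeL.Pair (conj_eq_of_mem)
open scoped Pointwise

universe u v

variable {G : Type u} [Group G]

/-! ### Tools (copied from `KL/Plug.lean`) -/

/-- minimal parabolics of a subgroup -/
theorem minPar_map {C T : Subgroup G} (hTC : T ≤ C) {P : Subgroup C} (hP : IsMinPar (T.subgroupOf C) P) :
    IsMinPar T (P.map C.subtype) := by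
  have hTP : T ≤ P.map C.subtype := fun t ht => ⟨⟨t, hTC ht⟩, hP.le (mem_subgroupOf.2 ht), rfl⟩
  refine ⟨hTP, fun h => hP.not_le fun p hp => ?_, ?_⟩
  · have h1 := h (mem_map_of_mem C.subtype hp)
    rw [mem_normalizer_iff] at h1 ⊢
    exact fun t => h1 t
  · obtain ⟨M, hMP, hM⟩ := hP.exists_max
    refine ⟨M.map C.subtype, (map_lt_map_iff_of_injective C.subtype_injective).2 hMP, fun K hTK hKP => ?_⟩
    have hKC : K ≤ C := hKP.le.trans (map_subtype_le P)
    have e : (K.subgroupOf C).map C.subtype = K := by rw [subgroupOf_map_subtype, inf_eq_left.2 hKC]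
    rw [← e] at hKP ⊢
    refine map_mono (hM _ ?_ ((map_lt_map_iff_of_injective C.subtype_injective).1 hKP))
    exact fun t ht => mem_subgroupOf.2 (hTK (mem_subgroupOf.1 ht))

/-- `O₂` of a subgroup of `C` -/
theorem sub_o2 [Finite G] {C S B : Subgroup G} {S' : Subgroup C} (hS : ∀ c : C, c ∈ S' ↔ (c : G) ∈ S) (hB : B ≤ o2 S) :
    B.subgroupOf C ≤ o2 S' := by
  have h1 : B.subgroupOf C ≤ (o2 S).subgroupOf C := fun b hb => mem_subgroupOf.2 (hB (mem_subgroupOf.1 hb))
  refine h1.trans (MinSimple.VModule.le_o2 (fun c hc => (hS c).2 (o2_le _ (mem_subgroupOf.1 hc)))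
    ((o2_isPGroup S).comap_of_injective C.subtype C.subtype_injective) fun s hs => ?_)
  have h2 := MinSimple.VModule.le_normalizer_o2 S ((hS s).1 hs)
  rw [mem_normalizer_iff] at h2 ⊢
  exact fun t => h2 t

/-! ### The frame -/

/-- the frame and the three facts on `N₀` -/
structure QFx (Z U : Fin 2 → Subgroup G) (B T : Subgroup G) : Prop extends QFr Z U B T where
  four : 4 ≤ (Z 0).relIndex (U 0)
  adjC : ∀ u, Adj Z (Z 0) u → ∃ c ∈ centralizer (Z 0 : Set G), u = MulAut.conj c • Z 1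
  core0 : ∀ J : Subgroup G, J ≤ HH (Z 0) → HH (Z 0) ≤ normalizer (J : Set G) →
    (∀ y ∈ J, y ^ 2 ∈ centralizer (NN Z (Z 0) : Set G)) → J ≤ centralizer (NN Z (Z 0) : Set G)

namespace QFr

variable {Z U : Fin 2 → Subgroup G} {B T : Subgroup G} (D : QFr Z U B T)

include D

theorem Z1ne : Z 1 ≠ ⊥ := by
  intro h
  obtain ⟨s, -, h1, -, -⟩ := D.swap
  apply D.ne
  rw [← h1, h, Subgroup.smul_bot]

/-- some minimal parabolic moves `Z 1` -/
theorem exists_mv [Finite G] (adjC : ∀ u, Adj Z (Z 0) u → ∃ c ∈ centralizer (Z 0 : Set G), u = MulAut.conj c • Z 1) :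
    ∃ R : Subgroup G, IsMinPar T R ∧ R ≤ centralizer (Z 0 : Set G) ∧ ¬ R ≤ normalizer (Z 1 : Set G) := by
  by_contra hcon
  push Not at hcon
  have h1 : centralizer (Z 0 : Set G) ≤ normalizer (Z 1 : Set G) := by
    rw [← Cfsg.Agent.MinSimple.MinParabolic.sup_iSup_eq D.TC]
    refine sup_le ((le_inf inf_le_left inf_le_right).trans (D.nT.trans inf_le_left)) (iSup_le fun R => ?_)
    exact hcon R R.2.1 R.2.2
  have h2 : NN Z (Z 0) ≤ Z 1 := by
    refine sSup_le fun u hu => ?_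
    obtain ⟨c, hc, rfl⟩ := adjC u hu
    exact (conj_eq_of_mem (h1 hc)).le
  apply D.ne
  rw [eq_bot_iff, ← D.inf]
  exact le_inf D.ZU ((D.Z0N.trans h2).trans D.ZU1)

end QFr

namespace QFx

variable {Z U : Fin 2 → Subgroup G} {B T : Subgroup G} (D : QFx Z U B T)

include D

/-- the kernel of `C_G(Z 0)` on `N₀ / Z 0` is `C(N₀)` -/
theorem ker_le {c : G} (hc : c ∈ centralizer (Z 0 : Set G)) (h : ∀ n ∈ NN Z (Z 0), c * n * c⁻¹ * n⁻¹ ∈ Z 0) :
    c ∈ centralizer (NN Z (Z 0) : Set G) := by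
  have hZn : centralizer (Z 0 : Set G) ≤ normalizer (Z 0 : Set G) := centralizer_le_normalizer _
  let J : Subgroup G :=
    { carrier := {g | g ∈ centralizer (Z 0 : Set G) ∧ ∀ w ∈ NN Z (Z 0), g * w * g⁻¹ * w⁻¹ ∈ Z 0}
      one_mem' := ⟨one_mem _, fun w _ => by simp⟩
      mul_mem' := by
        rintro a b ⟨ha, ha'⟩ ⟨hb, hb'⟩
        refine ⟨mul_mem ha hb, fun w hw => ?_⟩
        have e : a * b * w * (a * b)⁻¹ * w⁻¹ = (a * (b * w * b⁻¹ * w⁻¹) * a⁻¹) * (a * w * a⁻¹ * w⁻¹) := by group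
        rw [e]
        exact mul_mem ((mem_normalizer_iff.1 (hZn ha) _).1 (hb' w hw)) (ha' w hw)
      inv_mem' := by
        rintro a ⟨ha, ha'⟩
        refine ⟨inv_mem ha, fun w hw => ?_⟩
        have e : a⁻¹ * w * a⁻¹⁻¹ * w⁻¹ = a⁻¹ * (a * w * a⁻¹ * w⁻¹)⁻¹ * a⁻¹⁻¹ := by group
        rw [e]
        exact (mem_normalizer_iff.1 (hZn (inv_mem ha)) _).1 (inv_mem (ha' w hw)) }
  refine D.core0 J (fun x hx => hZn hx.1) ?_ ?_ (⟨hc, h⟩ : c ∈ J)
  · have key : ∀ g ∈ HH (Z 0), ∀ k ∈ J, g * k * g⁻¹ ∈ J := by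
      rintro g hg k ⟨hk, hk'⟩
      refine ⟨?_, fun x hx => ?_⟩
      · have h1 := NO3L.LemP.normalizer_le_normalizer_cent (Z 0) hg
        exact (mem_normalizer_iff.1 h1 k).1 hk
      · have h1 : g⁻¹ * x * g ∈ NN Z (Z 0) := by
          have := (mem_normalizer_iff.1 (inv_mem (PP.HH_le_NN _ hg)) x).1 hx
          rwa [inv_inv] at this
        have h2 := hk' _ h1
        have e : g * k * g⁻¹ * x * (g * k * g⁻¹)⁻¹ * x⁻¹ = g * (k * (g⁻¹ * x * g) * k⁻¹ * (g⁻¹ * x * g)⁻¹) * g⁻¹ := by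
          group
        rw [e]
        exact (mem_normalizer_iff.1 hg _).1 h2
    intro g hg
    rw [mem_normalizer_iff]
    intro k
    refine ⟨key g hg k, fun h => ?_⟩
    have := key g⁻¹ (inv_mem hg) _ h
    have e : g⁻¹ * (g * k * g⁻¹) * g⁻¹⁻¹ = k := by group
    rwa [e] at this
  · rintro y ⟨hy, hy'⟩
    refine mem_centralizer_iff.2 fun n hn => ?_
    have h1 := hy' n hn
    have h2 : y * (y * n * y⁻¹ * n⁻¹) * y⁻¹ = y * n * y⁻¹ * n⁻¹ := D.cz h1 hy
    have h3 := D.Nsq (D.Z0N h1)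
    have h4 : y * y * n * y⁻¹ * y⁻¹ = n := by
      calc y * y * n * y⁻¹ * y⁻¹ = (y * (y * n * y⁻¹ * n⁻¹) * y⁻¹) * (y * n * y⁻¹ * n⁻¹) * n := by group
        _ = n := by rw [h2, h3, one_mul]
    calc n * y ^ 2 = y * y * n * y⁻¹ * y⁻¹ * y ^ 2 := by rw [h4]
      _ = y ^ 2 * n := by rw [pow_two]; group

/-- **the input (Gq) from the frame** -/
theorem preG [Finite G] (hK : IsKGroup (centralizer (Z 0 : Set G))) {A : Subgroup G} (hA2 : ∀ a ∈ A, a * a = 1)
    (hAO : A ≤ o2 (centralizer ((Z 0 ⊔ Z 1 : Subgroup G) : Set G))) (hAU : A ≤ o2 (centralizer (U 0 : Set G)))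
    (hEx : Exa (NN Z (Z 0)) A) (hAn : ¬ A ≤ centralizer (NN Z (Z 0) : Set G)) :
    ∃ (M : Type u) (_ : Group M) (_ : Finite M) (_ : MulDistribMulAction (centralizer (Z 0 : Set G)) M)
      (X Y : Subgroup M),
      PreG (T.subgroupOf (centralizer (Z 0 : Set G))) (A.subgroupOf (centralizer (Z 0 : Set G))) X Y := by
  set C : Subgroup G := centralizer (Z 0 : Set G) with hC
  set N : Subgroup G := NN Z (Z 0) with hN
  have hCN : C ≤ normalizer (N : Set G) := D.CN
  have hCZ : C ≤ normalizer (Z 0 : Set G) := centralizer_le_normalizer _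
  have hNC : N ≤ C := D.NC
  have hTC : T ≤ C := D.TC
  have hAC : A ≤ C := hAO.trans ((o2_le _).trans (centralizer_le (SetLike.coe_subset_coe.2 le_sup_left)))
  have hnor : ((Z 0).subgroupOf N).Normal := normal_subgroupOf_of_le_normalizer (hNC.trans hCZ)
  let _ := ML.Final.conjAct hCN hCZ
  let mk : N →* N ⧸ (Z 0).subgroupOf N := QuotientGroup.mk' ((Z 0).subgroupOf N)
  have hmk : Function.Surjective mk := QuotientGroup.mk'_surjective _
  have hmem : ∀ (g : C) (n : N), (g : G) * n * (g : G)⁻¹ ∈ N := fun g n =>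
    (mem_normalizer_iff.1 (hCN g.2) n).1 n.2
  have hsm : ∀ (g : C) (n : N), g • mk n = mk ⟨(g : G) * n * (g : G)⁻¹, hmem g n⟩ := fun _ _ => rfl
  have hone : ∀ a b : N, mk a = mk b ↔ (a : G) * (b : G)⁻¹ ∈ Z 0 := by
    intro a b
    rw [← mul_inv_eq_one, ← map_inv, ← map_mul, ← MonoidHom.mem_ker, QuotientGroup.ker_mk']
    exact Iff.rfl
  have hfix : ∀ (g : C) (n : N), g • mk n = mk n ↔ (g : G) * n * (g : G)⁻¹ * (n : G)⁻¹ ∈ Z 0 := by
    intro g n
    rw [hsm, hone]
  have hnZ : ∀ K ≤ N, K ≤ normalizer (Z 0 : Set G) := fun K hK => hK.trans (hNC.trans hCZ)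
  -- images
  have him : ∀ K ≤ N, ∀ n : N, mk n ∈ (K.subgroupOf N).map mk ↔ (n : G) ∈ Z 0 ⊔ K := by
    intro K hKN n
    constructor
    · rintro ⟨k, hk, hkn⟩
      have h1 := (hone k n).1 hkn
      have e : (n : G) = ((k : G) * (n : G)⁻¹)⁻¹ * k := by group
      rw [e]
      exact mul_mem (inv_mem (mem_sup_left h1)) (mem_sup_right (mem_subgroupOf.1 hk))
    · intro h
      obtain ⟨z, hz, k, hk, hzk⟩ := OM.KTwo.exists_mul_of_mem_sup (hnZ K hKN) h
      refine ⟨⟨k, hKN hk⟩, mem_subgroupOf.2 hk, (hone _ _).2 ?_⟩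
      change k * (n : G)⁻¹ ∈ Z 0
      have e : k * (n : G)⁻¹ = z⁻¹ := by rw [hzk]; group
      rw [e]
      exact inv_mem hz
  have hsupN : ∀ K ≤ N, Z 0 ⊔ K ≤ N := fun K hK => sup_le D.Z0N hK
  have hnrm : ∀ K ≤ N, ∀ c : C, c ∈ nrm C ((K.subgroupOf N).map mk) ↔
      (c : G) ∈ normalizer ((Z 0 ⊔ K : Subgroup G) : Set G) := by
    intro K hKN c
    rw [mem_nrm, mem_normalizer_iff]
    constructor
    · intro h g
      by_cases hg : g ∈ N
      · have h1 := h (mk ⟨g, hg⟩)
        rw [hsm, him K hKN, him K hKN] at h1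
        exact h1.symm
      · refine ⟨fun h' => absurd (hsupN K hKN h') hg, fun h' => absurd ?_ hg⟩
        exact (mem_normalizer_iff.1 (hCN c.2) g).2 (hsupN K hKN h')
    · intro h m
      obtain ⟨n, rfl⟩ := hmk m
      rw [hsm, him K hKN, him K hKN]
      exact (h n).symm
  have hnrm' : ∀ K ≤ N, ∀ c : C, (c : G) ∈ normalizer (K : Set G) → c ∈ nrm C ((K.subgroupOf N).map mk) := by
    intro K hKN c hc
    rw [hnrm K hKN]
    refine (ThmG.norm_sup (K := zpowers (c : G)) ?_ ?_) (mem_zpowers _)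
    · rw [zpowers_le]; exact hCZ c.2
    · rw [zpowers_le]; exact hc
  have hZU : Z 0 ⊔ U 0 = U 0 := sup_eq_right.2 D.ZU
  set X : Subgroup (N ⧸ (Z 0).subgroupOf N) := ((Z 1).subgroupOf N).map mk with hX
  set Y : Subgroup (N ⧸ (Z 0).subgroupOf N) := ((U 0).subgroupOf N).map mk with hY
  set V : Subgroup (N ⧸ (Z 0).subgroupOf N) := ((U 1).subgroupOf N).map mk with hV
  -- the kernel
  have hker : ∀ c : C, (∀ m : N ⧸ (Z 0).subgroupOf N, c • m = m) ↔ (c : G) ∈ centralizer (N : Set G) := by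
    intro c
    constructor
    · intro h
      exact D.ker_le c.2 fun n hn => (hfix c ⟨n, hn⟩).1 (h _)
    · intro h m
      obtain ⟨n, rfl⟩ := hmk m
      rw [hfix, ← mem_centralizer_iff.1 h n n.2, mul_inv_cancel_right, mul_inv_cancel]
      exact one_mem _
  -- `N_C(T)`
  have hnT : ∀ g ∈ normalizer (T.subgroupOf C : Set C), (g : G) ∈ C ⊓ normalizer (T : Set G) := by
    intro g hg
    refine mem_inf.2 ⟨g.2, ?_⟩
    rw [mem_normalizer_iff]
    intro t
    constructor
    · intro ht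
      exact (mem_normalizer_iff.1 hg ⟨t, hTC ht⟩).1 ht
    · intro ht
      have h1 : (g : G)⁻¹ * ((g : G) * t * (g : G)⁻¹) * (g : G)⁻¹⁻¹ ∈ T :=
        (mem_normalizer_iff.1 (inv_mem hg) ⟨(g : G) * t * (g : G)⁻¹, hTC ht⟩).1 ht
      have e : (g : G)⁻¹ * ((g : G) * t * (g : G)⁻¹) * (g : G)⁻¹⁻¹ = t := by group
      rwa [e] at h1
  -- the index of the fixed space
  have hcvle : (centralizer (A : Set G)).subgroupOf N ≤
      (cv (N ⧸ (Z 0).subgroupOf N) (A.subgroupOf C : Set C)).comap mk := by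
    intro n hn a ha
    refine (hfix a n).2 ?_
    have h1 := mem_centralizer_iff.1 (mem_subgroupOf.1 hn) a (mem_subgroupOf.1 ha)
    rw [h1, mul_inv_cancel_right, mul_inv_cancel]
    exact one_mem _
  have hfxr : fxr C (⊤ : Subgroup (N ⧸ (Z 0).subgroupOf N)) = (centralizer (N : Set G)).subgroupOf C := by
    ext c
    rw [mem_subgroupOf, ← hker]
    exact ⟨fun h m => h m (mem_top m), fun h m _ => h m⟩
  have hle : (cv (N ⧸ (Z 0).subgroupOf N) (A.subgroupOf C : Set C)).index ≤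
      (fxr C (⊤ : Subgroup (N ⧸ (Z 0).subgroupOf N))).relIndex (A.subgroupOf C) := by
    rw [hfxr, relIndex_subgroupOf hAC, ← index_comap_of_surjective _ hmk]
    refine (index_antitone hcvle).trans ?_
    exact hEx.ge
  -- nontrivial vectors of `X`
  have hXel : ∀ m ∈ X, ∃ z : N, (z : G) ∈ Z 1 ∧ mk z = m := by
    rintro m ⟨z, hz, rfl⟩
    exact ⟨z, mem_subgroupOf.1 hz, rfl⟩
  have hYel : ∀ m ∈ Y, ∃ z : N, (z : G) ∈ U 0 ∧ mk z = m := by
    rintro m ⟨z, hz, rfl⟩
    exact ⟨z, mem_subgroupOf.1 hz, rfl⟩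
  have hVel : ∀ m ∈ V, ∃ z : N, (z : G) ∈ U 1 ∧ mk z = m := by
    rintro m ⟨z, hz, rfl⟩
    exact ⟨z, mem_subgroupOf.1 hz, rfl⟩
  have hmk1 : ∀ n : N, mk n = 1 ↔ (n : G) ∈ Z 0 := by
    intro n
    rw [← map_one mk, hone]
    simp
  have hone' : ∀ z : N, mk z ≠ 1 → (z : G) ≠ 1 := by
    intro z h h'
    apply h
    rw [hmk1, h']
    exact one_mem _
  -- the minimal parabolics
  have huni : ∀ R : Subgroup C, IsMinPar (T.subgroupOf C) R → ¬ R ≤ nrm C X →
      IsMinPar T (R.map C.subtype) ∧ R.map C.subtype ≤ C ∧ ¬ R.map C.subtype ≤ normalizer (Z 1 : Set G) := by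
    intro R hR hmv
    refine ⟨minPar_map hTC hR, map_subtype_le R, fun h => hmv fun r hr => ?_⟩
    exact hnrm' _ D.Z1N r (h (mem_map_of_mem C.subtype hr))
  have hVY : V ⊓ Y = ⊥ := by
    rw [eq_bot_iff]
    rintro m ⟨h1, h2⟩
    obtain ⟨a, ha, rfl⟩ := hVel m h1
    obtain ⟨b, hb, hba⟩ := hYel _ h2
    have h3 := (hone b a).1 hba
    have h4 : (a : G) ∈ U 0 ⊓ U 1 := by
      refine mem_inf.2 ⟨?_, ha⟩
      have e : (a : G) = ((b : G) * (a : G)⁻¹)⁻¹ * b := by group
      rw [e]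
      exact mul_mem (inv_mem (D.ZU h3)) hb
    rw [D.inf, mem_bot] at h4
    rw [mem_bot, hmk1, h4]
    exact one_mem _
  have hXV : X ≤ V := map_mono fun a ha => mem_subgroupOf.2 (D.ZU1 (mem_subgroupOf.1 ha))
  refine ⟨N ⧸ (Z 0).subgroupOf N, inferInstance, inferInstance, inferInstance, X, Y, ?_⟩
  refine PreG.mk ?_ ?_ ?_ ?_ ?_ ?_ ?_ ?_ ?_ ?_ ?_ ?_ ?_ ?_ ?_ ?_ ?_ ?_ ?_ hle hK
  · -- sq
    intro m
    obtain ⟨n, rfl⟩ := hmk m
    rw [← map_mul, hmk1]
    have h1 : (n : G) * n = 1 := D.Nsq n.2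
    change (n : G) * n ∈ Z 0
    rw [h1]
    exact one_mem _
  · exact D.T2.comap_of_injective C.subtype C.subtype_injective
  · exact D.odd
  · -- Y4
    have h1 := relIndex_ker ((U 0).subgroupOf N) mk
    rw [QuotientGroup.ker_mk', relIndex_subgroupOf D.U0N] at h1
    rw [hY, ← h1]
    exact D.four
  · -- XY
    rw [eq_bot_iff, ← hVY]
    exact inf_le_inf_right _ hXV
  · -- nX
    intro g hg
    exact hnrm' _ D.Z1N g (D.nT (hnT g hg)).1
  · -- nY
    intro g hg
    exact hnrm' _ D.U0N g (D.nT (hnT g hg)).2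
  · -- tY
    intro t ht m hm
    obtain ⟨z, hz, rfl⟩ := hYel m hm
    exact (hfix t z).2 (D.com t (mem_subgroupOf.1 ht) z hz)
  · -- sX
    intro m hm hm1 g hg
    obtain ⟨z, hz, rfl⟩ := hXel m hm
    have h1 := (hfix g z).1 (MulAction.mem_stabilizer_iff.1 hg)
    exact hnrm' _ D.Z1N g (D.tix hz (hone' z hm1) h1).1
  · -- sY
    intro m hm hm1 g hg
    obtain ⟨z, hz, rfl⟩ := hYel m hm
    have h1 := (hfix g z).1 (MulAction.mem_stabilizer_iff.1 hg)
    exact hnrm' _ D.U0N g (D.tiy g.2 hz (fun h => hm1 ((hmk1 z).2 h)) h1)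
  · -- u1
    rintro R hR m hm hTm ⟨p, hp, hpm⟩ r hr y hy
    obtain ⟨z, hz, rfl⟩ := hXel m hm
    obtain ⟨w, hw, rfl⟩ := hYel y hy
    have hz1 : (z : G) ≠ 1 := by
      intro h
      apply hpm
      have h1 : mk z = 1 := by rw [hmk1, h]; exact one_mem _
      rw [h1, smul_one]
    refine (hfix r w).2 ?_
    refine D.u1 (minPar_map hTC hR) (map_subtype_le R) hz ?_ (mem_map_of_mem C.subtype hp) ?_ _
      (mem_map_of_mem C.subtype hr) _ hw
    · intro t ht
      exact (D.tix hz hz1 ((hfix ⟨t, hTC ht⟩ z).1 (hTm _ (mem_subgroupOf.2 ht)))).2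
    · intro h
      apply hpm
      rw [hfix]
      have h' : (p : G) * z * (p : G)⁻¹ = z := h
      rw [h', mul_inv_cancel]
      exact one_mem _
  · -- uni
    intro R hR hmv
    obtain ⟨h1, h2, h3⟩ := huni R hR hmv
    obtain ⟨h4, -, h5, -⟩ := D.uni _ h1 h2 h3
    refine ⟨?_, V, hXV, fun r hr => hnrm' _ D.U1N r (h4 (mem_map_of_mem C.subtype hr)), hVY, ?_⟩
    · intro r hr y hy
      obtain ⟨w, hw, rfl⟩ := hYel y hy
      exact (hfix r w).2 (D.uni2 h1 h2 h3 _ (mem_map_of_mem C.subtype hr) _ hw)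
    · intro v hv w hw hv1 hw1
      obtain ⟨a, ha, rfl⟩ := hVel v hv
      obtain ⟨b, hb, rfl⟩ := hVel w hw
      obtain ⟨_, ⟨r, hr, rfl⟩, hrab⟩ := h5 a ha (hone' a hv1) b hb (hone' b hw1)
      refine ⟨r, hr, ?_⟩
      rw [hsm]
      exact congrArg mk (Subtype.ext hrab)
  · -- ex
    obtain ⟨z, hz, hz1, hTz⟩ := NOThreeL.AdjTransv.exists_fixed D.T2 D.Z1ne (fun z hz => D.Nsq (D.Z1N hz))
      fun t ht z hz => (mem_normalizer_iff.1 (D.T1 ht) z).1 hz
    refine ⟨mk ⟨z, D.Z1N hz⟩, ⟨_, mem_subgroupOf.2 hz, rfl⟩, fun h => hz1 ?_, fun t ht => ?_⟩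
    · have h2 : z ∈ Z 0 ⊓ Z 1 := ⟨(hmk1 _).1 h, hz⟩
      rwa [D.inf01, mem_bot] at h2
    · rw [hfix]
      change (t : G) * z * (t : G)⁻¹ * z⁻¹ ∈ Z 0
      rw [hTz _ (mem_subgroupOf.1 ht), mul_inv_cancel]
      exact one_mem _
  · -- gen
    intro m hm hm1 _ U₀ hmU _ hU₀
    refine gen_of_orb ?_ hmU hU₀
    obtain ⟨z, hz, rfl⟩ := hXel m hm
    obtain ⟨R, hR, hRC, hRm⟩ := D.toQFr.exists_mv D.adjC
    obtain ⟨-, -, h5, -⟩ := D.uni _ hR hRC hRm
    have hVW : ∀ y : N, (y : G) ∈ U 1 → mk y ∈ orb (⊤ : Subgroup C) (mk z) := by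
      intro y hy
      by_cases hy1 : (y : G) = 1
      · have h1 : mk y = 1 := by rw [hmk1, hy1]; exact one_mem _
        rw [h1]
        exact one_mem _
      · obtain ⟨r, hr, hrz⟩ := h5 z (D.ZU1 hz) (hone' z hm1) y hy hy1
        have h2 := smul_mem_orb (g := (⟨r, hRC hr⟩ : C)) (mem_top _) (mem_orb_self (⊤ : Subgroup C) (mk z))
        rw [hsm] at h2
        have e : (⟨r * (z : G) * r⁻¹, hmem ⟨r, hRC hr⟩ z⟩ : N) = y := Subtype.ext hrz
        exact e ▸ h2
    set W : Subgroup G := ((orb (⊤ : Subgroup C) (mk z)).comap mk).map N.subtype with hW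
    have hWmem : ∀ a : N, (a : G) ∈ W ↔ mk a ∈ orb (⊤ : Subgroup C) (mk z) := by
      intro a
      constructor
      · rintro ⟨b, hb, hba⟩
        rw [← (Subtype.ext hba : b = a)]
        exact hb
      · exact fun ha => ⟨a, ha, rfl⟩
    have h1 : N ≤ W := by
      rw [hN]
      refine sSup_le fun u hu => ?_
      obtain ⟨c, hc, rfl⟩ := D.adjC u hu
      rintro _ ⟨x, hx, rfl⟩
      have h2 := smul_mem_orb (g := (⟨c, hc⟩ : C)) (mem_top _) (hVW ⟨x, D.Z1N hx⟩ (D.ZU1 hx))
      rw [hsm] at h2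
      exact (hWmem _).2 h2
    rw [eq_top_iff]
    intro m _
    obtain ⟨n, rfl⟩ := hmk m
    exact (hWmem n).1 (h1 n.2)
  · -- pair
    intro ζ hζ O hO hYO hc m hm
    obtain ⟨u, hu, rfl⟩ := hYel m hm
    have hζn := hnT ζ hζ
    -- `[ζ, t]` centralises `U 0`
    have key : ∀ t ∈ T, ∀ x ∈ U 0, ((ζ : G) * t * (ζ : G)⁻¹ * t⁻¹) * x = x * ((ζ : G) * t * (ζ : G)⁻¹ * t⁻¹) := by
      intro t ht x hx
      set c : C := ζ * ⟨t, hTC ht⟩ * ζ⁻¹ * (⟨t, hTC ht⟩ : C)⁻¹ with hcd
      have hcG : (c : G) = (ζ : G) * t * (ζ : G)⁻¹ * t⁻¹ := rfl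
      rw [← hcG]
      have hcO : ∀ w ∈ O, c • w = w := fun w hw => hc ⟨t, hTC ht⟩ (mem_subgroupOf.2 ht) w hw
      let K : Subgroup N := (centralizer {(c : G)}).subgroupOf N
      have hOK : O ⊆ K.map mk := by
        intro w hw
        obtain ⟨g, m, hm, rfl⟩ := hO w hw
        obtain ⟨z, hz, rfl⟩ := hXel m hm
        have h1 := hcO _ hw
        rw [hsm, hfix] at h1
        have h1' : (c : G) * ((g : G) * z * (g : G)⁻¹) * (c : G)⁻¹ * ((g : G) * z * (g : G)⁻¹)⁻¹ ∈ Z 0 := h1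
        by_cases hz1 : (z : G) = 1
        · have h2 : mk z = 1 := by rw [hmk1, hz1]; exact one_mem _
          rw [h2, smul_one]
          exact one_mem _
        have h2 : ((g : G)⁻¹ * c * g) * z * ((g : G)⁻¹ * c * g)⁻¹ * (z : G)⁻¹ ∈ Z 0 := by
          have h3 := D.cz h1' (inv_mem g.2)
          rw [← h3] at h1'
          have e : (g : G)⁻¹ * ((c : G) * ((g : G) * z * (g : G)⁻¹) * (c : G)⁻¹ * ((g : G) * z * (g : G)⁻¹)⁻¹) *
              (g : G)⁻¹⁻¹ = ((g : G)⁻¹ * c * g) * z * ((g : G)⁻¹ * c * g)⁻¹ * (z : G)⁻¹ := by group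
          rwa [e] at h1'
        have h3 := (D.tix hz hz1 h2).2
        rw [hsm]
        refine ⟨_, mem_subgroupOf.2 (mem_centralizer_singleton_iff.2 ?_), rfl⟩
        change (g : G) * z * (g : G)⁻¹ * c = c * ((g : G) * z * (g : G)⁻¹)
        calc (g : G) * z * (g : G)⁻¹ * c = g * (((g : G)⁻¹ * c * g) * z * ((g : G)⁻¹ * c * g)⁻¹) * (g : G)⁻¹ * c := by
              rw [h3]
          _ = c * ((g : G) * z * (g : G)⁻¹) := by group
      have hYK : Y ≤ K.map mk := hYO.trans ((closure_le _).2 hOK)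
      obtain ⟨k, hk, hkx⟩ := hYK (⟨⟨x, D.U0N hx⟩, mem_subgroupOf.2 hx, rfl⟩ : mk ⟨x, D.U0N hx⟩ ∈ Y)
      have h1 := (hone k _).1 hkx
      have h2 : x ∈ centralizer {(c : G)} := by
        have e : x = ((k : G) * x⁻¹)⁻¹ * k := by group
        rw [e]
        refine mul_mem (inv_mem ?_) (mem_subgroupOf.1 hk)
        exact mem_centralizer_singleton_iff.2 (mem_centralizer_iff.1 c.2 _ h1)
      exact (mem_centralizer_singleton_iff.1 h2).symm
    rw [hfix]
    set w : G := (ζ : G) * u * (ζ : G)⁻¹ with hw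
    have hwU : w ∈ U 0 := (mem_normalizer_iff.1 (D.nT hζn).2 _).1 hu
    refine D.fixU _ (mul_mem hwU (inv_mem hu)) fun t ht => ?_
    have h1 := D.com t ht u hu
    set z := t * (u : G) * t⁻¹ * (u : G)⁻¹ with hz
    have htw : t * w * t⁻¹ ∈ U 0 := (mem_normalizer_iff.1 (D.TU0 ht) _).1 hwU
    -- `t w t⁻¹ = z w`
    have h2 : t * w * t⁻¹ = z * w := by
      have h3 := key t ht _ htw
      have h4 := D.cz h1 ζ.2
      calc t * w * t⁻¹ = ((ζ : G) * t * (ζ : G)⁻¹ * t⁻¹)⁻¹ *
            (((ζ : G) * t * (ζ : G)⁻¹ * t⁻¹) * (t * w * t⁻¹)) := by group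
        _ = ((ζ : G) * t * (ζ : G)⁻¹ * t⁻¹)⁻¹ * ((t * w * t⁻¹) * ((ζ : G) * t * (ζ : G)⁻¹ * t⁻¹)) := by rw [h3]
        _ = (((ζ : G) * t * (ζ : G)⁻¹ * t⁻¹)⁻¹ * (t * w * t⁻¹)) * ((ζ : G) * t * (ζ : G)⁻¹ * t⁻¹) := by group
        _ = z * w := ?_
      have h3' : ((ζ : G) * t * (ζ : G)⁻¹ * t⁻¹) * (t * w * t⁻¹) * ((ζ : G) * t * (ζ : G)⁻¹ * t⁻¹)⁻¹ =
          t * w * t⁻¹ := by rw [h3, mul_inv_cancel_right]
      have h5 : ((ζ : G) * t * (ζ : G)⁻¹ * t⁻¹) * (t * w * t⁻¹) * ((ζ : G) * t * (ζ : G)⁻¹ * t⁻¹)⁻¹ =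
          (ζ : G) * (t * u * t⁻¹) * (ζ : G)⁻¹ := by rw [hw]; group
      have h6 : (ζ : G) * (t * u * t⁻¹) * (ζ : G)⁻¹ = z * w := by
        calc (ζ : G) * (t * u * t⁻¹) * (ζ : G)⁻¹ = ((ζ : G) * z * (ζ : G)⁻¹) * ((ζ : G) * u * (ζ : G)⁻¹) := by
              rw [hz]; group
          _ = z * w := by rw [h4]
      rw [← h6, ← h5, h3']
      calc ((ζ : G) * t * (ζ : G)⁻¹ * t⁻¹)⁻¹ * (t * w * t⁻¹) * ((ζ : G) * t * (ζ : G)⁻¹ * t⁻¹)
          = ((ζ : G) * t * (ζ : G)⁻¹ * t⁻¹)⁻¹ * ((t * w * t⁻¹) * ((ζ : G) * t * (ζ : G)⁻¹ * t⁻¹)) := by group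
        _ = t * w * t⁻¹ := by rw [← h3]; group
    have hzN := D.Z0N h1
    have hwN := D.U0N hwU
    calc t * (w * (u : G)⁻¹) * t⁻¹ = (t * w * t⁻¹) * (u : G)⁻¹ * (t * u * t⁻¹ * (u : G)⁻¹)⁻¹ := by group
      _ = z * w * (u : G)⁻¹ * z⁻¹ := by rw [h2, ← hz]
      _ = w * (u : G)⁻¹ := by
        rw [mul_assoc z, D.cm hzN (mul_mem hwN (inv_mem (D.U0N hu))), mul_inv_cancel_right]
  · -- el
    intro a ha
    exact Subtype.ext (hA2 a (mem_subgroupOf.1 ha))
  · -- Ax
    refine sub_o2 (S := C ⊓ normalizer ((Z 0 ⊔ Z 1 : Subgroup G) : Set G)) (fun c => ?_) ?_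
    · rw [hnrm _ D.Z1N]
      exact ⟨fun h => ⟨c.2, h⟩, fun h => h.2⟩
    · refine hAO.trans (MinSimple.VModule.le_o2 ?_ (o2_isPGroup _) ?_)
      · exact (o2_le _).trans (le_inf (centralizer_le (SetLike.coe_subset_coe.2 le_sup_left)) (centralizer_le_normalizer _))
      · exact (inf_le_right.trans (NO3L.LemP.normalizer_le_normalizer_cent _)).trans
          (Cfsg.Agent.Omega.normalizer_le_normalizer_o2' _)
  · -- Ay
    refine sub_o2 (S := C ⊓ normalizer (U 0 : Set G)) (fun c => ?_) ?_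
    · rw [hnrm _ D.U0N, hZU]
      exact ⟨fun h => ⟨c.2, h⟩, fun h => h.2⟩
    · refine hAU.trans (MinSimple.VModule.le_o2 ?_ (o2_isPGroup _) ?_)
      · exact (o2_le _).trans (le_inf (centralizer_le (SetLike.coe_subset_coe.2 D.ZU)) (centralizer_le_normalizer _))
      · exact (inf_le_right.trans (NO3L.LemP.normalizer_le_normalizer_cent _)).trans
          (Cfsg.Agent.Omega.normalizer_le_normalizer_o2' _)
  · -- mv
    by_contra hcon
    push Not at hcon
    apply hAn
    intro a ha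
    exact (hker ⟨a, hAC ha⟩).1 fun m => hcon ⟨a, hAC ha⟩ (mem_subgroupOf.2 ha) m

end QFx

end Cfsg.Agent.Omega.KL.QF
end

-- part: Mrg/Omega/KL/QF/Fin
section
prune_inst 0x410004140540002000018050230002004240000920060000199000346020e9320ed0321404c2039101812ae002000002002540050005000000400000000010120802a520013000104240009803087180c00000000000000000000000000041000000000000
set_option linter.all false
open scoped Cfsg.Agent.FastGrp

-- merged: Cfsg.Agent.Mrg.Omega.KL.Q.ExBg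
section

/-!
# The exact group of THEOREM KLQ over the frame `Bg` (all `q`, every level)

Two blocks over 186's frame `Bg S P B ZJ L W Z C q`, a partner pair `Pa S W i j s`, `TI (Z i)`, `NonLoc`, `ML.Final.MLK`:

* `tr_pt` : `C_P(C i) ∩ N(Z i)` is transitive on `Z i - 1`;
* `NN_sq`, `U_le_NN` (`W i ≤ N_j`);
* `noP` : (NO) for `Q_a` on `N_u`; `noZV` : (NO) for the elementary abelian subgroups of `Q_j ∩ C(W i)` on `⟨Z_j ^ C(W i)⟩`;
* `core_sq'` : `O₂(H_j/C(N_j)) = 1`;
* `In_of` : `ExG.In` from `gen : N(Z j) ≤ ⟨N(Z j) ∩ N(W i), N(Z j) ∩ N(Z i)⟩`; `exists_ex` : the exact group.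
-/

set_option autoImplicit false
set_option linter.unusedSectionVars false

namespace Cfsg.Agent.Omega.KL.Q.ExBg

open Subgroup Cfsg Cfsg.Agent.ZN.ChoiceBase
open Cfsg.Agent.ZN (jj zj bau zc zl o2)
open Cfsg.Agent.ZN.ChoiceSit (Syl exists_syl syl_conj syl_not_dvd)
open Cfsg.Agent.Omega.OM Cfsg.Agent.Omega.OM.Uni
open Cfsg.Agent.Omega.OM.PG
open Cfsg.Agent.Omega.NO3S.EThree.Frame
open Cfsg.Agent.Omega.NO3S.EThree.ExactA (NoP eab_iff)
open Cfsg.Agent.Omega.MinPar (NonLoc)
open Cfsg.Agent.Omega.NoFF.Basic (conj_conj V_le)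
open scoped Pointwise

universe u

variable {G : Type u} [Group G]

/-- A 2-group normalising a nontrivial elementary abelian 2-group has a nontrivial fixed element. -/
theorem exists_fixed [Finite G] {X E : Subgroup G} (hX : IsPGroup 2 X) (hE : IsPGroup 2 E) (hE1 : E ≠ ⊥)
    (hN : X ≤ normalizer (E : Set G)) : ∃ e ∈ E, e ≠ 1 ∧ ∀ x ∈ X, x * e * x⁻¹ = e := by
  have : Fact (Nat.Prime 2) := ⟨Nat.prime_two⟩
  let _ : MulAction X E :=
    { smul := fun x e => ⟨(x : G) * e * (x : G)⁻¹, (mem_normalizer_iff.1 (hN x.2) e).1 e.2⟩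
      one_smul := fun e => Subtype.ext (by show (1 : G) * e * (1 : G)⁻¹ = e; group)
      mul_smul := fun x y e => Subtype.ext (by
        show ((x : G) * y) * e * ((x : G) * y)⁻¹ = x * (y * e * (y : G)⁻¹) * (x : G)⁻¹
        group) }
  have h1 : (1 : E) ∈ MulAction.fixedPoints X E := by
    intro x
    exact Subtype.ext (by show (x : G) * 1 * (x : G)⁻¹ = 1; group)
  have h2 : 2 ∣ Nat.card E := by
    rcases hE.card_eq_or_dvd with h | h
    · exact absurd (card_eq_one.1 h) hE1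
    · exact h
  obtain ⟨e, he, hne⟩ := hX.exists_fixed_point_of_prime_dvd_card_of_fixed_point E h2 h1
  exact ⟨e, e.2, fun h => hne (Subtype.ext h.symm), fun x hx => congrArg Subtype.val (he ⟨x, hx⟩)⟩

theorem ti_mem {Z : Subgroup G} (h : TI Z) {g x : G} (hx : x ∈ Z) (hx1 : x ≠ 1) (hg : g * x * g⁻¹ ∈ Z) :
    g ∈ normalizer (Z : Set G) := by
  rw [mem_normalizer_iff_cj]
  apply h
  intro hbot
  have h2 : g * x * g⁻¹ ∈ cj g Z ⊓ Z := ⟨⟨x, hx, rfl⟩, hg⟩
  rw [hbot, mem_bot] at h2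
  exact hx1 (conj_eq_one_iff.1 h2)

theorem ti_cj {Z : Subgroup G} (h : TI Z) (s : G) : TI (cj s Z) := by
  intro g hg
  have h1 : cj (s⁻¹ * (g * s)) Z ⊓ Z ≠ ⊥ := by
    intro e
    apply hg
    have h2 := congrArg (cj s) e
    rw [cj_inf, cj_cj, mul_inv_cancel_left] at h2
    rw [cj_cj, h2]
    exact map_bot _
  have h3 := congrArg (cj s) (h _ h1)
  rw [cj_cj, mul_inv_cancel_left] at h3
  rw [cj_cj]
  exact h3

section one

variable [Finite G] {S : Sylow 2 G} {P : Subgroup G} {ι : Type} {B ZJ : Subgroup G}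
  {L W Z C : ι → Subgroup G} {q : ℕ} (h : Bg S P B ZJ L W Z C q)
include h

/-- `C_P(C i) ∩ N(Z i)` is transitive on `Z i - 1`. -/
theorem tr_pt (i : ι) {z z' : G} (hz : z ∈ Z i) (hz1 : z ≠ 1) (hz' : z' ∈ Z i) (hz1' : z' ≠ 1) :
    ∃ g ∈ P, g ∈ centralizer (C i : Set G) ∧ g ∈ normalizer (Z i : Set G) ∧ g * z * g⁻¹ = z' := by
  have hb := h.fr.blk i
  have hq1 : 1 < q := hb.one
  rcases Nat.lt_or_ge 2 q with hq | hq
  · obtain ⟨v, hv, hvZ⟩ : ∃ v ∈ W i, v ∉ Z i := by
      by_contra hcon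
      push Not at hcon
      have h1 := Subgroup.card_le_of_le (show W i ≤ Z i from hcon)
      rw [hb.card, h.fr.cardZ i] at h1
      nlinarith
    obtain ⟨b, hbB, -, e1⟩ := h.root i v hv hvZ z' hz'
    have hb1 : ¬ ∀ u ∈ W i, b * u = u * b := by
      intro hcon
      apply hz1'
      rw [← e1, hcon v hv]
      group
    -- `β : W i → Z i`, `w ↦ [b, w]`, is onto
    let β : W i →* Z i :=
      { toFun := fun w => ⟨b * w * b⁻¹ * (w : G)⁻¹, hb.com b hbB w w.2⟩
        map_one' := Subtype.ext (by simp)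
        map_mul' := fun x y => Subtype.ext (by
          change b * ((x : G) * y) * b⁻¹ * ((x : G) * y)⁻¹ = (b * x * b⁻¹ * (x : G)⁻¹) * (b * y * b⁻¹ * (y : G)⁻¹)
          have e2 : b * ((x : G) * y) * b⁻¹ * ((x : G) * y)⁻¹ =
              (b * x * b⁻¹) * (b * y * b⁻¹ * (y : G)⁻¹) * (x : G)⁻¹ := by group
          have h3 := hb.comm (hb.ZV (hb.com b hbB y y.2)) (inv_mem x.2)
          rw [e2, mul_assoc, h3]
          group) }
    have hk : Nat.card β.ker ≤ q := by
      rw [← h.fr.cardZ i]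
      refine Nat.card_le_card_of_injective (fun x : β.ker => (⟨((x : W i) : G), ?_⟩ : Z i)) ?_
      · have h2 : b * ((x : W i) : G) * b⁻¹ * ((x : W i) : G)⁻¹ = 1 := congrArg Subtype.val (x.2)
        exact hb.toMd.mem_Z hbB hb1 (x : W i).2 (mul_inv_eq_iff_eq_mul.1 (mul_inv_eq_one.1 h2))
      · intro x y e
        exact Subtype.ext (Subtype.ext (congrArg (fun t : Z i => (t : G)) e))
    have hsurj : Function.Surjective β := by
      rw [← MonoidHom.range_eq_top]
      apply Subgroup.eq_top_of_le_card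
      have h3 : Nat.card β.range * Nat.card β.ker = Nat.card (W i) := by
        rw [mul_comm, ← Subgroup.index_ker, Subgroup.card_mul_index]
      rw [hb.card] at h3
      have h4 : Nat.card (Z i) * q ≤ Nat.card β.range * q := h3 ▸ Nat.mul_le_mul_left _ hk
      exact Nat.le_of_mul_le_mul_right h4 (by omega)
    obtain ⟨v', hv'⟩ := hsurj ⟨z, hz⟩
    have e2 : b * (v' : G) * b⁻¹ * (v' : G)⁻¹ = z := congrArg Subtype.val hv'
    have hvZ' : (v' : G) ∉ Z i := by
      intro hcon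
      apply hz1
      rw [← e2, hb.cZ b hbB _ hcon]
      group
    obtain ⟨g, hgP, hgC, hgZ, h5, h6, -⟩ := (h.scal hq i).ex v hv hvZ v' v'.2 hvZ'
    refine ⟨g, hgP, hgC, hgZ, ?_⟩
    have h7 := h5 b hbB v hv
    rw [e1] at h7
    have h8 : b * (g * v * g⁻¹) * b⁻¹ * (g * v * g⁻¹)⁻¹ = z := by
      obtain ⟨ζ, hζ, e3⟩ : ∃ ζ ∈ Z i, g * v * g⁻¹ = v' * ζ := ⟨_, h6, by group⟩
      rw [e3]
      have h9 := hb.cZ b hbB ζ hζ
      calc b * (v' * ζ) * b⁻¹ * (v' * ζ)⁻¹ = b * v' * (ζ * b⁻¹) * ζ⁻¹ * (v' : G)⁻¹ := by group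
        _ = b * v' * (b⁻¹ * ζ) * ζ⁻¹ * (v' : G)⁻¹ := by
          have : ζ * b⁻¹ = b⁻¹ * ζ := by
            rw [eq_inv_mul_iff_mul_eq, ← mul_assoc, h9, mul_inv_cancel_right]
          rw [this]
        _ = b * v' * b⁻¹ * (v' : G)⁻¹ := by group
        _ = z := e2
    rw [h8] at h7
    rw [h7]
    group
  · have hq2 : q = 2 := by omega
    refine ⟨1, one_mem _, one_mem _, one_mem _, ?_⟩
    have h2 : Nat.card (Z i) = 2 := (h.fr.cardZ i).trans hq2
    obtain ⟨c, hc, hcu⟩ := (Nat.card_eq_two_iff' (1 : Z i)).1 h2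
    have hall : ∀ x ∈ Z i, x ≠ 1 → x = (c : G) := fun x hx e =>
      congrArg Subtype.val (hcu ⟨x, hx⟩ fun e' => e (congrArg Subtype.val e'))
    rw [hall z hz hz1, hall z' hz' hz1']
    group

theorem ne_top {i j : ι} (hnl : NonLoc (normalizer (Z i : Set G)) (normalizer (Z j : Set G))) :
    normalizer (Z j : Set G) ≠ ⊤ := fun e =>
  h.Z_ne j (hnl (Z j) (h.Z_two j) (e ▸ le_top) le_rfl)

theorem ne_top' {i j : ι} (hnl : NonLoc (normalizer (Z i : Set G)) (normalizer (Z j : Set G))) :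
    normalizer (Z i : Set G) ≠ ⊤ := fun e =>
  h.Z_ne i (hnl (Z i) (h.Z_two i) le_rfl (e ▸ le_top))

end one

section two

variable [Finite G] {S : Sylow 2 G} {P : Subgroup G} {ι : Type} {B ZJ : Subgroup G}
  {L W Z C : ι → Subgroup G} {q : ℕ} (h : Bg S P B ZJ L W Z C q) {i j : ι} {s : G} (p : Pa (S : Subgroup G) W i j s)
include h p

theorem Z1_le_C : Z j ≤ C i := (h.fr.blk j).ZV.trans (h.fr.WjC i j p.ne)

variable [Finite ι] (hTI : TI (Z i)) (hnl : NonLoc (normalizer (Z i : Set G)) (normalizer (Z j : Set G)))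
include hTI

theorem TI_j : TI (Z j) := by
  rw [← h.cj_s_Z p]
  exact ti_cj hTI s

include hnl

theorem NN_sq {a : Subgroup G} (ha : IsPt ![Z i, Z j] a) : ∀ x ∈ NN ![Z i, Z j] a, x ^ 2 = 1 := by
  have PP' := h.toPP p hTI hnl
  refine NoFF.Lines.Geo.sq_of_comm (PP'.NN_comm ha) (ι := {u : Subgroup G // Adj ![Z i, Z j] a u})
    (B := fun u => (u : Subgroup G)) (fun u => u.2.le_NN) ?_ fun u => PP'.ZsqConj (PP'.adj_pt u.2)
  exact sSup_le fun u hu => le_iSup (fun u : {u : Subgroup G // Adj ![Z i, Z j] a u} => (u : Subgroup G)) ⟨u, hu⟩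

/-- `W i ≤ N_j` -/
theorem U_le_NN : W i ≤ NN ![Z i, Z j] (Z j) := by
  have PP' := h.toPP p hTI hnl
  have hA : Adj ![Z i, Z j] (Z i) (Z j) := ⟨1, by rw [map_one, one_smul]; rfl, by rw [map_one, one_smul]; rfl⟩
  have hA' : Adj ![Z i, Z j] (Z j) (Z i) := PP'.adj_symm hA
  intro x hx
  by_cases hx1 : x = 1
  · rw [hx1]; exact one_mem _
  obtain ⟨l, -, hlc, y, hy, e⟩ := h.tr i x hx hx1
  have h1 := hA'.conj l
  rw [show MulAut.conj l • Z j = Z j from mem_normalizer_iff_cj.1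
    (centralizer_le_normalizer _ (centralizer_le (Z1_le_C h p) hlc))] at h1
  apply h1.le_NN
  rw [← e]
  exact ⟨y, hy, rfl⟩

/-- `(NO)` for `Q_i` on `N_j` -/
theorem noP0 (hML : ML.Final.MLK.{u, u}) {A : Subgroup G}
    (hA2 : IsElementaryAbelian 2 A) (hAQ : A ≤ o2 (normalizer (Z i : Set G))) :
    (centralizer (NN ![Z i, Z j] (Z j) : Set G)).relIndex A ≤
      (centralizer (A : Set G)).relIndex (NN ![Z i, Z j] (Z j)) := by
  have PP' := h.toPP p hTI hnl
  set Z' : Fin 2 → Subgroup G := ![Z i, Z j] with hZ'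
  have hA : Adj Z' (Z i) (Z j) := ⟨1, by rw [map_one, one_smul]; rfl, by rw [map_one, one_smul]; rfl⟩
  have hA' : Adj Z' (Z j) (Z i) := PP'.adj_symm hA
  have hjp : IsPt Z' (Z j) := hA'.pt
  set N : Subgroup G := NN Z' (Z j) with hN
  have hTZ : (S : Subgroup G) ⊓ normalizer (Z i : Set G) ≤ normalizer (Z i : Set G) := inf_le_right
  obtain ⟨z, hz, hz1, hzT⟩ := exists_fixed (S.isPGroup'.to_le inf_le_left) (h.Z_two i) (h.Z_ne i) hTZ
  have hnormz : ∀ g : G, g * z * g⁻¹ = z → g ∈ normalizer (Z i : Set G) := fun g hg =>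
    ti_mem hTI hz hz1 (hg.symm ▸ hz)
  have hbot : normalizer ((⊥ : Subgroup G) : Set G) = ⊤ := normalizer_eq_top _
  have key := hML.grp (h.hyp.ctx.kproper _ (ne_top h hnl))
    (C := normalizer (Z j : Set G)) (W := N) (Y := ⊥)
    (T := (S : Subgroup G) ⊓ normalizer (Z j : Set G)) (Q := o2 (normalizer (Z i : Set G))) (A := A) (w := z)
    { nW := PG.PP.HH_le_NN (Z j)
      nY := by rw [hbot]; exact le_top
      YW := bot_le
      WY := by rw [hbot]; exact le_top
      sq := fun x hx => by rw [← pow_two, NN_sq h p hTI hnl hjp x hx]; exact one_mem _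
      mem := hA'.le_NN hz
      gen := by
        intro Y hzY _ hCY
        have hiY : Z i ≤ Y := fun x hx => by
          by_cases hx1 : x = 1
          · rw [hx1]; exact one_mem _
          obtain ⟨g, -, hgC, -, e⟩ := tr_pt h i hz hz1 hx hx1
          have h1 : g ∈ normalizer (Z j : Set G) :=
            centralizer_le_normalizer _ (centralizer_le (Z1_le_C h p) hgC)
          rw [← e]
          exact (mem_normalizer_iff.1 (hCY h1) z).1 hzY
        refine sSup_le ?_
        rintro u ⟨k, hk, rfl⟩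
        obtain ⟨t, ht0, ht1, -, -⟩ := PP'.swap
        have e1 : MulAut.conj k • Z' 1 = MulAut.conj (k * t) • Z i := by
          rw [← conj_conj]
          exact congrArg _ ht0.symm
        have e2 : MulAut.conj (k * t) • Z j = Z j := by
          rw [← conj_conj]
          exact (congrArg (fun X => MulAut.conj k • X) ht1).trans hk.symm
        have h3 : k * t ∈ normalizer (Z j : Set G) := mem_normalizer_iff_cj.2 e2
        rw [e1]
        have h4 := cj_mono (k * t) hiY
        rwa [cj_eq_of_mem_normalizer (hCY h3)] at h4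
      TC := inf_le_right
      two := S.isPGroup'.to_le inf_le_left
      odd := syl_not_dvd (h.syl j)
      fixT := fun t ht => by
        rw [h.T_eq p] at ht
        rw [hzT t ht, mul_inv_cancel]
        exact one_mem _
      QC := PP'.QQ_le_HH hA'
      Q2 := MinSimple.VModule.o2_isPGroup _
      fixQ := fun q hq => by
        have h1 := mem_centralizer_iff.1 (h.o2_cent i hq) z hz
        rw [← h1, mul_inv_cancel_right, mul_inv_cancel]
        exact one_mem _
      nrmQ := fun g _ hg q hq => by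
        have h1 : g * z * g⁻¹ = z := mul_inv_eq_one.1 (mem_bot.1 hg)
        exact (mem_normalizer_iff.1 (MinSimple.VModule.le_normalizer_o2 _ (hnormz g h1)) q).1 hq
      AQ := hAQ
      Asq := fun a ha x hx => by
        have h1 : a ^ 2 = 1 := hA2.2 a ha
        have e : a * (a * x * a⁻¹) * a⁻¹ * x⁻¹ = (a ^ 2) * x * (a ^ 2)⁻¹ * x⁻¹ := by simp [pow_two, mul_assoc]
        rw [e, h1]
        simp }
    (KA := A ⊓ centralizer (N : Set G)) (CW := N ⊓ centralizer (A : Set G))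
    (fun a => by
      rw [mem_inf, mem_centralizer_iff]
      refine and_congr_right fun _ => forall₂_congr fun x _ => ?_
      rw [mem_bot, mul_inv_eq_one, mul_inv_eq_iff_eq_mul]
      exact eq_comm)
    (fun x => by
      rw [mem_inf, mem_centralizer_iff]
      refine and_congr_right fun _ => forall₂_congr fun a _ => ?_
      rw [mem_bot, mul_inv_eq_one, mul_inv_eq_iff_eq_mul])
  rwa [inf_relIndex_left, inf_relIndex_left] at key

/-- **`(NO)` for `Q_a` on `N_u`, `a ~ u`.** -/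
theorem noP (hML : ML.Final.MLK.{u, u}) : NoP ![Z i, Z j] := by
  rintro _ _ ⟨k, rfl, rfl⟩ A hA hAQ
  obtain ⟨A₀, rfl⟩ : ∃ A₀ : Subgroup G, A = MulAut.conj k • A₀ := ⟨MulAut.conj k⁻¹ • A, by
    rw [conj_inv_conj]⟩
  have hA0 : IsElementaryAbelian 2 A₀ := by
    have h1 := Peel.eab_conj hA k⁻¹
    rwa [inv_conj_conj] at h1
  have hAQ0 : A₀ ≤ o2 (normalizer (Z i : Set G)) := by
    rw [QQ_conj] at hAQ
    exact (Cfsg.Agent.Omega.NoFF.Basic.conj_le_iff).1 hAQ
  have key := noP0 h p hTI hnl hML hA0 hAQ0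
  rw [NN_conj]
  have e1 : centralizer ((MulAut.conj k • NN ![Z i, Z j] (![Z i, Z j] 1) : Subgroup G) : Set G) =
      MulAut.conj k • centralizer (NN ![Z i, Z j] (![Z i, Z j] 1) : Set G) :=
    (cj_centralizer k _).symm
  have e2 : centralizer ((MulAut.conj k • A₀ : Subgroup G) : Set G) = MulAut.conj k • centralizer (A₀ : Set G) :=
    (cj_centralizer k _).symm
  rw [e1, e2, relIndex_pointwise_smul, relIndex_pointwise_smul]
  exact key

/-- **`(NO)` for the elementary abelian subgroups of `Q_j ∩ C(W i)` on `⟨Z_j ^ C(W i)⟩`.** -/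
theorem noZV (hML : ML.Final.MLK.{u, u}) {A : Subgroup G} (hA2 : IsElementaryAbelian 2 A)
    (hAQ : A ≤ o2 (normalizer (Z j : Set G))) (hAW : A ≤ centralizer (W i : Set G)) :
    Peel.Nob (ExG.ZV ![Z i, Z j] ![W i, W j]) A := by
  have PP' := h.toPP p hTI hnl
  have hTIj : TI (Z j) := TI_j h p hTI
  set Z' : Fin 2 → Subgroup G := ![Z i, Z j] with hZ'
  have hA : Adj Z' (Z i) (Z j) := ⟨1, by rw [map_one, one_smul]; rfl, by rw [map_one, one_smul]; rfl⟩
  set X : Subgroup G := ExG.ZV Z' ![W i, W j] with hX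
  have hX' : X = NoFF.Basic.V (Z j) (centralizer (W i : Set G)) := rfl
  set T : Subgroup G := (S : Subgroup G) ⊓ normalizer (Z i : Set G) with hT
  have hTW : T ≤ normalizer (W i : Set G) := by rw [hT, h.inf_normalizer i]; exact inf_le_right
  have hTj : T ≤ normalizer (Z j : Set G) := (h.T_le p).trans inf_le_right
  set H : Subgroup G := centralizer (W i : Set G) ⊔ T with hH
  have hcW : centralizer (W i : Set G) ≤ normalizer (Z i : Set G) :=
    (centralizer_le (h.fr.blk i).ZV).trans (centralizer_le_normalizer _)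
  have hHZ : H ≤ normalizer (Z i : Set G) := sup_le hcW inf_le_right
  have hHW : H ≤ normalizer (W i : Set G) := sup_le (centralizer_le_normalizer _) hTW
  have hTH : T ≤ H := le_sup_right
  obtain ⟨z, hz, hz1, hzT⟩ := exists_fixed (S.isPGroup'.to_le inf_le_left) (h.Z_two j) (h.Z_ne j) hTj
  have hcX : centralizer (W i : Set G) ≤ normalizer (X : Set G) := ExG.le_normalizer_V' _ _
  have hXN : X ≤ NN Z' (Z i) := by
    refine V_le fun c hc => Adj.le_NN ?_
    have h1 := hA.conj c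
    rwa [show MulAut.conj c • Z i = Z i from mem_normalizer_iff_cj.1 (hcW hc)] at h1
  have hjX : Z j ≤ X := ExG.le_V' _ _
  have hbot : normalizer ((⊥ : Subgroup G) : Set G) = ⊤ := normalizer_eq_top _
  have hKH : H ≠ ⊤ := fun e => ne_top' h hnl (top_le_iff.1 (e ▸ hHZ))
  have key := hML.grp (h.hyp.ctx.kproper _ hKH)
    (C := H) (W := X) (Y := ⊥)
    (T := T) (Q := o2 (normalizer (Z j : Set G)) ⊓ centralizer (W i : Set G)) (A := A) (w := z)
    { nW := by
        refine sup_le hcX fun t ht => mem_normalizer_iff_cj.2 ?_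
        exact ExG.conj_ZV (Z := Z') (U := ![W i, W j]) (hTj ht) (hTW ht)
      nY := by rw [hbot]; exact le_top
      YW := bot_le
      WY := by rw [hbot]; exact le_top
      sq := fun x hx => by rw [← pow_two, NN_sq h p hTI hnl hA.pt x (hXN hx)]; exact one_mem _
      mem := hjX hz
      gen := by
        intro Y hzY _ hCY
        have hjY : Z j ≤ Y := fun x hx => by
          by_cases hx1 : x = 1
          · rw [hx1]; exact one_mem _
          obtain ⟨g, -, hgC, -, e⟩ := tr_pt h j hz hz1 hx hx1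
          have h1 : g ∈ H := (le_sup_left : _ ≤ H) (centralizer_le (h.fr.WjC j i p.ne.symm) hgC)
          rw [← e]
          exact (mem_normalizer_iff.1 (hCY h1) z).1 hzY
        refine V_le fun c hc => ?_
        have h4 := cj_mono c hjY
        rwa [cj_eq_of_mem_normalizer (hCY ((le_sup_left : _ ≤ H) hc))] at h4
      TC := hTH
      two := S.isPGroup'.to_le inf_le_left
      odd := syl_not_dvd (h.syl_of_le i hTH hHZ)
      fixT := fun t ht => by
        rw [hzT t ht, mul_inv_cancel]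
        exact one_mem _
      QC := inf_le_right.trans le_sup_left
      Q2 := (MinSimple.VModule.o2_isPGroup _).to_le inf_le_left
      fixQ := fun q hq => by
        have h1 := mem_centralizer_iff.1 (h.o2_cent j hq.1) z hz
        rw [← h1, mul_inv_cancel_right, mul_inv_cancel]
        exact one_mem _
      nrmQ := fun g hgH hg q hq => by
        have h1 : g * z * g⁻¹ = z := mul_inv_eq_one.1 (mem_bot.1 hg)
        have h2 : g ∈ normalizer (Z j : Set G) := ti_mem hTIj hz hz1 (h1.symm ▸ hz)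
        refine ⟨(mem_normalizer_iff.1 (MinSimple.VModule.le_normalizer_o2 _ h2) q).1 hq.1, ?_⟩
        have h3 : cj g (centralizer (W i : Set G)) = centralizer (W i : Set G) := by
          rw [cj_centralizer, cj_eq_of_mem_normalizer (hHW hgH)]
        rw [← h3]
        exact ⟨q, hq.2, rfl⟩
      AQ := le_inf hAQ hAW
      Asq := fun a ha x hx => by
        have h1 : a ^ 2 = 1 := hA2.2 a ha
        have e : a * (a * x * a⁻¹) * a⁻¹ * x⁻¹ = (a ^ 2) * x * (a ^ 2)⁻¹ * x⁻¹ := by simp [pow_two, mul_assoc]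
        rw [e, h1]
        simp }
    (KA := A ⊓ centralizer (X : Set G)) (CW := X ⊓ centralizer (A : Set G))
    (fun a => by
      rw [mem_inf, mem_centralizer_iff]
      refine and_congr_right fun _ => forall₂_congr fun x _ => ?_
      rw [mem_bot, mul_inv_eq_one, mul_inv_eq_iff_eq_mul]
      exact eq_comm)
    (fun x => by
      rw [mem_inf, mem_centralizer_iff]
      refine and_congr_right fun _ => forall₂_congr fun a _ => ?_
      rw [mem_bot, mul_inv_eq_one, mul_inv_eq_iff_eq_mul])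
  rwa [inf_relIndex_left, inf_relIndex_left] at key

/-- `O₂(H_j / C(N_j)) = 1` -/
theorem core_sq' {J : Subgroup G} (hJ : J ≤ normalizer (Z j : Set G))
    (hn : normalizer (Z j : Set G) ≤ normalizer (J : Set G))
    (hsq : ∀ y ∈ J, y ^ 2 ∈ centralizer (NN ![Z i, Z j] (Z j) : Set G)) :
    J ≤ centralizer (NN ![Z i, Z j] (Z j) : Set G) := by
  have e0 : cj s (Z i) = Z j := h.cj_s_Z p
  have e1 : cj s⁻¹ (Z j) = Z i := by rw [← e0, cj_inv_cj]
  have hc : cj s⁻¹ (centralizer (NN ![Z i, Z j] (Z j) : Set G)) = centralizer (NN ![Z i, Z j] (Z i) : Set G) := by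
    rw [cj_centralizer]
    have h1 : cj s⁻¹ (NN ![Z i, Z j] (Z j)) = NN ![Z i, Z j] (cj s⁻¹ (Z j)) := (NN_conj s⁻¹ (Z j)).symm
    rw [h1, e1]
  have hni : cj s⁻¹ (normalizer (Z j : Set G)) = normalizer (Z i : Set G) := by rw [cj_normalizer, e1]
  have h2 : cj s⁻¹ J ≤ centralizer (NN ![Z i, Z j] (Z i) : Set G) := by
    refine h.core_sq p (J := cj s⁻¹ J) ?_ ?_ ?_
    · rw [← hni]; exact cj_mono _ hJ
    · rw [← hni, ← cj_normalizer]; exact cj_mono _ hn
    · rintro _ ⟨y, hy, rfl⟩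
      rw [← hc]
      refine ⟨y ^ 2, hsq y hy, ?_⟩
      change s⁻¹ * y ^ 2 * s⁻¹⁻¹ = s⁻¹ * y * s⁻¹⁻¹ * (s⁻¹ * y * s⁻¹⁻¹)
      rw [pow_two]; group
  rw [← hc] at h2
  have h3 := cj_mono s h2
  rwa [cj_cj, cj_cj, mul_inv_cancel, cj_one, cj_one] at h3

/-- **The input of `ExG` over the frame.** -/
theorem in_of (hML : ML.Final.MLK.{u, u})
    (gen : normalizer (Z j : Set G) ≤ (normalizer (Z j : Set G) ⊓ normalizer (W i : Set G)) ⊔
      (normalizer (Z j : Set G) ⊓ normalizer (Z i : Set G))) : ExG.In ![Z i, Z j] ![W i, W j] where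
  toPP := h.toPP p hTI hnl
  cen0 := h.o2_cent i
  U01 := U_le_NN h p hTI hnl
  gen := gen
  core := fun _ hJ hn hsq => core_sq' h p hTI hnl hJ hn hsq
  noP := noP h p hTI hnl hML
  noH := fun _ hA hAQ hAW => noZV h p hTI hnl hML hA hAQ hAW

end two

end Cfsg.Agent.Omega.KL.Q.ExBg

end

-- merged: Cfsg.Agent.Mrg.Omega.KL.Q.ExQF
section

/-!
# The exact group of THEOREM KLQ from `Bg` and UNI (`k = 2`, all `q`, every level)

* `gen_i`, `gen_j` : `N(Z i) = ⟨N(Z i) ∩ N(W j), N(Z i) ∩ N(Z j)⟩` from UNI for the minimal parabolics of `C(Z i)` over a Sylow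
  2-subgroup `T ≥ B` of `C(Z i)`;
* `in_of_uni`, `exists_ex_of_uni`; `in_of_qfr`, `exists_ex_of_qfr` : with helper49's frame `QFr`.
-/

set_option autoImplicit false
set_option linter.unusedSectionVars false

namespace Cfsg.Agent.Omega.KL.Q.ExQF

open Subgroup Cfsg Cfsg.Agent.ZN.ChoiceBase
open Cfsg.Agent.ZN (jj zj bau zc zl o2)
open Cfsg.Agent.ZN.ChoiceSit (Syl exists_syl syl_conj syl_not_dvd)
open Cfsg.Agent.Omega.OM Cfsg.Agent.Omega.OM.Uni
open Cfsg.Agent.Omega.OM.PG
open Cfsg.Agent.Omega.NO3S.EThree.Frame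
open Cfsg.Agent.Omega.MinPar (NonLoc)
open Cfsg.Agent.MinSimple.MinParabolic (IsMinPar)
open scoped Pointwise

universe u

variable {G : Type u} [Group G]

section

variable [Finite G] {S : Sylow 2 G} {P : Subgroup G} {ι : Type} {B ZJ : Subgroup G}
  {L W Z C : ι → Subgroup G} {q : ℕ} (h : Bg S P B ZJ L W Z C q) {i j : ι} {s : G}
include h

/-- `k = 2`: an element of `N(Z i)` normalising a 2-group over `B` normalises `Z j`. -/
theorem norm_j (hij : i ≠ j) (h2 : ∀ l : ι, l = i ∨ l = j) {T : Subgroup G} (hT2 : IsPGroup 2 T) (hBT : B ≤ T)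
    {g : G} (hg : g ∈ normalizer (Z i : Set G)) (hgT : g ∈ normalizer (T : Set G)) :
    g ∈ normalizer (Z j : Set G) := by
  have h1 : cj g B = B := h.wc T hT2 hBT g (by
    have := cj_mono g hBT
    rwa [cj_eq_of_mem_normalizer hgT] at this)
  obtain ⟨-, h3⟩ := h.nrm g (mem_normalizer_iff_cj.2 h1)
  obtain ⟨l, hl, -⟩ := h3 j
  rcases h2 l with rfl | rfl
  · exfalso
    have h4 : cj g (Z j) = cj g (Z l) := hl.trans (cj_eq_of_mem_normalizer hg).symm
    have h5 := congrArg (cj g⁻¹) h4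
    rw [cj_inv_cj, cj_inv_cj] at h5
    exact hij (h.Z_inj h5).symm
  · exact mem_normalizer_iff_cj.2 hl

/-- `N(Z i) = ⟨N(Z i) ∩ N(W j), N(Z i) ∩ N(Z j)⟩` -/
theorem gen_i (hij : i ≠ j) (h2 : ∀ l : ι, l = i ∨ l = j) {T : Subgroup G} (hBT : B ≤ T)
    (hT : Syl T (centralizer (Z i : Set G)))
    (hu : ∀ R : Subgroup G, IsMinPar T R → R ≤ centralizer (Z i : Set G) → ¬ R ≤ normalizer (Z j : Set G) →
      R ≤ normalizer (W j : Set G)) :
    normalizer (Z i : Set G) ≤ (normalizer (Z i : Set G) ⊓ normalizer (W j : Set G)) ⊔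
      (normalizer (Z i : Set G) ⊓ normalizer (Z j : Set G)) := by
  set Y : Subgroup G := (normalizer (Z i : Set G) ⊓ normalizer (W j : Set G)) ⊔
      (normalizer (Z i : Set G) ⊓ normalizer (Z j : Set G)) with hY
  have hc : centralizer (Z i : Set G) ≤ normalizer (Z i : Set G) := centralizer_le_normalizer _
  have hN : ∀ g : G, g ∈ normalizer (Z i : Set G) → g ∈ normalizer (T : Set G) → g ∈ Y := fun g hg hgT =>
    (le_sup_right : _ ≤ Y) ⟨hg, norm_j h hij h2 hT.2.1 hBT hg hgT⟩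
  have h1 : centralizer (Z i : Set G) ≤ Y := by
    refine Cfsg.Agent.MinSimple.MinParabolic.le_of_forall (S := T) hT.1 (fun g hg => hN g (hc hg.1) hg.2) ?_
    intro R hR hRC
    by_cases hRj : R ≤ normalizer (Z j : Set G)
    · exact (le_inf (hRC.trans hc) hRj).trans le_sup_right
    · exact (le_inf (hRC.trans hc) (hu R hR hRC hRj)).trans le_sup_left
  intro g hg
  -- Frattini
  have hcg : cj g (centralizer (Z i : Set G)) = centralizer (Z i : Set G) := by
    rw [cj_centralizer, cj_eq_of_mem_normalizer hg]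
  have hgT : Syl (cj g T) (centralizer (Z i : Set G)) := by
    refine ⟨by rw [← hcg]; exact cj_mono g hT.1, isPGroup_cj g hT.2.1, fun R hR hR2 hle => ?_⟩
    have h3 : cj g⁻¹ R = T := by
      refine hT.2.2 (cj g⁻¹ R) ?_ (isPGroup_cj _ hR2) ?_
      · have := cj_mono g⁻¹ hR
        have e : cj g⁻¹ (centralizer (Z i : Set G)) = centralizer (Z i : Set G) := by
          rw [← hcg, cj_inv_cj, hcg]
        rwa [e] at this
      · have := cj_mono g⁻¹ hle
        rwa [cj_inv_cj] at this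
    rw [← h3, cj_cj, mul_inv_cancel, cj_one]
  obtain ⟨x, hx, e⟩ := syl_conj hT hgT
  have h3 : x⁻¹ * g ∈ normalizer (T : Set G) := by
    rw [mem_normalizer_iff_cj, ← cj_cj, ← e, cj_inv_cj]
  have h4 : x⁻¹ * g ∈ Y := hN _ (mul_mem (inv_mem (hc hx)) hg) h3
  have e2 : g = x * (x⁻¹ * g) := by group
  rw [e2]
  exact mul_mem (h1 hx) h4

/-- The same for `Z j`, by the swap. -/
theorem gen_j (p : Pa (S : Subgroup G) W i j s) (h2 : ∀ l : ι, l = i ∨ l = j) {T : Subgroup G} (hBT : B ≤ T)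
    (hT : Syl T (centralizer (Z i : Set G)))
    (hu : ∀ R : Subgroup G, IsMinPar T R → R ≤ centralizer (Z i : Set G) → ¬ R ≤ normalizer (Z j : Set G) →
      R ≤ normalizer (W j : Set G)) :
    normalizer (Z j : Set G) ≤ (normalizer (Z j : Set G) ⊓ normalizer (W i : Set G)) ⊔
      (normalizer (Z j : Set G) ⊓ normalizer (Z i : Set G)) := by
  have h1 := cj_mono s (gen_i h p.ne h2 hBT hT hu)
  have e : ∀ X Y : Subgroup G, cj s (X ⊔ Y) = cj s X ⊔ cj s Y := fun X Y => Subgroup.map_sup X Y _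
  rw [e, cj_inf, cj_inf, cj_normalizer, cj_normalizer, cj_normalizer, h.cj_s_Z p, h.cj_s_Z' p, p.ji] at h1
  exact h1

variable [Finite ι]

/-- **The input of `ExG` from `Bg` and UNI.** -/
theorem in_of_uni (p : Pa (S : Subgroup G) W i j s) (h2 : ∀ l : ι, l = i ∨ l = j) (hTI : TI (Z i))
    (hnl : NonLoc (normalizer (Z i : Set G)) (normalizer (Z j : Set G))) (hML : ML.Final.MLK.{u, u})
    {T : Subgroup G} (hBT : B ≤ T) (hT : Syl T (centralizer (Z i : Set G)))
    (hu : ∀ R : Subgroup G, IsMinPar T R → R ≤ centralizer (Z i : Set G) → ¬ R ≤ normalizer (Z j : Set G) →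
      R ≤ normalizer (W j : Set G)) : ExG.In ![Z i, Z j] ![W i, W j] :=
  ExBg.in_of h p hTI hnl hML (gen_j h p h2 hBT hT hu)

variable {T : Subgroup G}

/-- **The input of `ExG` from `Bg` and helper49's frame.** -/
theorem in_of_qfr (p : Pa (S : Subgroup G) W i j s) (h2 : ∀ l : ι, l = i ∨ l = j) (hTI : TI (Z i))
    (hML : ML.Final.MLK.{u, u}) (D : QF.QFr ![Z i, Z j] ![W i, W j] B T) : ExG.In ![Z i, Z j] ![W i, W j] := by
  have hnl : NonLoc (normalizer (Z i : Set G)) (normalizer (Z j : Set G)) := D.nonLoc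
  have hBT : B ≤ T := D.TB ▸ inf_le_left
  exact in_of_uni h p h2 hTI hnl hML hBT D.syl fun R hR hRC hRj => (D.uni R hR hRC hRj).1

/-- **The exact group from `Bg` and helper49's frame.** -/
theorem exists_ex_of_qfr (p : Pa (S : Subgroup G) W i j s) (h2 : ∀ l : ι, l = i ∨ l = j) (hTI : TI (Z i))
    (hML : ML.Final.MLK.{u, u}) (D : QF.QFr ![Z i, Z j] ![W i, W j] B T) : ExG.In.Goal ![Z i, Z j] ![W i, W j] :=
  (in_of_qfr h p h2 hTI hML D).exists_ex

end

end Cfsg.Agent.Omega.KL.Q.ExQF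

end

-- merged: Cfsg.Agent.Mrg.Omega.KL.QF.Fin
section

/-!
# `(E)`, `k = 2`, `q ≥ 4`, `V_i ≤ N_i`: the assembly over `Bg` (every level)

* `frattini` : `N(Z i) = C(Z i) N_{N(Z i)}(T)`; `adjC` : the neighbours of `Z i` are the conjugates of `Z j` under `C(Z i)`;
* `qfx_of` : helper49's `QFx` from `Bg` and `QFr`;
* `false_of_qfr` : **`Bg`, `QFr`, `MLK`, `NoPreG` give `False`**.
-/

set_option autoImplicit false
set_option linter.unusedSectionVars false

namespace Cfsg.Agent.Omega.KL.QF.Fin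

open Subgroup Cfsg Cfsg.Agent.ZN.ChoiceBase
open Cfsg.Agent.ZN (jj zj bau zc zl o2)
open Cfsg.Agent.ZN.ChoiceSit (Syl exists_syl syl_conj syl_not_dvd)
open Cfsg.Agent.Omega.OM Cfsg.Agent.Omega.OM.Uni
open Cfsg.Agent.Omega.OM.PG
open Cfsg.Agent.Omega.NO3S.EThree.Frame
open Cfsg.Agent.Omega.KL.Q
open Cfsg.Agent.Omega.MinPar (NonLoc)
open Cfsg.Agent.MinSimple.MinParabolic (IsMinPar)
open scoped Pointwise

universe u

variable {G : Type u} [Group G]

/-- Frattini -/
theorem frattini [Finite G] {X T : Subgroup G} (hT : Syl T (centralizer (X : Set G))) {g : G}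
    (hg : g ∈ normalizer (X : Set G)) : ∃ x ∈ centralizer (X : Set G), x⁻¹ * g ∈ normalizer (T : Set G) := by
  have hcg : cj g (centralizer (X : Set G)) = centralizer (X : Set G) := by
    rw [cj_centralizer, cj_eq_of_mem_normalizer hg]
  have hgT : Syl (cj g T) (centralizer (X : Set G)) := by
    refine ⟨by rw [← hcg]; exact cj_mono g hT.1, isPGroup_cj g hT.2.1, fun R hR hR2 hle => ?_⟩
    have h3 : cj g⁻¹ R = T := by
      refine hT.2.2 (cj g⁻¹ R) ?_ (isPGroup_cj _ hR2) ?_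
      · have := cj_mono g⁻¹ hR
        have e : cj g⁻¹ (centralizer (X : Set G)) = centralizer (X : Set G) := by
          rw [← hcg, cj_inv_cj, hcg]
        rwa [e] at this
      · have := cj_mono g⁻¹ hle
        rwa [cj_inv_cj] at this
    rw [← h3, cj_cj, mul_inv_cancel, cj_one]
  obtain ⟨x, hx, e⟩ := syl_conj hT hgT
  refine ⟨x, hx, ?_⟩
  rw [mem_normalizer_iff_cj, ← cj_cj, ← e, cj_inv_cj]

/-- TI -/
theorem ti_of_qfr {A X U V B T : Subgroup G} (D : QFr ![A, X] ![U, V] B T) : TI A := by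
  intro g hg
  obtain ⟨x, hx, hx1⟩ : ∃ x ∈ cj g A ⊓ A, x ≠ 1 := by
    by_contra hcon
    push Not at hcon
    exact hg ((eq_bot_iff_forall _).2 hcon)
  exact D.ti (cj g A) A ⟨g, rfl⟩ ⟨1, by rw [map_one, one_smul]; rfl⟩ x hx.1 hx.2 hx1

variable [Finite G] {S : Sylow 2 G} {P : Subgroup G} {ι : Type} {B ZJ : Subgroup G}
  {L W Z C : ι → Subgroup G} {q : ℕ} (h : Bg S P B ZJ L W Z C q) {i j : ι} {s : G}
include h

/-- The neighbours of `Z i` are the conjugates of `Z j` under `C(Z i)`. -/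
theorem adjC (hij : i ≠ j) (h2 : ∀ l : ι, l = i ∨ l = j) {T : Subgroup G} (hBT : B ≤ T)
    (hT : Syl T (centralizer (Z i : Set G))) {u : Subgroup G} (hu : Adj ![Z i, Z j] (Z i) u) :
    ∃ c ∈ centralizer (Z i : Set G), u = MulAut.conj c • Z j := by
  obtain ⟨k, hk, rfl⟩ := hu
  have hk' : k ∈ normalizer (Z i : Set G) := mem_normalizer_iff_cj.2 hk.symm
  obtain ⟨x, hx, hn⟩ := frattini hT hk'
  refine ⟨x, hx, ?_⟩
  have h1 : x⁻¹ * k ∈ normalizer (Z j : Set G) := ExQF.norm_j h hij h2 hT.2.1 hBT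
    (mul_mem (inv_mem (centralizer_le_normalizer _ hx)) hk') hn
  have e : cj k (Z j) = cj x (cj (x⁻¹ * k) (Z j)) := by rw [cj_cj, mul_inv_cancel_left]
  rw [cj_eq_of_mem_normalizer h1] at e
  exact e

variable [Finite ι] {T : Subgroup G}

/-- **`QFx` from `Bg` and `QFr`.** -/
theorem qfx_of (p : Pa (S : Subgroup G) W i j s) (h2 : ∀ l : ι, l = i ∨ l = j) (hq : 4 ≤ q)
    (D : QFr ![Z i, Z j] ![W i, W j] B T) : QFx ![Z i, Z j] ![W i, W j] B T where
  toQFr := D
  four := by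
    have h1 : Nat.card (Z i) * (Z i).relIndex (W i) = Nat.card (W i) :=
      Cfsg.Agent.Omega.NO3S.ML.card_mul_relIndex (h.fr.blk i).ZV
    rw [(h.fr.blk i).card] at h1
    have h3 : (Z i).relIndex (W i) = q := Nat.eq_of_mul_eq_mul_left Nat.card_pos h1
    change 4 ≤ (Z i).relIndex (W i)
    rw [h3]
    exact hq
  adjC := fun u hu => adjC h p.ne h2 (D.TB ▸ inf_le_left) D.syl hu
  core0 := fun _ hJ hn hsq => h.core_sq p hJ hn fun y hy => by
    rw [← pow_two]
    exact hsq y hy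

/-- **`V_i ≤ N_i` is impossible (`k = 2`, `q ≥ 4`, every level).** -/
theorem false_of_qfr (p : Pa (S : Subgroup G) W i j s) (h2 : ∀ l : ι, l = i ∨ l = j) (hq : 4 ≤ q)
    (hML : ML.Final.MLK.{u, u}) (hN : DefG.NoPreG.{u, u}) (D : QFr ![Z i, Z j] ![W i, W j] B T) : False := by
  have hnl : NonLoc (normalizer (Z i : Set G)) (normalizer (Z j : Set G)) := D.nonLoc
  obtain ⟨A, hA, -, hAO, hAU, -, hEx, hAn⟩ := ExQF.exists_ex_of_qfr h p h2 (ti_of_qfr D) hML D
  have hK : IsKGroup (centralizer (Z i : Set G)) := by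
    refine h.hyp.ctx.kproper _ fun e => ?_
    exact ExBg.ne_top' h hnl (top_le_iff.1 (e ▸ centralizer_le_normalizer _))
  obtain ⟨M, _, _, _, X, Y, hP⟩ := (qfx_of h p h2 hq D).preG hK
    (fun a ha => by rw [← pow_two]; exact hA.2 a ha) hAO hAU hEx hAn
  exact hN _ _ _ _ _ _ hP

end Cfsg.Agent.Omega.KL.QF.Fin

end
end

-- part: Mrg/Omega/NO1/Field/KillF
section
prune_inst 0x400100040402202000018050230003c0686000092006b00009900024006ce1b206d07276054203b101812aa440032800002dc00500048000024000200411d01a0802a52400300b10425000980f887180c00000000000000000000000000041000000000000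
set_option linter.all false
open scoped Cfsg.Agent.FastGrp

-- part: Mrg/Omega/NO1/Field/RPlus
section
/-!
# FIELD-3: `C(V/F) ∩ C(E) = C(V)` and (R+), without torus and without field (project OMEGA, N1)

Shortcut (A) of helper868 (bb #20083), (3) of THEOREM SZ (bb #19896, helper406); typed by helper168.

* `HypF.trans` : `N(V) ∩ N(E) ∩ C(F)` is transitive on `(V / E)#`;
* `HypF.nn` : `g ∈ N(V)`, `[V, g] ≤ F`, `[E, g] = 1` ⟹ `g ∈ C(V)`;
* `HypF.rplus` : `g ∈ N(V)`, `[V, g] ≤ E`, `[E, g] ≤ F`, `[F, g] = 1` ⟹ `g ∈ W C(V)`.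
-/

set_option autoImplicit false
set_option linter.unusedSectionVars false

namespace Cfsg.Agent.Omega.NO1.Field

open Subgroup Cfsg Cfsg.Agent.ZN Cfsg.Agent.Omega.MinPar Cfsg.Agent.Omega.Frame
open Cfsg.Agent.Omega.FFThm (OffM ElemM)
open Cfsg.Agent.Omega.NOne.NearFF (c c_def)
open Cfsg.Agent.Omega.NOne.Flat (Hyp BadX Sect EX HX Spr gi WW)
open scoped Pointwise

universe u

section pairing

theorem sum_units {B : Type*} [Group B] [Fintype B] (t : B → ℤˣ) (ht : ∀ b b', t (b * b') = t b * t b')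
    (hne : ∃ b, t b ≠ 1) : ∑ b, ((t b : ℤˣ) : ℤ) = 0 := by
  obtain ⟨c, hc⟩ := hne
  have hc' : t c = -1 := (Int.units_eq_one_or (t c)).resolve_left hc
  have h1 : ∑ b, ((t b : ℤˣ) : ℤ) = ∑ b, ((t (c * b) : ℤˣ) : ℤ) :=
    (Fintype.sum_equiv (Equiv.mulLeft c) _ _ (fun b => rfl)).symm
  have h2 : ∑ b, ((t (c * b) : ℤˣ) : ℤ) = - ∑ b, ((t b : ℤˣ) : ℤ) := by
    rw [← Finset.sum_neg_distrib]
    refine Finset.sum_congr rfl fun b _ => ?_
    rw [ht, hc']
    simp
  omega

/-- double counting for a pairing with values `±1` -/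
theorem pairing_units {A B : Type*} [Group A] [Group B] [Finite A] [Finite B] (s : A → B → ℤˣ)
    (hl : ∀ a a' b, s (a * a') b = s a b * s a' b) (hr : ∀ a b b', s a (b * b') = s a b * s a b') :
    Nat.card {a // ∀ b, s a b = 1} * Nat.card B = Nat.card A * Nat.card {b // ∀ a, s a b = 1} := by
  classical
  have := Fintype.ofFinite A
  have := Fintype.ofFinite B
  have h1 : ∑ a, ∑ b, ((s a b : ℤˣ) : ℤ) = Nat.card {a // ∀ b, s a b = 1} * Nat.card B := by
    have : ∀ a, ∑ b, ((s a b : ℤˣ) : ℤ) = if (∀ b, s a b = 1) then (Fintype.card B : ℤ) else 0 := by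
      intro a
      split_ifs with h
      · simp [h]
      · push Not at h
        exact sum_units (s a) (hr a) h
    simp only [this]
    rw [Finset.sum_ite, Finset.sum_const_zero, add_zero, Finset.sum_const, nsmul_eq_mul,
      Nat.card_eq_fintype_card, Nat.card_eq_fintype_card, Fintype.card_subtype]
  have h2 : ∑ b, ∑ a, ((s a b : ℤˣ) : ℤ) = Nat.card {b // ∀ a, s a b = 1} * Nat.card A := by
    have : ∀ b, ∑ a, ((s a b : ℤˣ) : ℤ) = if (∀ a, s a b = 1) then (Fintype.card A : ℤ) else 0 := by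
      intro b
      split_ifs with h
      · simp [h]
      · push Not at h
        exact sum_units (fun a => s a b) (fun a a' => hl a a' b) h
    simp only [this]
    rw [Finset.sum_ite, Finset.sum_const_zero, add_zero, Finset.sum_const, nsmul_eq_mul,
      Nat.card_eq_fintype_card, Nat.card_eq_fintype_card, Fintype.card_subtype]
  rw [Finset.sum_comm, h2] at h1
  have h3 : (Nat.card {a // ∀ b, s a b = 1} * Nat.card B : ℤ) =
      Nat.card A * Nat.card {b // ∀ a, s a b = 1} := by rw [← h1, mul_comm]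
  exact_mod_cast h3

end pairing

section

variable {G : Type u} [Group G] [Finite G] {V F : Subgroup G}

/-- `N(V) ∩ N(E) ∩ C(F)` is transitive on `(V / E)#`. -/
theorem HypF.trans (h : HypF V F) {v w : G} (hv : v ∈ V) (hvE : v ∉ NOne.Flat.EE V F) (hw : w ∈ V)
    (hwE : w ∉ NOne.Flat.EE V F) :
    ∃ l ∈ normalizer (V : Set G), l ∈ normalizer (NOne.Flat.EE V F : Set G) ∧ l ∈ centralizer (F : Set G) ∧
      w⁻¹ * (l * v * l⁻¹) ∈ NOne.Flat.EE V F :=
  h.toHyp.trans h.f0' hv hvE hw hwE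

/-- `{g ∈ N(V) : [V, g] ≤ F, [E, g] = 1}` -/
def NG (h : HypF V F) : Subgroup G where
  carrier := {g | g ∈ normalizer (V : Set G) ∧ (∀ v ∈ V, c v g ∈ F) ∧ ∀ e ∈ NOne.Flat.EE V F, c e g = 1}
  one_mem' := ⟨one_mem _, fun v _ => by rw [c_def]; simp, fun e _ => by rw [c_def]; simp⟩
  mul_mem' := by
    rintro a b ⟨ha, ha1, ha2⟩ ⟨hb, hb1, hb2⟩
    refine ⟨mul_mem ha hb, fun v hv => ?_, fun e he => ?_⟩
    · -- `c v (ab) = c v a * (a (c v b) a⁻¹)`
      have e : c v (a * b) = c v a * (a * c v b * a⁻¹) := by rw [c, c, c]; group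
      have hf := hb1 v hv
      have h1 : a * c v b * a⁻¹ = c v b := by
        have h2 := ha2 _ (h.toHyp.F_le_E hf)
        have h3 : c v b * a = a * c v b := by
          rw [c_def (c v b)] at h2
          have := mul_inv_eq_one.1 h2
          calc c v b * a = (c v b * a * (c v b)⁻¹) * c v b := by group
            _ = a * c v b := by rw [this]
        rw [← h3]; group
      rw [e, h1]
      exact mul_mem (ha1 v hv) hf
    · have e1 : c e (a * b) = c e a * (a * c e b * a⁻¹) := by rw [c, c, c]; group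
      rw [e1, ha2 e he, hb2 e he]; group
  inv_mem' := by
    rintro a ⟨ha, ha1, ha2⟩
    refine ⟨inv_mem ha, fun v hv => ?_, fun e he => ?_⟩
    · have e : c v a⁻¹ = a⁻¹ * (c v a)⁻¹ * a := by rw [c, c]; group
      have hf := inv_mem (ha1 v hv)
      have h2 := ha2 _ (h.toHyp.F_le_E hf)
      have h3 : (c v a)⁻¹ * a = a * (c v a)⁻¹ := by
        rw [c_def ((c v a)⁻¹)] at h2
        have := mul_inv_eq_one.1 h2
        calc (c v a)⁻¹ * a = ((c v a)⁻¹ * a * ((c v a)⁻¹)⁻¹) * (c v a)⁻¹ := by group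
          _ = a * (c v a)⁻¹ := by rw [this]
      rw [e, mul_assoc, h3, inv_mul_cancel_left]
      exact hf
    · have e1 : c e a⁻¹ = a⁻¹ * (c e a)⁻¹ * a := by rw [c, c]; group
      rw [e1, ha2 e he]; group

theorem NG.comm {h : HypF V F} {a e : G} (ha : a ∈ NG h) (he : e ∈ NOne.Flat.EE V F) : e * a = a * e := by
  have h2 := ha.2.2 e he
  rw [c_def] at h2
  have := mul_inv_eq_one.1 h2
  calc e * a = (e * a * e⁻¹) * e := by group
    _ = a * e := by rw [this]

theorem NG.mul_left {h : HypF V F} {v v' a : G} (ha : a ∈ NG h) (hv : v ∈ V) (hv' : v' ∈ V) :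
    c (v * v') a = c v a * c v' a := by
  have h1 : c (v * v') a = v * c v' a * v⁻¹ * c v a := by rw [c, c, c]; group
  have h2 : v * c v' a = c v' a * v := h.toHyp.V_comm hv (h.toHyp.F_le_V (ha.2.1 v' hv'))
  have h3 : c v a * c v' a = c v' a * c v a :=
    h.toHyp.V_comm (h.toHyp.F_le_V (ha.2.1 v hv)) (h.toHyp.F_le_V (ha.2.1 v' hv'))
  rw [h1, h2, h3]; group

theorem NG.mul_right {h : HypF V F} {v a b : G} (ha : a ∈ NG h) (hb : b ∈ NG h) (hv : v ∈ V) :
    c v (a * b) = c v a * c v b := by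
  have e : c v (a * b) = c v a * (a * c v b * a⁻¹) := by rw [c, c, c]; group
  have h1 : c v b * a = a * c v b := NG.comm ha (h.toHyp.F_le_E (hb.2.1 v hv))
  rw [e, ← h1]; group

/-- `a ↦ [v, a]` -/
def NG.hom (h : HypF V F) (v : V) : NG h →* F where
  toFun a := ⟨c v.1 a.1, a.2.2.1 v.1 v.2⟩
  map_one' := by ext; show c v.1 1 = 1; rw [c]; group
  map_mul' a b := by ext; exact NG.mul_right a.2 b.2 v.2

theorem NG.hom_comm {h : HypF V F} (x y : F) : x * y = y * x :=
  Subtype.ext (h.toHyp.V_comm (h.toHyp.F_le_V x.2) (h.toHyp.F_le_V y.2))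

theorem mem_centralizer_iff_c {g : G} : g ∈ centralizer (V : Set G) ↔ ∀ v ∈ V, c v g = 1 := by
  rw [mem_centralizer_iff]
  refine forall₂_congr fun v _ => ?_
  constructor
  · intro e
    rw [c_def, e]; group
  · intro e
    rw [c_def] at e
    have := mul_inv_eq_one.1 e
    calc v * g = (v * g * v⁻¹) * v := by group
      _ = g * v := by rw [this]

theorem NG.elem (h : HypF V F) : ElemM V (NG h) where
  sq a ha := by
    rw [mem_centralizer_iff_c]
    intro v hv
    have e := map_pow (NG.hom h ⟨v, hv⟩) ⟨a, ha⟩ 2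
    have e2 : c v (a ^ 2) = (c v a) ^ 2 := congrArg Subtype.val e
    rw [e2]
    exact h.toHyp.sq _ (h.toHyp.F_le_V (ha.2.1 v hv))
  comm a ha b hb := by
    rw [mem_centralizer_iff_c]
    intro v hv
    have e : NG.hom h ⟨v, hv⟩ (⟨a, ha⟩ * ⟨b, hb⟩ * ⟨a, ha⟩⁻¹ * ⟨b, hb⟩⁻¹) = 1 := by
      rw [map_mul, map_mul, map_mul, map_inv, map_inv, NG.hom_comm (h := h) (NG.hom h ⟨v, hv⟩ ⟨a, ha⟩)]
      group
    exact congrArg Subtype.val e

/-- `N(V) ∩ C(V / F) ∩ C(E) = C(V)` -/
theorem NG.le (h : HypF V F) : NG h ≤ centralizer (V : Set G) := by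
  classical
  intro a₀ ha₀
  rw [mem_centralizer_iff_c]
  intro v₀ hv₀
  by_contra hne
  have hv₀E : v₀ ∉ NOne.Flat.EE V F := fun hE => hne (ha₀.2.2 v₀ hE)
  obtain ⟨ψ, hψ⟩ := Cfsg.Agent.Omega.All.NOne.exists_char F
    (fun x hx y hy => h.toHyp.V_comm (h.toHyp.F_le_V hx) (h.toHyp.F_le_V hy))
    (fun x hx => h.toHyp.sq' (h.toHyp.F_le_V hx)) (ha₀.2.1 v₀ hv₀) hne
  have hNG : ∀ a ∈ NG h, ∀ l ∈ normalizer (V : Set G), l ∈ normalizer (NOne.Flat.EE V F : Set G) →
      l ∈ centralizer (F : Set G) → l⁻¹ * a * l ∈ NG h := by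
    intro a ha l hlV hlE hlF
    have e : ∀ v : G, c v (l⁻¹ * a * l) = l⁻¹ * c (l * v * l⁻¹) a * l := fun v => by rw [c, c]; group
    refine ⟨mul_mem (mul_mem (inv_mem hlV) ha.1) hlV, fun v hv => ?_, fun v hv => ?_⟩
    · have h1 := ha.2.1 _ ((mem_normalizer_iff.1 hlV v).1 hv)
      have h2 := mem_centralizer_iff.1 hlF _ h1
      rw [e, mul_assoc, h2, inv_mul_cancel_left]
      exact h1
    · rw [e, ha.2.2 _ ((mem_normalizer_iff.1 hlE v).1 hv)]
      group
  let s : V → NG h → ℤˣ := fun v a => ψ (NG.hom h v a)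
  have hl : ∀ a a' b, s (a * a') b = s a b * s a' b := by
    intro a a' b
    have : NG.hom h (a * a') b = NG.hom h a b * NG.hom h a' b := Subtype.ext (NG.mul_left b.2 a.2 a'.2)
    show ψ _ = ψ _ * ψ _
    rw [this, map_mul]
  have hr : ∀ a b b', s a (b * b') = s a b * s a b' := by
    intro a b b'
    show ψ _ = ψ _ * ψ _
    rw [map_mul, map_mul]
  have hp := pairing_units s hl hr
  have hK : ∀ v : V, (∀ a, s v a = 1) → (v : G) ∈ NOne.Flat.EE V F := by
    intro v hv
    by_contra hvE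
    obtain ⟨l, hlV, hlE, hlF, hl1⟩ := h.trans v.2 hvE hv₀ hv₀E
    have hm := hNG a₀ ha₀ l hlV hlE hlF
    have h1 : c v.1 (l⁻¹ * a₀ * l) = c v₀ a₀ := by
      have h2 : c v.1 (l⁻¹ * a₀ * l) = l⁻¹ * c (l * v * l⁻¹) a₀ * l := by rw [c, c]; group
      have h3 : l * v * l⁻¹ = v₀ * (v₀⁻¹ * (l * v * l⁻¹)) := by group
      have h4 : c (v₀ * (v₀⁻¹ * (l * v * l⁻¹))) a₀ = c v₀ a₀ := by
        rw [NG.mul_left ha₀ hv₀ (NOne.Flat.Hyp.E_le_V hl1), ha₀.2.2 _ hl1, mul_one]
      rw [h2, h3, h4]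
      have h5 := mem_centralizer_iff.1 hlF _ (ha₀.2.1 v₀ hv₀)
      rw [mul_assoc, h5, inv_mul_cancel_left]
    have h2 := hv ⟨_, hm⟩
    have h3 : NG.hom h v ⟨_, hm⟩ = ⟨c v₀ a₀, ha₀.2.1 v₀ hv₀⟩ := Subtype.ext h1
    have h4 : ψ (NG.hom h v ⟨_, hm⟩) = 1 := h2
    rw [h3, hψ] at h4
    exact absurd h4 (by decide)
  refine h.noffM (NG h) (fun a ha => ha.1) ⟨NG.elem h, fun hle => hne (mem_centralizer_iff_c.1 (hle ha₀) v₀ hv₀), ?_⟩
  have h1 : Nat.card {a : V // ∀ b, s a b = 1} ≤ Nat.card ↥(V ⊓ centralizer (NG h : Set G)) := by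
    refine Nat.card_le_card_of_injective (fun v => ⟨v.1.1, v.1.2, ?_⟩) ?_
    · exact mem_centralizer_iff.2 fun a ha => (NG.comm ha (hK v.1 v.2)).symm
    · intro v w hvw
      exact Subtype.ext (Subtype.ext (congrArg (fun x => x.1) hvw))
  have h2 : Nat.card ↥(NG h ⊓ centralizer (V : Set G)) ≤ Nat.card {b : NG h // ∀ a, s a b = 1} := by
    refine Nat.card_le_card_of_injective (fun b => ⟨⟨b.1, b.2.1⟩, fun v => ?_⟩) ?_
    · have : NG.hom h v ⟨b.1, b.2.1⟩ = 1 := Subtype.ext (mem_centralizer_iff_c.1 b.2.2 v.1 v.2)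
      show ψ _ = 1
      rw [this, map_one]
    · intro v w hvw
      exact Subtype.ext (congrArg (fun x => x.1.1) hvw)
  calc Nat.card V * Nat.card ↥(NG h ⊓ centralizer (V : Set G))
      ≤ Nat.card V * Nat.card {b : NG h // ∀ a, s a b = 1} := Nat.mul_le_mul_left _ h2
    _ = Nat.card {a : V // ∀ b, s a b = 1} * Nat.card (NG h) := hp.symm
    _ ≤ Nat.card ↥(V ⊓ centralizer (NG h : Set G)) * Nat.card (NG h) := Nat.mul_le_mul_right _ h1
    _ = Nat.card (NG h) * Nat.card ↥(V ⊓ centralizer (NG h : Set G)) := mul_comm _ _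

theorem HypF.nn (h : HypF V F) {g : G} (hg : g ∈ normalizer (V : Set G)) (h1 : ∀ v ∈ V, c v g ∈ F)
    (h2 : ∀ e ∈ NOne.Flat.EE V F, c e g = 1) : g ∈ centralizer (V : Set G) :=
  NG.le h ⟨hg, h1, h2⟩

theorem conj_eq_c (h : HypF V F) {v : G} (hv : v ∈ V) (a : G) : a * v * a⁻¹ = v * c v a := by
  have h1 : a * v⁻¹ * a⁻¹ = v⁻¹ * c v a := by rw [c]; group
  rwa [h.toHyp.inv hv] at h1

/-- the stabiliser of the chain `V > E > F > 1` -/
def TT (h : HypF V F) : Subgroup G where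
  carrier := {g | g ∈ normalizer (V : Set G) ∧ (∀ v ∈ V, c v g ∈ NOne.Flat.EE V F) ∧
    (∀ e ∈ NOne.Flat.EE V F, c e g ∈ F) ∧ ∀ f ∈ F, c f g = 1}
  one_mem' := ⟨one_mem _, fun v _ => by rw [c_def]; simp, fun e _ => by rw [c_def]; simp,
    fun e _ => by rw [c_def]; simp⟩
  mul_mem' := by
    rintro a b ⟨ha, ha1, ha2, ha3⟩ ⟨hb, hb1, hb2, hb3⟩
    have e : ∀ v, c v (a * b) = c v a * (a * c v b * a⁻¹) := fun v => by rw [c, c, c]; group
    refine ⟨mul_mem ha hb, fun v hv => ?_, fun v hv => ?_, fun v hv => ?_⟩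
    · rw [e, conj_eq_c h (NOne.Flat.Hyp.E_le_V (hb1 v hv))]
      exact mul_mem (ha1 v hv) (mul_mem (hb1 v hv) (h.toHyp.F_le_E (ha2 _ (hb1 v hv))))
    · rw [e, conj_eq_c h (h.toHyp.F_le_V (hb2 v hv)), ha3 _ (hb2 v hv), mul_one]
      exact mul_mem (ha2 v hv) (hb2 v hv)
    · rw [e, ha3 v hv, hb3 v hv]; group
  inv_mem' := by
    rintro a ⟨ha, ha1, ha2, ha3⟩
    have e : ∀ v, c v a⁻¹ = a⁻¹ * (c v a)⁻¹ * a := fun v => by rw [c, c]; group
    have hF : ∀ f ∈ F, a⁻¹ * f * a = f := fun f hf => by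
      have h1 := conj_eq_c h (h.toHyp.F_le_V hf) a
      rw [ha3 f hf, mul_one] at h1
      calc a⁻¹ * f * a = a⁻¹ * (a * f * a⁻¹) * a := by rw [h1]
        _ = f := by group
    have hE : ∀ f ∈ NOne.Flat.EE V F, a⁻¹ * f * a ∈ NOne.Flat.EE V F := fun f hf => by
      have h1 := conj_eq_c h (NOne.Flat.Hyp.E_le_V hf) a
      have h2 : a⁻¹ * f * a * (a⁻¹ * c f a * a) = f := by
        calc a⁻¹ * f * a * (a⁻¹ * c f a * a) = a⁻¹ * (f * c f a) * a := by group
          _ = f := by rw [← h1]; group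
      rw [hF _ (ha2 f hf)] at h2
      have h3 : a⁻¹ * f * a = f * (c f a)⁻¹ := eq_mul_inv_of_mul_eq h2
      rw [h3]
      exact mul_mem hf (inv_mem (h.toHyp.F_le_E (ha2 f hf)))
    refine ⟨inv_mem ha, fun v hv => ?_, fun v hv => ?_, fun v hv => ?_⟩
    · rw [e]; exact hE _ (inv_mem (ha1 v hv))
    · rw [e, hF _ (inv_mem (ha2 v hv))]; exact inv_mem (ha2 v hv)
    · rw [e, ha3 v hv]; group

theorem W_le_TT (h : HypF V F) : NOne.Flat.WW V F ≤ TT h := fun s hs =>
  ⟨h.toHyp.W_norm_V hs, fun _ hv => h.toHyp.comm_VW hv hs, fun _ he => h.toHyp.comm_EW he hs,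
    fun _ hf => NOne.Flat.Hyp.c_F hf hs⟩

theorem TT.conj_mem (h : HypF V F) {g e : G} (hg : g ∈ TT h) (he : e ∈ NOne.Flat.EE V F) :
    g * e * g⁻¹ ∈ NOne.Flat.EE V F := by
  rw [conj_eq_c h (NOne.Flat.Hyp.E_le_V he) g]
  exact mul_mem he (h.toHyp.F_le_E (hg.2.2.1 _ he))

theorem TT.two (h : HypF V F) {g s v : G} (hg : g ∈ TT h) (hs : s ∈ TT h) (hv : v ∈ V) :
    s * (g * v * g⁻¹) * s⁻¹ = v * c v g * c v s * c (c v g) s := by
  have hp := hg.2.1 v hv
  have hq := hs.2.1 v hv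
  rw [conj_eq_c h hv g]
  have e : s * (v * c v g) * s⁻¹ = s * v * s⁻¹ * (s * c v g * s⁻¹) := by group
  rw [e, conj_eq_c h hv s, conj_eq_c h (NOne.Flat.Hyp.E_le_V hp) s]
  have h1 : c v s * c v g = c v g * c v s :=
    h.toHyp.V_comm (NOne.Flat.Hyp.E_le_V hq) (NOne.Flat.Hyp.E_le_V hp)
  calc v * c v s * (c v g * c (c v g) s) = v * (c v s * c v g) * c (c v g) s := by group
    _ = _ := by rw [h1]; group

theorem TT.two' (h : HypF V F) {g s v : G} (hg : g ∈ TT h) (hs : s ∈ TT h) (hv : v ∈ V) :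
    (s * (g * v * g⁻¹) * s⁻¹)⁻¹ * (g * (s * v * s⁻¹) * g⁻¹) = (c (c v g) s)⁻¹ * c (c v s) g := by
  have hp := hg.2.1 v hv
  have hq := hs.2.1 v hv
  have h1 : c v s * c v g = c v g * c v s :=
    h.toHyp.V_comm (NOne.Flat.Hyp.E_le_V hq) (NOne.Flat.Hyp.E_le_V hp)
  rw [TT.two h hg hs hv, TT.two h hs hg hv]
  have e : v * c v s * c v g * c (c v s) g = v * (c v s * c v g) * c (c v s) g := by group
  rw [e, h1]
  group

/-- the commutator of two elements of the stabiliser of the chain centralises `V` -/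
theorem TT.comm (h : HypF V F) {g s : G} (hg : g ∈ TT h) (hs : s ∈ TT h) :
    c g s ∈ centralizer (V : Set G) := by
  have hk : ∀ v ∈ V, ∃ v' ∈ V, v = s * (g * v' * g⁻¹) * s⁻¹ := fun v hv => by
    refine ⟨(s * g)⁻¹ * v * (s * g), (mem_normalizer_iff''.1 (mul_mem hs.1 hg.1) v).1 hv, by group⟩
  have hc : ∀ v' : G, c (s * (g * v' * g⁻¹) * s⁻¹) (c g s) =
      (s * (g * v' * g⁻¹) * s⁻¹) * (g * (s * v' * s⁻¹) * g⁻¹)⁻¹ := fun v' => by
    rw [c, c]; group
  have hc2 : ∀ v' ∈ V, c (s * (g * v' * g⁻¹) * s⁻¹) (c g s) =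
      ((s * (g * v' * g⁻¹) * s⁻¹)⁻¹ * (g * (s * v' * s⁻¹) * g⁻¹))⁻¹ := fun v' hv' => by
    have hA : s * (g * v' * g⁻¹) * s⁻¹ ∈ V :=
      (mem_normalizer_iff.1 hs.1 _).1 ((mem_normalizer_iff.1 hg.1 _).1 hv')
    have hB : g * (s * v' * s⁻¹) * g⁻¹ ∈ V :=
      (mem_normalizer_iff.1 hg.1 _).1 ((mem_normalizer_iff.1 hs.1 _).1 hv')
    rw [hc, h.toHyp.V_comm hA (inv_mem hB)]
    group
  refine h.nn ?_ ?_ ?_
  · rw [c]
    exact mul_mem (mul_mem (mul_mem hg.1 hs.1) (inv_mem hg.1)) (inv_mem hs.1)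
  · intro v hv
    obtain ⟨v', hv', rfl⟩ := hk v hv
    rw [hc2 v' hv', TT.two' h hg hs hv']
    exact inv_mem (mul_mem (inv_mem (hs.2.2.1 _ (hg.2.1 _ hv'))) (hg.2.2.1 _ (hs.2.1 _ hv')))
  · intro e he
    have h1 := TT.conj_mem h (inv_mem (mul_mem hs hg)) he
    have h2 : e = s * (g * ((s * g)⁻¹ * e * (s * g)⁻¹⁻¹) * g⁻¹) * s⁻¹ := by group
    rw [h2, hc2 _ (NOne.Flat.Hyp.E_le_V h1), TT.two' h hg hs (NOne.Flat.Hyp.E_le_V h1),
      hg.2.2.2 _ (hs.2.2.1 _ h1), hs.2.2.2 _ (hg.2.2.1 _ h1)]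
    group

theorem TT.symm (h : HypF V F) {g s v : G} (hg : g ∈ TT h) (hs : s ∈ TT h) (hv : v ∈ V) :
    c (c v g) s = c (c v s) g := by
  have h1 := TT.two' h hg hs hv
  have h2 := mem_centralizer_iff.1 (TT.comm h hg hs) v hv
  -- `g s v (g s)⁻¹ = s g v (s g)⁻¹`
  have hA : s * (g * v * g⁻¹) * s⁻¹ ∈ V :=
    (mem_normalizer_iff.1 hs.1 _).1 ((mem_normalizer_iff.1 hg.1 _).1 hv)
  have h3 := mem_centralizer_iff.1 (TT.comm h hg hs) _ hA
  have h4 : g * (s * v * s⁻¹) * g⁻¹ = c g s * (s * (g * v * g⁻¹) * s⁻¹) * (c g s)⁻¹ := by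
    rw [c]; group
  have h5 : g * (s * v * s⁻¹) * g⁻¹ = s * (g * v * g⁻¹) * s⁻¹ := by
    rw [h4, ← h3, mul_inv_cancel_right]
  rw [h5, inv_mul_cancel] at h1
  exact (inv_mul_eq_one.1 h1.symm)

/-- **(R+)** : the stabiliser of the chain `V > E > F > 1` is `W C(V)`. -/
theorem TT.le (h : HypF V F) : TT h ≤ NOne.Flat.WW V F ⊔ centralizer (V : Set G) := by
  intro g hg
  obtain ⟨w, hw, hwE⟩ := h.toHyp.exists_not_mem
  obtain ⟨s₀, hs₀, hc₀⟩ := h.toHyp.surj hw hwE (hg.2.1 w hw)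
  have hs₀T := W_le_TT h hs₀
  have hr : s₀⁻¹ * g ∈ TT h := mul_mem (inv_mem hs₀T) hg
  set r := s₀⁻¹ * g with hrdef
  have hgr : g = s₀ * r := by rw [hrdef]; group
  have hWF : ∀ s ∈ NOne.Flat.WW V F, ∀ f ∈ F, c f s = 1 := fun s hs f hf => NOne.Flat.Hyp.c_F hf hs
  -- `[w, r] ∈ F`
  have h1 : c w r ∈ F := by
    have e : c w g = c w s₀ * (s₀ * c w r * s₀⁻¹) := by rw [hgr, c, c, c]; group
    rw [conj_eq_c h (NOne.Flat.Hyp.E_le_V (hr.2.1 w hw))] at e
    have h2 : c w r * c (c w r) s₀ ∈ F := by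
      have h3 : c w r * c (c w r) s₀ = (c w s₀)⁻¹ * c w g := by rw [e]; group
      have h4 : (c w s₀)⁻¹ * c w g = (c w s₀ * (c w g)⁻¹)⁻¹ := by
        rw [mul_inv_rev, inv_inv]
        exact h.toHyp.V_comm (inv_mem (h.toHyp.c_memV hw hs₀)) (NOne.Flat.Hyp.E_le_V (hg.2.1 w hw))
      rw [h3, h4]
      exact inv_mem hc₀
    exact (mul_mem_cancel_right (hs₀T.2.2.1 _ (hr.2.1 w hw))).1 h2
  -- `r` centralises `E`
  have h2 : ∀ e ∈ NOne.Flat.EE V F, c e r = 1 := by
    intro e he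
    obtain ⟨s, hs, hc⟩ := h.toHyp.surj hw hwE he
    have h3 : c (c w s) r = 1 := by
      rw [← TT.symm h hr (W_le_TT h hs) hw]
      exact hWF s hs _ h1
    have h4 : c w s * r = r * c w s := by
      have := mul_inv_eq_one.1 (show c w s * r * (c w s)⁻¹ * r⁻¹ = 1 from h3)
      calc c w s * r = (c w s * r * (c w s)⁻¹) * c w s := by group
        _ = _ := by rw [this]
    have h5 : (c w s * e⁻¹) * r = r * (c w s * e⁻¹) := by
      have := mul_inv_eq_one.1 (show (c w s * e⁻¹) * r * (c w s * e⁻¹)⁻¹ * r⁻¹ = 1 from hr.2.2.2 _ hc)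
      calc (c w s * e⁻¹) * r = ((c w s * e⁻¹) * r * (c w s * e⁻¹)⁻¹) * (c w s * e⁻¹) := by group
        _ = _ := by rw [this]
    have h6 : Commute e r := by
      have e1 : e = (c w s * e⁻¹)⁻¹ * c w s := by group
      rw [e1]
      exact Commute.mul_left (Commute.inv_left h5) h4
    show e * r * e⁻¹ * r⁻¹ = 1
    rw [h6.eq]; group
  -- `[V, r] ≤ F`
  have h3 : ∀ v ∈ V, c v r ∈ F := by
    intro v hv
    have h4 : c v r ∈ NOne.Flat.EE V F ⊓ centralizer (NOne.Flat.WW V F : Set G) := by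
      refine ⟨hr.2.1 v hv, mem_centralizer_iff.2 fun s hs => ?_⟩
      have h5 : c (c v r) s = 1 := by
        rw [TT.symm h hr (W_le_TT h hs) hv]
        exact h2 _ (h.toHyp.comm_VW hv hs)
      have := mul_inv_eq_one.1 (show c v r * s * (c v r)⁻¹ * s⁻¹ = 1 from h5)
      calc s * c v r = (c v r * s * (c v r)⁻¹) * c v r := by rw [this]
        _ = _ := by group
    rwa [h.toHyp.cent_EW] at h4
  rw [hgr]
  exact mul_mem (mem_sup_left hs₀) (mem_sup_right (h.nn hr.1 h3 h2))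

end

/-- **FIELD-3b** -/
theorem nNOne : NNOne.{u} := by
  intro G _ _ V F h
  refine ⟨fun v hv hvE w hw hwE => ?_, fun g hg h1 h2 => h.nn hg h1 h2⟩
  obtain ⟨l, hlV, hlE, hlF, hl⟩ := h.trans hv hvE hw hwE
  refine ⟨l, ⟨hlF, hlV⟩, ?_⟩
  have h1 := inv_mem hl
  rwa [mul_inv_rev, inv_inv] at h1

end Cfsg.Agent.Omega.NO1.Field
end

-- part: Mrg/Omega/NO1/Field/KillF
section
section


/-!
# FIELD-5, end: no `SzR` over a FLAT frame (helper659's kill with `NN = 1` and (MU) inserted)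
-/

set_option autoImplicit false

namespace Cfsg.Agent.Omega.NO1.Field

open Subgroup Cfsg

universe u

variable {G : Type u} [Group G] [Finite G] {V F : Subgroup G}

theorem HypF.nnOne (h : HypF V F) : NOne.Flat.NNOne V F := fun n hn h1 h2 =>
  h.nn hn h1 fun e he => by
    rw [NOne.NearFF.c_def, h2 e he]
    group

end Cfsg.Agent.Omega.NO1.Field

end

section


/-!
# FIELD-5, the plug, part 1: from `T`, `K` on `E E^x / F` to subgroups of `N_G(V)` (text #19896 (2))

* `SzOutS` : `SzOut` with `K = C_{B₀}(T)` and `K = [B₀, t]` for a `t ∈ T`;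
* `HypF.lift` : `l ∈ HX` stabilises `E` and commutes on `E E^x / F` with `V`: there is `m ∈ N(V) ∩ C(F)` with
  `m = l` on `E`, `[V, m] ≤ E`;
* `HypF.exists_szR` : the data `SzR` of helper659's KILL;
* **`noSz : SzOutS → NoSz`**.
-/

set_option autoImplicit false
set_option linter.unusedSectionVars false

namespace Cfsg.Agent.Omega.NO1.Field

open Subgroup Cfsg Cfsg.Agent.ZN Cfsg.Agent.Omega.NoFF.Basic Cfsg.Agent.Omega.NOne.Frame
open Cfsg.Agent.Omega.FFThm (OffM)
open Cfsg.Agent.Omega.NOne.NearFF (c c_def)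
open Cfsg.Agent.Omega.NOne.Flat (Hyp BadX Sect EX HX Spr gi NN WW)
open Cfsg.Agent.MinSimple.VModule
open scoped Pointwise

universe u

/-- `SzOut` with `K = C_{B₀}(T) = [B₀, t]`. -/
def SzOutS : Prop :=
  ∀ (M : Type u) [Group M] [Finite M] (B : Bool → Subgroup M) (A : Bool → Subgroup (MulAut M)),
    Spr B A → 4 ≤ Nat.card (A false) → IsSz ↥(A false ⊔ A true) (Nat.card (A false)) →
      ∃ (T : Subgroup (MulAut M)) (K : Subgroup M), A false ≤ T ∧ T ≤ A false ⊔ A true ∧
        Nat.card T = Nat.card (A false) ^ 2 ∧ (∀ t ∈ T, ∀ a ∈ A false, t * a = a * t) ∧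
        (∀ t ∈ T, ∀ m ∈ B false, t m ∈ B false) ∧ K ≤ B false ∧ Nat.card K ^ 2 = Nat.card (B false) ∧
        (∀ t ∈ T, ∀ m ∈ B false, t m * m⁻¹ ∈ K) ∧ (∀ t ∈ T, ∀ m ∈ K, t m = m) ∧
        (∀ t ∈ T, (∀ m ∈ B false, t m = m) → t ∈ A false) ∧
        (∀ m ∈ B false, (∀ t ∈ T, t m = m) → m ∈ K) ∧
        ∃ t ∈ T, ∀ m ∈ K, ∃ m' ∈ B false, m = t m' * m'⁻¹

variable {G : Type u} [Group G]

theorem norm_of_conj {g : G} {A : Subgroup G} (hg : MulAut.conj g • A = A) : g ∈ normalizer (A : Set G) := by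
  rw [mem_normalizer_iff]
  intro y
  constructor
  · intro hy
    have := NOne.Frame.conj_mem (g := g) hy
    rwa [hg] at this
  · intro hy
    rw [← hg, mem_conj] at hy
    have e : g⁻¹ * (g * y * g⁻¹) * g = y := by group
    rwa [e] at hy

section

variable [Finite G] {V F : Subgroup G} (h : HypF V F)
include h

theorem HypF.lift {x : G} (hx : x ∈ centralizer (F : Set G)) (hb : BadX V x) {l : G}
    (hlN : l ∈ normalizer (EX V F x : Set G)) (hlX : l ∈ centralizer (F : Set G))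
    (hE : MulAut.conj l • NOne.Flat.EE V F = NOne.Flat.EE V F)
    (hc : ∀ v ∈ V, ∀ n ∈ EX V F x, (c v n)⁻¹ * c (l * v * l⁻¹) n ∈ F) :
    ∃ m ∈ normalizer (V : Set G) ⊓ centralizer (F : Set G),
      (∀ e ∈ NOne.Flat.EE V F, m * e * m⁻¹ = l * e * l⁻¹) ∧ ∀ v ∈ V, c v m ∈ NOne.Flat.EE V F := by
  obtain ⟨z, hz, hVz⟩ := h.f0' l hlX hE
  have hzE : ∀ e ∈ NOne.Flat.EE V F, z * e = e * z := fun e he => (mem_centralizer_iff.1 hz e he).symm
  have hlE : ∀ e ∈ NOne.Flat.EE V F, l * e * l⁻¹ ∈ NOne.Flat.EE V F := by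
    intro e he
    rw [← hE]
    exact NOne.Frame.conj_mem he
  set m : G := z⁻¹ * l with hm
  have hmV : m ∈ normalizer (V : Set G) := by
    have e1 : MulAut.conj m • V = V := by
      rw [hm, map_mul, mul_smul, hVz, conj_conj, inv_mul_cancel, map_one, one_smul]
    exact norm_of_conj e1
  have hmX : m ∈ centralizer (F : Set G) :=
    mul_mem (inv_mem (centralizer_le h.F_le_E hz)) hlX
  have hmE : ∀ e ∈ NOne.Flat.EE V F, m * e * m⁻¹ = l * e * l⁻¹ := by
    intro e he
    have h1 := hzE _ (hlE e he)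
    calc m * e * m⁻¹ = z⁻¹ * (l * e * l⁻¹ * z) := by rw [hm]; group
      _ = z⁻¹ * (z * (l * e * l⁻¹)) := by rw [h1]
      _ = l * e * l⁻¹ := by group
  refine ⟨m, mem_inf.2 ⟨hmV, hmX⟩, hmE, fun v hv => ?_⟩
  have hmv : m * v * m⁻¹ ∈ V := norm_mem hmV hv
  have hu : c v m = v * (m * v * m⁻¹)⁻¹ := by rw [c_def]; group
  by_contra hnE
  -- the elements of `EX` centralise `E`
  have key : ∀ s ∈ EX V F x, s ∈ centralizer (NOne.Flat.EE V F : Set G) := by
    intro s hs
    have hsW : s ∈ WW V F := Hyp.EEx_le_W hx hs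
    have hs' : m * s * m⁻¹ ∈ WW V F := Hyp.conj_mem_W hmX hsW
    have hn : l * s * l⁻¹ ∈ EX V F x := norm_mem hlN hs
    have hnW : l * s * l⁻¹ ∈ WW V F := Hyp.EEx_le_W hx hn
    have h1 : c (m * v * m⁻¹) (m * s * m⁻¹) = c (l * v * l⁻¹) (l * s * l⁻¹) := by
      have h2 := hmE _ (h.c_memE hv hsW)
      have e1 : c (m * v * m⁻¹) (m * s * m⁻¹) = m * c v s * m⁻¹ := by rw [c, c]; group
      have e2 : c (l * v * l⁻¹) (l * s * l⁻¹) = l * c v s * l⁻¹ := by rw [c, c]; group
      rw [e1, e2, h2]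
    have h2 := hc v hv _ hn
    have h3 := h.comm_conj_mem (g := z⁻¹) (inv_mem hz) hv hs'
    have h4 : c (z⁻¹ * v * z⁻¹⁻¹) (m * s * m⁻¹) = c v (l * s * l⁻¹) := by
      have e1 : c (z⁻¹ * v * z⁻¹⁻¹) (m * s * m⁻¹) = z⁻¹ * c v (l * s * l⁻¹) * z := by
        rw [c, c, hm]; group
      rw [e1, mul_assoc, ← hzE _ (h.c_memE hv hnW), inv_mul_cancel_left]
    rw [h4] at h3
    rw [← h1] at h2
    have h5 := mul_mem h3 h2
    have e5 : (c v (m * s * m⁻¹))⁻¹ * c v (l * s * l⁻¹) * ((c v (l * s * l⁻¹))⁻¹ *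
        c (m * v * m⁻¹) (m * s * m⁻¹)) = (c v (m * s * m⁻¹))⁻¹ * c (m * v * m⁻¹) (m * s * m⁻¹) := by
      group
    rw [e5] at h5
    have h6 : c (c v m) (m * s * m⁻¹) ∈ F := by
      rw [hu, h.c_mul_left hv (inv_mem hmv) hs', h.c_inv_left hmv hs']
      have h7 := inv_mem h5
      rw [mul_inv_rev, inv_inv, h.V_comm (inv_mem (h.c_memV hmv hs')) (h.c_memV hv hs')] at h7
      exact h7
    have hcV : c v m ∈ V := by
      rw [hu]
      exact mul_mem hv (inv_mem hmv)
    have h7 : m * s * m⁻¹ ∈ centralizer (NOne.Flat.EE V F : Set G) := ((h.c_mem_F_iff hcV hnE hs').1 h6).2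
    rw [mem_centralizer_iff] at h7 ⊢
    intro e he
    have h8 : m * e * m⁻¹ ∈ NOne.Flat.EE V F := by rw [hmE e he]; exact hlE e he
    have h9 := h7 _ h8
    have e1 : m * e * m⁻¹ * (m * s * m⁻¹) = m * (e * s) * m⁻¹ := by group
    have e2 : m * s * m⁻¹ * (m * e * m⁻¹) = m * (s * e) * m⁻¹ := by group
    rw [e1, e2] at h9
    exact mul_left_cancel (mul_right_cancel h9)
  -- contradiction
  have h1 : MulAut.conj x • NOne.Flat.EE V F ≤ F := by
    refine le_trans ?_ (h.conjE_inf_NN hx hb).le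
    exact le_inf le_rfl fun f hf => mem_inf.2 ⟨Hyp.conjE_le_W hx hf, key f (mem_sup_right hf)⟩
  exact h.conjE_ne x hx (le_antisymm h1 (h.F_le_conjE hx))


/-! ### the groups `EK`, `R`, `D` -/

omit [Finite G] h in
/-- `r` acts on `E / F` as `t`. -/
def Act {x : G} {N : Type u} [Group N] (s : Sect (HX V F x) (EX V F x) F N) (r : G) (t : MulAut N) : Prop :=
  ∀ (e : G) (he : e ∈ EX V F x) (he' : r * e * r⁻¹ ∈ EX V F x), e ∈ NOne.Flat.EE V F →
    s.π ⟨r * e * r⁻¹, he'⟩ = t (s.π ⟨e, he⟩)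

omit [Finite G] h in
theorem Act.mul {x : G} {N : Type u} [Group N] {s : Sect (HX V F x) (EX V F x) F N} {r r' : G}
    {t t' : MulAut N} (h1 : Act s r t) (h2 : Act s r' t')
    (hr : r ∈ normalizer (NOne.Flat.EE V F : Set G)) (hr' : r' ∈ normalizer (NOne.Flat.EE V F : Set G)) :
    Act s (r * r') (t * t') := by
  intro e he he' heE
  have k1 : r' * e * r'⁻¹ ∈ NOne.Flat.EE V F := norm_mem hr' heE
  have k2 : r' * e * r'⁻¹ ∈ EX V F x := mem_sup_left k1
  have k3 : r * (r' * e * r'⁻¹) * r⁻¹ ∈ EX V F x := mem_sup_left (norm_mem hr k1)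
  have k4 := h1 _ k2 k3 k1
  rw [h2 e he k2 heE] at k4
  have e1 : (⟨r * r' * e * (r * r')⁻¹, he'⟩ : ↥(EX V F x)) = ⟨r * (r' * e * r'⁻¹) * r⁻¹, k3⟩ :=
    Subtype.ext (by simp only; group)
  rw [e1, k4]
  rfl

omit [Finite G] h in
theorem Act.inv {x : G} {N : Type u} [Group N] {s : Sect (HX V F x) (EX V F x) F N} {r : G}
    {t : MulAut N} (h1 : Act s r t) (hr : r ∈ normalizer (NOne.Flat.EE V F : Set G)) : Act s r⁻¹ t⁻¹ := by
  intro e he he' heE
  have k1 : r⁻¹ * e * r⁻¹⁻¹ ∈ NOne.Flat.EE V F := norm_mem (inv_mem hr) heE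
  have k3 : r * (r⁻¹ * e * r⁻¹⁻¹) * r⁻¹ ∈ EX V F x := by
    have e1 : r * (r⁻¹ * e * r⁻¹⁻¹) * r⁻¹ = e := by group
    rwa [e1]
  have k4 := h1 _ he' k3 k1
  have e1 : (⟨r * (r⁻¹ * e * r⁻¹⁻¹) * r⁻¹, k3⟩ : ↥(EX V F x)) = ⟨e, he⟩ :=
    Subtype.ext (by simp only; group)
  rw [e1] at k4
  rw [k4]
  change _ = (t⁻¹ * t) _
  rw [inv_mul_cancel]
  rfl

omit [Finite G] h in
theorem Act.of_comm {x : G} {N : Type u} [Group N] (s : Sect (HX V F x) (EX V F x) F N) {r : G}
    (hr : ∀ e ∈ NOne.Flat.EE V F, c e r ∈ F) (hF : ∀ e ∈ NOne.Flat.EE V F, ∀ f ∈ F, e * f = f * e) : Act s r 1 := by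
  intro e he he' heE
  change _ = s.π ⟨e, he⟩
  rw [s.π_eq_iff]
  have h1 := hr e heE
  have h2 : c e r * e = e * c e r := (hF e heE _ h1).symm
  have e1 : ((⟨r * e * r⁻¹, he'⟩ : ↥(EX V F x)) : G)⁻¹ * ((⟨e, he⟩ : ↥(EX V F x)) : G) = c e r := by
    change (r * e * r⁻¹)⁻¹ * e = c e r
    have e2 : (r * e * r⁻¹)⁻¹ * e = e⁻¹ * (c e r * e) := by rw [c]; group
    rw [e2, h2, inv_mul_cancel_left]
  rw [e1]
  exact h1

omit [Finite G] h in
theorem Act.comm_of {x : G} {N : Type u} [Group N] {s : Sect (HX V F x) (EX V F x) F N} {r : G} {t : MulAut N}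
    (h1 : Act s r t) (hr : r ∈ normalizer (NOne.Flat.EE V F : Set G)) {e : G} (heE : e ∈ NOne.Flat.EE V F)
    (ht : t (s.π ⟨e, mem_sup_left heE⟩) = s.π ⟨e, mem_sup_left heE⟩)
    (hF : ∀ e ∈ NOne.Flat.EE V F, ∀ f ∈ F, e * f = f * e) : c e r ∈ F := by
  have h2 := h1 e (mem_sup_left heE) (mem_sup_left (norm_mem hr heE)) heE
  rw [ht, s.π_eq_iff] at h2
  have h3 : (r * e * r⁻¹)⁻¹ * e ∈ F := h2
  have h4 := hF e heE _ h3
  have e1 : c e r = e * ((r * e * r⁻¹)⁻¹ * e) * e⁻¹ := by rw [c]; group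
  rw [e1, h4, mul_inv_cancel_right]
  exact h3

omit [Finite G] h in
/-- The group `R`. -/
def RR {x : G} {N : Type u} [Group N] (s : Sect (HX V F x) (EX V F x) F N) (T : Subgroup (MulAut N)) :
    Subgroup G where
  carrier := {r | r ∈ NOne.Frame.stab (normalizer (V : Set G) ⊓ centralizer (F : Set G) ⊓
      normalizer (NOne.Flat.EE V F : Set G)) V (NOne.Flat.EE V F) inf_le_right ∧ ∃ t ∈ T, Act s r t}
  one_mem' := ⟨one_mem _, 1, one_mem _, fun e he he' _ => by
    have e1 : (⟨1 * e * 1⁻¹, he'⟩ : ↥(EX V F x)) = ⟨e, he⟩ := Subtype.ext (by simp)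
    rw [e1]; rfl⟩
  mul_mem' := by
    rintro a b ⟨ha, t, ht, ha'⟩ ⟨hb, u, hu, hb'⟩
    exact ⟨mul_mem ha hb, t * u, mul_mem ht hu, ha'.mul hb' ha.1.2 hb.1.2⟩
  inv_mem' := by
    rintro a ⟨ha, t, ht, ha'⟩
    exact ⟨inv_mem ha, t⁻¹, inv_mem ht, ha'.inv ha.1.2⟩

omit [Finite G] h in
theorem mem_RR {x : G} {N : Type u} [Group N] {s : Sect (HX V F x) (EX V F x) F N} {T : Subgroup (MulAut N)} {r : G} :
    r ∈ RR s T ↔ (r ∈ normalizer (V : Set G) ∧ r ∈ centralizer (F : Set G) ∧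
      r ∈ normalizer (NOne.Flat.EE V F : Set G) ∧ ∀ v ∈ V, c v r ∈ NOne.Flat.EE V F) ∧ ∃ t ∈ T, Act s r t := by
  constructor
  · rintro ⟨⟨⟨⟨h1, h2⟩, h3⟩, h4⟩, h5⟩
    refine ⟨⟨h1, h2, h3, fun v hv => ?_⟩, h5⟩
    have h6 := inv_mem (h4 v hv)
    have e : (r * v * r⁻¹ * v⁻¹)⁻¹ = c v r := by rw [c]; group
    rwa [e] at h6
  · rintro ⟨⟨h1, h2, h3, h4⟩, h5⟩
    refine ⟨⟨⟨⟨h1, h2⟩, h3⟩, fun v hv => ?_⟩, h5⟩
    have h6 := inv_mem (h4 v hv)
    have e : (c v r)⁻¹ = r * v * r⁻¹ * v⁻¹ := by rw [c]; group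
    rwa [e] at h6


theorem HypF.F_comm_E {e f : G} (he : e ∈ NOne.Flat.EE V F) (hf : f ∈ F) : e * f = f * e :=
  h.V_comm he.1 (h.F_le_V hf)

omit [Finite G] in
/-- `W ≤ N(E)` -/
theorem HypF.W_norm_E [Finite G] : WW V F ≤ normalizer (NOne.Flat.EE V F : Set G) := by
  refine le_normalizer_of_comm fun w hw e he => ?_
  have h1 := inv_mem (h.F_le_E (h.comm_EW he hw))
  have e1 : (c e w)⁻¹ = w * e * w⁻¹ * e⁻¹ := by rw [c]; group
  rwa [e1] at h1

/-- **The data of KILL.** -/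
theorem HypF.exists_szR {x : G} (hx : x ∈ centralizer (F : Set G)) (hb : BadX V x)
    {N : Type u} [Group N] [Finite N] (s : Sect (HX V F x) (EX V F x) F N)
    {T : Subgroup (MulAut N)} {K : Subgroup N} (hAT : s.A V ≤ T)
    (hTL : T ≤ s.A V ⊔ s.A (MulAut.conj x • V)) (hcard : Nat.card T = Nat.card (s.A V) ^ 2)
    (hcomm : ∀ t ∈ T, ∀ a ∈ s.A V, t * a = a * t)
    (hst : ∀ t ∈ T, ∀ m ∈ s.B (NOne.Flat.EE V F), t m ∈ s.B (NOne.Flat.EE V F))
    (hK : K ≤ s.B (NOne.Flat.EE V F)) (hK2 : Nat.card K ^ 2 = Nat.card (s.B (NOne.Flat.EE V F)))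
    (hTK : ∀ t ∈ T, ∀ m ∈ K, t m = m)
    (hk : ∀ t ∈ T, (∀ m ∈ s.B (NOne.Flat.EE V F), t m = m) → t ∈ s.A V)
    (hmem : ∀ m ∈ s.B (NOne.Flat.EE V F), (∀ t ∈ T, t m = m) → m ∈ K)
    (hgen : ∃ t ∈ T, ∀ m ∈ K, ∃ m' ∈ s.B (NOne.Flat.EE V F), m = t m' * m'⁻¹)
    (hAcard : Nat.card (s.A V) = (NOne.Flat.EE V F).relIndex V) :
    ∃ EK R D : Subgroup G, NOne.Flat.SzR V F EK R D := by
  have hFc : ∀ e ∈ NOne.Flat.EE V F, ∀ f ∈ F, e * f = f * e := fun e he f hf => h.F_comm_E he hf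
  have hEEX : NOne.Flat.EE V F ≤ EX V F x := le_sup_left
  have hFEX : F ≤ EX V F x := h.F_le_E.trans hEEX
  have hVH : V ≤ HX V F x := le_inf (le_sup_left.trans (h.sup_norm_EEx hx)) h.V_le_X
  have hVxH : MulAut.conj x • V ≤ HX V F x :=
    le_inf (le_sup_right.trans (h.sup_norm_EEx hx)) (h.conjV_le_X hx)
  -- lifts
  have hlift : ∀ t ∈ T, ∃ r ∈ RR s T, Act s r t := by
    intro t ht
    have h1 := hTL ht
    rw [s.A_sup hVH hVxH] at h1
    obtain ⟨l, -, rfl⟩ := h1
    have hE : MulAut.conj (l : G) • NOne.Flat.EE V F = NOne.Flat.EE V F := by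
      refine Subgroup.eq_of_le_of_card_ge (fun y hy => ?_) (NOne.Choice.card_conj _ _).ge
      obtain ⟨e, he, rfl⟩ := NOne.Frame.mem_conj'.1 hy
      have h2 := hst _ ht (s.π ⟨e, hEEX he⟩) ((s.mem_B h.F_le_E).2 he)
      rw [s.ρπ, s.mem_B h.F_le_E] at h2
      exact h2
    obtain ⟨m, hm, hmE, hmV⟩ := h.lift hx hb l.2.1 l.2.2 hE (by
      intro v hv n hn
      have h2 := hcomm _ ht (s.ρ ⟨v, hVH hv⟩) ⟨⟨v, hVH hv⟩, hv, rfl⟩
      have h3 : s.ρ ⟨v, hVH hv⟩ = s.ρ (l * ⟨v, hVH hv⟩ * l⁻¹) := by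
        rw [map_mul, map_mul, map_inv, h2, mul_inv_cancel_right]
      rw [s.ρ_eq_iff] at h3
      have h4 := h3 n hn
      have hnX : n ∈ centralizer (F : Set G) := Hyp.W_le_X (Hyp.EEx_le_W hx hn)
      have h5 := norm_mem (Hyp.X_norm_F hnX) h4
      have e1 : n * (((⟨v, hVH hv⟩ : ↥(HX V F x)) : G) * n * ((⟨v, hVH hv⟩ : ↥(HX V F x)) : G)⁻¹)⁻¹ *
          (((l * ⟨v, hVH hv⟩ * l⁻¹ : ↥(HX V F x)) : G) * n *
            ((l * ⟨v, hVH hv⟩ * l⁻¹ : ↥(HX V F x)) : G)⁻¹) * n⁻¹ =
          (c v n)⁻¹ * c ((l : G) * v * (l : G)⁻¹) n := by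
        change n * (v * n * v⁻¹)⁻¹ * (((l : G) * v * (l : G)⁻¹) * n * ((l : G) * v * (l : G)⁻¹)⁻¹) * n⁻¹ = _
        rw [c, c]; group
      rw [← mul_assoc] at h5
      rwa [e1] at h5)
    have hmN : m ∈ normalizer (NOne.Flat.EE V F : Set G) := by
      apply norm_of_conj
      refine Subgroup.eq_of_le_of_card_ge (fun y hy => ?_) (NOne.Choice.card_conj _ _).ge
      obtain ⟨e, he, rfl⟩ := NOne.Frame.mem_conj'.1 hy
      rw [hmE e he]
      have h2 : (l : G) * e * (l : G)⁻¹ ∈ MulAut.conj (l : G) • NOne.Flat.EE V F := NOne.Frame.conj_mem he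
      rwa [hE] at h2
    have hact : Act s m (s.ρ l) := by
      intro e he he' heE
      rw [s.ρπ]
      congr 1
      exact Subtype.ext (hmE e heE)
    exact ⟨m, mem_RR.2 ⟨⟨hm.1, hm.2, hmN, hmV⟩, _, ht, hact⟩, hact⟩
  -- the groups
  set EK : Subgroup G := (K.comap s.π).map (EX V F x).subtype with hEK
  have memEK : ∀ {e : G} (he : e ∈ EX V F x), e ∈ EK ↔ s.π ⟨e, he⟩ ∈ K := by
    intro e he
    constructor
    · rintro ⟨⟨e', he'⟩, h1, rfl⟩
      exact h1
    · intro h1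
      exact ⟨⟨e, he⟩, h1, rfl⟩
  have hEKX : EK ≤ EX V F x := by
    rintro _ ⟨e, -, rfl⟩
    exact e.2
  have hFK : F ≤ EK := by
    intro f hf
    rw [memEK (hFEX hf), (s.ker ⟨f, hFEX hf⟩).2 hf]
    exact one_mem _
  have hKE : EK ≤ NOne.Flat.EE V F := by
    intro e he
    have h1 := hK ((memEK (hEKX he)).1 he)
    exact (s.mem_B h.F_le_E).1 h1
  have hBK : s.B EK = K := by
    ext n
    obtain ⟨e, rfl⟩ := s.surj n
    rw [s.mem_B hFK]
    exact memEK e.2
  have hRE : ∀ {r : G}, r ∈ RR s T → r ∈ normalizer (NOne.Flat.EE V F : Set G) := fun hr => (mem_RR.1 hr).1.2.2.1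
  have hXE : RR s T ≤ normalizer (F : Set G) :=
    fun r hr => centralizer_le_normalizer _ (mem_RR.1 hr).1.2.1
  refine ⟨EK, RR s T, NOne.Frame.stab (RR s T) (NOne.Flat.EE V F) F hXE, ?_⟩
  have memD : ∀ d, d ∈ NOne.Frame.stab (RR s T) (NOne.Flat.EE V F) F hXE ↔
      d ∈ RR s T ∧ ∀ e ∈ NOne.Flat.EE V F, c e d ∈ F := by
    intro d
    constructor
    · rintro ⟨h1, h2⟩
      refine ⟨h1, fun e he => ?_⟩
      have h6 := inv_mem (h2 e he)
      have e1 : (d * e * d⁻¹ * e⁻¹)⁻¹ = c e d := by rw [c]; group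
      rwa [e1] at h6
    · rintro ⟨h1, h2⟩
      refine ⟨h1, fun e he => ?_⟩
      have h6 := inv_mem (h2 e he)
      have e1 : (c e d)⁻¹ = d * e * d⁻¹ * e⁻¹ := by rw [c]; group
      rwa [e1] at h6
  refine
  { FK := hFK
    KE := hKE
    idx := by
      rw [← s.card_B hEEX, ← s.card_B hEKX, hBK, hK2]
    WR := fun w hw => mem_RR.2 ⟨⟨h.W_norm_V hw, Hyp.W_le_X hw, h.W_norm_E hw, fun v hv => h.comm_VW hv hw⟩, 1,
      one_mem _, Act.of_comm s (fun e he => h.comm_EW he hw) hFc⟩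
    norm := fun r hr => (mem_RR.1 hr).1.1
    cent := fun r hr => (mem_RR.1 hr).1.2.1
    commV := fun r hr v hv => (mem_RR.1 hr).1.2.2.2 v hv
    commK := by
      intro r hr k hk
      obtain ⟨-, t, ht, hact⟩ := mem_RR.1 hr
      exact hact.comm_of (hRE hr) (hKE hk) (hTK t ht _ ((memEK (hEEX (hKE hk))).1 hk)) hFc
    fix := by
      intro e he hfix
      rw [memEK (hEEX he)]
      refine hmem _ ((s.mem_B h.F_le_E).2 he) fun t ht => ?_
      obtain ⟨r, hr, hact⟩ := hlift t ht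
      rw [← hact e (hEEX he) (hEEX (norm_mem (hRE hr) he)) he, s.π_eq_iff]
      have h1 := hfix r hr
      change (r * e * r⁻¹)⁻¹ * e ∈ F
      have e1 : (r * e * r⁻¹)⁻¹ * e = e⁻¹ * (c e r * e) := by rw [c]; group
      rw [e1, ← hFc e he _ h1, inv_mul_cancel_left]
      exact h1
    gen := by
      intro k hk
      obtain ⟨t, ht, h1⟩ := hgen
      obtain ⟨m', hm', h2⟩ := h1 _ ((memEK (hEKX hk)).1 hk)
      obtain ⟨⟨e, heX⟩, rfl⟩ := s.surj m'
      have heE : e ∈ NOne.Flat.EE V F := (s.mem_B h.F_le_E).1 hm'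
      obtain ⟨r, hr, hact⟩ := hlift t ht
      have hreE : r * e * r⁻¹ ∈ NOne.Flat.EE V F := norm_mem (hRE hr) heE
      rw [← hact e heX (hEEX hreE) heE, ← map_inv, ← map_mul, s.π_eq_iff] at h2
      have h3 : k⁻¹ * (r * e * r⁻¹ * e⁻¹) ∈ F := h2
      have h4 : k = (c e r)⁻¹ * (k⁻¹ * (r * e * r⁻¹ * e⁻¹))⁻¹ := by rw [c]; group
      rw [h4]
      refine mul_mem (inv_mem (mem_sup_right (subset_closure ⟨e, heE, r, hr, rfl⟩))) (inv_mem (mem_sup_left h3))
    memD := memD
    big := ?_ }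
  -- `|R : D| ≥ |T : A₀|`
  have hidx : (s.A V).relIndex T = (NOne.Flat.EE V F).relIndex V := by
    have h1 := NOne.Flat.card_mul_relIndex' hAT
    rw [hcard, pow_two] at h1
    rw [← hAcard]
    exact Nat.eq_of_mul_eq_mul_left Nat.card_pos h1
  rw [← hidx]
  choose! r hr hact using hlift
  let φ : (T ⧸ (s.A V).subgroupOf T) →
      (↥(RR s T) ⧸ (NOne.Frame.stab (RR s T) (NOne.Flat.EE V F) F hXE).subgroupOf (RR s T)) :=
    fun q => QuotientGroup.mk ⟨r (q.out : T), hr _ (q.out : T).2⟩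
  have hφ : Function.Injective φ := by
    intro p q hpq
    have h1 : (⟨r (p.out : T), hr _ (p.out : T).2⟩ : ↥(RR s T))⁻¹ * ⟨r (q.out : T), hr _ (q.out : T).2⟩ ∈
        (NOne.Frame.stab (RR s T) (NOne.Flat.EE V F) F hXE).subgroupOf (RR s T) := QuotientGroup.eq.1 hpq
    rw [mem_subgroupOf, memD] at h1
    obtain ⟨h1, h2⟩ := h1
    have h3 := ((hact _ (p.out : T).2).inv (hRE (hr _ (p.out : T).2))).mul (hact _ (q.out : T).2)
      (inv_mem (hRE (hr _ (p.out : T).2))) (hRE (hr _ (q.out : T).2))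
    have h4 : ((p.out : T) : MulAut N)⁻¹ * ((q.out : T) : MulAut N) ∈ s.A V := by
      refine hk _ (mul_mem (inv_mem (p.out : T).2) (q.out : T).2) fun m hm => ?_
      obtain ⟨⟨e, heX⟩, rfl⟩ := s.surj m
      have heE : e ∈ NOne.Flat.EE V F := (s.mem_B h.F_le_E).1 hm
      rw [← h3 e heX (hEEX (norm_mem (hRE h1) heE)) heE, s.π_eq_iff]
      have h5 : c e ((r (p.out : T))⁻¹ * r (q.out : T)) ∈ F := h2 e heE
      set y : G := (r (p.out : T))⁻¹ * r (q.out : T) with hy
      change (y * e * y⁻¹)⁻¹ * e ∈ F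
      have e1 : (y * e * y⁻¹)⁻¹ * e = e⁻¹ * (c e y * e) := by rw [c]; group
      rw [e1, ← hFc e heE _ h5, inv_mul_cancel_left]
      exact h5
    rw [← p.out_eq, ← q.out_eq]
    exact QuotientGroup.eq.2 h4
  exact Nat.card_le_card_of_injective φ hφ

end

/-- **FIELD-5**: THEOREM SZ from CLAIM A. -/
theorem noSz (hSz : SzOutS.{u}) : NoSz.{u} := by
  intro G _ _ V F h h4 x hx hb N _ s hs
  have : Finite N := Finite.of_surjective s.π s.surj
  have hspr := h.toHyp.exists_spr hx hb h.f0' s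
  have e0 : MulAut.conj (gi x false) • V = V := by
    change MulAut.conj (1 : G) • V = V
    rw [map_one, one_smul]
  have e0E : MulAut.conj (gi x false) • NOne.Flat.EE V F = NOne.Flat.EE V F := by
    change MulAut.conj (1 : G) • NOne.Flat.EE V F = NOne.Flat.EE V F
    rw [map_one, one_smul]
  have hVH : V ≤ HX V F x := le_inf (le_sup_left.trans (h.sup_norm_EEx hx)) h.V_le_X
  have hAcard : Nat.card (s.A V) = (NOne.Flat.EE V F).relIndex V := by
    refine s.card_A hVH fun k hk => ?_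
    rw [s.ρ_eq_one_iff]
    have h1 := h.toHyp.ker_conj hx hb (h.toHyp.good_one hx hb) (k := k) (by rwa [map_one, one_smul])
    rw [map_one, one_smul] at h1
    exact h1
  obtain ⟨T, K, hT⟩ := hSz N _ _ hspr (by
    change 4 ≤ Nat.card (s.A (MulAut.conj (gi x false) • V))
    rw [e0, hAcard]
    exact h4) (by
    change IsSz ↥(s.A (MulAut.conj (gi x false) • V) ⊔ s.A (MulAut.conj x • V))
      (Nat.card (s.A (MulAut.conj (gi x false) • V)))
    rw [e0, hAcard]
    exact hs)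
  change s.A (MulAut.conj (gi x false) • V) ≤ T ∧ T ≤ s.A (MulAut.conj (gi x false) • V) ⊔ s.A (MulAut.conj x • V) ∧
    Nat.card T = Nat.card (s.A (MulAut.conj (gi x false) • V)) ^ 2 ∧
    (∀ t ∈ T, ∀ a ∈ s.A (MulAut.conj (gi x false) • V), t * a = a * t) ∧
    (∀ t ∈ T, ∀ m ∈ s.B (MulAut.conj (gi x false) • NOne.Flat.EE V F),
      t m ∈ s.B (MulAut.conj (gi x false) • NOne.Flat.EE V F)) ∧
    K ≤ s.B (MulAut.conj (gi x false) • NOne.Flat.EE V F) ∧
    Nat.card K ^ 2 = Nat.card (s.B (MulAut.conj (gi x false) • NOne.Flat.EE V F)) ∧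
    (∀ t ∈ T, ∀ m ∈ s.B (MulAut.conj (gi x false) • NOne.Flat.EE V F), t m * m⁻¹ ∈ K) ∧
    (∀ t ∈ T, ∀ m ∈ K, t m = m) ∧
    (∀ t ∈ T, (∀ m ∈ s.B (MulAut.conj (gi x false) • NOne.Flat.EE V F), t m = m) →
      t ∈ s.A (MulAut.conj (gi x false) • V)) ∧
    (∀ m ∈ s.B (MulAut.conj (gi x false) • NOne.Flat.EE V F), (∀ t ∈ T, t m = m) → m ∈ K) ∧
    ∃ t ∈ T, ∀ m ∈ K, ∃ m' ∈ s.B (MulAut.conj (gi x false) • NOne.Flat.EE V F), m = t m' * m'⁻¹ at hT
  rw [e0, e0E] at hT
  obtain ⟨h1, h2, h3, h5, h6, h7, h8, -, h10, h11, h12, h13⟩ := hT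
  obtain ⟨EK, R, D, hz⟩ := h.exists_szR hx hb s h1 h2 h3 h5 h6 h7 h8 h10 h11 h12 h13 hAcard
  exact hz.false_of h.toHyp (fun n hn hv he => h.nn hn hv fun e he' => by
    rw [c, he e he', mul_inv_cancel_right, mul_inv_cancel]) h.noffM

end Cfsg.Agent.Omega.NO1.Field

end
end

private theorem dce_9593e19bd3ed : _root_.True := by
  try have : _root_.True := by simp only [_root_.Cfsg.Agent.Omega.NO1.Field.NG.hom.congr_simp]
  exact _root_.True.intro
end

-- part: Mrg/Omega/NO1/FrPlusMain_mg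
section
prune_inst 0x1c4282000000000800000000000404800c000000002080000000000000040030000000dc00000000000000000000011800800000000000000000000000000000000000000000000000000000000000000000000000000
set_option linter.all false
open scoped Cfsg.Agent.FastGrp

-- part: Mrg/Omega/NearFF/Geo
section
section


/-!
# THEOREM BT2 (helper318, bb 13091): hypotheses and the geometry of the points

The points are the conjugates of `z`; the point `x` has a hyperplane `ker (h.f x)` and a group `h.K x`.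
-/

set_option autoImplicit false

namespace Cfsg.Agent.Omega.NearFF

open Subgroup Transv

variable {Y : Type*} [Group Y] {V : Type*} [AddCommGroup V] [Module (ZMod 2) V] [DistribMulAction Y V]

/-- the hypotheses of THEOREM BT2 -/
structure Hyp (Y V : Type*) [Group Y] [AddCommGroup V] [Module (ZMod 2) V] [DistribMulAction Y V]
    (T : Sylow 2 Y) (U : Subgroup Y) (z : V) (φ : Du V) (B : Subgroup Y) : Prop where
  faith : Faith Y V
  le : (T : Subgroup Y) ≤ U
  ne : U ≠ ⊤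
  max : ∀ X : Subgroup Y, (T : Subgroup Y) ≤ X → X ≤ U ∨ X = ⊤
  z_ne : z ≠ 0
  z_fix : ∀ t ∈ T, t • z = z
  z_uniq : ∀ v : V, (∀ t ∈ T, t • v = v) → v = 0 ∨ v = z
  span : cen Y z = ⊤
  phi_ne : φ ≠ 0
  phi_z : φ z = 0
  inv : ∀ g : Y, g • z = z → ∀ v, φ (g • v) = φ v
  B_comm : ∀ a ∈ B, ∀ b ∈ B, a * b = b * a
  B_sq : ∀ b ∈ B, b * b = 1
  B_phi : ∀ b ∈ B, ∀ v, φ (b • v) = φ v
  B_E : ∀ b ∈ B, ∀ e, φ e = 0 → b • e = e ∨ b • e = e + z
  B_card : 4 * Nat.card B = Nat.card V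
  /-- no transvections -/
  nt : NT Y V
  /-- no four-group with `|V : C_V(A)| = 4` -/
  nf : ∀ A : Subgroup Y, Nat.card A = 4 → (∀ a ∈ A, a * a = 1) → Nat.card V ≠ 4 * Nat.card (fixS V A)

/-- conjugate groups -/
theorem conj_mem_KK {x : V} {χ : Du V} {b : Y} (hb : b ∈ KK Y x χ) (g : Y) :
    g * b * g⁻¹ ∈ KK Y (g • x) (dua g χ) := by
  obtain ⟨h1, h2, h3⟩ := hb
  refine ⟨by rw [mul_smul, mul_smul, inv_smul_smul, h1], fun v => ?_, fun e he => ?_⟩
  · rw [dua_apply, dua_apply, mul_smul, mul_smul, inv_smul_smul, h2]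
  · rw [dua_apply] at he
    rw [mul_smul, mul_smul]
    rcases h3 _ he with h4 | h4
    · rw [h4, smul_inv_smul]
      exact Or.inl rfl
    · rw [h4, smul_add, smul_inv_smul]
      exact Or.inr rfl

theorem dua_inv (g : Y) (χ : Du V) : dua g⁻¹ (dua g χ) = χ := by
  ext v
  rw [dua_apply, dua_apply, inv_inv, inv_smul_smul]

theorem mem_KK_conj {x : V} {χ : Du V} {b : Y} (g : Y) :
    g * b * g⁻¹ ∈ KK Y (g • x) (dua g χ) ↔ b ∈ KK Y x χ := by
  refine ⟨fun h => ?_, fun h => conj_mem_KK h g⟩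
  have h1 := conj_mem_KK h g⁻¹
  rw [inv_smul_smul, dua_inv] at h1
  have h2 : g⁻¹ * (g * b * g⁻¹) * g⁻¹⁻¹ = b := by group
  rwa [h2] at h1

theorem card_KK_conj (x : V) (χ : Du V) (g : Y) :
    Nat.card (KK Y (g • x) (dua g χ)) = Nat.card (KK Y x χ) := by
  refine (Nat.card_congr ?_).symm
  refine (MulAut.conj g).toEquiv.subtypeEquiv fun b => ?_
  exact (mem_KK_conj g).symm

theorem Pnt.conj {x : V} {χ : Du V} (h : Pnt Y x χ) (g : Y) : Pnt Y (g • x) (dua g χ) where
  ne := by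
    intro h0
    apply h.ne
    rw [← inv_smul_smul g x, h0, smul_zero]
  nz := by
    obtain ⟨v, hv⟩ := exists_one h.nz
    intro h0
    have h1 : dua g χ (g • v) = 0 := by rw [h0]; rfl
    rw [dua_apply, inv_smul_smul, hv] at h1
    exact one_ne h1
  self := by rw [dua_apply, inv_smul_smul, h.self]
  comm := by
    intro a ha b hb
    have ha' := conj_mem_KK ha g⁻¹
    have hb' := conj_mem_KK hb g⁻¹
    rw [inv_smul_smul, dua_inv] at ha' hb'
    have h1 := h.comm _ ha' _ hb'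
    have h2 : a * b = g * (g⁻¹ * a * g⁻¹⁻¹ * (g⁻¹ * b * g⁻¹⁻¹)) * g⁻¹ := by group
    rw [h2, h1]
    group
  sq := by
    intro b hb
    have hb' := conj_mem_KK hb g⁻¹
    rw [inv_smul_smul, dua_inv] at hb'
    have h1 := h.sq _ hb'
    have h2 : b * b = g * (g⁻¹ * b * g⁻¹⁻¹ * (g⁻¹ * b * g⁻¹⁻¹)) * g⁻¹ := by group
    rw [h2, h1]
    group
  card := by
    rw [card_KK_conj]
    exact h.card

open Classical in
/-- the functional of a point -/
noncomputable def fu (Y : Type*) {V : Type*} [Group Y] [AddCommGroup V] [Module (ZMod 2) V] [DistribMulAction Y V]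
    (z : V) (φ : Du V) (x : V) : Du V :=
  if h : ∃ g : Y, g • z = x then dua h.choose φ else 0

namespace Hyp

variable {T : Sylow 2 Y} {U : Subgroup Y} {z : V} {φ : Du V} {B : Subgroup Y}

theorem B_z (h : Hyp Y V T U z φ B) {b : Y} (hb : b ∈ B) : b • z = z := by
  rcases h.B_E b hb z h.phi_z with h1 | h1
  · exact h1
  · rw [add_self] at h1
    exfalso
    apply h.z_ne
    rw [← inv_smul_smul b z, h1, smul_zero]

theorem B_le (h : Hyp Y V T U z φ B) : B ≤ KK Y z φ := fun b hb => ⟨h.B_z hb, h.B_phi b hb, h.B_E b hb⟩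

/-- `B` is the whole group of `z` -/
theorem eq_B [Finite Y] [Finite V] (h : Hyp Y V T U z φ B) : KK Y z φ = B := by
  symm
  refine Subgroup.eq_of_le_of_card_ge h.B_le ?_
  -- `|K| ≤ |E / z|`
  obtain ⟨v, hv⟩ := exists_one h.phi_ne
  let F : KK Y z φ × ZMod 2 → {u : V // φ u = 1} := fun p =>
    ⟨(p.1 : Y) • v + p.2 • z, by
      rw [map_add, p.1.2.2.1, hv, map_smul (f := φ) (c := p.2), h.phi_z, smul_zero, add_zero]⟩
  have hF : Function.Injective F := by
    rintro ⟨⟨b, hb⟩, c⟩ ⟨⟨b', hb'⟩, c'⟩ h1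
    have h1' : b • v + c • z = b' • v + c' • z := congrArg Subtype.val h1
    have h2 : b • v = b' • v + (c' + c) • z := by
      rw [add_smul, ← add_assoc, ← h1', add_add_self]
    have h3 : b = b' := by
      have hk : b'⁻¹ * b ∈ KK Y z φ := mul_mem (inv_mem hb') hb
      have h1 : (b'⁻¹ * b) • v = v + (c' + c) • z := by
        rw [mul_smul, h2, smul_add, inv_smul_smul, smul_zmod, (inv_mem hb').1]
      have h2 : b'⁻¹ * b = 1 := by
        refine eq_one_of h.faith h.nt h.z_ne fun u => ?_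
        rcases zmod_cases (φ u) with h3 | h3
        · exact hk.2.2 u h3
        · have h4 : φ (u + v) = 0 := by rw [map_add, h3, hv, one_add_one]
          have h5 : u = v + (u + v) := by rw [add_comm v, add_add_self]
          have h6 : (b'⁻¹ * b) • u = v + (c' + c) • z + (b'⁻¹ * b) • (u + v) := by
            rw [← h1, ← smul_add, ← h5]
          have h7 : v + (c' + c) • z + (u + v) = u + (c' + c) • z := by
            rw [add_comm u v, Fr.cancel_mid, add_comm]
          rcases hk.2.2 _ h4 with h8 | h8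
          · rw [h8, h7] at h6
            rcases zmod_cases (c' + c) with hc | hc
            · left
              rw [h6, hc, zero_smul, add_zero]
            · right
              rw [h6, hc, one_smul]
          · rw [h8, ← add_assoc, h7] at h6
            rcases zmod_cases (c' + c) with hc | hc
            · right
              rw [h6, hc, zero_smul, add_zero]
            · left
              rw [h6, hc, one_smul, add_add_self]
      exact (inv_mul_eq_one.mp h2).symm
    subst h3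
    have h4 : c • z = c' • z := add_left_cancel h1'
    have h5 : c = c' := by
      rcases zmod_cases c with hc | hc
      · rcases zmod_cases c' with hc' | hc'
        · rw [hc, hc']
        · rw [hc, hc', zero_smul, one_smul] at h4
          exact absurd h4.symm h.z_ne
      · rcases zmod_cases c' with hc' | hc'
        · rw [hc, hc', zero_smul, one_smul] at h4
          exact absurd h4 h.z_ne
        · rw [hc, hc']
    rw [h5]
  have h1 := Nat.card_le_card_of_injective F hF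
  rw [Nat.card_prod, Nat.card_zmod] at h1
  have h2 := card_hyper h.phi_ne
  have h3 := h.B_card
  omega

theorem pnt_z [Finite Y] [Finite V] (h : Hyp Y V T U z φ B) : Pnt Y z φ where
  ne := h.z_ne
  nz := h.phi_ne
  self := h.phi_z
  comm := by
    rw [h.eq_B]
    exact h.B_comm
  sq := by
    rw [h.eq_B]
    exact h.B_sq
  card := by
    rw [h.eq_B]
    exact h.B_card

theorem dua_eq (h : Hyp Y V T U z φ B) {g k : Y} (hgk : g • z = k • z) : dua g φ = dua k φ := by
  ext v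
  rw [dua_apply, dua_apply]
  have h1 : (g⁻¹ * k) • z = z := by rw [mul_smul, ← hgk, inv_smul_smul]
  have h2 := h.inv _ h1 (k⁻¹ • v)
  rw [mul_smul, smul_inv_smul] at h2
  exact h2

theorem fu_eq (h : Hyp Y V T U z φ B) (g : Y) : fu Y z φ (g • z) = dua g φ := by
  have h1 : ∃ k : Y, k • z = g • z := ⟨g, rfl⟩
  rw [fu, dif_pos h1]
  exact h.dua_eq h1.choose_spec

theorem pnt [Finite Y] [Finite V] (h : Hyp Y V T U z φ B) {x : V} (hx : x ∈ MulAction.orbit Y z) :
    Pnt Y x (fu Y z φ x) := by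
  obtain ⟨g, rfl⟩ := hx
  change Pnt Y (g • z) (fu Y z φ (g • z))
  rw [h.fu_eq]
  exact h.pnt_z.conj g

theorem fu_conj (h : Hyp Y V T U z φ B) {x : V} (hx : x ∈ MulAction.orbit Y z) (g : Y) (v : V) :
    fu Y z φ (g • x) (g • v) = fu Y z φ x v := by
  obtain ⟨k, rfl⟩ := hx
  change fu Y z φ (g • k • z) (g • v) = fu Y z φ (k • z) v
  rw [← mul_smul, h.fu_eq, h.fu_eq, dua_apply, dua_apply, mul_inv_rev, mul_smul, inv_smul_smul]

theorem fu_zero {x : V} (hx : x ∉ MulAction.orbit Y z) : fu Y z φ x = 0 := by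
  rw [fu, dif_neg]
  rintro ⟨g, hg⟩
  exact hx ⟨g, hg⟩

end Hyp

/-- the geometry of the points -/
structure Geo (Y V : Type*) [Group Y] [AddCommGroup V] [Module (ZMod 2) V] [DistribMulAction Y V]
    (T : Sylow 2 Y) (U : Subgroup Y) (z : V) (Om : Set V) (f : V → Du V) : Prop where
  faith : Faith Y V
  nt : NT Y V
  nf : ∀ A : Subgroup Y, Nat.card A = 4 → (∀ a ∈ A, a * a = 1) → Nat.card V ≠ 4 * Nat.card (fixS V A)
  le : (T : Subgroup Y) ≤ U
  ne : U ≠ ⊤
  max : ∀ X : Subgroup Y, (T : Subgroup Y) ≤ X → X ≤ U ∨ X = ⊤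
  z_fix : ∀ t ∈ T, t • z = z
  z_uniq : ∀ v : V, (∀ t ∈ T, t • v = v) → v = 0 ∨ v = z
  zO : z ∈ Om
  trans : ∀ x ∈ Om, ∃ g : Y, g • z = x
  smul : ∀ (g : Y), ∀ x ∈ Om, g • x ∈ Om
  span : ∀ W : Submodule (ZMod 2) V, (∀ x ∈ Om, x ∈ W) → W = ⊤
  pnt : ∀ x ∈ Om, Pnt Y x (f x)
  conj : ∀ (g : Y), ∀ x ∈ Om, ∀ v, f (g • x) (g • v) = f x v
  zero : ∀ x ∉ Om, f x = 0

theorem Hyp.geo [Finite Y] [Finite V] {T : Sylow 2 Y} {U : Subgroup Y} {z : V} {φ : Du V} {B : Subgroup Y}
    (h : Hyp Y V T U z φ B) : Geo Y V T U z (MulAction.orbit Y z) (fu Y z φ) where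
  faith := h.faith
  nt := h.nt
  nf := h.nf
  le := h.le
  ne := h.ne
  max := h.max
  z_fix := h.z_fix
  z_uniq := h.z_uniq
  zO := MulAction.mem_orbit_self z
  trans x hx := hx
  smul g x hx := by
    obtain ⟨k, rfl⟩ := hx
    exact ⟨g * k, mul_smul g k z⟩
  span W hW := by
    rw [eq_top_iff, ← h.span, cen, Submodule.span_le]
    rintro _ ⟨g, rfl⟩
    exact hW _ ⟨g, rfl⟩
  pnt x hx := h.pnt hx
  conj g x hx v := h.fu_conj hx g v
  zero x hx := Hyp.fu_zero hx

namespace Geo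

variable {T : Sylow 2 Y} {U : Subgroup Y} {z : V} {Om : Set V} {f : V → Du V}

theorem free (h : Geo Y V T U z Om f) {x : V} (hx : x ∈ Om) {b : Y} (hb : b ∈ KK Y x (f x)) {v : V}
    (hv : f x v = 1) (he : b • v = v) : b = 1 := (h.pnt x hx).free h.faith h.nt hb hv he

theorem hit [Finite Y] [Finite V] (h : Geo Y V T U z Om f) {x : V} (hx : x ∈ Om) {v u : V} (hv : f x v = 1)
    (hu : f x u = 1) : ∃ b ∈ KK Y x (f x), ∃ c : ZMod 2, u = b • v + c • x :=
  (h.pnt x hx).hit h.faith h.nt hv hu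

theorem move [Finite Y] [Finite V] (h : Geo Y V T U z Om f) {x : V} (hx : x ∈ Om) {e : V} (he : f x e = 0)
    (he0 : e ≠ 0) (hex : e ≠ x) : ∃ b ∈ KK Y x (f x), b • e = e + x :=
  (h.pnt x hx).move h.faith h.nt he he0 hex

theorem f_smul (h : Geo Y V T U z Om f) {x : V} (hx : x ∈ Om) (g : Y) : f (g • x) = dua g (f x) := by
  ext v
  rw [dua_apply, ← h.conj g x hx (g⁻¹ • v), smul_inv_smul]

theorem conj_mem (h : Geo Y V T U z Om f) {x : V} (hx : x ∈ Om) {b : Y} (hb : b ∈ KK Y x (f x)) (g : Y) :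
    g * b * g⁻¹ ∈ KK Y (g • x) (f (g • x)) := by
  rw [h.f_smul hx]
  exact conj_mem_KK hb g

/-- an element fixing `x` preserves the functional of `x` -/
theorem f_of_fix (h : Geo Y V T U z Om f) {x : V} (hx : x ∈ Om) {g : Y} (hg : g • x = x) (v : V) :
    f x (g • v) = f x v := by
  have h1 := h.conj g x hx v
  rwa [hg] at h1

/-- (3) symmetry -/
theorem symm0 [Finite Y] [Finite V] (h : Geo Y V T U z Om f) {x y : V} (hx : x ∈ Om) (hy : y ∈ Om)
    (hxy : f x y = 0) : f y x = 0 := by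
  refine eq_zero_of_ne fun h1 => ?_
  have hp := h.pnt x hx
  obtain ⟨v, hv⟩ := exists_one hp.nz
  obtain ⟨b, hb, c, h2⟩ := h.hit hx hv (u := v + y) (by rw [map_add, hv, hxy, add_zero])
  have h3 := eq_add_smul h2
  -- `b` fixes `y`
  have h4 : b • y = y := by
    have h5 : b • b • v = v := by rw [← mul_smul, hp.sq b hb, one_smul]
    rw [h3, smul_add, smul_add, h3, smul_zmod, hb.1] at h5
    have h6 : v + y + c • x + b • y + c • x = v + (y + b • y) := by
      have h7 : v + y + c • x + b • y + c • x = v + (y + b • y) + (c • x + c • x) := by abel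
      rw [h7, add_self, add_zero]
    rw [h6] at h5
    have h7 : y + b • y = 0 := add_eq_left.mp h5
    exact (eq_of_add h7).symm
  have hc : c = 0 := by
    have h5 := h.f_of_fix hy h4 v
    rw [h3, map_add, map_add, map_smul, (h.pnt y hy).self, h1, smul_eq_mul, mul_one, add_zero] at h5
    exact add_eq_left.mp h5
  rw [hc, zero_smul, add_zero] at h3
  have h6 : ∀ e, f x e = 0 → b • e = e := by
    intro e he
    rcases hb.2.2 e he with h7 | h7
    · exact h7
    · exfalso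
      have h8 := h.f_of_fix hy h4 e
      rw [h7, map_add, h1] at h8
      exact one_ne (add_eq_left.mp h8)
  refine h.nt b y (f x) ⟨(h.pnt y hy).ne, hp.nz, fun u => ?_⟩
  rcases zmod_cases (f x u) with h7 | h7
  · rw [h6 u h7, h7, zero_smul, add_zero]
  · have h8 : f x (u + v) = 0 := by rw [map_add, h7, hv, one_add_one]
    have h9 : u = v + (u + v) := by rw [add_comm v, add_add_self]
    have h10 : b • u = b • v + (u + v) := by
      rw [← h6 _ h8, ← smul_add, ← h9]
    rw [h10, h3, h7, one_smul]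
    have h11 : v + y + (u + v) = u + y + (v + v) := by abel
    rw [h11, add_self, add_zero]

theorem symm [Finite Y] [Finite V] (h : Geo Y V T U z Om f) {x y : V} (hx : x ∈ Om) (hy : y ∈ Om) :
    f x y = f y x := by
  rcases zmod_cases (f x y) with h1 | h1
  · rw [h1, h.symm0 hx hy h1]
  · rcases zmod_cases (f y x) with h2 | h2
    · rw [h.symm0 hy hx h2] at h1
      exact absurd h1 zero_ne_one'
    · rw [h1, h2]

/-- the third point of a line -/
theorem line [Finite Y] [Finite V] (h : Geo Y V T U z Om f) {x y : V} (hx : x ∈ Om) (hy : y ∈ Om)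
    (hxy : f x y = 0) (hne : y ≠ x) : y + x ∈ Om := by
  obtain ⟨b, -, h1⟩ := h.move hx hxy (h.pnt y hy).ne hne
  rw [← h1]
  exact h.smul b y hy

/-- there is a point not in the hyperplane of `x` -/
theorem exists_far (h : Geo Y V T U z Om f) {x : V} (hx : x ∈ Om) : ∃ y ∈ Om, f x y = 1 := by
  by_contra hcon
  push Not at hcon
  have h1 := h.span (LinearMap.ker (f x)) fun y hy => eq_zero_of_ne (hcon y hy)
  exact (h.pnt x hx).nz (LinearMap.ker_eq_top.mp h1)

end Geo

end Cfsg.Agent.Omega.NearFF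

end

section


/-!
# (BT), `|V/E| = 2`: the symplectic datum (hypotheses of THEOREM BT4, #14336; project OMEGA, leaf N1)

`β` is a `Y`-invariant nondegenerate symplectic form, `E_x = x^⊥`,
`KK Y x (β x) = R_x = {a ∈ Y_x : [x^⊥, a] ≤ ⟨x⟩}`, `|R_x| ≥ 4`, `C_V(R_x) ∩ Ω = {x}`.
-/

set_option autoImplicit false
set_option linter.unusedSectionVars false

namespace Cfsg.Agent.Omega.NearFF

open Subgroup Cfsg.Agent.Omega.Transv

variable {Y : Type*} [Group Y] {V : Type*} [AddCommGroup V] [Module (ZMod 2) V] [DistribMulAction Y V]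

theorem Fx.add {B : Subgroup Y} {v w : V} (hv : Fx B v) (hw : Fx B w) : Fx B (v + w) := by
  intro b hb
  rw [smul_add, hv b hb, hw b hb]

theorem Fx.zero (B : Subgroup Y) : Fx B (0 : V) := fun b _ => smul_zero b

theorem Fx.of_add {B : Subgroup Y} {v w : V} (h : Fx B (v + w)) (hw : Fx B w) : Fx B v := by
  have h1 := h.add hw
  rwa [add_add_self] at h1

theorem cm_def (b : Y) (v : V) : cm b v = b • v + v := rfl

theorem cm_add (b : Y) (v w : V) : cm b (v + w) = cm b v + cm b w := by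
  rw [cm, cm, cm, smul_add]
  abel

theorem smul_eq_add_cm (b : Y) (v : V) : b • v = v + cm b v := by
  rw [cm, add_comm (b • v) v, ← add_assoc, add_self, zero_add]

theorem cm_eq_zero {b : Y} {v : V} : cm b v = 0 ↔ b • v = v := by
  constructor
  · exact eq_of_add
  · intro h
    rw [cm, h, add_self]

theorem cm_one (v : V) : cm (1 : Y) v = 0 := by
  rw [cm, one_smul, add_self]

theorem cm_zero (b : Y) : cm b (0 : V) = 0 := by
  rw [cm, smul_zero, add_zero]

theorem smul_cm {a b : Y} (h : a * b = b * a) (v : V) : a • cm b v = cm b (a • v) := by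
  rw [cm, cm, smul_add, smul_smul, smul_smul, h]

/-- `[v, b, a] = [v, a, b]` if `a`, `b` commute -/
theorem cm_comm {a b : Y} (h : a * b = b * a) (v : V) : cm a (cm b v) = cm b (cm a v) := by
  rw [cm_def a, smul_cm h, ← cm_add]
  rfl

/-- `[v, a b] = [v, a] + [v, b] + [v, b, a]` -/
theorem cm_mul (a b : Y) (v : V) : cm (a * b) v = cm a v + cm b v + cm a (cm b v) := by
  rw [cm_def (a * b), mul_smul, smul_eq_add_cm b v, smul_add, smul_eq_add_cm a v,
    smul_eq_add_cm a (cm b v)]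
  have : v + cm a v + (cm b v + cm a (cm b v)) + v = cm a v + cm b v + cm a (cm b v) + (v + v) := by
    abel
  rw [this, add_self, add_zero]

theorem smul_cm_conj (g b : Y) (v : V) : g • cm b v = cm (g * b * g⁻¹) (g • v) := by
  rw [cm, cm, smul_add, mul_smul, mul_smul, inv_smul_smul]

theorem mem_KK_iff {φ : Du V} {x : V} {a : Y} : a ∈ KK Y x φ ↔
    a • x = x ∧ (∀ v : V, φ (a • v) = φ v) ∧ ∀ e : V, φ e = 0 → cm a e = 0 ∨ cm a e = x := by
  rw [mem_KK]
  refine and_congr_right fun _ => and_congr_right fun _ => forall_congr' fun e =>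
    forall_congr' fun _ => or_congr cm_eq_zero.symm ?_
  rw [cm]
  constructor
  · intro h
    rw [h, add_comm e x, add_add_self]
  · intro h
    rw [← h, ← add_assoc, add_comm e, add_add_self]

/-- **The symplectic datum** (hypotheses of THEOREM BT4). -/
structure Sp (T : Sylow 2 Y) (M : Subgroup Y) (z : V) (β : V →ₗ[ZMod 2] Du V) : Prop where
  faith : Faith Y V
  le : (T : Subgroup Y) ≤ M
  ne : M ≠ ⊤
  max : ∀ X : Subgroup Y, (T : Subgroup Y) ≤ X → X ≤ M ∨ X = ⊤
  z_ne : z ≠ 0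
  z_fix : Fx (T : Subgroup Y) z
  fixT : ∀ v : V, Fx (T : Subgroup Y) v → v = 0 ∨ v = z
  span : Submodule.span (ZMod 2) (Set.range fun g : Y => g • z) = ⊤
  /-- no offender -/
  noff : ∀ A : Subgroup Y, A ≠ ⊥ → (∀ a ∈ A, ∀ b ∈ A, a * b = b * a) → (∀ a ∈ A, a * a = 1) →
    Nat.card A * Nat.card {v : V // Fx A v} < Nat.card V
  symm : ∀ v w : V, β v w = β w v
  alt : ∀ v : V, β v v = 0
  nondeg : ∀ v : V, β v = 0 → v = 0
  inv : ∀ (g : Y) (v w : V), β (g • v) (g • w) = β v w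
  four : ∀ x ∈ MulAction.orbit Y z, 4 ≤ Nat.card (KK Y x (β x))
  only : ∀ x ∈ MulAction.orbit Y z, ∀ y ∈ MulAction.orbit Y z, Fx (KK Y x (β x)) y → y = x

end Cfsg.Agent.Omega.NearFF

end
end

-- part: Mrg/Omega/NearFF/Symp
section
section


/-!
# THEOREM BT2 (helper318, bb 13091): steps (4) and (5)

If `x, y, x + y` are points and `x, y` are not perpendicular then all vectors are points; this is impossible.
-/

set_option autoImplicit false

namespace Cfsg.Agent.Omega.NearFF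

open Subgroup Transv

variable {Y : Type*} [Group Y] {V : Type*} [AddCommGroup V] [Module (ZMod 2) V] [DistribMulAction Y V]

/-- the four-group of two commuting involutions -/
def four {a b : Y} (ha : a * a = 1) (hb : b * b = 1) (hab : a * b = b * a) : Subgroup Y where
  carrier := {g | g = 1 ∨ g = a ∨ g = b ∨ g = a * b}
  one_mem' := Or.inl rfl
  mul_mem' := by
    have h1 : a * (a * b) = b := by rw [← mul_assoc, ha, one_mul]
    have h2 : b * (a * b) = a := by rw [hab, ← mul_assoc, hb, one_mul]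
    have h3 : a * b * a = b := by rw [hab, mul_assoc, ha, mul_one]
    have h4 : a * b * b = a := by rw [mul_assoc, hb, mul_one]
    have h5 : a * b * (a * b) = 1 := by rw [mul_assoc, h2, ha]
    rintro g k (rfl | rfl | rfl | rfl) (rfl | rfl | rfl | rfl) <;> simp only [ha, hb, h1, h2, h3, h4, h5, ← hab, _root_.mul_one, _root_.Set.mem_ofPred_eq, _root_.true_or, _root_.one_mul, _root_.left_eq_mul, _root_.or_true, _root_.right_eq_mul, _root_.mul_eq_left, _root_.mul_eq_right]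
  inv_mem' := by
    have h5 : a * b * (a * b) = 1 := by
      have h2 : b * (a * b) = a := by rw [hab, ← mul_assoc, hb, one_mul]
      rw [mul_assoc, h2, ha]
    rintro g (rfl | rfl | rfl | rfl)
    · exact Or.inl inv_one
    · exact Or.inr (Or.inl (inv_eq_of_mul_eq_one_left ha))
    · exact Or.inr (Or.inr (Or.inl (inv_eq_of_mul_eq_one_left hb)))
    · exact Or.inr (Or.inr (Or.inr (inv_eq_of_mul_eq_one_left h5)))

theorem card_four {a b : Y} {ha : a * a = 1} {hb : b * b = 1} {hab : a * b = b * a} (h1 : a ≠ 1) (h2 : b ≠ 1)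
    (h3 : a ≠ b) : Nat.card (four ha hb hab) = 4 := by
  classical
  have h4 : ((four ha hb hab : Subgroup Y) : Set Y) = (({1, a, b, a * b} : Finset Y) : Set Y) := by
    ext g
    simp only [Finset.coe_insert, Finset.coe_singleton, Set.mem_insert_iff, Set.mem_singleton_iff]
    exact Iff.rfl
  have h5 : a * b ≠ 1 := fun h => h3 (by rw [← mul_one a, ← hb, ← mul_assoc, h, one_mul])
  have h6 : a * b ≠ a := fun h => h2 (mul_eq_left.mp h)
  have h7 : a * b ≠ b := fun h => h1 (mul_eq_right.mp h)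
  have h8 : Nat.card (four ha hb hab) = (({1, a, b, a * b} : Finset Y) : Set Y).ncard := by
    rw [← h4]
    rfl
  rw [h8, Set.ncard_coe_finset, Finset.card_insert_of_notMem, Finset.card_insert_of_notMem,
    Finset.card_insert_of_notMem, Finset.card_singleton]
  · simp only [Finset.mem_singleton]
    exact h7.symm
  · simp only [Finset.mem_insert, Finset.mem_singleton, not_or]
    exact ⟨h3, h6.symm⟩
  · simp only [Finset.mem_insert, Finset.mem_singleton, not_or]
    exact ⟨h1.symm, h2.symm, h5.symm⟩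

theorem comp {g k : Y} {x y x' y' : V} {χ ψ χ' ψ' : Du V} (hg : ∀ u, g • u = u + χ u • x + ψ u • y)
    (hk : ∀ u, k • u = u + χ' u • x' + ψ' u • y') (h1 : χ x' = 0) (h2 : χ y' = 0) (h3 : ψ x' = 0)
    (h4 : ψ y' = 0) (u : V) : (g * k) • u = u + (χ u • x + ψ u • y) + (χ' u • x' + ψ' u • y') := by
  rw [mul_smul, hk u, hg, map_add, map_add, map_smul, map_smul, map_add, map_add, map_smul, map_smul, h1, h2, h3, h4,
    smul_zero, smul_zero]
  simp only [add_zero]
  abel

theorem comp_self (hf : Faith Y V) {g : Y} {x y : V} {χ ψ : Du V} (hg : ∀ u, g • u = u + χ u • x + ψ u • y)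
    (h1 : χ x = 0) (h2 : χ y = 0) (h3 : ψ x = 0) (h4 : ψ y = 0) : g * g = 1 := by
  refine hf _ fun u => ?_
  rw [comp hg hg h1 h2 h3 h4, add_assoc, add_self, add_zero]

theorem comp_comm (hf : Faith Y V) {g k : Y} {x y x' y' : V} {χ ψ χ' ψ' : Du V}
    (hg : ∀ u, g • u = u + χ u • x + ψ u • y)
    (hk : ∀ u, k • u = u + χ' u • x' + ψ' u • y') (h1 : χ x' = 0) (h2 : χ y' = 0) (h3 : ψ x' = 0)
    (h4 : ψ y' = 0) (h5 : χ' x = 0) (h6 : χ' y = 0) (h7 : ψ' x = 0)
    (h8 : ψ' y = 0) : g * k = k * g := by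
  refine hf.ext fun u => ?_
  rw [comp hg hk h1 h2 h3 h4, comp hk hg h5 h6 h7 h8]
  abel

/-- the fixed vectors of `u ↦ u + χ u • x + ψ u • y` -/
theorem comp_fix {g : Y} {x y : V} {χ ψ : Du V} (hx : x ≠ 0) (hy : y ≠ 0) (hne : x ≠ y)
    (hg : ∀ u, g • u = u + χ u • x + ψ u • y) (u : V) : g • u = u ↔ χ u = 0 ∧ ψ u = 0 := by
  rw [hg, add_assoc, add_eq_left]
  constructor
  · intro h
    rcases zmod_cases (χ u) with h1 | h1
    · refine ⟨h1, ?_⟩
      refine eq_zero_of_ne fun h2 => hy ?_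
      rwa [h1, h2, zero_smul, zero_add, one_smul] at h
    · exfalso
      rcases zmod_cases (ψ u) with h2 | h2
      · rw [h1, h2, zero_smul, add_zero, one_smul] at h
        exact hx h
      · rw [h1, h2, one_smul, one_smul] at h
        exact hne (eq_of_add h)
  · rintro ⟨h1, h2⟩
    rw [h1, h2, zero_smul, zero_smul, add_zero]

/-- two different functionals cut out a subspace of index 4 -/
theorem card_two [Finite V] {χ ψ : Du V} (h1 : χ ≠ 0) (h2 : ψ ≠ 0) (h3 : χ ≠ ψ) (W : Submodule (ZMod 2) V)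
    (hW : ∀ u, u ∈ W ↔ χ u = 0 ∧ ψ u = 0) : Nat.card V = 4 * Nat.card W := by
  let L : V →ₗ[ZMod 2] ZMod 2 × ZMod 2 := χ.prod ψ
  -- there is a vector with `χ = 1`, `ψ = 0`, and one with `χ = 0`, `ψ = 1`
  have key : ∀ {χ ψ : Du V}, χ ≠ 0 → ψ ≠ 0 → χ ≠ ψ → ∃ u, χ u = 1 ∧ ψ u = 0 := by
    intro χ ψ h1 h2 h3
    by_contra hcon
    push Not at hcon
    obtain ⟨v, hv⟩ := exists_one h1
    have hv' := eq_one_of_ne (hcon v hv)
    apply h3
    ext u
    rcases zmod_cases (χ u) with h4 | h4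
    · have h5 : χ (v + u) = 1 := by rw [map_add, hv, h4, add_zero]
      have h6 := eq_one_of_ne (hcon _ h5)
      rw [map_add, hv'] at h6
      rw [h4]
      exact (add_eq_left.mp h6).symm
    · rw [h4, eq_one_of_ne (hcon u h4)]
  obtain ⟨a, ha1, ha2⟩ := key h1 h2 h3
  obtain ⟨b, hb1, hb2⟩ := key h2 h1 (Ne.symm h3)
  let F : W × (ZMod 2 × ZMod 2) → V := fun p => (p.1 : V) + (p.2.1 • a + p.2.2 • b)
  have e1 : ∀ p, χ (F p) = p.2.1 := by
    rintro ⟨⟨w, hw⟩, c, d⟩
    change χ (w + (c • a + d • b)) = c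
    rw [map_add, map_add, map_smul, map_smul, ha1, hb2, ((hW w).mp hw).1, smul_eq_mul, mul_one, smul_zero, zero_add,
      add_zero]
  have e2 : ∀ p, ψ (F p) = p.2.2 := by
    rintro ⟨⟨w, hw⟩, c, d⟩
    change ψ (w + (c • a + d • b)) = d
    rw [map_add, map_add, map_smul, map_smul, ha2, hb1, ((hW w).mp hw).2, smul_zero, smul_eq_mul, mul_one, zero_add,
      zero_add]
  have hF : Function.Bijective F := by
    constructor
    · rintro p q hpq
      have h4 : p.2.1 = q.2.1 := by rw [← e1, ← e1, hpq]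
      have h5 : p.2.2 = q.2.2 := by rw [← e2, ← e2, hpq]
      have h6 : p.2 = q.2 := Prod.ext h4 h5
      have h7 : (p.1 : V) + (p.2.1 • a + p.2.2 • b) = q.1 + (q.2.1 • a + q.2.2 • b) := hpq
      rw [h6] at h7
      exact Prod.ext (Subtype.ext (add_right_cancel h7)) h6
    · intro u
      refine ⟨⟨⟨u + (χ u • a + ψ u • b), ?_⟩, χ u, ψ u⟩, ?_⟩
      · rw [hW]
        constructor
        · rw [map_add, map_add, map_smul, map_smul, ha1, hb2, smul_eq_mul, mul_one, smul_zero, add_zero, add_self]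
        · rw [map_add, map_add, map_smul, map_smul, ha2, hb1, smul_zero, smul_eq_mul, mul_one, zero_add, add_self]
      · exact add_add_self _ _
  rw [← Nat.card_congr (Equiv.ofBijective F hF), Nat.card_prod, Nat.card_prod, Nat.card_zmod]
  omega

namespace Geo

variable {T : Sylow 2 Y} {U : Subgroup Y} {z : V} {Om : Set V} {f : V → Du V}

/-- `|V| > 4` -/
theorem exists_perp (h : Geo Y V T U z Om f) : ∃ e, f z e = 0 ∧ e ≠ 0 ∧ e ≠ z := by
  by_contra hcon
  push Not at hcon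
  have hp := h.pnt z h.zO
  have hcon' : ∀ e, f z e = 0 → e = 0 ∨ e = z := by
    intro e he
    by_cases h0 : e = 0
    · exact Or.inl h0
    · exact Or.inr (hcon e he h0)
  obtain ⟨v, hv⟩ := exists_one hp.nz
  have hT : ∀ t ∈ T, t • v = v := by
    intro t ht
    have h1 : f z (t • v + v) = 0 := by
      rw [map_add, h.f_of_fix h.zO (h.z_fix t ht), hv, one_add_one]
    rcases hcon' _ h1 with h2 | h2
    · exact eq_of_add h2
    · exfalso
      have h3 : t • v = v + z := by rw [← h2, add_comm v, add_add_self]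
      refine h.nt t z (f z) ⟨hp.ne, hp.nz, fun u => ?_⟩
      rcases zmod_cases (f z u) with h4 | h4
      · rw [h4, zero_smul, add_zero]
        rcases hcon' u h4 with h5 | h5
        · rw [h5, smul_zero]
        · rw [h5, h.z_fix t ht]
      · have h5 : f z (u + v) = 0 := by rw [map_add, h4, hv, one_add_one]
        rw [h4, one_smul]
        rcases hcon' _ h5 with h6 | h6
        · rw [eq_of_add h6, h3]
        · have h7 : u = v + z := by rw [← h6, ← add_assoc, Fr.cancel_right]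
          rw [h7, smul_add, h3, h.z_fix t ht]
  rcases h.z_uniq v hT with h1 | h1
  · rw [h1, map_zero] at hv
    exact one_ne hv.symm
  · rw [h1, hp.self] at hv
    exact one_ne hv.symm

/-- (4) -/
theorem all [Finite Y] [Finite V] (h : Geo Y V T U z Om f) {x y : V} (hx : x ∈ Om) (hy : y ∈ Om)
    (hs : y + x ∈ Om) (h1 : f x y = 1) {u : V} (hu : u ≠ 0) : u ∈ Om := by
  have hA : ∀ u, f x u = 1 → u ∈ Om := by
    intro u hu
    obtain ⟨b, hb, c, h2⟩ := h.hit hx h1 hu
    rcases zmod_cases c with hc | hc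
    · rw [h2, hc, zero_smul, add_zero]
      exact h.smul b y hy
    · have h3 : u = b • (y + x) := by rw [h2, hc, one_smul, smul_add, hb.1]
      rw [h3]
      exact h.smul b _ hs
  have hB : ∀ w ∈ Om, ∀ u, f w u = 1 → u ∈ Om := by
    intro w hw u hu
    obtain ⟨g, hg⟩ := h.trans x hx
    obtain ⟨k, hk⟩ := h.trans w hw
    have h2 : (k * g⁻¹) • x = w := by rw [mul_smul, ← hg, inv_smul_smul, hk]
    have h3 := h.conj (k * g⁻¹) x hx ((k * g⁻¹)⁻¹ • u)
    rw [h2, smul_inv_smul, hu] at h3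
    have h4 := hA _ h3.symm
    have h5 := h.smul (k * g⁻¹) _ h4
    rwa [smul_inv_smul] at h5
  by_contra hcon
  let W : Submodule (ZMod 2) V :=
    { carrier := {u | ∀ w ∈ Om, f w u = 0}
      zero_mem' := fun w _ => map_zero _
      add_mem' := fun {a b} ha hb w hw => by rw [map_add, ha w hw, hb w hw, add_zero]
      smul_mem' := fun c a ha w hw => by rw [map_smul, ha w hw, smul_zero] }
  have hW : Inv Y W := by
    intro g v hv w hw
    have h2 := h.conj g _ (h.smul g⁻¹ w hw) v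
    rw [smul_inv_smul] at h2
    rw [h2]
    exact hv _ (h.smul g⁻¹ w hw)
  have huW : u ∈ W := fun w hw => eq_zero_of_ne fun h2 => hcon (hB w hw u h2)
  let := subAct hW
  have h2 : (⟨u, huW⟩ : W) ≠ 0 := fun h3 => hu (congrArg Subtype.val h3)
  obtain ⟨w0, hw0, hT⟩ := exists_fixed (Q := T) T.isPGroup' h2
  have h3 : (w0 : V) ≠ 0 := fun h4 => hw0 (Subtype.ext h4)
  have h4 : (w0 : V) = z :=
    (h.z_uniq w0 fun t ht => congrArg Subtype.val (hT ⟨t, ht⟩)).resolve_left h3
  have h5 : z ∈ W := by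
    rw [← h4]
    exact w0.2
  obtain ⟨w, hw, h6⟩ := h.exists_far h.zO
  rw [h.symm h.zO hw, h5 w hw] at h6
  exact one_ne h6.symm

/-! ### all vectors are points -/

section Full

variable (h : Geo Y V T U z Om f) (hall : ∀ u : V, u ≠ 0 → u ∈ Om)

include h in
theorem f_zero : f 0 = 0 := h.zero 0 fun h0 => (h.pnt 0 h0).ne rfl

include h hall in
theorem f_self (x : V) : f x x = 0 := by
  by_cases hx : x = 0
  · rw [hx, map_zero]
  · exact (h.pnt x (hall x hx)).self

variable [Finite Y] [Finite V]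

include h hall in
theorem f_symm (x y : V) : f x y = f y x := by
  by_cases hx : x = 0
  · rw [hx, h.f_zero, map_zero]
    rfl
  · by_cases hy : y = 0
    · rw [hy, h.f_zero, map_zero]
      rfl
    · exact h.symm (hall x hx) (hall y hy)

include h hall in
theorem f_add (x y u : V) : f (x + y) u = f x u + f y u := by
  rw [h.f_symm hall, map_add, h.f_symm hall u x, h.f_symm hall u y]

include h hall in
/-- `f x` determines `x` -/
theorem f_inj {x y : V} (hxy : ∀ u, f x u = f y u) : x = y := by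
  by_contra hne
  have h1 : x + y ≠ 0 := fun h0 => hne (eq_of_add h0)
  obtain ⟨u, hu⟩ := exists_one (h.pnt _ (hall _ h1)).nz
  rw [h.f_add hall, hxy, add_self] at hu
  exact one_ne hu.symm

include h hall in
theorem bxy {x y : V} (hx : x ≠ 0) (hy : y ≠ 0) (hne : x ≠ y) (hxy : f x y = 0) :
    ∃ b ∈ KK Y x (f x), ∃ k : ZMod 2, ∀ u, b • u = u + f x u • y + f y u • x + (k * f x u) • x := by
  have hxO := hall x hx
  have hyO := hall y hy
  have hp := h.pnt x hxO
  obtain ⟨v, hv⟩ := exists_one hp.nz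
  obtain ⟨b, hb, c, h2⟩ := h.hit hxO hv (u := v + y) (by rw [map_add, hv, hxy, add_zero])
  have h3 := eq_add_smul h2
  have hfx : ∀ e, f x e = 0 → b • e = e → f y e = 0 := by
    intro e he hbe
    by_cases h0 : e = 0
    · rw [h0, map_zero]
    · have h4 := h.conj b e (hall e h0) v
      rw [hbe, h3, map_add, map_add, map_smul, h.f_symm hall e x, he, smul_zero, add_zero, h.f_symm hall e y] at h4
      exact add_eq_left.mp h4
  have hfx1 : ∀ e, f x e = 0 → b • e = e + x → f y e = 1 := by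
    intro e0 he0 hbe0
    refine eq_one_of_ne fun h4 => hne (h.f_inj hall fun u => ?_)
    have h5 : ∀ e, f x e = 0 → f y e = 0 := by
      intro e he
      rcases hb.2.2 e he with h6 | h6
      · exact hfx e he h6
      · have h7 := hfx (e + e0) (by rw [map_add, he, he0, add_zero])
          (by rw [smul_add, h6, hbe0, add_add_add_comm, add_self, add_zero])
        rwa [map_add, h4, add_zero] at h7
    obtain ⟨w, hw⟩ := exists_one (h.pnt y hyO).nz
    have h6 : f x w = 1 := eq_one_of_ne fun h7 => by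
      rw [h5 w h7] at hw
      exact one_ne hw.symm
    rcases zmod_cases (f x u) with h7 | h7
    · rw [h7, h5 u h7]
    · have h8 := h5 (u + w) (by rw [map_add, h7, h6, one_add_one])
      rw [map_add, hw] at h8
      rw [h7]
      exact (eq_of_add h8).symm
  have hE : ∀ e, f x e = 0 → b • e = e + f y e • x := by
    intro e he
    rcases hb.2.2 e he with h4 | h4
    · rw [hfx e he h4, zero_smul, add_zero, h4]
    · rw [hfx1 e he h4, one_smul, h4]
  refine ⟨b, hb, c + f y v, fun u => ?_⟩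
  rcases zmod_cases (f x u) with h4 | h4
  · rw [hE u h4, h4, zero_smul, mul_zero, zero_smul, add_zero, add_zero]
  · have h5 : f x (u + v) = 0 := by rw [map_add, h4, hv, one_add_one]
    have h6 : u = v + (u + v) := by rw [add_comm v, add_add_self]
    have h7 : b • u = b • v + (u + v + f y (u + v) • x) := by
      rw [← hE _ h5, ← smul_add, ← h6]
    rw [h7, h3, h4, one_smul, mul_one, map_add, add_smul, add_smul]
    have h8 : v + y + c • x + (u + v + (f y u • x + f y v • x)) =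
      u + y + f y u • x + (c • x + f y v • x) + (v + v) := by abel
    rw [h8, add_self, add_zero]

include h hall in
/-- (5) -/
theorem not_all : False := by
  -- `k = 0` for all pairs
  have hk0 : ∀ x y : V, x ≠ 0 → y ≠ 0 → x ≠ y → f x y = 0 → ∃ b : Y, ∀ u, b • u = u + f x u • y + f y u • x := by
    intro x y hx hy hne hxy
    have hp := h.pnt x (hall x hx)
    have hq := h.pnt y (hall y hy)
    have hyx : f y x = 0 := by rw [h.f_symm hall, hxy]
    obtain ⟨b, hb, k, hbu⟩ := h.bxy hall hx hy hne hxy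
    obtain ⟨b', hb', k', hbu'⟩ := h.bxy hall hy hx (Ne.symm hne) hyx
    rcases zmod_cases k with hk | hk
    · exact ⟨b, fun u => by rw [hbu, hk, zero_mul, zero_smul, add_zero]⟩
    · exfalso
      -- `b * b' : u ↦ u + k f x u • x + k' f y u • y`
      have hby : b • y = y := by
        rw [hbu, hxy, hq.self, mul_zero, zero_smul, zero_smul, add_zero, add_zero, add_zero]
      have hprod : ∀ u, (b * b') • u = u + f x u • x + (k' * f y u) • y := by
        intro u
        rw [mul_smul, hbu' u, smul_add, smul_add, smul_add, smul_zmod, smul_zmod, smul_zmod, hb.1, hby, hbu u, hk,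
          one_mul]
        have h1 : u + f x u • y + f y u • x + f x u • x + f y u • x + f x u • y + (k' * f y u) • y =
          u + f x u • x + (k' * f y u) • y + (f x u • y + f x u • y) + (f y u • x + f y u • x) := by abel
        rw [h1, add_self, add_self, add_zero, add_zero]
      have hk' : k' = 1 := by
        refine eq_one_of_ne fun h2 => ?_
        exact h.nt (b * b') x (f x) ⟨hx, hp.nz, fun u => by rw [hprod, h2, zero_mul, zero_smul, add_zero]⟩
      have hg1 : ∀ u, (b * b') • u = u + f x u • x + f y u • y := by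
        intro u
        rw [hprod, hk', one_mul]
      -- the pair `x, x + y`
      have hs : x + y ≠ 0 := fun h0 => hne (eq_of_add h0)
      have hxs : x ≠ x + y := fun h0 => hy (left_eq_add.mp h0)
      have hfs : f x (x + y) = 0 := by rw [map_add, hp.self, hxy, add_zero]
      have hfs' : f (x + y) x = 0 := by rw [h.f_symm hall, hfs]
      obtain ⟨c, hc, l, hcu⟩ := h.bxy hall hx hs hxs hfs
      obtain ⟨c', hc', l', hcu'⟩ := h.bxy hall hs hx (Ne.symm hxs) hfs'
      have hl : l = 1 := by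
        refine eq_one_of_ne fun hl0 => ?_
        refine h.nt (b * c) x (f x) ⟨hx, hp.nz, fun u => ?_⟩
        have hbs : b • (x + y) = x + y := by rw [smul_add, hb.1, hby]
        rw [mul_smul, hcu u, smul_add, smul_add, smul_add, smul_zmod, smul_zmod, smul_zmod, hb.1, hbs, hbu u, hk, hl0,
          one_mul, zero_mul, zero_smul, add_zero, h.f_add hall, add_smul, smul_add]
        have h1 : u + f x u • y + f y u • x + f x u • x + (f x u • x + f x u • y) + (f x u • x + f y u • x) =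
          u + f x u • x + (f x u • y + f x u • y) + (f y u • x + f y u • x) + (f x u • x + f x u • x) := by abel
        rw [h1, add_self, add_self, add_self, add_zero, add_zero, add_zero]
      have hcs : c • (x + y) = x + y := by
        rw [hcu, hfs, (h.pnt _ (hall _ hs)).self, mul_zero, zero_smul, zero_smul, add_zero, add_zero,
          add_zero]
      have hprod2 : ∀ u, (c * c') • u = u + f x u • x + (l' * f (x + y) u) • (x + y) := by
        intro u
        rw [mul_smul, hcu' u, smul_add, smul_add, smul_add, smul_zmod, smul_zmod, smul_zmod, hc.1, hcs, hcu u, hl,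
          one_mul]
        have h1 : u + f x u • (x + y) + f (x + y) u • x + f x u • x + f (x + y) u • x + f x u • (x + y) +
            (l' * f (x + y) u) • (x + y) =
          u + f x u • x + (l' * f (x + y) u) • (x + y) + (f x u • (x + y) + f x u • (x + y)) +
            (f (x + y) u • x + f (x + y) u • x) := by abel
        rw [h1, add_self, add_self, add_zero, add_zero]
      have hl' : l' = 1 := by
        refine eq_one_of_ne fun h2 => ?_
        exact h.nt (c * c') x (f x) ⟨hx, hp.nz, fun u => by rw [hprod2, h2, zero_mul, zero_smul, add_zero]⟩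
      have hg2 : ∀ u, (c * c') • u = u + f x u • x + f (x + y) u • (x + y) := by
        intro u
        rw [hprod2, hl', one_mul]
      -- the four-group
      have hsy : f (x + y) y = 0 := by rw [h.f_add hall, hxy, hq.self, add_zero]
      have hsx : f (x + y) x = 0 := hfs'
      have hss : f (x + y) (x + y) = 0 := (h.pnt _ (hall _ hs)).self
      have hys : f y (x + y) = 0 := by rw [h.f_symm hall, hsy]
      have e1 : b * b' * (b * b') = 1 := comp_self h.faith hg1 hp.self hxy hyx hq.self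
      have e2 : c * c' * (c * c') = 1 := comp_self h.faith hg2 hp.self hfs hsx hss
      have e3 : b * b' * (c * c') = c * c' * (b * b') :=
        comp_comm h.faith hg1 hg2 hp.self hfs hyx hys hp.self hxy hsx hsy
      have hfxy : f x ≠ f y := fun h1 => hne (h.f_inj hall fun u => by rw [h1])
      have m1 := comp_fix hx hy hne hg1
      have m2 := comp_fix hx hs hxs hg2
      obtain ⟨v, hv⟩ := exists_one hp.nz
      have n1 : b * b' ≠ 1 := by
        intro h1
        have h2 := (m1 v).mp (by rw [h1, one_smul])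
        rw [hv] at h2
        exact one_ne h2.1
      have n2 : c * c' ≠ 1 := by
        intro h1
        have h2 := (m2 v).mp (by rw [h1, one_smul])
        rw [hv] at h2
        exact one_ne h2.1
      have n3 : b * b' ≠ c * c' := by
        intro h1
        obtain ⟨w, hw⟩ := exists_one hq.nz
        have h2 := hg1 w
        rw [h1, hg2 w, h.f_add hall, hw, one_smul, add_assoc, add_assoc] at h2
        have h3 := add_left_cancel (add_left_cancel h2)
        rcases zmod_cases (f x w) with h4 | h4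
        · rw [h4, zero_add, one_smul] at h3
          exact hx (add_eq_right.mp h3)
        · rw [h4, one_add_one, zero_smul] at h3
          exact hy h3.symm
      refine h.nf (four e1 e2 e3) (card_four n1 n2 n3) ?_ (card_two hp.nz hq.nz hfxy _ fun u => ?_)
      · rintro g (rfl | rfl | rfl | rfl)
        · exact one_mul 1
        · exact e1
        · exact e2
        · rw [mul_assoc, ← mul_assoc (c * c'), ← e3, mul_assoc (b * b'), e2, mul_one, e1]
      · rw [mem_fixS]
        constructor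
        · intro h1
          exact (m1 u).mp (h1 _ (Or.inr (Or.inl rfl)))
        · rintro h1
          have h2 := (m1 u).mpr h1
          have h3 := (m2 u).mpr ⟨h1.1, by rw [h.f_add hall, h1.1, h1.2, add_zero]⟩
          rintro g (rfl | rfl | rfl | rfl)
          · exact one_smul _ u
          · exact h2
          · exact h3
          · rw [mul_smul, h3, h2]
  -- the end
  obtain ⟨y, hzy, hy0, hyz⟩ := h.exists_perp
  have hz0 := (h.pnt z h.zO).ne
  have hz := (h.pnt z h.zO)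
  have hyO := hall y hy0
  have key : ∀ y', f z y' = 0 → f y y' = 0 := by
    intro y' hy'
    by_cases c1 : y' = 0
    · rw [c1, map_zero]
    by_cases c2 : y' = z
    · rw [c2, h.f_symm hall, hzy]
    by_cases c3 : y = y'
    · rw [← c3, h.f_self hall]
    by_cases c4 : y + y' = z
    · have h1 : y' = y + z := by rw [← c4, ← add_assoc, add_self, zero_add]
      rw [h1, map_add, h.f_self hall, h.f_symm hall, hzy, add_zero]
    have hs : y + y' ≠ 0 := fun h0 => c3 (eq_of_add h0)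
    obtain ⟨b1, hb1⟩ := hk0 z y hz0 hy0 (Ne.symm hyz) hzy
    obtain ⟨b2, hb2⟩ := hk0 z y' hz0 c1 (Ne.symm c2) hy'
    obtain ⟨b3, hb3⟩ := hk0 z (y + y') hz0 hs (Ne.symm c4) (by rw [map_add, hzy, hy', add_zero])
    refine eq_zero_of_ne fun hk => ?_
    have hk' : f y' y = 1 := by rw [h.f_symm hall, hk]
    have a1 : b1 • y' = y' + z := by rw [hb1, hy', hk, zero_smul, one_smul, add_zero]
    have a2 : b1 • z = z := by rw [hb1, hz.self, h.f_symm hall y z, hzy, zero_smul, zero_smul, add_zero, add_zero]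
    have a3 : b3 • y = y + z := by
      rw [hb3, hzy, h.f_add hall, h.f_self hall, hk', zero_smul, zero_add, one_smul, add_zero]
    have a4 : b3 • y' = y' + z := by
      rw [hb3, hy', h.f_add hall, h.f_self hall, hk, zero_smul, add_zero, add_zero, one_smul]
    have a5 : b3 • z = z := by
      rw [hb3, hz.self, h.f_add hall, h.f_symm hall y z, h.f_symm hall y' z, hzy, hy', add_zero, zero_smul, zero_smul,
        add_zero, add_zero]
    refine h.nt (b3 * (b1 * b2)) z (f z) ⟨hz0, hz.nz, fun u => ?_⟩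
    have s1 : (b1 * b2) • u = u + f z u • y + f y u • z + f z u • (y' + z) + f y' u • z := by
      rw [mul_smul, hb2 u, smul_add, smul_add, smul_zmod, smul_zmod, a1, a2, hb1 u]
    rw [mul_smul b3, s1, smul_add, smul_add,
      smul_add, smul_add, smul_zmod, smul_zmod, smul_zmod, smul_zmod, smul_add b3 y' z, a3, a4, a5, hb3 u,
      h.f_add hall]
    simp only [smul_add, add_smul]
    have h1 : u + (f z u • y + f z u • y') + (f y u • z + f y' u • z) + (f z u • y + f z u • z) + f y u • z +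
        (f z u • y' + f z u • z + f z u • z) + f y' u • z =
      u + f z u • z + (f z u • y + f z u • y) + (f z u • y' + f z u • y') + (f y u • z + f y u • z) +
        (f y' u • z + f y' u • z) + (f z u • z + f z u • z) := by abel
    rw [h1, add_self, add_self, add_self, add_self, add_self, add_zero, add_zero, add_zero, add_zero, add_zero]
  obtain ⟨w, hw⟩ := exists_one (h.pnt y hyO).nz
  have h6 : f z w = 1 := eq_one_of_ne fun h7 => by
    rw [key w h7] at hw
    exact one_ne hw.symm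
  refine hyz (h.f_inj hall fun u => ?_)
  rcases zmod_cases (f z u) with h7 | h7
  · rw [h7, key u h7]
  · have h8 := key (u + w) (by rw [map_add, h7, h6, one_add_one])
    rw [map_add, hw] at h8
    rw [h7]
    exact eq_of_add h8

end Full

/-- (NH) -/
theorem nh [Finite Y] [Finite V] (h : Geo Y V T U z Om f) {x y : V} (hx : x ∈ Om) (hy : y ∈ Om)
    (hs : y + x ∈ Om) : f x y = 0 :=
  eq_zero_of_ne fun h1 => h.not_all fun _ hu => h.all hx hy hs h1 hu

end Geo

end Cfsg.Agent.Omega.NearFF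

end

section


/-!
# THEOREM BT2 (helper318, bb 13091): a line through `z` is impossible
-/

set_option autoImplicit false
set_option linter.unusedSectionVars false

namespace Cfsg.Agent.Omega.NearFF

open Subgroup Transv
open scoped Pointwise

variable {Y : Type*} [Group Y] {V : Type*} [AddCommGroup V] [Module (ZMod 2) V] [DistribMulAction Y V]

/-- the points in the block of `z` -/
def Del (U : Subgroup Y) (z : V) : Set V := {u | ∃ g ∈ U, g • z = u}

namespace Geo

variable {T : Sylow 2 Y} {U : Subgroup Y} {z : V} {Om : Set V} {f : V → Du V}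

/-- `C_Y(z) ≤ U` -/
theorem stab_le (h : Geo Y V T U z Om f) {g : Y} (hg : g • z = z) : g ∈ U := by
  rcases h.max (MulAction.stabilizer Y z) (fun t ht => h.z_fix t ht) with h1 | h1
  · exact h1 hg
  · exfalso
    obtain ⟨y, hy, h2⟩ := h.exists_far h.zO
    obtain ⟨k, hk⟩ := h.trans y hy
    have h3 : k ∈ MulAction.stabilizer Y z := by
      rw [h1]
      exact mem_top k
    have h4 : k • z = z := h3
    rw [← hk, h4, (h.pnt z h.zO).self] at h2
    exact one_ne h2.symm

theorem z_del : z ∈ Del U z := ⟨1, one_mem _, one_smul _ _⟩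

theorem del_le (h : Geo Y V T U z Om f) {d : V} (hd : d ∈ Del U z) : d ∈ Om := by
  obtain ⟨g, -, rfl⟩ := hd
  exact h.smul g z h.zO

theorem del_smul {g : Y} (hg : g ∈ U) {d : V} (hd : d ∈ Del U z) : g • d ∈ Del U z := by
  obtain ⟨k, hk, rfl⟩ := hd
  exact ⟨g * k, mul_mem hg hk, mul_smul g k z⟩

/-- the block property -/
theorem block (h : Geo Y V T U z Om f) {d : V} (hd : d ∈ Del U z) {g : Y} (hg : g • d ∈ Del U z) : g ∈ U := by
  obtain ⟨k, hk, rfl⟩ := hd
  obtain ⟨l, hl, h1⟩ := hg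
  have h2 : (l⁻¹ * g * k) • z = z := by rw [mul_smul, mul_smul, ← h1, inv_smul_smul]
  have h3 := h.stab_le h2
  have h4 : g = l * (l⁻¹ * g * k) * k⁻¹ := by group
  rw [h4]
  exact mul_mem (mul_mem hl h3) (inv_mem hk)

theorem KK_le (h : Geo Y V T U z Om f) {d : V} (hd : d ∈ Del U z) {b : Y} (hb : b ∈ KK Y d (f d)) : b ∈ U :=
  h.block hd (by rwa [hb.1])

theorem del_add [Finite Y] [Finite V] (h : Geo Y V T U z Om f) {x y : V} (hx : x ∈ Del U z) (hy : y ∈ Del U z)
    (hxy : f x y = 0) (hne : y ≠ x) : y + x ∈ Del U z := by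
  obtain ⟨b, hb, h1⟩ := h.move (h.del_le hx) hxy (h.pnt y (h.del_le hy)).ne hne
  rw [← h1]
  exact del_smul (h.KK_le hx hb) hy

/-- (A1) -/
theorem line_del [Finite Y] [Finite V] (h : Geo Y V T U z Om f) {w : V} (hw : w ∈ Om) (hzw : f z w = 0)
    (hne : w ≠ z) (hT : ∀ t ∈ T, t • w = w ∨ t • w = w + z) : w ∈ Del U z := by
  have hz := h.pnt z h.zO
  have hwz : f w z = 0 := by rw [h.symm hw h.zO, hzw]
  have hN : ∀ g : Y, g • z = z → (g • w = w ∨ g • w = w + z) →
      g ∈ MulAction.stabilizer Y ({z, w, w + z} : Set V) := by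
    intro g h1 h2
    rw [MulAction.mem_stabilizer_set' (Set.toFinite _)]
    rintro u (rfl | rfl | rfl)
    · rw [h1]
      exact Or.inl rfl
    · rcases h2 with h2 | h2
      · rw [h2]
        exact Or.inr (Or.inl rfl)
      · rw [h2]
        exact Or.inr (Or.inr rfl)
    · rw [smul_add, h1]
      rcases h2 with h2 | h2
      · rw [h2]
        exact Or.inr (Or.inr rfl)
      · rw [h2, add_add_self]
        exact Or.inr (Or.inl rfl)
  have hNU : MulAction.stabilizer Y ({z, w, w + z} : Set V) ≤ U := by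
    rcases h.max (MulAction.stabilizer Y ({z, w, w + z} : Set V)) (fun t ht => hN t (h.z_fix t ht) (hT t ht)) with
      h1 | h1
    · exact h1
    · exfalso
      obtain ⟨y, hy, h2⟩ := h.exists_far h.zO
      obtain ⟨k, hk⟩ := h.trans y hy
      have h3 : k ∈ MulAction.stabilizer Y ({z, w, w + z} : Set V) := by
        rw [h1]
        exact mem_top k
      rw [MulAction.mem_stabilizer_set' (Set.toFinite _)] at h3
      have h4 : k • z ∈ ({z, w, w + z} : Set V) := h3 (Or.inl rfl)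
      rw [hk] at h4
      rcases h4 with h4 | h4 | h4
      · rw [h4, hz.self] at h2
        exact one_ne h2.symm
      · rw [h4, hzw] at h2
        exact one_ne h2.symm
      · rw [h4, map_add, hz.self, hzw, add_zero] at h2
        exact one_ne h2.symm
  obtain ⟨b, hb, h1⟩ := h.move hw hwz hz.ne (Ne.symm hne)
  have hbU : b ∈ U := by
    apply hNU
    rw [MulAction.mem_stabilizer_set' (Set.toFinite _)]
    rintro u (rfl | rfl | rfl)
    · rw [h1, add_comm]
      exact Or.inr (Or.inr rfl)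
    · rw [hb.1]
      exact Or.inr (Or.inl rfl)
    · rw [smul_add, h1, hb.1, add_comm w (z + w), add_add_self]
      exact Or.inl rfl
  obtain ⟨c, hc, h2⟩ := h.move h.zO hzw (h.pnt w hw).ne hne
  have h3 : w + z ∈ Del U z := ⟨b, hbU, by rw [h1, add_comm]⟩
  have h4 : w = c⁻¹ • (w + z) := by rw [← h2, inv_smul_smul]
  rw [h4]
  exact del_smul (inv_mem (h.KK_le z_del hc)) h3

/-- (A4) -/
theorem no_far [Finite Y] [Finite V] (h : Geo Y V T U z Om f) {w0 : V} (hw0 : w0 ∈ Om) (hzw : f z w0 = 0)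
    (hne : w0 ≠ z) {y0 : V} (hy0 : y0 ∈ Del U z) (h1 : f z y0 = 1) : False := by
  have hz := h.pnt z h.zO
  have hyO := h.del_le hy0
  have h1' : f y0 z = 1 := by rw [h.symm hyO h.zO, h1]
  have hA : ∀ y' ∈ Om, f z y' = 0 → f y0 y' = 0 → y' ∈ Del U z := by
    intro y' hy' h2 h3
    have hne' : y' ≠ y0 := fun h4 => by
      rw [h4, h1] at h2
      exact one_ne h2
    obtain ⟨b, hb, c, h4⟩ := h.hit h.zO h1 (u := y0 + y') (by rw [map_add, h1, h2, add_zero])
    rcases zmod_cases c with hc | hc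
    · rw [hc, zero_smul, add_zero] at h4
      have h5 : y0 + y' ∈ Del U z := by
        rw [h4]
        exact del_smul (h.KK_le z_del hb) hy0
      have h6 := h.del_add hy0 h5 (by rw [map_add, (h.pnt y0 hyO).self, h3, add_zero])
        (fun h7 => (h.pnt y' hy').ne (add_eq_left.mp h7))
      rwa [Fr.cancel_right] at h6
    · exfalso
      rw [hc, one_smul] at h4
      have h5 : y' + y0 ∈ Om := h.line hyO hy' h3 hne'
      have h6 : y' + y0 + z ∈ Om := by
        rw [add_comm y' y0, h4, add_add_self]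
        exact h.smul b y0 hyO
      have h7 := h.nh h.zO h5 h6
      rw [map_add, h2, h1, zero_add] at h7
      exact one_ne h7
  have hB : ∀ y' ∈ Om, f z y' = 0 → y' ∈ Del U z := by
    intro y' hy' h2
    by_cases h3 : f y0 y' = 0
    · exact hA y' hy' h2 h3
    · by_cases h4 : y' = z
      · rw [h4]
        exact z_del
      · have h5 : y' + z ∈ Del U z := hA _ (h.line h.zO hy' h2 h4) (by rw [map_add, h2, hz.self, add_zero])
          (by rw [map_add, eq_one_of_ne h3, h1', one_add_one])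
        have h6 := h.del_add z_del h5 (by rw [map_add, h2, hz.self, add_zero])
          (fun h7 => (h.pnt y' hy').ne (add_eq_right.mp h7))
        rwa [add_add_self] at h6
  have hC : ∀ d ∈ Del U z, ∀ y' ∈ Om, f d y' = 0 → y' ∈ Del U z := by
    rintro d ⟨g, hg, rfl⟩ y' hy' h2
    have h3 := h.conj g z h.zO (g⁻¹ • y')
    rw [smul_inv_smul, h2] at h3
    have h4 := hB _ (h.smul g⁻¹ y' hy') h3.symm
    have h5 := del_smul hg h4
    rwa [smul_inv_smul] at h5
  have hD : ∀ y ∈ Om, y ∈ Del U z := by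
    intro y hy
    by_cases h2 : f z y = 0
    · exact hB y hy h2
    · have h3 : f y z = 1 := by rw [h.symm hy h.zO, eq_one_of_ne h2]
      by_cases h4 : f y w0 = 0
      · exact hC w0 (hB w0 hw0 hzw) y hy (by rw [h.symm hw0 hy, h4])
      · have h5 : w0 + z ∈ Om := h.line h.zO hw0 hzw hne
        refine hC _ (hB _ h5 (by rw [map_add, hzw, hz.self, add_zero])) y hy ?_
        rw [h.symm h5 hy, map_add, eq_one_of_ne h4, h3, one_add_one]
  apply h.ne
  rw [eq_top_iff]
  intro g _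
  exact h.block z_del (hD _ (h.smul g z h.zO))

end Geo

end Cfsg.Agent.Omega.NearFF

end

section


/-!
# THEOREM BT2 (helper318, bb 13091): the block of `z`, the line fixed by `T`
-/

set_option autoImplicit false
set_option linter.unusedSectionVars false

namespace Cfsg.Agent.Omega.NearFF

open Subgroup Transv

variable {Y : Type*} [Group Y] {V : Type*} [AddCommGroup V] [Module (ZMod 2) V] [DistribMulAction Y V]

namespace Geo

variable {T : Sylow 2 Y} {U : Subgroup Y} {z : V} {Om : Set V} {f : V → Du V}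

/-- two vectors of `E_z` are separated by the group of `z` -/
theorem separate [Finite Y] [Finite V] (h : Geo Y V T U z Om f) {y y2 : V} (h1 : f z y = 0) (h2 : f z y2 = 0)
    (hy0 : y2 ≠ 0) (hyz : y2 ≠ z) (hs0 : y + y2 ≠ 0) (hsz : y + y2 ≠ z) :
    ∃ a ∈ KK Y z (f z), a • y = y ∧ a • y2 = y2 + z := by
  have hz0 := (h.pnt z h.zO).ne
  obtain ⟨b1, hb1, e1⟩ := h.move h.zO h2 hy0 hyz
  rcases hb1.2.2 y h1 with e2 | e2
  · exact ⟨b1, hb1, e2, e1⟩
  · obtain ⟨b2, hb2, e3⟩ := h.move h.zO (e := y + y2) (by rw [map_add, h1, h2, add_zero]) hs0 hsz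
    rw [smul_add] at e3
    rcases hb2.2.2 y h1 with e4 | e4
    · refine ⟨b2, hb2, e4, ?_⟩
      rw [e4, add_assoc] at e3
      exact add_left_cancel e3
    · rcases hb2.2.2 y2 h2 with e5 | e5
      · refine ⟨b1 * b2, mul_mem hb1 hb2, ?_, ?_⟩
        · rw [mul_smul, e4, smul_add, e2, hb1.1, add_add_self]
        · rw [mul_smul, e5, e1]
      · exfalso
        rw [e4, e5] at e3
        have e6 : y + z + (y2 + z) = y + y2 := by
          rw [add_add_add_comm, add_self, add_zero]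
        rw [e6] at e3
        exact hz0 (left_eq_add.mp e3)

/-- (A5) -/
theorem card_le [Finite Y] [Finite V] (h : Geo Y V T U z Om f) (hD : ∀ d ∈ Del U z, f z d = 0) {w : V}
    (hw : w ∈ Del U z) (hwz : w ≠ z) : Nat.card (KK Y z (f z)) ≤ 4 := by
  have hz := h.pnt z h.zO
  obtain ⟨y0, hy0, h1⟩ := h.exists_far h.zO
  have h1' : f y0 z = 1 := by rw [h.symm hy0 h.zO, h1]
  have hzw := hD w hw
  have hwz' : w + z ∈ Del U z := h.del_add z_del hw hzw hwz
  have hy0D : y0 ∉ Del U z := fun h2 => by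
    rw [hD y0 h2] at h1
    exact one_ne h1.symm
  have hd : ∃ d ∈ Del U z, f y0 d = 0 := by
    rcases zmod_cases (f y0 w) with h2 | h2
    · exact ⟨w, hw, h2⟩
    · exact ⟨w + z, hwz', by rw [map_add, h2, h1', one_add_one]⟩
  obtain ⟨d, ⟨u, hu, rfl⟩, h2⟩ := hd
  have hyO := h.smul u⁻¹ y0 hy0
  have hyz : f z (u⁻¹ • y0) = 0 := by
    rw [← h.conj u z h.zO, smul_inv_smul, h.symm (h.smul u z h.zO) hy0, h2]
  have hyD : u⁻¹ • y0 ∉ Del U z := fun h3 => hy0D (by
    have h4 := del_smul hu h3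
    rwa [smul_inv_smul] at h4)
  generalize u⁻¹ • y0 = y at hyO hyz hyD
  obtain ⟨g, rfl⟩ := h.trans y hyO
  -- all points of the block are perpendicular
  have hDD : ∀ d ∈ Del U z, ∀ d' ∈ Del U z, f d d' = 0 := by
    rintro d ⟨k, hk, rfl⟩ d' hd'
    have h3 := h.conj k z h.zO (k⁻¹ • d')
    rw [smul_inv_smul] at h3
    rw [h3]
    exact hD _ (del_smul (inv_mem hk) hd')
  -- the block of `g • z` does not contain `z`
  have hgz : ∀ d ∈ Del U z, g • d ≠ z := by
    intro d hd h3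
    apply hyD
    refine del_smul (h.block hd ?_) z_del
    rw [h3]
    exact z_del
  -- an element fixing `g • z` preserves its block
  have hblk : ∀ a : Y, a • g • z = g • z → ∀ d ∈ Del U z, ∃ d' ∈ Del U z, a • g • d = g • d' := by
    intro a ha d hd
    refine ⟨(g⁻¹ * a * g) • d, del_smul (h.stab_le ?_) hd, ?_⟩
    · rw [mul_smul, mul_smul, ha, inv_smul_smul]
    · rw [mul_smul, mul_smul, smul_inv_smul]
  have hone : ∀ d ∈ Del U z, d ≠ z → f z (g • d) = 1 := by
    intro d hd hdz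
    refine eq_one_of_ne fun h3 => ?_
    have hdO := h.del_le hd
    have hdd : d + z ∈ Del U z := h.del_add z_del hd (hD d hd) hdz
    have e1 : g • z + g • d = g • (d + z) := by rw [smul_add, add_comm]
    have e2 : g • d ≠ 0 := (h.pnt _ (h.smul g d hdO)).ne
    have e3 : g • z + g • d ≠ 0 := by
      rw [e1]
      exact (h.pnt _ (h.smul g _ (h.del_le hdd))).ne
    have e4 : g • z + g • d ≠ z := by
      rw [e1]
      exact hgz _ hdd
    obtain ⟨a, ha, e5, e6⟩ := h.separate hyz h3 e2 (hgz d hd) e3 e4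
    obtain ⟨d', hd', e7⟩ := hblk a e5 d hd
    rw [e6] at e7
    have hne : d' ≠ d := by
      intro e8
      rw [e8] at e7
      exact hz.ne (add_eq_left.mp e7)
    have e9 := h.del_add hd hd' (hDD d hd d' hd') hne
    apply hgz _ e9
    rw [smul_add, ← e7, Fr.cancel_right]
  -- elements of the group of `z` fixing `g • z`
  have hgw := hone w hw hwz
  have htwo : ∀ a ∈ KK Y z (f z), a • g • z = g • z → a • g • w = g • w ∨ a • g • w = g • w + g • z := by
    intro a ha e1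
    obtain ⟨d', hd', e2⟩ := hblk a e1 w hw
    rw [e2]
    by_cases e3 : d' = w
    · rw [e3]
      exact Or.inl rfl
    · right
      have e4 := h.del_add hw hd' (hDD w hw d' hd') e3
      by_cases e5 : d' + w = z
      · rw [← smul_add, ← e5, add_comm d' w, ← add_assoc, add_self, zero_add]
      · exfalso
        have e6 := hone _ e4 e5
        rw [smul_add, map_add, hgw, ← e2, ha.2.1, hgw, one_add_one] at e6
        exact zero_ne_one' e6
  classical
  have := Fintype.ofFinite (KK Y z (f z))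
  rw [Nat.card_eq_fintype_card, ← Finset.card_univ]
  have hinj : ∀ a ∈ KK Y z (f z), ∀ a' ∈ KK Y z (f z), a • g • w = a' • g • w → a = a' := by
    intro a ha a' ha' e1
    have e2 : a'⁻¹ * a = 1 := h.free h.zO (mul_mem (inv_mem ha') ha) hgw (by rw [mul_smul, e1, inv_smul_smul])
    exact (inv_mul_eq_one.mp e2).symm
  have hmaps : ∀ a ∈ (Finset.univ : Finset (KK Y z (f z))), (a : Y) • g • z ∈ ({g • z, g • z + z} : Finset V) := by
    intro a _
    rw [Finset.mem_insert, Finset.mem_singleton]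
    exact a.2.2.2 _ hyz
  have hcard := Finset.card_le_mul_card_image_of_maps_to hmaps 2 (by
    intro v hv
    rcases Finset.eq_empty_or_nonempty
      (Finset.filter (fun a : KK Y z (f z) => (a : Y) • g • z = v) Finset.univ) with e1 | ⟨a0, ha0⟩
    · rw [e1]
      exact Nat.zero_le _
    · rw [Finset.mem_filter] at ha0
      refine le_trans (Finset.card_le_card_of_injOn (fun a : KK Y z (f z) => (a : Y) • g • w)
        (t := {(a0 : Y) • g • w, (a0 : Y) • (g • w + g • z)}) ?_ ?_) Finset.card_le_two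
      · intro a ha
        rw [Finset.mem_coe, Finset.mem_filter] at ha
        rw [Finset.mem_coe, Finset.mem_insert, Finset.mem_singleton]
        have e2 : ((a0 : Y)⁻¹ * a) • g • z = g • z := by rw [mul_smul, ha.2, ← ha0.2, inv_smul_smul]
        have e3 := htwo _ (mul_mem (inv_mem a0.2) a.2) e2
        rw [mul_smul, inv_smul_eq_iff, inv_smul_eq_iff] at e3
        exact e3
      · intro a _ a' _ e2
        exact Subtype.ext (hinj a a.2 a' a'.2 e2))
  have h5 : ({g • z, g • z + z} : Finset V).card ≤ 2 := Finset.card_le_two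
  omega

end Geo

end Cfsg.Agent.Omega.NearFF

end

section


/-!
# THEOREM BT2 (helper318, bb 13091): `T` fixes a line on `z`
-/

set_option autoImplicit false
set_option linter.unusedSectionVars false

namespace Cfsg.Agent.Omega.NearFF

open Subgroup Transv

variable {Y : Type*} [Group Y] {V : Type*} [AddCommGroup V] [Module (ZMod 2) V] [DistribMulAction Y V]

/-- a finite set with an involution fixing exactly one element has odd order -/
theorem odd_of {α : Type*} [Finite α] {S : Set α} {w : α} (hw : w ∈ S) (g : α → α)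
    (hg : ∀ u ∈ S, u ≠ w → g u ∈ S ∧ g u ≠ w ∧ g u ≠ u ∧ g (g u) = u) : ¬ 2 ∣ Nat.card S := by
  classical
  have := Fintype.ofFinite α
  have h1 : ∑ u ∈ S.toFinset.erase w, (1 : ZMod 2) = 0 := by
    refine Finset.sum_involution (fun u _ => g u) ?_ ?_ ?_ ?_
    · intro u hu
      exact one_add_one
    · intro u hu _
      rw [Finset.mem_erase, Set.mem_toFinset] at hu
      exact (hg u hu.2 hu.1).2.2.1
    · intro u hu
      rw [Finset.mem_erase, Set.mem_toFinset] at hu ⊢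
      exact ⟨(hg u hu.2 hu.1).2.1, (hg u hu.2 hu.1).1⟩
    · intro u hu
      rw [Finset.mem_erase, Set.mem_toFinset] at hu
      exact (hg u hu.2 hu.1).2.2.2
  rw [Finset.sum_const, nsmul_eq_mul, mul_one, ZMod.natCast_eq_zero_iff] at h1
  have h2 := Finset.card_erase_add_one (Set.mem_toFinset.mpr hw)
  rw [Nat.card_eq_fintype_card, ← Set.toFinset_card]
  omega

namespace Geo

variable {T : Sylow 2 Y} {U : Subgroup Y} {z : V} {Om : Set V} {f : V → Du V}

theorem card_K (h : Geo Y V T U z Om f) {x : V} (hx : x ∈ Om) :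
    Nat.card (KK Y x (f x)) = Nat.card (KK Y z (f z)) := by
  obtain ⟨g, rfl⟩ := h.trans x hx
  rw [h.f_smul h.zO, card_KK_conj]

/-- (A3) -/
theorem exists_line [Finite Y] [Finite V] (h : Geo Y V T U z Om f) (h4 : 4 < Nat.card (KK Y z (f z))) {w0 : V}
    (hw0 : w0 ∈ Om) (hzw : f z w0 = 0) (hne : w0 ≠ z) :
    ∃ w ∈ Om, f z w = 0 ∧ w ≠ z ∧ ∀ t ∈ T, t • w = w ∨ t • w = w + z := by
  classical
  have hz := h.pnt z h.zO
  obtain ⟨y0, hy0, h1⟩ := h.exists_far h.zO
  have h1' : f y0 z = 1 := by rw [h.symm hy0 h.zO, h1]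
  let S : Set V := {u | u ∈ Om ∧ f z u = 0 ∧ f y0 u = 0}
  have hSz : ∀ u ∈ S, u ≠ z := by
    rintro u ⟨-, -, h2⟩ h3
    rw [h3, h1'] at h2
    exact one_ne h2
  obtain ⟨w, hwS⟩ : ∃ w, w ∈ S := by
    rcases zmod_cases (f y0 w0) with h2 | h2
    · exact ⟨w0, hw0, hzw, h2⟩
    · exact ⟨w0 + z, h.line h.zO hw0 hzw hne, by rw [map_add, hzw, hz.self, add_zero],
        by rw [map_add, h2, h1', one_add_one]⟩
  have hw := h.pnt w hwS.1
  have hwz : f w z = 0 := by rw [h.symm hwS.1 h.zO, hwS.2.1]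
  have hwy : f w y0 = 0 := by rw [h.symm hwS.1 hy0, hwS.2.2]
  -- an element of `K_w` fixing `z` and `y0`
  obtain ⟨a, ha, ha1, haz, hay⟩ : ∃ a ∈ KK Y w (f w), a ≠ 1 ∧ a • z = z ∧ a • y0 = y0 := by
    have := Fintype.ofFinite (KK Y w (f w))
    have h5 : Fintype.card (Bool × Bool) < Fintype.card (KK Y w (f w)) := by
      rw [← Nat.card_eq_fintype_card (α := KK Y w (f w)), h.card_K hwS.1]
      simpa only [_root_.Fintype.card_prod, _root_.Fintype.card_bool, _root_.Nat.reduceMul] using h4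
    obtain ⟨b, b', h6, h7⟩ := Fintype.exists_ne_map_eq_of_card_lt
      (fun b : KK Y w (f w) => (decide ((b : Y) • z = z), decide ((b : Y) • y0 = y0))) h5
    have h8 := congrArg Prod.fst h7
    have h9 := congrArg Prod.snd h7
    simp only [decide_eq_decide] at h8 h9
    have key : ∀ e, f w e = 0 → ((b : Y) • e = e ↔ (b' : Y) • e = e) → ((b : Y)⁻¹ * b') • e = e := by
      intro e he h10
      rw [mul_smul, inv_smul_eq_iff]
      rcases b.2.2.2 e he with h11 | h11
      · rw [h11, h10.mp h11]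
      · rcases b'.2.2.2 e he with h12 | h12
        · rw [h12, h10.mpr h12]
        · rw [h11, h12]
    refine ⟨(b : Y)⁻¹ * b', mul_mem (inv_mem b.2) b'.2, ?_, key z hwz h8, key y0 hwy h9⟩
    intro h10
    exact h6 (Subtype.ext (inv_mul_eq_one.mp h10))
  have haa : a * a = 1 := hw.sq a ha
  have hodd : ¬ 2 ∣ Nat.card S := by
    refine odd_of hwS (fun u => if f w u = 0 then u + w else a • u) ?_
    rintro u hu hne
    by_cases h5 : f w u = 0
    · have h6 : f w (u + w) = 0 := by rw [map_add, h5, hw.self, add_zero]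
      simp only [if_pos h5, if_pos h6]
      refine ⟨⟨h.line hwS.1 hu.1 h5 hne, by rw [map_add, hu.2.1, hwS.2.1, add_zero],
        by rw [map_add, hu.2.2, hwS.2.2, add_zero]⟩, ?_, ?_, add_add_self _ _⟩
      · intro h7
        exact (h.pnt u hu.1).ne (add_eq_right.mp h7)
      · intro h7
        exact hw.ne (add_eq_left.mp h7)
    · have h5' := eq_one_of_ne h5
      have h6 : ¬ f w (a • u) = 0 := by rwa [ha.2.1]
      simp only [if_neg h5, if_neg h6]
      refine ⟨⟨h.smul a u hu.1, ?_, ?_⟩, ?_, ?_, ?_⟩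
      · rw [h.f_of_fix h.zO haz, hu.2.1]
      · rw [h.f_of_fix hy0 hay, hu.2.2]
      · intro h7
        rw [h7, hw.self] at h6
        exact h6 rfl
      · intro h7
        exact ha1 (h.free hwS.1 ha h5' h7)
      · rw [← mul_smul, haa, one_smul]
  -- the action of `T`
  have hstar : ∀ t ∈ T, ∀ u ∈ S, t • u + f y0 (t • u) • z ∈ S := by
    rintro t ht u hu
    have h5 : f z (t • u) = 0 := by rw [h.f_of_fix h.zO (h.z_fix t ht), hu.2.1]
    rcases zmod_cases (f y0 (t • u)) with h6 | h6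
    · rw [h6, zero_smul, add_zero]
      exact ⟨h.smul t u hu.1, h5, h6⟩
    · have h7 : t • u ≠ z := by
        intro h8
        apply hSz u hu
        rw [← inv_smul_smul t u, h8, inv_smul_eq_iff, h.z_fix t ht]
      rw [h6, one_smul]
      exact ⟨h.line h.zO (h.smul t u hu.1) h5 h7, by rw [map_add, h5, hz.self, add_zero],
        by rw [map_add, h6, h1', one_add_one]⟩
  let act : MulAction T S :=
    { smul := fun t u => ⟨(t : Y) • (u : V) + f y0 ((t : Y) • (u : V)) • z, hstar t t.2 u u.2⟩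
      one_smul := by
        rintro ⟨u, hu⟩
        apply Subtype.ext
        change (1 : Y) • u + f y0 ((1 : Y) • u) • z = u
        rw [one_smul, hu.2.2, zero_smul, add_zero]
      mul_smul := by
        rintro ⟨t, ht⟩ ⟨s, hs⟩ ⟨u, hu⟩
        apply Subtype.ext
        change (t * s) • u + f y0 ((t * s) • u) • z = t • (s • u + f y0 (s • u) • z) +
          f y0 (t • (s • u + f y0 (s • u) • z)) • z
        rw [mul_smul, smul_add, smul_zmod, h.z_fix t ht, map_add, map_smul (f := f y0) (c := f y0 (s • u)), h1',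
          smul_eq_mul, mul_one, add_smul]
        have h5 : t • s • u + f y0 (s • u) • z + (f y0 (t • s • u) • z + f y0 (s • u) • z) =
          t • s • u + f y0 (t • s • u) • z + (f y0 (s • u) • z + f y0 (s • u) • z) := by abel
        rw [h5, add_self, add_zero] }
  have : Fact (Nat.Prime 2) := ⟨Nat.prime_two⟩
  obtain ⟨⟨v, hv⟩, hfix⟩ := T.isPGroup'.nonempty_fixed_point_of_prime_not_dvd_card S hodd
  refine ⟨v, hv.1, hv.2.1, hSz v hv, fun t ht => ?_⟩
  have h5 : t • v + f y0 (t • v) • z = v := congrArg Subtype.val (hfix ⟨t, ht⟩)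
  rcases zmod_cases (f y0 (t • v)) with h6 | h6
  · rw [h6, zero_smul, add_zero] at h5
    exact Or.inl h5
  · right
    rw [h6, one_smul] at h5
    conv_rhs => rw [← h5, add_add_self]

/-- two points of `E_z` which are not perpendicular -/
theorem exists_pair [Finite Y] [Finite V] (h : Geo Y V T U z Om f) {y0 : V} (hy0 : y0 ∈ Om) (h1 : f z y0 = 1)
    {w0 : V} (hw0 : w0 ∈ Om) (hzw : f z w0 = 0) (hne : w0 ≠ z) :
    ∃ w1 ∈ Om, ∃ w2 ∈ Om, f z w1 = 0 ∧ f z w2 = 0 ∧ f y0 w1 = 0 ∧ f y0 w2 = 0 ∧ f w1 w2 = 1 := by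
  have hz := h.pnt z h.zO
  have h1' : f y0 z = 1 := by rw [h.symm hy0 h.zO, h1]
  -- first two points of `E_z`
  have hA : ∃ w1 ∈ Om, ∃ w2 ∈ Om, f z w1 = 0 ∧ f z w2 = 0 ∧ f w1 w2 = 1 := by
    by_contra hcon
    push Not at hcon
    have hB : ∀ x ∈ Om, ∀ w1 ∈ Om, ∀ w2 ∈ Om, f x w1 = 0 → f x w2 = 0 → f w1 w2 = 0 := by
      intro x hx w1 hw1 w2 hw2 h2 h3
      obtain ⟨g, rfl⟩ := h.trans x hx
      have h4 := h.conj g z h.zO (g⁻¹ • w1)
      rw [smul_inv_smul, h2] at h4
      have h5 := h.conj g z h.zO (g⁻¹ • w2)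
      rw [smul_inv_smul, h3] at h5
      have h6 := hcon _ (h.smul g⁻¹ w1 hw1) _ (h.smul g⁻¹ w2 hw2) h4.symm h5.symm
      rw [h.conj g⁻¹ w1 hw1] at h6
      exact eq_zero_of_ne h6
    -- a point of `E_z` perpendicular to `y0`
    have hC : ∃ w ∈ Om, f z w = 0 ∧ f y0 w = 0 := by
      rcases zmod_cases (f y0 w0) with h2 | h2
      · exact ⟨w0, hw0, hzw, h2⟩
      · exact ⟨w0 + z, h.line h.zO hw0 hzw hne, by rw [map_add, hzw, hz.self, add_zero],
          by rw [map_add, h2, h1', one_add_one]⟩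
    obtain ⟨w, hw, h2, h3⟩ := hC
    have h4 := hB w hw z h.zO y0 hy0 (by rw [h.symm hw h.zO, h2]) (by rw [h.symm hw hy0, h3])
    rw [h1] at h4
    exact one_ne h4
  obtain ⟨w1, hw1, w2, hw2, h2, h3, h4⟩ := hA
  have hne1 : w1 ≠ z := by
    intro h5
    rw [h5, h3] at h4
    exact one_ne h4.symm
  have hne2 : w2 ≠ z := by
    intro h5
    rw [h5, h.symm hw1 h.zO, h2] at h4
    exact one_ne h4.symm
  -- move `w1` into `E_y0`
  have hD : ∀ w1 ∈ Om, f z w1 = 0 → w1 ≠ z → ∃ w1' ∈ Om, f z w1' = 0 ∧ f y0 w1' = 0 ∧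
      ∀ w ∈ Om, f z w = 0 → f w w1' = f w w1 := by
    intro w1 hw1 h2 hne1
    rcases zmod_cases (f y0 w1) with h5 | h5
    · exact ⟨w1, hw1, h2, h5, fun w _ _ => rfl⟩
    · refine ⟨w1 + z, h.line h.zO hw1 h2 hne1, by rw [map_add, h2, hz.self, add_zero],
        by rw [map_add, h5, h1', one_add_one], fun w hw hzw => ?_⟩
      rw [map_add, h.symm hw h.zO, hzw, add_zero]
  obtain ⟨w1', hw1', h5, h6, h7⟩ := hD w1 hw1 h2 hne1
  obtain ⟨w2', hw2', h8, h9, h10⟩ := hD w2 hw2 h3 hne2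
  refine ⟨w1', hw1', w2', hw2', h5, h8, h6, h9, ?_⟩
  rw [h10 w1' hw1' h5, h.symm hw1' hw2, h7 w2 hw2 h3, h.symm hw2 hw1, h4]

end Geo

end Cfsg.Agent.Omega.NearFF

end

section


/-!
# THEOREM BT2 (helper318, bb 13091): no line on `z`
-/

set_option autoImplicit false
set_option linter.unusedSectionVars false

namespace Cfsg.Agent.Omega.NearFF

open Subgroup Transv

variable {Y : Type*} [Group Y] {V : Type*} [AddCommGroup V] [Module (ZMod 2) V] [DistribMulAction Y V]

namespace Geo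

variable {T : Sylow 2 Y} {U : Subgroup Y} {z : V} {Om : Set V} {f : V → Du V}

/-- coordinates in the case `|V| ≤ 16` -/
theorem coord [Finite Y] [Finite V] (h : Geo Y V T U z Om f) (hc : Nat.card V ≤ 16) {y0 w1 w2 : V} (hy0 : y0 ∈ Om)
    (h1 : f z y0 = 1) (hw1 : w1 ∈ Om) (hw2 : w2 ∈ Om) (e1 : f z w1 = 0) (e2 : f z w2 = 0) (e3 : f y0 w1 = 0)
    (e4 : f y0 w2 = 0) (e5 : f w1 w2 = 1) (v : V) :
    v = f y0 v • z + f z v • y0 + f w2 v • w1 + f w1 v • w2 := by
  have s0 : f z z = 0 := (h.pnt z h.zO).self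
  have s1 : f y0 y0 = 0 := (h.pnt y0 hy0).self
  have s2 : f w1 w1 = 0 := (h.pnt w1 hw1).self
  have s3 : f w2 w2 = 0 := (h.pnt w2 hw2).self
  have t1 : f y0 z = 1 := by rw [h.symm hy0 h.zO, h1]
  have t2 : f w1 z = 0 := by rw [h.symm hw1 h.zO, e1]
  have t3 : f w2 z = 0 := by rw [h.symm hw2 h.zO, e2]
  have t4 : f w1 y0 = 0 := by rw [h.symm hw1 hy0, e3]
  have t5 : f w2 y0 = 0 := by rw [h.symm hw2 hy0, e4]
  have t6 : f w2 w1 = 1 := by rw [h.symm hw2 hw1, e5]
  let F : (ZMod 2 × ZMod 2) × (ZMod 2 × ZMod 2) → V := fun p =>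
    p.1.1 • z + p.1.2 • y0 + p.2.1 • w1 + p.2.2 • w2
  have k1 : ∀ p, f y0 (F p) = p.1.1 := by
    rintro ⟨⟨a, b⟩, c, d⟩
    change f y0 (a • z + b • y0 + c • w1 + d • w2) = a
    simp only [map_add, map_smul, t1, s1, e3, e4, add_zero, smul_eq_mul, mul_one,
      mul_zero]
  have k2 : ∀ p, f z (F p) = p.1.2 := by
    rintro ⟨⟨a, b⟩, c, d⟩
    change f z (a • z + b • y0 + c • w1 + d • w2) = b
    simp only [map_add, map_smul, s0, h1, e1, e2, add_zero, smul_eq_mul, mul_one,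
      mul_zero, zero_add]
  have k3 : ∀ p, f w2 (F p) = p.2.1 := by
    rintro ⟨⟨a, b⟩, c, d⟩
    change f w2 (a • z + b • y0 + c • w1 + d • w2) = c
    simp only [map_add, map_smul, t3, t5, t6, s3, add_zero, smul_eq_mul, mul_one,
      mul_zero, zero_add]
  have k4 : ∀ p, f w1 (F p) = p.2.2 := by
    rintro ⟨⟨a, b⟩, c, d⟩
    change f w1 (a • z + b • y0 + c • w1 + d • w2) = d
    simp only [map_add, map_smul, t2, t4, e5, s2, add_zero, smul_eq_mul, mul_one,
      mul_zero, zero_add]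
  have hF : Function.Injective F := by
    intro p q hpq
    refine Prod.ext (Prod.ext ?_ ?_) (Prod.ext ?_ ?_)
    · rw [← k1, ← k1, hpq]
    · rw [← k2, ← k2, hpq]
    · rw [← k3, ← k3, hpq]
    · rw [← k4, ← k4, hpq]
  have hcard : Nat.card ((ZMod 2 × ZMod 2) × (ZMod 2 × ZMod 2)) = 16 := by
    rw [Nat.card_prod, Nat.card_prod, Nat.card_zmod]
  have hle := Nat.card_le_card_of_injective F hF
  have hb := (Nat.bijective_iff_injective_and_card F).mpr ⟨hF, by omega⟩
  obtain ⟨p, hp⟩ := hb.2 v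
  rw [← hp, k1, k2, k3, k4]

/-- (A6) -/
theorem fix_line [Finite Y] [Finite V] (h : Geo Y V T U z Om f) (hc : Nat.card V ≤ 16) {y0 w1 w2 : V} (hy0 : y0 ∈ Om)
    (h1 : f z y0 = 1) (hw1 : w1 ∈ Om) (hw2 : w2 ∈ Om) (e1 : f z w1 = 0) (e2 : f z w2 = 0) (e3 : f y0 w1 = 0)
    (e4 : f y0 w2 = 0) (e5 : f w1 w2 = 1) (t : Y) (ht : t • z = z) : t • w1 = w1 ∨ t • w1 = w1 + z := by
  have hz := h.pnt z h.zO
  have hco := h.coord hc hy0 h1 hw1 hw2 e1 e2 e3 e4 e5
  have t1 : f y0 z = 1 := by rw [h.symm hy0 h.zO, h1]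
  have t2 : f w1 z = 0 := by rw [h.symm hw1 h.zO, e1]
  have t3 : f w2 z = 0 := by rw [h.symm hw2 h.zO, e2]
  have hn : w1 + w2 ∉ Om := by
    intro h2
    have h3 := h.nh hw1 hw2 (by rwa [add_comm])
    rw [e5] at h3
    exact one_ne h3
  have n1 : w1 ≠ z := by
    intro h2
    rw [h2, e2] at e5
    exact one_ne e5.symm
  have n2 : w2 ≠ z := by
    intro h2
    rw [h2, t2] at e5
    exact one_ne e5.symm
  -- the points of `E_z`
  have hE : ∀ u ∈ Om, f z u = 0 → u ≠ z → (u = w1 ∨ u = w1 + z) ∨ (u = w2 ∨ u = w2 + z) := by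
    intro u hu h2 h3
    have h4 := hco u
    rw [h2, zero_smul, add_zero] at h4
    rcases zmod_cases (f w2 u) with c1 | c1
    · rcases zmod_cases (f w1 u) with c2 | c2
      · exfalso
        rw [c1, c2, zero_smul, zero_smul, add_zero, add_zero] at h4
        rcases zmod_cases (f y0 u) with c3 | c3
        · rw [c3, zero_smul] at h4
          exact (h.pnt u hu).ne h4
        · rw [c3, one_smul] at h4
          exact h3 h4
      · right
        rw [c1, c2, zero_smul, one_smul, add_zero] at h4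
        rcases zmod_cases (f y0 u) with c3 | c3
        · rw [c3, zero_smul, zero_add] at h4
          exact Or.inl h4
        · rw [c3, one_smul, add_comm] at h4
          exact Or.inr h4
    · rcases zmod_cases (f w1 u) with c2 | c2
      · left
        rw [c1, c2, zero_smul, one_smul, add_zero] at h4
        rcases zmod_cases (f y0 u) with c3 | c3
        · rw [c3, zero_smul, zero_add] at h4
          exact Or.inl h4
        · rw [c3, one_smul, add_comm] at h4
          exact Or.inr h4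
      · exfalso
        rw [c1, c2, one_smul, one_smul] at h4
        rcases zmod_cases (f y0 u) with c3 | c3
        · rw [c3, zero_smul, zero_add] at h4
          rw [h4] at hu
          exact hn hu
        · rw [c3, one_smul] at h4
          have h5 := h.line h.zO hu h2 h3
          have h6 : u + z = w1 + w2 := by
            rw [h4, add_assoc z w1 w2, Fr.cancel_right]
          rw [h6] at h5
          exact hn h5
  have hT : ∀ w ∈ Om, f z w = 0 → w ≠ z →
      (t • w = w1 ∨ t • w = w1 + z) ∨ (t • w = w2 ∨ t • w = w2 + z) := by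
    intro w hw h2 h3
    refine hE _ (h.smul t w hw) (by rw [h.f_of_fix h.zO ht, h2]) ?_
    intro h4
    apply h3
    rw [← inv_smul_smul t w, h4, inv_smul_eq_iff, ht]
  rcases hT w1 hw1 e1 n1 with h2 | h2
  · exact h2
  · exfalso
    -- then `t` swaps the two lines
    have h3 : t • w2 = w1 ∨ t • w2 = w1 + z := by
      rcases hT w2 hw2 e2 n2 with h3 | h3
      · exact h3
      · exfalso
        have h4 : t • (w1 + w2) = 0 ∨ t • (w1 + w2) = z := by
          rw [smul_add]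
          rcases h2 with h2 | h2 <;> rcases h3 with h3 | h3 <;> rw [h2, h3]
          · exact Or.inl (add_self _)
          · right
            rw [← add_assoc, add_self, zero_add]
          · right
            exact Fr.cancel_right _ _
          · exact Or.inl (add_self _)
        have h5 : w1 + w2 = 0 ∨ w1 + w2 = z := by
          rcases h4 with h4 | h4
          · left
            rw [← inv_smul_smul t (w1 + w2), h4, smul_zero]
          · right
            rw [← inv_smul_smul t (w1 + w2), h4, inv_smul_eq_iff, ht]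
        have h6 : f w1 (w1 + w2) = 1 := by rw [map_add, (h.pnt w1 hw1).self, e5, zero_add]
        rcases h5 with h5 | h5
        · rw [h5, map_zero] at h6
          exact one_ne h6.symm
        · rw [h5, t2] at h6
          exact one_ne h6.symm
    -- straighten `t` on `y0`
    have h4 : f z (t • y0) = 1 := by rw [h.f_of_fix h.zO ht, h1]
    obtain ⟨b, hb, c, h5⟩ := h.hit h.zO h1 h4
    have hc0 : c = 0 := by
      refine eq_zero_of_ne fun hc1 => ?_
      have h6 : b • y0 = t • y0 + z := by rw [h5, hc1, one_smul, add_add_self]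
      have h7 : t • y0 + z ∈ Om := by
        rw [← h6]
        exact h.smul b y0 hy0
      have h8 := h.nh h.zO (h.smul t y0 hy0) h7
      rw [h4] at h8
      exact one_ne h8
    rw [hc0, zero_smul, add_zero] at h5
    have hb' : b⁻¹ ∈ KK Y z (f z) := inv_mem hb
    have g0 : (b⁻¹ * t) • y0 = y0 := by rw [mul_smul, h5, inv_smul_smul]
    have gz : (b⁻¹ * t) • z = z := by rw [mul_smul, ht, hb'.1]
    have swap : ∀ w w' : V, f z w' = 0 → f y0 w = 0 → f y0 w' = 0 → (t • w = w' ∨ t • w = w' + z) →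
        (b⁻¹ * t) • w = w' := by
      intro w w' q1 q2 q3 q4
      have q5 : (b⁻¹ * t) • w = w' ∨ (b⁻¹ * t) • w = w' + z := by
        rw [mul_smul]
        rcases q4 with q4 | q4
        · rw [q4]
          exact hb'.2.2 w' q1
        · rw [q4, smul_add, hb'.1]
          rcases hb'.2.2 w' q1 with q6 | q6
          · rw [q6]
            exact Or.inr rfl
          · rw [q6, add_add_self]
            exact Or.inl rfl
      refine q5.resolve_right fun q6 => ?_
      have q7 := h.f_of_fix hy0 g0 w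
      rw [q6, map_add, q3, t1, q2, zero_add] at q7
      exact one_ne q7
    have g1 := swap w1 w2 e2 e3 e4 h2
    have g2 := swap w2 w1 e1 e4 e3 h3
    refine h.nt (b⁻¹ * t) (w1 + w2) (f w1 + f w2) ⟨?_, ?_, fun v => ?_⟩
    · intro h6
      have h7 : w1 = w2 := eq_of_add h6
      rw [h7, (h.pnt w2 hw2).self] at e5
      exact one_ne e5.symm
    · intro h6
      have h7 : (f w1 + f w2) w2 = 0 := by rw [h6]; rfl
      rw [LinearMap.add_apply, e5, (h.pnt w2 hw2).self, add_zero] at h7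
      exact one_ne h7
    · have h6 : (b⁻¹ * t) • v = f y0 v • z + f z v • y0 + f w2 v • w2 + f w1 v • w1 := by
        conv_lhs => rw [hco v]
        rw [smul_add, smul_add, smul_add, smul_zmod, smul_zmod, smul_zmod, smul_zmod, gz, g0, g1, g2]
      have h7 : f y0 v • z + f z v • y0 + f w2 v • w2 + f w1 v • w1 =
        f y0 v • z + f z v • y0 + f w2 v • w1 + f w1 v • w2 +
          (f w1 v • w1 + f w1 v • w2 + (f w2 v • w1 + f w2 v • w2)) := by
        have h8 : f y0 v • z + f z v • y0 + f w2 v • w1 + f w1 v • w2 +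
            (f w1 v • w1 + f w1 v • w2 + (f w2 v • w1 + f w2 v • w2)) =
          f y0 v • z + f z v • y0 + f w2 v • w2 + f w1 v • w1 + (f w2 v • w1 + f w2 v • w1) +
            (f w1 v • w2 + f w1 v • w2) := by abel
        rw [h8, add_self, add_self, add_zero, add_zero]
      rw [h6, h7, ← hco v, LinearMap.add_apply, add_smul, smul_add, smul_add]

/-- (6), (8): `z` is the only point of `E_z` -/
theorem only_z [Finite Y] [Finite V] (h : Geo Y V T U z Om f) : ∀ w ∈ Om, f z w = 0 → w = z := by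
  intro w0 hw0 hzw
  by_contra hne
  have hz := h.pnt z h.zO
  -- it is enough to find a line in the block and a contradiction when the block is singular
  have key : ∀ w ∈ Del U z, w ≠ z → (∀ d ∈ Del U z, f z d = 0) := by
    intro w _ _ d hd
    exact eq_zero_of_ne fun h1 => h.no_far hw0 hzw hne hd h1
  rcases Nat.lt_or_ge 4 (Nat.card (KK Y z (f z))) with h4 | h4
  · obtain ⟨w, hw, h1, h2, h3⟩ := h.exists_line h4 hw0 hzw hne
    have h5 := h.line_del hw h1 h2 h3
    have h6 := h.card_le (key w h5 h2) h5 h2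
    omega
  · have hc : Nat.card V ≤ 16 := by
      have h5 := hz.card
      omega
    obtain ⟨y0, hy0, h1⟩ := h.exists_far h.zO
    obtain ⟨w1, hw1, w2, hw2, e1, e2, e3, e4, e5⟩ := h.exists_pair hy0 h1 hw0 hzw hne
    have e6 : f w2 w1 = 1 := by rw [h.symm hw2 hw1, e5]
    have n1 : w1 ≠ z := by
      intro h2
      rw [h2, e2] at e5
      exact one_ne e5.symm
    have n2 : w2 ≠ z := by
      intro h2
      rw [h2, e1] at e6
      exact one_ne e6.symm
    have d1 := h.line_del hw1 e1 n1 fun t ht =>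
      h.fix_line hc hy0 h1 hw1 hw2 e1 e2 e3 e4 e5 t (h.z_fix t ht)
    have d2 := h.line_del hw2 e2 n2 fun t ht =>
      h.fix_line hc hy0 h1 hw2 hw1 e2 e1 e4 e3 e6 t (h.z_fix t ht)
    have h5 := key w1 d1 n1
    obtain ⟨g, hg, h6⟩ := d1
    have h7 := h.conj g z h.zO (g⁻¹ • w2)
    rw [smul_inv_smul, h6, e5, h5 _ (del_smul (inv_mem hg) d2)] at h7
    exact one_ne h7

end Geo

end Cfsg.Agent.Omega.NearFF

end

section


/-!
# THEOREM BT2 (helper318, bb 13091): five points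
-/

set_option autoImplicit false
set_option linter.unusedSectionVars false

namespace Cfsg.Agent.Omega.NearFF

open Subgroup Transv

variable {Y : Type*} [Group Y] {V : Type*} [AddCommGroup V] [Module (ZMod 2) V] [DistribMulAction Y V]

/-- the permutations of the five vectors induced by the group -/
def HH (Y : Type*) [Group Y] [DistribMulAction Y V] (w : Fin 5 → V) : Subgroup (Equiv.Perm (Fin 5)) where
  carrier := {σ | ∃ g : Y, ∀ i, g • w i = w (σ i)}
  one_mem' := ⟨1, fun i => one_smul _ _⟩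
  mul_mem' := by
    rintro σ τ ⟨g, hg⟩ ⟨k, hk⟩
    refine ⟨g * k, fun i => ?_⟩
    rw [mul_smul, hk, hg]
    rfl
  inv_mem' := by
    rintro σ ⟨g, hg⟩
    refine ⟨g⁻¹, fun i => ?_⟩
    rw [inv_smul_eq_iff, hg]
    exact congrArg w (σ.apply_symm_apply i).symm

/-- the conclusion of THEOREM BT2: `V` is the natural `O₄⁻(2)`-module for `Y ≅ A₅`, given by the five singular
vectors -/
structure FivePts (Y : Type*) {V : Type*} [Group Y] [AddCommGroup V] [Module (ZMod 2) V] [DistribMulAction Y V]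
    (z : V) (w : Fin 5 → V) : Prop where
  inj : Function.Injective w
  zero : w 0 = z
  range : Set.range w = MulAction.orbit Y z
  sum : ∑ i, w i = 0
  card : Nat.card V = 16
  span : Submodule.span (ZMod 2) (Set.range w) = ⊤
  /-- `Y` acts as a group of even permutations of the five vectors ... -/
  act : ∀ g : Y, ∃ σ ∈ alternatingGroup (Fin 5), ∀ i, g • w i = w (σ i)
  /-- ... and all even permutations occur -/
  onto : ∀ σ ∈ alternatingGroup (Fin 5), ∃ g : Y, ∀ i, g • w i = w (σ i)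

namespace Geo

variable {T : Sylow 2 Y} {U : Subgroup Y} {z : V} {Om : Set V} {f : V → Du V}

theorem far [Finite Y] [Finite V] (h : Geo Y V T U z Om f) {x y : V} (hx : x ∈ Om) (hy : y ∈ Om) (hne : x ≠ y) :
    f x y = 1 := by
  refine eq_one_of_ne fun h1 => hne ?_
  obtain ⟨g, rfl⟩ := h.trans x hx
  have h2 := h.conj g z h.zO (g⁻¹ • y)
  rw [smul_inv_smul, h1] at h2
  have h3 := h.only_z _ (h.smul g⁻¹ y hy) h2.symm
  rw [← h3, smul_inv_smul]

/-- the five points -/
theorem exists_five [Finite Y] [Finite V] (h : Geo Y V T U z Om f) :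
    ∃ w : Fin 5 → V, Function.Injective w ∧ w 0 = z ∧ Set.range w = Om ∧ ∑ i, w i = 0 ∧ Nat.card V = 16 := by
  have hz := h.pnt z h.zO
  obtain ⟨y0, hy0, h1⟩ := h.exists_far h.zO
  have hy := h.pnt y0 hy0
  have h1' : f y0 z = 1 := by rw [h.symm hy0 h.zO, h1]
  have hzy : z + y0 ∉ Om := by
    intro h2
    have h3 := h.nh h.zO hy0 (by rwa [add_comm])
    rw [h1] at h3
    exact one_ne h3
  have uz : ∀ r, f z r = 0 → f z (z + y0 + r) = 1 := by
    intro r hr
    rw [map_add, map_add, hz.self, h1, hr, zero_add, add_zero]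
  have uy : ∀ r, f y0 r = 0 → f y0 (z + y0 + r) = 1 := by
    intro r hr
    rw [map_add, map_add, hy.self, h1', hr, add_zero, add_zero]
  have hR : ∀ r, r ≠ 0 → f z r = 0 → f y0 r = 0 → z + y0 + r ∈ Om := by
    intro r hr0 hr1 hr2
    obtain ⟨b, hb, c, h2⟩ := h.hit h.zO h1 (u := y0 + r) (by rw [map_add, h1, hr1, add_zero])
    rcases zmod_cases c with hc | hc
    · exfalso
      rw [hc, zero_smul, add_zero] at h2
      have h3 : y0 + r ∈ Om := by
        rw [h2]
        exact h.smul b y0 hy0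
      have h4 := h.far hy0 h3 (fun h5 => hr0 (left_eq_add.mp h5))
      rw [map_add, hy.self, hr2, add_zero] at h4
      exact one_ne h4.symm
    · rw [hc, one_smul] at h2
      have h3 : z + y0 + r = b • y0 := by rw [add_assoc, h2, add_comm, add_add_self]
      rw [h3]
      exact h.smul b y0 hy0
  have f1 : ∀ r, r ≠ 0 → f z r = 0 → f y0 r = 0 → f (z + y0 + r) z = 1 := by
    intro r hr0 hr1 hr2
    rw [h.symm (hR r hr0 hr1 hr2) h.zO, uz r hr1]
  have f2 : ∀ r, r ≠ 0 → f z r = 0 → f y0 r = 0 → f (z + y0 + r) y0 = 1 := by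
    intro r hr0 hr1 hr2
    rw [h.symm (hR r hr0 hr1 hr2) hy0, uy r hr2]
  have f3 : ∀ r, r ≠ 0 → f z r = 0 → f y0 r = 0 → ∀ r', r' ≠ 0 → f z r' = 0 → f y0 r' = 0 → r ≠ r' →
      f (z + y0 + r) r' = 1 := by
    intro r hr0 hr1 hr2 r' hr0' hr1' hr2' hne
    have h2 := h.far (hR r hr0 hr1 hr2) (hR r' hr0' hr1' hr2') (fun h3 => hne (add_left_cancel h3))
    rwa [map_add, map_add, f1 r hr0 hr1 hr2, f2 r hr0 hr1 hr2, one_add_one, zero_add] at h2
  -- a first vector
  obtain ⟨r1, hr10, hr11, hr12⟩ : ∃ r, r ≠ 0 ∧ f z r = 0 ∧ f y0 r = 0 := by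
    obtain ⟨e, he, he0, hez⟩ := h.exists_perp
    refine ⟨e + f y0 e • z, ?_, by rw [map_add, map_smul, he, hz.self, smul_zero, add_zero],
      by rw [map_add, map_smul, h1', smul_eq_mul, mul_one, add_self]⟩
    rcases zmod_cases (f y0 e) with h2 | h2
    · rw [h2, zero_smul, add_zero]
      exact he0
    · rw [h2, one_smul]
      exact fun h3 => hez (eq_of_add h3)
  have hr1z : r1 ≠ z := by
    intro h2
    rw [h2, h1'] at hr12
    exact one_ne hr12
  -- a second one
  obtain ⟨r2, hr20, hr21, hr22, hr12ne⟩ : ∃ r, r ≠ 0 ∧ f z r = 0 ∧ f y0 r = 0 ∧ r1 ≠ r := by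
    obtain ⟨b, hb, h2⟩ := h.move h.zO hr11 hr10 hr1z
    have hbO := h.smul b y0 hy0
    have h3 : b • y0 ≠ y0 := by
      intro h4
      have h5 := h.free h.zO hb h1 h4
      rw [h5, one_smul] at h2
      exact hz.ne (left_eq_add.mp h2)
    refine ⟨b • y0 + (z + y0), ?_, ?_, ?_, ?_⟩
    · intro h4
      have h5 := eq_of_add h4
      rw [h5] at hbO
      exact hzy hbO
    · rw [map_add, map_add, hb.2.1, h1, hz.self, zero_add, one_add_one]
    · rw [map_add, map_add, h.far hy0 hbO (Ne.symm h3), h1', hy.self, add_zero, one_add_one]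
    · intro h4
      have h5 : b • y0 = z + y0 + r1 := by rw [h4, add_comm (z + y0), add_add_self]
      have h6 : b • b • y0 = y0 := by rw [← mul_smul, hz.sq b hb, one_smul]
      rw [h5, smul_add, smul_add, hb.1, h5, h2] at h6
      have h7 : z + (z + y0 + r1) + (r1 + z) = y0 + z + (z + z) + (r1 + r1) := by abel
      rw [h7, add_self, add_self, add_zero, add_zero] at h6
      exact hz.ne (add_eq_left.mp h6)
  have hs0 : r1 + r2 ≠ 0 := fun h2 => hr12ne (eq_of_add h2)
  have hs1 : f z (r1 + r2) = 0 := by rw [map_add, hr11, hr21, add_zero]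
  have hs2 : f y0 (r1 + r2) = 0 := by rw [map_add, hr12, hr22, add_zero]
  have hRall : ∀ r, f z r = 0 → f y0 r = 0 → r = 0 ∨ r = r1 ∨ r = r2 ∨ r = r1 + r2 := by
    intro r h2 h3
    by_contra hcon
    push Not at hcon
    obtain ⟨c0, c1, c2, c3⟩ := hcon
    have h4 := f3 r c0 h2 h3 _ hs0 hs1 hs2 c3
    rw [map_add, f3 r c0 h2 h3 _ hr10 hr11 hr12 c1, f3 r c0 h2 h3 _ hr20 hr21 hr22 c2, one_add_one] at h4
    exact one_ne h4.symm
  have hOm : ∀ u ∈ Om, u = z ∨ u = y0 ∨ u = z + y0 + r1 ∨ u = z + y0 + r2 ∨ u = z + y0 + (r1 + r2) := by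
    intro u hu
    by_cases c1 : z = u
    · exact Or.inl c1.symm
    by_cases c2 : y0 = u
    · exact Or.inr (Or.inl c2.symm)
    have h2 : f z (u + (z + y0)) = 0 := by
      rw [map_add, map_add, h.far h.zO hu c1, hz.self, h1, zero_add, one_add_one]
    have h3 : f y0 (u + (z + y0)) = 0 := by
      rw [map_add, map_add, h.far hy0 hu c2, hy.self, h1', add_zero, one_add_one]
    have h4 : ∀ r, u + (z + y0) = r → u = z + y0 + r := by
      intro r hr
      rw [← hr, add_comm (z + y0), add_add_self]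
    rcases hRall _ h2 h3 with h5 | h5 | h5 | h5
    · exfalso
      have h6 := h4 0 h5
      rw [add_zero] at h6
      rw [h6] at hu
      exact hzy hu
    · exact Or.inr (Or.inr (Or.inl (h4 _ h5)))
    · exact Or.inr (Or.inr (Or.inr (Or.inl (h4 _ h5))))
    · exact Or.inr (Or.inr (Or.inr (Or.inr (h4 _ h5))))
  -- inequalities
  have n01 : z ≠ y0 := by
    intro h2
    rw [← h2, hz.self] at h1
    exact one_ne h1.symm
  have nz : ∀ r, f z r = 0 → z ≠ z + y0 + r := by
    intro r hr h2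
    have h3 := uz r hr
    rw [← h2, hz.self] at h3
    exact one_ne h3.symm
  have ny : ∀ r, f y0 r = 0 → y0 ≠ z + y0 + r := by
    intro r hr h2
    have h3 := uy r hr
    rw [← h2, hy.self] at h3
    exact one_ne h3.symm
  have n02 := nz r1 hr11
  have n03 := nz r2 hr21
  have n04 := nz _ hs1
  have n12 := ny r1 hr12
  have n13 := ny r2 hr22
  have n14 := ny _ hs2
  have n23 : z + y0 + r1 ≠ z + y0 + r2 := fun h2 => hr12ne (add_left_cancel h2)
  have n24 : z + y0 + r1 ≠ z + y0 + (r1 + r2) := fun h2 => hr20 (left_eq_add.mp (add_left_cancel h2))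
  have n34 : z + y0 + r2 ≠ z + y0 + (r1 + r2) := fun h2 => hr10 (right_eq_add.mp (add_left_cancel h2))
  refine ⟨![z, y0, z + y0 + r1, z + y0 + r2, z + y0 + (r1 + r2)], ?_, rfl, ?_, ?_, ?_⟩
  · intro i j hij
    fin_cases i <;> fin_cases j <;> [(rfl); (exact absurd hij n01); (exact absurd hij n02); (exact absurd hij n03); (exact absurd hij n04); (exact absurd hij.symm n01); (rfl);
                                     (exact absurd hij n12); (exact absurd hij n13); (exact absurd hij n14); (exact absurd hij.symm n02); (exact absurd hij.symm n12); (rfl);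
                                     (exact absurd hij n23); (exact absurd hij n24); (exact absurd hij.symm n03); (exact absurd hij.symm n13); (exact absurd hij.symm n23); (rfl);
                                     (exact absurd hij n34); (exact absurd hij.symm n04); (exact absurd hij.symm n14); (exact absurd hij.symm n24); (exact absurd hij.symm n34); (rfl)]
  · ext u
    constructor
    · rintro ⟨i, rfl⟩
      fin_cases i
      · exact h.zO
      · exact hy0
      · exact hR _ hr10 hr11 hr12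
      · exact hR _ hr20 hr21 hr22
      · exact hR _ hs0 hs1 hs2
    · intro hu
      rcases hOm u hu with h2 | h2 | h2 | h2 | h2
      · exact ⟨0, h2.symm⟩
      · exact ⟨1, h2.symm⟩
      · exact ⟨2, h2.symm⟩
      · exact ⟨3, h2.symm⟩
      · exact ⟨4, h2.symm⟩
  · rw [Fin.sum_univ_five]
    change z + y0 + (z + y0 + r1) + (z + y0 + r2) + (z + y0 + (r1 + r2)) = 0
    have h2 : z + y0 + (z + y0 + r1) + (z + y0 + r2) + (z + y0 + (r1 + r2)) =
      (z + z) + (z + z) + (y0 + y0) + (y0 + y0) + (r1 + r1) + (r2 + r2) := by abel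
    rw [h2]
    simp only [add_self]
  · classical
    have h2 := card_two hz.nz hy.nz (fun h3 => by
      rw [h3, hy.self] at h1
      exact one_ne h1.symm) (LinearMap.ker (f z) ⊓ LinearMap.ker (f y0)) (fun u => by
        rw [Submodule.mem_inf, LinearMap.mem_ker, LinearMap.mem_ker])
    have h3 : ((LinearMap.ker (f z) ⊓ LinearMap.ker (f y0) : Submodule (ZMod 2) V) : Set V) =
        (({0, r1, r2, r1 + r2} : Finset V) : Set V) := by
      ext u
      simp only [Finset.coe_insert, Finset.coe_singleton, Set.mem_insert_iff, Set.mem_singleton_iff,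
        SetLike.mem_coe, Submodule.mem_inf, LinearMap.mem_ker]
      constructor
      · rintro ⟨h3, h4⟩
        exact hRall u h3 h4
      · rintro (rfl | rfl | rfl | rfl)
        · exact ⟨map_zero _, map_zero _⟩
        · exact ⟨hr11, hr12⟩
        · exact ⟨hr21, hr22⟩
        · exact ⟨hs1, hs2⟩
    have h4 : Nat.card (LinearMap.ker (f z) ⊓ LinearMap.ker (f y0) : Submodule (ZMod 2) V) =
        (({0, r1, r2, r1 + r2} : Finset V) : Set V).ncard := by
      rw [← h3]
      rfl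
    have h5 : r1 ≠ r1 + r2 := fun h6 => hr20 (left_eq_add.mp h6)
    have h7 : r2 ≠ r1 + r2 := fun h6 => hr10 (right_eq_add.mp h6)
    rw [h2, h4, Set.ncard_coe_finset, Finset.card_insert_of_notMem, Finset.card_insert_of_notMem,
      Finset.card_insert_of_notMem, Finset.card_singleton]
    · simp only [Finset.mem_singleton]
      exact h7
    · simp only [Finset.mem_insert, Finset.mem_singleton, not_or]
      exact ⟨hr12ne, h5⟩
    · simp only [Finset.mem_insert, Finset.mem_singleton, not_or]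
      exact ⟨hr10.symm, hr20.symm, hs0.symm⟩

/-- a double transposition -/
theorem dbl [Finite Y] [Finite V] (h : Geo Y V T U z Om f) {w : Fin 5 → V} (hw : Function.Injective w)
    (hr : Set.range w = Om) :
    ∃ b : Y, b • w 2 = w 2 ∧ b • w 0 = w 4 ∧ b • w 4 = w 0 ∧ b • w 1 = w 3 ∧ b • w 3 = w 1 := by
  have hO : ∀ i, w i ∈ Om := fun i => by
    rw [← hr]
    exact ⟨i, rfl⟩
  have hf : ∀ i j, i ≠ j → f (w i) (w j) = 1 := fun i j hij => h.far (hO i) (hO j) (fun h1 => hij (hw h1))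
  obtain ⟨b, hb, c, h1⟩ := h.hit (hO 2) (hf 2 0 (by decide)) (hf 2 4 (by decide))
  have hc : c = 0 := by
    refine eq_zero_of_ne fun hc => ?_
    rw [hc, one_smul] at h1
    have h2 : w 4 + w 2 ∈ Om := by
      rw [h1, add_add_self]
      exact h.smul b _ (hO 0)
    have h3 := h.nh (hO 2) (hO 4) h2
    rw [hf 2 4 (by decide)] at h3
    exact one_ne h3
  rw [hc, zero_smul, add_zero] at h1
  have hbb : ∀ v : V, b • b • v = v := fun v => by
    rw [← mul_smul, (h.pnt _ (hO 2)).sq b hb, one_smul]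
  have h4 : b • w 4 = w 0 := by rw [h1, hbb]
  have hinj : ∀ i j, b • w i = b • w j → i = j := by
    intro i j h2
    apply hw
    rw [← hbb (w i), h2, hbb]
  obtain ⟨j, hj⟩ : b • w 1 ∈ Set.range w := by
    rw [hr]
    exact h.smul b _ (hO 1)
  have h3 : b • w 1 = w 3 := by
    fin_cases j
    · exfalso
      have h5 := hinj 1 4 (by rw [← hj, h4]; rfl)
      exact absurd h5 (by decide)
    · exfalso
      have h5 := h.free (hO 2) hb (hf 2 1 (by decide)) hj.symm
      rw [h5, one_smul] at h1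
      exact absurd (hw h1) (by decide)
    · exfalso
      have h5 := hinj 1 2 (by rw [← hj, hb.1]; rfl)
      exact absurd h5 (by decide)
    · exact hj.symm
    · exfalso
      have h5 := hinj 1 0 (by rw [← hj, ← h1]; rfl)
      exact absurd h5 (by decide)
  exact ⟨b, hb.1, h1.symm, h4, h3, by rw [← h3, hbb]⟩

/-- no transposition -/
theorem no_swap [Finite Y] [Finite V] (h : Geo Y V T U z Om f) {w : Fin 5 → V} (hw : Function.Injective w)
    (hr : Set.range w = Om) : Equiv.swap (0 : Fin 5) 1 ∉ HH Y w := by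
  rintro ⟨g, hg⟩
  have hO : ∀ i, w i ∈ Om := fun i => by
    rw [← hr]
    exact ⟨i, rfl⟩
  have hf : ∀ i j, i ≠ j → f (w i) (w j) = 1 := fun i j hij => h.far (hO i) (hO j) (fun h1 => hij (hw h1))
  have hs : ∀ i, f (w i) (w i) = 0 := fun i => (h.pnt _ (hO i)).self
  refine h.nt g (w 0 + w 1) (f (w 0) + f (w 1)) ⟨?_, ?_, fun v => ?_⟩
  · intro h1
    exact absurd (hw (eq_of_add h1)) (by decide)
  · intro h1
    have h2 : (f (w 0) + f (w 1)) (w 0) = 0 := by rw [h1]; rfl
    rw [LinearMap.add_apply, hs, hf 1 0 (by decide), zero_add] at h2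
    exact one_ne h2
  · let L : V →ₗ[ZMod 2] V := LinearMap.id + (f (w 0) + f (w 1)).smulRight (w 0 + w 1)
    have h1 := h.span (LinearMap.eqLocus (lin g : V →ₗ[ZMod 2] V) L) (by
      intro x hx
      rw [← hr] at hx
      obtain ⟨i, rfl⟩ := hx
      change g • w i = w i + (f (w 0) (w i) + f (w 1) (w i)) • (w 0 + w 1)
      rw [hg]
      have key : ∀ i, i ≠ 0 → i ≠ 1 → w (Equiv.swap (0 : Fin 5) 1 i) =
          w i + (f (w 0) (w i) + f (w 1) (w i)) • (w 0 + w 1) := by
        intro i h0 h1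
        rw [Equiv.swap_apply_of_ne_of_ne h0 h1, hf 0 i (Ne.symm h0), hf 1 i (Ne.symm h1), one_add_one, zero_smul,
          add_zero]
      by_cases c0 : i = 0
      · rw [c0, Equiv.swap_apply_left, hs, hf 1 0 (by decide), zero_add, one_smul, ← add_assoc, add_self, zero_add]
      by_cases c1 : i = 1
      · rw [c1, Equiv.swap_apply_right, hs, hf 0 1 (by decide), add_zero, one_smul, add_comm (w 0), ← add_assoc,
          add_self, zero_add]
      exact key i c0 c1)
    have h2 : v ∈ LinearMap.eqLocus (lin g : V →ₗ[ZMod 2] V) L := by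
      rw [h1]
      exact Submodule.mem_top
    exact h2

/-- the double transpositions -/
theorem dblP [Finite Y] [Finite V] (h : Geo Y V T U z Om f) {w : Fin 5 → V} (hw : Function.Injective w)
    (hr : Set.range w = Om) (c : Equiv.Perm (Fin 5)) :
    c * (Equiv.swap (0 : Fin 5) 4 * Equiv.swap (1 : Fin 5) 3) * c⁻¹ ∈ HH Y w := by
  obtain ⟨b, h2, h0, h4, h1, h3⟩ := h.dbl (w := w ∘ c) (hw.comp c.injective) (by
    rw [Set.range_comp, c.range_eq_univ, Set.image_univ, hr])
  refine ⟨b, fun i => ?_⟩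
  obtain ⟨j, rfl⟩ := c.surjective i
  have h5 : (c * (Equiv.swap (0 : Fin 5) 4 * Equiv.swap (1 : Fin 5) 3) * c⁻¹ : Equiv.Perm (Fin 5)) (c j) =
      c ((Equiv.swap (0 : Fin 5) 4 * Equiv.swap (1 : Fin 5) 3 : Equiv.Perm (Fin 5)) j) := by
    change c ((Equiv.swap (0 : Fin 5) 4 * Equiv.swap (1 : Fin 5) 3 : Equiv.Perm (Fin 5)) (c.symm (c j))) = _
    rw [c.symm_apply_apply]
  rw [h5]
  fin_cases j
  · exact h0
  · exact h1
  · exact h2
  · exact h3
  · exact h4

theorem alt_le [Finite Y] [Finite V] (h : Geo Y V T U z Om f) {w : Fin 5 → V} (hw : Function.Injective w)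
    (hr : Set.range w = Om) : alternatingGroup (Fin 5) ≤ HH Y w := by
  have hs : IsSimpleGroup (alternatingGroup (Fin 5)) := alternatingGroup.isSimpleGroup (by simp)
  have hm : Equiv.swap (0 : Fin 5) 4 * Equiv.swap (1 : Fin 5) 3 ∈ alternatingGroup (Fin 5) :=
    Equiv.Perm.mem_alternatingGroup.2 (by decide)
  have h1 : normalClosure ({⟨_, hm⟩} : Set (alternatingGroup (Fin 5))) = ⊤ := by
    refine (hs.eq_bot_or_eq_top_of_normal _ normalClosure_normal).resolve_left fun h2 => ?_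
    have h3 : (⟨_, hm⟩ : alternatingGroup (Fin 5)) ∈ normalClosure ({⟨_, hm⟩} : Set (alternatingGroup (Fin 5))) :=
      subset_normalClosure rfl
    rw [h2, mem_bot] at h3
    have h4 : Equiv.swap (0 : Fin 5) 4 * Equiv.swap (1 : Fin 5) 3 = 1 := congrArg Subtype.val h3
    exact absurd h4 (by decide)
  have h2 : normalClosure ({⟨_, hm⟩} : Set (alternatingGroup (Fin 5))) ≤ (HH Y w).subgroupOf _ := by
    rw [normalClosure, closure_le]
    intro x hx
    rw [Group.mem_conjugatesOfSet_iff] at hx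
    obtain ⟨y, hy, hyx⟩ := hx
    rw [Set.mem_singleton_iff] at hy
    obtain ⟨c, hc⟩ := isConj_iff.mp hyx
    rw [SetLike.mem_coe, mem_subgroupOf, ← hc, hy]
    exact h.dblP hw hr c
  intro σ hσ
  have h3 : (⟨σ, hσ⟩ : alternatingGroup (Fin 5)) ∈ (HH Y w).subgroupOf (alternatingGroup (Fin 5)) := by
    apply h2
    rw [h1]
    exact mem_top _
  exact h3

theorem HH_eq [Finite Y] [Finite V] (h : Geo Y V T U z Om f) {w : Fin 5 → V} (hw : Function.Injective w)
    (hr : Set.range w = Om) : HH Y w = alternatingGroup (Fin 5) := by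
  refine le_antisymm (fun σ hσ => ?_) (h.alt_le hw hr)
  by_contra h1
  apply h.no_swap hw hr
  have h2 : σ⁻¹ * Equiv.swap (0 : Fin 5) 1 ∈ alternatingGroup (Fin 5) := by
    rw [Equiv.Perm.mem_alternatingGroup] at h1 ⊢
    rw [map_mul, map_inv, Equiv.Perm.sign_swap (by decide), (Int.units_eq_one_or _).resolve_left h1]
    decide
  have h3 := mul_mem hσ (h.alt_le hw hr h2)
  rwa [mul_inv_cancel_left] at h3

theorem exists_perm [Finite Y] [Finite V] (h : Geo Y V T U z Om f) {w : Fin 5 → V} (hw : Function.Injective w)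
    (hr : Set.range w = Om) (g : Y) : ∃ σ : Equiv.Perm (Fin 5), ∀ i, g • w i = w (σ i) := by
  have h1 : ∀ i, ∃ j, w j = g • w i := by
    intro i
    have h2 : g • w i ∈ Set.range w := by
      rw [hr]
      refine h.smul g _ ?_
      rw [← hr]
      exact ⟨i, rfl⟩
    exact h2
  choose σ hσ using h1
  have h2 : Function.Injective σ := by
    intro i j hij
    apply hw
    rw [← inv_smul_smul g (w i), ← hσ, hij, hσ, inv_smul_smul]
  exact ⟨Equiv.ofBijective σ (Finite.injective_iff_bijective.mp h2), fun i => (hσ i).symm⟩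

end Geo

/-- **THEOREM BT2** (helper318, bb 13091) -/
theorem Hyp.main [Finite Y] [Finite V] {T : Sylow 2 Y} {U : Subgroup Y} {z : V} {φ : Du V} {B : Subgroup Y}
    (h : Hyp Y V T U z φ B) : ∃ w : Fin 5 → V, FivePts Y z w := by
  have hg := h.geo
  obtain ⟨w, h1, h2, h3, h4, h5⟩ := hg.exists_five
  refine ⟨w, h1, h2, h3, h4, h5, ?_, fun g => ?_, fun σ hσ => ?_⟩
  · refine hg.span _ fun x hx => ?_
    rw [← h3] at hx
    exact Submodule.subset_span hx
  · obtain ⟨σ, hσ⟩ := hg.exists_perm h1 h3 g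
    refine ⟨σ, ?_, hσ⟩
    rw [← hg.HH_eq h1 h3]
    exact ⟨g, hσ⟩
  · rw [← hg.HH_eq h1 h3] at hσ
    exact hσ

end Cfsg.Agent.Omega.NearFF

end

section


/-!
# (BT), `|V/E| = 2`: symmetry, the symplectic form, `B ≤ R_x` (project OMEGA, leaf N1)

Texts: helper318 #13635 (T1), (T2), #13823 (c); helper817 #14271 (SYM); referees helper442 #14015,
helper960 #14056, #14417.

* `NB.t1` : (T1), an element commuting with `B` acts trivially on `E_x/C_V(B)`;
* `Dat.symm_of` : (SYM), `f` is symmetric if `F₀(z) = ⋂ C_V(B) = ⟨z⟩`;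
* `Dat.exists_form` : `f` symmetric ⟹ the nondegenerate symplectic form, `B ≤ R_x`, `|R_x| ≥ 4`, (DO): `Sp`;
* `Dat.five` : `F₀(z) = ⟨z⟩` ⟹ `FivePts`.
-/

set_option autoImplicit false
set_option linter.unusedSectionVars false

namespace Cfsg.Agent.Omega.NearFF

open Subgroup Cfsg.Agent.Omega.Transv

variable {Y : Type*} [Group Y] {V : Type*} [AddCommGroup V] [Module (ZMod 2) V] [DistribMulAction Y V]

namespace NB

variable {φ : Du V} {B : Subgroup Y} (h : NB φ B)
include h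

theorem cm_mem {b : Y} (hb : b ∈ B) (v : V) : φ (cm b v) = 0 := by
  rw [cm, map_add, h.inv b hb, add_self]

/-- `C_V(b) ≤ ker φ` for `b ≠ 1` -/
theorem fix {b : Y} (hb : b ∈ B) (h1 : b ≠ 1) {v : V} (hv : b • v = v) : φ v = 0 := by
  refine eq_zero_of_ne fun h2 => h1 (h.inj v h2 b hb ?_)
  rw [cm_eq_zero.2 hv]
  exact Fx.zero B

/-- `[v, b, b] = 0` -/
theorem smul_cm_self {b : Y} (hb : b ∈ B) (v : V) : b • cm b v = cm b v := by
  rw [cm, smul_add, smul_smul, h.sq b hb, one_smul, add_comm]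

/-- **(T1)** -/
theorem t1 (hφ : φ ≠ 0) {a : Y} (hc : ∀ b ∈ B, a * b = b * a) (ha : ∀ v : V, φ (a • v) = φ v) {e : V}
    (he : φ e = 0) : Fx B (cm a e) := by
  obtain ⟨v, hv⟩ := exists_one hφ
  obtain ⟨b, hb, hd⟩ := h.surj v e hv he
  have h1 : Fx B (cm a (cm b v + e)) := by
    intro c hc'
    rw [smul_cm (hc c hc').symm, hd c hc']
  rw [cm_add, cm_comm (hc b hb), add_comm] at h1
  refine h1.of_add (h.ed _ ?_ b hb)
  rw [cm, map_add, ha, add_self]

/-- the element `b_y` -/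
theorem exists_b (hφ : φ ≠ 0) {y : V} (hy : φ y = 0) :
    ∃ b ∈ B, b • y = y ∧ ∃ v d : V, φ v = 1 ∧ Fx B d ∧ y = cm b v + d := by
  obtain ⟨v, hv⟩ := exists_one hφ
  obtain ⟨b, hb, hd⟩ := h.surj v y hv hy
  have h1 : y = cm b v + (cm b v + y) := by
    rw [← add_assoc, add_self, zero_add]
  refine ⟨b, hb, ?_, v, cm b v + y, hv, hd, h1⟩
  conv_lhs => rw [h1, smul_add, h.smul_cm_self hb, hd b hb]
  exact h1.symm

/-- (SYM') `[V, c] ≤ E_y` for `c` fixing `y`; helper817's symmetry argument. -/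
theorem sym_pair (hφ : φ ≠ 0) {ψ : Du V} {x y : V} {a : Y} (ha : a ∈ B)
    (hax : ∀ e : V, φ e = 0 → cm a e = 0 ∨ cm a e = x) (hne : ∃ e : V, cm a e = x) (hy : φ y = 0)
    (hψ : ∀ c : Y, c • y = y → ∀ v : V, ψ (c • v) = ψ v) : ψ x = 0 := by
  have key : ∀ c : Y, c • y = y → ∀ v : V, ψ (cm c v) = 0 := by
    intro c hc v
    rw [cm, map_add, hψ c hc, add_self]
  by_cases hay : a • y = y
  · obtain ⟨e, rfl⟩ := hne
    exact key a hay e
  · obtain ⟨b, hb, hby, v, d, -, hd, h1⟩ := h.exists_b hφ hy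
    have h2 : cm a y = x := (hax y hy).resolve_left fun h0 => hay (cm_eq_zero.1 h0)
    have h3 : x = cm b (cm a v) := by
      rw [← h2, h1, cm_add, cm_comm (h.comm a ha b hb), cm_eq_zero.2 (hd a ha), add_zero]
    rw [h3]
    exact key b hby _

end NB

/-- a nontrivial element acting trivially on `ker φ` is a transvection -/
theorem eq_one_of_hyper (hf : Faith Y V) (nt : NT Y V) {φ : Du V} {a : Y}
    (h : ∀ e : V, φ e = 0 → cm a e = 0) : a = 1 := by
  by_cases hφ : φ = 0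
  · refine hf a fun v => cm_eq_zero.1 (h v ?_)
    rw [hφ]; rfl
  obtain ⟨v, hv⟩ := exists_one hφ
  have h1 : ∀ u : V, a • u = u + φ u • cm a v := by
    intro u
    rcases zmod_cases (φ u) with h2 | h2
    · rw [h2, zero_smul, add_zero]
      exact cm_eq_zero.1 (h u h2)
    · rw [h2, one_smul, smul_eq_add_cm a u]
      congr 1
      have h3 : cm a (u + v) = 0 := h _ (by rw [map_add, h2, hv, one_add_one])
      rw [cm_add] at h3
      exact eq_of_add h3
  by_cases h2 : cm a v = 0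
  · refine hf a fun u => ?_
    rw [h1 u, h2, smul_zero, add_zero]
  · exact absurd ⟨h2, hφ, h1⟩ (nt a (cm a v) φ)

theorem smul_orbit {z x : V} (hx : x ∈ MulAction.orbit Y z) (g : Y) : g • x ∈ MulAction.orbit Y z := by
  obtain ⟨k, rfl⟩ := hx
  exact ⟨g * k, mul_smul g k z⟩

/-- a form vanishing on `ker φ` -/
theorem eq_of_hyper {φ ψ : Du V} (h : ∀ e : V, φ e = 0 → ψ e = 0) : ψ = 0 ∨ ψ = φ := by
  by_cases hφ : φ = 0
  · left
    refine LinearMap.ext fun e => h e ?_
    rw [hφ]; rfl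
  obtain ⟨v, hv⟩ := exists_one hφ
  have h1 : ∀ u : V, ψ u = φ u * ψ v := by
    intro u
    rcases zmod_cases (φ u) with h2 | h2
    · rw [h u h2, h2, zero_mul]
    · have h3 := h (u + v) (by rw [map_add, h2, hv, one_add_one])
      rw [map_add] at h3
      rw [h2, one_mul]
      exact eq_of_add h3
  rcases zmod_cases (ψ v) with h2 | h2
  · left
    refine LinearMap.ext fun u => ?_
    rw [h1, h2, mul_zero]
    rfl
  · right
    refine LinearMap.ext fun u => ?_
    rw [h1, h2, mul_one]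

theorem card_ker [Finite V] {χ : Du V} (h : χ ≠ 0) : 2 * Nat.card {u : V // χ u = 0} = Nat.card V := by
  obtain ⟨w, hw⟩ := exists_one h
  have h4 : Nat.card {u : V // χ u = 0} = Nat.card {u : V // χ u = 1} := by
    refine Nat.card_congr ⟨fun u => ⟨(u : V) + w, by rw [map_add, u.2, hw, zero_add]⟩,
      fun u => ⟨(u : V) + w, by rw [map_add, u.2, hw, one_add_one]⟩, fun u => ?_, fun u => ?_⟩
    · exact Subtype.ext (add_add_self _ _)
    · exact Subtype.ext (add_add_self _ _)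
  rw [h4, card_hyper h]

section KK

variable {φ : Du V} {x : V}

/-- the group `R_x` is elementary abelian -/
theorem KK_comm (hf : Faith Y V) (nt : NT Y V) {a b : Y} (ha : a ∈ KK Y x φ) (hb : b ∈ KK Y x φ) :
    a * b = b * a := by
  rw [mem_KK_iff] at ha hb
  obtain ⟨ha1, ha2, ha3⟩ := ha
  obtain ⟨hb1, hb2, hb3⟩ := hb
  have h1 : ∀ e : V, φ e = 0 → (a * b) • e = (b * a) • e := by
    intro e he
    have h2 : cm a (cm b e) = 0 := by
      rcases hb3 e he with h | h
      · rw [h, cm_zero]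
      · rw [h, cm_eq_zero, ha1]
    have h3 : cm b (cm a e) = 0 := by
      rcases ha3 e he with h | h
      · rw [h, cm_zero]
      · rw [h, cm_eq_zero, hb1]
    rw [smul_eq_add_cm (a * b), smul_eq_add_cm (b * a), cm_mul, cm_mul, h2, h3, add_zero, add_zero,
      add_comm (cm b e)]
  have h2 : (b * a)⁻¹ * (a * b) = 1 := by
    refine eq_one_of_hyper hf nt (φ := φ) fun e he => cm_eq_zero.2 ?_
    rw [mul_smul, h1 e he, inv_smul_smul]
  exact (inv_mul_eq_one.mp h2).symm

theorem KK_sq (hf : Faith Y V) (nt : NT Y V) {a : Y} (ha : a ∈ KK Y x φ) : a * a = 1 := by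
  rw [mem_KK_iff] at ha
  obtain ⟨ha1, ha2, ha3⟩ := ha
  refine eq_one_of_hyper hf nt (φ := φ) fun e he => ?_
  rw [cm_mul, add_self, zero_add]
  rcases ha3 e he with h | h
  · rw [h, cm_zero]
  · rw [h, cm_eq_zero, ha1]

end KK

namespace Dat

variable {T : Sylow 2 Y} {M : Subgroup Y} {z : V} {f : V → Du V} {Q : V → Subgroup Y}
  {BB : V → Set (Subgroup Y)} (h : Dat T M z f Q BB)
include h

theorem nt [Finite V] : NT Y V := by
  intro g a χ hg
  have hsq := hg.mul_self h.faith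
  have hmem : ∀ b ∈ zpowers g, b = 1 ∨ b = g := by
    intro b hb
    obtain ⟨n, rfl⟩ := mem_zpowers_iff.1 hb
    rcases Int.even_or_odd' n with ⟨k, hk | hk⟩
    · left
      rw [hk, zpow_mul, zpow_two, hsq, one_zpow]
    · right
      rw [hk, zpow_add, zpow_mul, zpow_two, hsq, one_zpow, one_mul, zpow_one]
  have h1 := h.noff (zpowers g) (fun h0 => hg.ne_one (zpowers_eq_bot.1 h0))
    (fun a ha b hb => by
      rcases hmem a ha with rfl | rfl <;> rcases hmem b hb with rfl | rfl <;> simp)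
    (fun a ha => by
      rcases hmem a ha with rfl | rfl
      · exact one_mul 1
      · exact hsq)
  have h2 : Nat.card (zpowers g) = 2 := by
    rw [Nat.card_zpowers]
    exact orderOf_eq_prime (by rw [pow_two, hsq]) hg.ne_one
  have h3 : Nat.card {v : V // Fx (zpowers g) v} = Nat.card {u : V // χ u = 0} := by
    refine Nat.card_congr (Equiv.subtypeEquivRight fun v => ?_)
    rw [← hg.fix_iff]
    constructor
    · intro h4
      exact h4 g (mem_zpowers g)
    · intro h4 b hb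
      rcases hmem b hb with rfl | rfl
      · exact one_smul Y v
      · exact h4
  rw [h2, h3, card_ker hg.nz] at h1
  exact lt_irrefl _ h1

theorem f_fix {x : V} (hx : x ∈ MulAction.orbit Y z) {g : Y} (hg : g • x = x) (v : V) :
    f x (g • v) = f x v := by
  have h1 := h.f_smul g x hx
  rw [hg] at h1
  rw [h1, dua_apply, ← h1, inv_smul_smul]

/-- `B ∩ Z(Q_z) ≠ 1` -/
theorem exists_a [Finite Y] {B : Subgroup Y} (hB : B ∈ BB z) : ∃ a ∈ B, a ≠ 1 ∧ ∀ q ∈ Q z, a * q = q * a := by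
  have hne : ∃ n ∈ B, n ∉ (⊥ : Subgroup Y) := by
    by_contra hc
    push Not at hc
    exact (h.bb B hB).ne ((eq_bot_iff_forall B).2 fun x hx => mem_bot.1 (hc x hx))
  obtain ⟨n, hn, hn1, hn2⟩ := GTwoFour.Tools.exists_fixed_mod (M := ⊥) h.q_two (h.bb_le B hB)
    (fun y hy n hn => h.bb_norm B hB y hy n hn)
    (fun y _ m hm => by
      rw [mem_bot] at hm ⊢
      rw [hm, mul_one, mul_inv_cancel]) hne
  refine ⟨n, hn, fun h0 => hn1 (mem_bot.2 h0), fun q hq => ?_⟩
  have h3 := hn2 q hq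
  rw [mem_bot, commutatorElement_eq_one_iff_mul_comm] at h3
  exact h3.symm

/-- (SYM) at the base point -/
theorem symm_z [Finite Y] [Finite V] (hF : ∀ v : V, (∀ B ∈ BB z, Fx B v) → v = 0 ∨ v = z) {y : V}
    (hy : y ∈ MulAction.orbit Y z) (hzy : f z y = 0) : f y z = 0 := by
  obtain ⟨B, hB⟩ := h.bb_ne
  have hb := h.bb B hB
  obtain ⟨a, ha, ha1, hac⟩ := h.exists_a hB
  have hax : ∀ e : V, f z e = 0 → cm a e = 0 ∨ cm a e = z := by
    intro e he
    refine hF _ fun B' hB' => ?_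
    exact (h.bb B' hB').t1 h.f_ne (fun b hb' => hac b (h.bb_le B' hB' hb')) (hb.inv a ha) he
  refine hb.sym_pair h.f_ne ha hax ?_ hzy fun c hc => h.f_fix hy hc
  by_contra hc
  push Not at hc
  exact ha1 (eq_one_of_hyper h.faith h.nt (φ := f z) fun e he => (hax e he).resolve_right (hc e))

/-- symmetry from the base point -/
theorem symm_of_z (hS : ∀ y ∈ MulAction.orbit Y z, f z y = 0 → f y z = 0) {x y : V}
    (hx : x ∈ MulAction.orbit Y z) (hy : y ∈ MulAction.orbit Y z) : f x y = f y x := by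
  have key : ∀ x ∈ MulAction.orbit Y z, ∀ y ∈ MulAction.orbit Y z, f x y = 0 → f y x = 0 := by
    rintro _ ⟨g, rfl⟩ y hy hxy
    change f y (g • z) = 0
    have h1 : f (g • z) y = f z (g⁻¹ • y) := by
      rw [h.f_smul g z (MulAction.mem_orbit_self z), dua_apply]
    have hy' : g⁻¹ • y ∈ MulAction.orbit Y z := smul_orbit hy g⁻¹
    have h2 := hS _ hy' (h1 ▸ hxy)
    have h3 := h.f_smul g _ hy'
    rw [smul_inv_smul] at h3
    rw [h3, dua_apply, inv_smul_smul]
    exact h2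
  rcases zmod_cases (f x y) with h1 | h1
  · rw [h1, key x hx y hy h1]
  · rcases zmod_cases (f y x) with h2 | h2
    · rw [key y hy x hx h2] at h1
      exact absurd h1 zero_ne_one'
    · rw [h1, h2]

/-- **(SYM)** `f` is symmetric if `F₀(z) = ⟨z⟩` -/
theorem symm_of [Finite Y] [Finite V] (hF : ∀ v : V, (∀ B ∈ BB z, Fx B v) → v = 0 ∨ v = z) {x y : V}
    (hx : x ∈ MulAction.orbit Y z) (hy : y ∈ MulAction.orbit Y z) : f x y = f y x :=
  h.symm_of_z (fun _ hy hzy => h.symm_z hF hy hzy) hx hy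

/-- induction on `V = ⟨Ω⟩` -/
theorem induct {p : V → Prop} (h0 : p 0) (ho : ∀ x ∈ MulAction.orbit Y z, p x)
    (ha : ∀ v w, p v → p w → p (v + w)) (v : V) : p v := by
  have h1 : v ∈ Submodule.span (ZMod 2) (Set.range fun g : Y => g • z) := by
    rw [h.span]; trivial
  induction h1 using Submodule.span_induction with
  | mem x hx => exact ho x hx
  | zero => exact h0
  | add v w _ _ hv hw => exact ha v w hv hw
  | smul c v _ hv =>
    rcases zmod_cases c with hc | hc
    · rw [hc, zero_smul]; exact h0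
    · rw [hc, one_smul]; exact hv

/-- the form -/
theorem exists_lin (hs : ∀ x ∈ MulAction.orbit Y z, ∀ y ∈ MulAction.orbit Y z, f x y = f y x) :
    ∃ β : V →ₗ[ZMod 2] Du V, ∀ x ∈ MulAction.orbit Y z, β x = f x := by
  classical
  let Γ : Submodule (ZMod 2) (V × Du V) :=
    Submodule.span (ZMod 2) {p | ∃ x ∈ MulAction.orbit Y z, p = (x, f x)}
  have hΓ : ∀ p ∈ Γ, ∀ y ∈ MulAction.orbit Y z, p.2 y = f y p.1 := by
    intro p hp y hy
    induction hp using Submodule.span_induction with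
    | mem p hp =>
      obtain ⟨x, hx, rfl⟩ := hp
      exact hs x hx y hy
    | zero => simp
    | add p q _ _ hp hq =>
      rw [Prod.snd_add, Prod.fst_add, LinearMap.add_apply, map_add, hp, hq]
    | smul c p _ hp =>
      rw [Prod.smul_snd, Prod.smul_fst, LinearMap.smul_apply, map_smul, hp]
  have hex : ∀ v : V, ∃ φ : Du V, (v, φ) ∈ Γ := by
    intro v
    refine h.induct (p := fun v => ∃ φ : Du V, (v, φ) ∈ Γ) ⟨0, Γ.zero_mem⟩
      (fun x hx => ⟨f x, Submodule.subset_span ⟨x, hx, rfl⟩⟩) ?_ v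
    rintro v w ⟨φ, hφ⟩ ⟨ψ, hψ⟩
    exact ⟨φ + ψ, Γ.add_mem hφ hψ⟩
  have huniq : ∀ (v : V) (φ ψ : Du V), (v, φ) ∈ Γ → (v, ψ) ∈ Γ → φ = ψ := by
    intro v φ ψ hφ hψ
    refine LinearMap.ext fun w => ?_
    refine h.induct (p := fun w => φ w = ψ w) (by rw [map_zero, map_zero]) ?_ ?_ w
    · intro y hy
      have h1 := hΓ _ hφ y hy
      have h2 := hΓ _ hψ y hy
      exact h1.trans h2.symm
    · intro a b ha hb
      rw [map_add, map_add, ha, hb]
  choose g hg using hex
  refine ⟨{ toFun := g, map_add' := fun v w => ?_, map_smul' := fun c v => ?_ }, fun x hx => ?_⟩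
  · exact huniq (v + w) _ _ (hg _) (Γ.add_mem (hg v) (hg w))
  · exact huniq (c • v) _ _ (hg _) (Γ.smul_mem c (hg v))
  · exact huniq x _ _ (hg x) (Submodule.subset_span ⟨x, hx, rfl⟩)

section form

variable {β : V →ₗ[ZMod 2] Du V} (hs : ∀ x ∈ MulAction.orbit Y z, ∀ y ∈ MulAction.orbit Y z, f x y = f y x)
  (hβ : ∀ x ∈ MulAction.orbit Y z, β x = f x)
include hs hβ

theorem beta_symm (v w : V) : β v w = β w v := by
  refine h.induct (p := fun v => ∀ w : V, β v w = β w v) ?_ ?_ ?_ v w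
  · intro w
    rw [map_zero, map_zero]; rfl
  · intro x hx w
    refine h.induct (p := fun w => β x w = β w x) ?_ ?_ ?_ w
    · rw [map_zero, map_zero]; rfl
    · intro y hy
      rw [hβ x hx, hβ y hy, hs x hx y hy]
    · intro a b ha hb
      rw [map_add, map_add, LinearMap.add_apply, ha, hb]
  · intro a b ha hb w
    rw [map_add, map_add, LinearMap.add_apply, ha, hb]

omit hs in
theorem beta_inv (g : Y) (v w : V) : β (g • v) (g • w) = β v w := by
  refine h.induct (p := fun v => ∀ w : V, β (g • v) (g • w) = β v w) ?_ ?_ ?_ v w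
  · intro w
    rw [smul_zero, map_zero]; rfl
  · intro x hx w
    rw [hβ _ (smul_orbit hx g), h.f_smul g x hx, dua_apply, inv_smul_smul, hβ x hx]
  · intro a b ha hb w
    rw [smul_add, map_add, map_add, LinearMap.add_apply, LinearMap.add_apply, ha, hb]

theorem beta_alt (v : V) : β v v = 0 := by
  refine h.induct (p := fun v => β v v = 0) ?_ ?_ ?_ v
  · rw [map_zero]
  · rintro _ ⟨g, rfl⟩
    change β (g • z) (g • z) = 0
    rw [h.beta_inv hβ, hβ z (MulAction.mem_orbit_self z), h.f_self]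
  · intro a b ha hb
    rw [map_add, map_add, LinearMap.add_apply, LinearMap.add_apply, ha, hb, h.beta_symm hs hβ a b,
      zero_add, add_zero, add_self]

omit hs in
theorem beta_nondeg [Finite Y] [Finite V] (v : V) (hv : β v = 0) : v = 0 := by
  by_contra hne
  have hW : Inv Y (LinearMap.ker β) := by
    intro g w hw
    rw [LinearMap.mem_ker] at hw ⊢
    refine LinearMap.ext fun u => ?_
    have h1 := h.beta_inv hβ g w (g⁻¹ • u)
    rw [smul_inv_smul] at h1
    rw [h1, hw]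
    rfl
  let := subAct hW
  have h1 : (⟨v, hv⟩ : LinearMap.ker β) ≠ 0 := fun h2 => hne (congrArg Subtype.val h2)
  obtain ⟨w0, hw0, hT⟩ := exists_fixed (Q := T) T.isPGroup' h1
  have h2 : (w0 : V) ≠ 0 := fun h3 => hw0 (Subtype.ext h3)
  have h3 := (h.fixT (w0 : V) fun t ht => congrArg Subtype.val (hT ⟨t, ht⟩)).resolve_left h2
  have h4 : β (w0 : V) = 0 := w0.2
  rw [h3, hβ z (MulAction.mem_orbit_self z)] at h4
  exact h.f_ne h4

omit hs in
theorem beta_adj {g : Y} (hg : g * g = 1) (u w : V) : β (cm g u) w = β u (cm g w) := by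
  have h1 := h.beta_inv hβ g (g • u) w
  rw [smul_smul, hg, one_smul] at h1
  rw [cm, cm, map_add, map_add, LinearMap.add_apply, ← h1]

omit hs in
theorem beta_inj [Finite Y] [Finite V] {v w : V} (hv : β v = β w) : v = w := by
  refine eq_of_add (h.beta_nondeg hβ _ ?_)
  rw [map_add, hv]
  exact add_self _

omit hs in
/-- **(c)**: `[E, B] ≤ ⟨z⟩` -/
theorem cm_eq [Finite Y] [Finite V] {B : Subgroup Y} (hB : B ∈ BB z) {b : Y} (hb : b ∈ B) {e : V}
    (he : f z e = 0) : cm b e = 0 ∨ cm b e = z := by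
  have hN := h.bb B hB
  have h1 : ∀ e' : V, f z e' = 0 → β (cm b e) e' = 0 := by
    intro e' he'
    obtain ⟨v, hv⟩ := exists_one h.f_ne
    obtain ⟨b', hb', hd⟩ := hN.surj v e' hv he'
    have h2 : e' = cm b' v + (cm b' v + e') := by
      rw [← add_assoc, add_self, zero_add]
    rw [h2, map_add, ← h.beta_adj hβ (hN.sq b' hb'), cm_eq_zero.2 (hN.ed e he b hb b' hb'), map_zero,
      h.beta_adj hβ (hN.sq b hb), cm_eq_zero.2 (hd b hb), map_zero, LinearMap.zero_apply, add_zero]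
  rcases eq_of_hyper h1 with h2 | h2
  · exact Or.inl (h.beta_nondeg hβ _ h2)
  · right
    rw [← hβ z (MulAction.mem_orbit_self z)] at h2
    exact h.beta_inj hβ h2

omit hs in
/-- **(c)**: `B ≤ R_z` -/
theorem le_KK [Finite Y] [Finite V] {B : Subgroup Y} (hB : B ∈ BB z) : B ≤ KK Y z (f z) := by
  intro b hb
  rw [mem_KK_iff]
  exact ⟨h.q_fix b (h.bb_le B hB hb), (h.bb B hB).inv b hb, fun e he => h.cm_eq hβ hB hb he⟩

end form

/-- `|B| ≥ 4` -/
theorem four_le [Finite Y] [Finite V] {B : Subgroup Y} (hB : B ∈ BB z) : 4 ≤ Nat.card B := by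
  classical
  have hN := h.bb B hB
  obtain ⟨b, hb, hb1⟩ : ∃ b ∈ B, b ≠ 1 := by
    by_contra hc
    push Not at hc
    exact hN.ne ((eq_bot_iff_forall B).2 hc)
  obtain ⟨e, he, hbe⟩ : ∃ e : V, f z e = 0 ∧ cm b e ≠ 0 := by
    by_contra hc
    push Not at hc
    exact hb1 (eq_one_of_hyper h.faith h.nt (φ := f z) hc)
  obtain ⟨v, hv⟩ := exists_one h.f_ne
  obtain ⟨a, ha, hd⟩ := hN.surj v e hv he
  have h2 : cm b (cm a v) ≠ 0 := by
    intro h0
    apply hbe
    have h3 : e = cm a v + (cm a v + e) := by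
      rw [← add_assoc, add_self, zero_add]
    rw [h3, cm_add, h0, cm_eq_zero.2 (hd b hb), add_zero]
  have ha1 : a ≠ 1 := by
    rintro rfl
    exact h2 (by rw [cm_one, cm_zero])
  have hab : a ≠ b := by
    rintro rfl
    exact h2 (cm_eq_zero.2 (hN.smul_cm_self ha v))
  have hab' : a * b ≠ 1 := by
    intro h0
    apply hab
    rw [eq_inv_of_mul_eq_one_left h0, inv_eq_of_mul_eq_one_left (hN.sq b hb)]
  have hf : Function.Injective (![⟨1, one_mem B⟩, ⟨a, ha⟩, ⟨b, hb⟩, ⟨a * b, mul_mem ha hb⟩] : Fin 4 → B) := by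
    intro i j hij
    have hij' := congrArg Subtype.val hij
    fin_cases i <;> fin_cases j <;> simp at hij' ⊢
    map_tacs [(exact absurd hij'.symm ha1); (exact absurd hij'.symm hb1); (exact absurd hij'.symm hab'); (exact absurd hij' ha1); (exact absurd hij' hab);
     (exact absurd hij' hb1); (exact absurd hij' hb1); (exact absurd hij'.symm hab); (exact absurd hij' ha1); (exact absurd hij' hab');
     (exact absurd hij' hb1); (exact absurd hij' ha1)]
  have h5 := Nat.card_le_card_of_injective _ hf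
  rwa [Nat.card_fin] at h5

/-- **`f` symmetric ⟹ the symplectic datum `Sp`** (hypotheses of BT4). -/
theorem exists_sp [Finite Y] [Finite V]
    (hs : ∀ x ∈ MulAction.orbit Y z, ∀ y ∈ MulAction.orbit Y z, f x y = f y x) :
    ∃ β : V →ₗ[ZMod 2] Du V, Sp T M z β ∧ ∀ x ∈ MulAction.orbit Y z, β x = f x := by
  obtain ⟨β, hβ⟩ := h.exists_lin hs
  have hz := MulAction.mem_orbit_self (M := Y) z
  obtain ⟨B, hB⟩ := h.bb_ne
  refine ⟨β, ⟨h.faith, h.le, h.ne, h.max, h.z_ne, h.z_fix, h.fixT, h.span, h.noff, h.beta_symm hs hβ,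
    h.beta_alt hs hβ, h.beta_nondeg hβ, h.beta_inv hβ, ?_, ?_⟩, hβ⟩
  · rintro _ ⟨g, rfl⟩
    have h1 : β (g • z) = dua g (β z) := by
      rw [hβ _ (smul_orbit hz g), h.f_smul g z hz, hβ z hz]
    change 4 ≤ Nat.card (KK Y (g • z) (β (g • z)))
    rw [h1, card_KK_conj, hβ z hz]
    exact (h.four_le hB).trans (Nat.card_le_card_of_injective _ (inclusion_injective (h.le_KK hβ hB)))
  · have key : ∀ y ∈ MulAction.orbit Y z, Fx (KK Y z (β z)) y → y = z := by
      intro y hy hfx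
      have h1 : Fx B y := fun b hb => hfx b (by rw [hβ z hz]; exact h.le_KK hβ hB hb)
      have h2 := h.star B hB y hy h1
      rw [← hβ y hy, ← hβ z hz] at h2
      exact h.beta_inj hβ h2
    rintro _ ⟨g, rfl⟩ y hy hfx
    change y = g • z
    have h1 : β (g • z) = dua g (β z) := by
      rw [hβ _ (smul_orbit hz g), h.f_smul g z hz, hβ z hz]
    have h2 : g⁻¹ • y = z := by
      refine key _ (smul_orbit hy g⁻¹) fun b hb => ?_
      have h3 : g * b * g⁻¹ ∈ KK Y (g • z) (β (g • z)) := by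
        rw [h1]
        exact conj_mem_KK hb g
      have h4 := hfx _ h3
      rw [mul_smul, mul_smul] at h4
      rw [eq_inv_smul_iff.mpr h4]
    rw [← h2, smul_inv_smul]

/-- `F₀(z) = ⟨z⟩` ⟹ `[V, R_z] + ⟨z⟩ = E`: the hypotheses of BT2 -/
theorem hyp [Finite Y] [Finite V] (hF : ∀ v : V, (∀ B ∈ BB z, Fx B v) → v = 0 ∨ v = z) :
    Hyp Y V T M z (f z) (KK Y z (f z)) := by
  have hnt := h.nt
  have hz := MulAction.mem_orbit_self (M := Y) z
  have hs := fun x hx y hy => h.symm_of hF (x := x) (y := y) hx hy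
  obtain ⟨β, hβ⟩ := h.exists_lin hs
  obtain ⟨v, hv⟩ := exists_one h.f_ne
  refine ⟨h.faith, h.le, h.ne, h.max, h.z_ne, h.z_fix, h.fixT, h.span, h.f_ne, h.f_self,
    fun g hg => h.f_fix hz hg, fun a ha b hb => KK_comm h.faith hnt ha hb, fun b hb => KK_sq h.faith hnt hb,
    fun b hb => hb.2.1, fun b hb => hb.2.2, ?_, hnt, ?_⟩
  · -- the subspace `[v, R_z] + ⟨z⟩`
    let W : Submodule (ZMod 2) V :=
      { carrier := {w | ∃ a ∈ KK Y z (f z), w = cm a v ∨ w = cm a v + z}
        zero_mem' := ⟨1, one_mem _, Or.inl (cm_one v).symm⟩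
        add_mem' := by
          rintro w w' ⟨a, ha, hw⟩ ⟨b, hb, hw'⟩
          have h1 : cm a (cm b v) = 0 ∨ cm a (cm b v) = z := by
            refine (mem_KK_iff.1 ha).2.2 _ ?_
            rw [cm, map_add, hb.2.1, add_self]
          have h2 := cm_mul a b v
          refine ⟨a * b, mul_mem ha hb, ?_⟩
          rw [h2]
          have h3 : z + z = 0 := add_self z
          rcases h1 with h1 | h1 <;> rcases hw with rfl | rfl <;> rcases hw' with rfl | rfl <;>
            rw [h1]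
          · left; abel
          · right; abel
          · right; abel
          · left
            have : cm a v + z + (cm b v + z) = cm a v + cm b v + (z + z) := by abel
            rw [this, h3]
          · right
            have : cm a v + cm b v + z + z = cm a v + cm b v + (z + z) := by abel
            rw [this, h3, add_zero]
          · left; abel
          · left; abel
          · right
            have : cm a v + z + (cm b v + z) = cm a v + cm b v + z + z := by abel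
            rw [this]
        smul_mem' := by
          rintro c w ⟨a, ha, hw⟩
          rcases zmod_cases c with hc | hc
          · exact ⟨1, one_mem _, Or.inl (by rw [hc, zero_smul, cm_one])⟩
          · exact ⟨a, ha, by rw [hc, one_smul]; exact hw⟩ }
    have hWE : ∀ e : V, f z e = 0 → e ∈ W := by
      intro e he
      by_contra hcon
      obtain ⟨ψ, hψ, hψW⟩ := Submodule.exists_le_ker_of_notMem hcon
      obtain ⟨u, rfl⟩ : ∃ u, β u = ψ := by
        have h1 : Function.Injective β := fun a b hab => h.beta_inj hβ hab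
        have h2 : Function.Surjective β :=
          (LinearMap.injective_iff_surjective_of_finrank_eq_finrank
            (Subspace.dual_finrank_eq (K := ZMod 2) (V := V)).symm).1 h1
        exact h2 ψ
      have hperp : ∀ w ∈ W, β u w = 0 := fun w hw => hψW hw
      have hzW : β u z = 0 := hperp z ⟨1, one_mem _, Or.inr (by rw [cm_one, zero_add])⟩
      have huE : f z u = 0 := by
        rw [← hβ z hz, h.beta_symm hs hβ]
        exact hzW
      have h1 : u = 0 ∨ u = z := by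
        refine hF u fun B hB b hb => ?_
        have hbK := h.le_KK hβ hB hb
        have h2 : β (cm b u) v = 0 := by
          rw [h.beta_adj hβ ((h.bb B hB).sq b hb)]
          exact hperp _ ⟨b, hbK, Or.inl rfl⟩
        rcases h.cm_eq hβ hB hb huE with h3 | h3
        · exact cm_eq_zero.1 h3
        · rw [h3, hβ z hz, hv] at h2
          exact absurd h2 one_ne
      rcases h1 with rfl | rfl
      · exact hψ (by rw [map_zero]; rfl)
      · exact hψ (by rw [hβ u hz]; exact he)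
    let F : KK Y z (f z) × ZMod 2 → {u : V // f z u = 0} := fun p =>
      ⟨cm (p.1 : Y) v + p.2 • z, by
        rw [map_add, map_smul, h.f_self, smul_zero, add_zero, cm, map_add, p.1.2.2.1, add_self]⟩
    have hF1 : Function.Injective F := by
      rintro ⟨⟨a, ha⟩, c⟩ ⟨⟨b, hb⟩, d⟩ hab
      have h1 : cm a v + c • z = cm b v + d • z := congrArg Subtype.val hab
      have h2 : cm (a * b) v + cm a (cm b v) = (c + d) • z := by
        have h3 : cm a v = cm b v + d • z + c • z := by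
          rw [← h1, add_add_self]
        rw [cm_mul, add_add_self, h3, add_smul]
        have h4 : cm b v + d • z + c • z + cm b v = c • z + d • z + (cm b v + cm b v) := by abel
        rw [h4, add_self, add_zero]
      have hz2 : ∀ c : ZMod 2, c • z = 0 ∨ c • z = z := by
        intro c
        rcases zmod_cases c with hc | hc
        · left; rw [hc, zero_smul]
        · right; rw [hc, one_smul]
      have hbE : f z (cm b v) = 0 := by rw [cm, map_add, hb.2.1, add_self]
      have habK : a * b ∈ KK Y z (f z) := mul_mem ha hb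
      have h3 : cm (a * b) v = 0 ∨ cm (a * b) v = z := by
        have h4 : cm (a * b) v = (c + d) • z + cm a (cm b v) := by
          rw [← h2, add_add_self]
        rw [h4]
        rcases hz2 (c + d) with h5 | h5 <;> rcases (mem_KK_iff.1 ha).2.2 _ hbE with h6 | h6 <;>
          rw [h5, h6]
        · left; rw [add_zero]
        · right; rw [zero_add]
        · right; rw [add_zero]
        · left; exact add_self z
      have h4 : a * b = 1 := by
        refine eq_one_of h.faith hnt h.z_ne fun u => ?_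
        rcases zmod_cases (f z u) with h5 | h5
        · exact habK.2.2 u h5
        · have h6 : f z (u + v) = 0 := by rw [map_add, h5, hv, one_add_one]
          have h7 : cm (a * b) u = cm (a * b) (u + v) + cm (a * b) v := by
            rw [cm_add, add_add_self]
          have h8 : cm (a * b) u = 0 ∨ cm (a * b) u = z := by
            rw [h7]
            rcases (mem_KK_iff.1 habK).2.2 _ h6 with h9 | h9 <;> rcases h3 with h10 | h10 <;>
              rw [h9, h10]
            · left; rw [add_zero]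
            · right; rw [zero_add]
            · right; rw [add_zero]
            · left; exact add_self z
          rcases h8 with h9 | h9
          · left; exact cm_eq_zero.1 h9
          · right; rw [smul_eq_add_cm, h9]
      have h5 : a = b := by
        rw [eq_inv_of_mul_eq_one_left h4, inv_eq_of_mul_eq_one_left (KK_sq h.faith hnt hb)]
      subst h5
      have h6 : c • z = d • z := add_left_cancel h1
      have h7 : c = d := by
        by_contra hcd
        have h8 : (c - d) • z = 0 := by rw [sub_smul, h6, sub_self]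
        rw [eq_one_of_ne (sub_ne_zero.2 hcd), one_smul] at h8
        exact h.z_ne h8
      subst h7
      rfl
    have hF2 : Function.Surjective F := by
      rintro ⟨e, he⟩
      obtain ⟨a, ha, hw | hw⟩ := hWE e he
      · refine ⟨⟨⟨a, ha⟩, 0⟩, Subtype.ext ?_⟩
        change cm a v + (0 : ZMod 2) • z = e
        rw [zero_smul, add_zero, hw]
      · refine ⟨⟨⟨a, ha⟩, 1⟩, Subtype.ext ?_⟩
        change cm a v + (1 : ZMod 2) • z = e
        rw [one_smul, hw]
    have h1 := Nat.card_congr (Equiv.ofBijective F ⟨hF1, hF2⟩)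
    rw [Nat.card_prod, Nat.card_zmod] at h1
    have h2 := card_ker h.f_ne
    omega
  · intro A hA hsq hcard
    have h1 := h.noff A (fun h0 => by rw [h0, card_bot] at hA; omega) (fun a ha b hb => by
      have h1 := hsq _ (mul_mem ha hb)
      rw [eq_inv_of_mul_eq_one_left h1, mul_inv_rev, inv_eq_of_mul_eq_one_left (hsq a ha),
        inv_eq_of_mul_eq_one_left (hsq b hb)]) hsq
    rw [hA, hcard] at h1
    exact lt_irrefl _ h1

/-- **`F₀(z) = ⟨z⟩` ⟹ the five points** -/
theorem five [Finite Y] [Finite V] (hF : ∀ v : V, (∀ B ∈ BB z, Fx B v) → v = 0 ∨ v = z) :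
    ∃ w : Fin 5 → V, FivePts Y z w := (h.hyp hF).main

end Dat

end Cfsg.Agent.Omega.NearFF

end

section


/-!
# (BT), `|V/E| = 2`: the KEY LEMMA of helper620 (#16277) (project OMEGA, leaf N1)

`β(b, a) = [v, b, a]` (`v ∉ E_z`).  `A ⊆ B` is good if for all `b ∈ B` either `β(b, A) = 0` or
`β(B, A) ≤ ⟨β(b, A)⟩`.

* `Dat.symm_of_good` : (C4), a good `A ≠ 1` ⟹ `f` is symmetric;
* `Dat.symm_of_two` : KEY LEMMA, `|[E, b]| = 2` for some `b ∈ B ∈ BB z` ⟹ `f` is symmetric.
-/

set_option autoImplicit false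
set_option linter.unusedSectionVars false

namespace Cfsg.Agent.Omega.NearFF

open Subgroup Cfsg.Agent.Omega.Transv

variable {Y : Type*} [Group Y] {V : Type*} [AddCommGroup V] [Module (ZMod 2) V] [DistribMulAction Y V]

/-- `A ⊆ B` is good -/
structure Good (φ : Du V) (B : Subgroup Y) (A : Set Y) : Prop where
  sub : ∀ a ∈ A, a ∈ B
  good : ∀ v : V, φ v = 1 → ∀ b ∈ B, (∀ a ∈ A, cm a (cm b v) = 0) ∨
    ∀ a ∈ A, ∀ b' ∈ B, cm a (cm b' v) ∈ Submodule.span (ZMod 2) {w : V | ∃ a' ∈ A, w = cm a' (cm b v)}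

theorem smul_cm_inv (g b : Y) (v : V) : cm (g * b * g⁻¹) v = g • cm b (g⁻¹ • v) := by
  rw [smul_cm_conj, smul_inv_smul]

theorem Good.conj {φ : Du V} {B : Subgroup Y} {A : Set Y} (h : Good φ B A) {g : Y}
    (hg : ∀ v : V, φ (g • v) = φ v) :
    Good φ (B.map (MulAut.conj g).toMonoidHom) ((fun a => g * a * g⁻¹) '' A) where
  sub := by
    rintro _ ⟨a, ha, rfl⟩
    exact ⟨a, h.sub a ha, rfl⟩
  good := by
    intro v hv b hb
    obtain ⟨b0, hb0, hbb⟩ := hb
    obtain rfl : g * b0 * g⁻¹ = b := hbb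
    have hv' : φ (g⁻¹ • v) = 1 := by rw [← hg, smul_inv_smul, hv]
    have key : ∀ a c : Y, cm (g * a * g⁻¹) (cm (g * c * g⁻¹) v) = g • cm a (cm c (g⁻¹ • v)) := by
      intro a c
      rw [smul_cm_inv g c, ← smul_cm_conj]
    rcases h.good _ hv' b0 hb0 with h1 | h1
    · left
      rintro _ ⟨a, ha, rfl⟩
      change cm (g * a * g⁻¹) (cm (g * b0 * g⁻¹) v) = 0
      rw [key, h1 a ha, smul_zero]
    · right
      rintro _ ⟨a, ha, rfl⟩ b' hb'
      obtain ⟨b1, hb1, hbb'⟩ := hb'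
      obtain rfl : g * b1 * g⁻¹ = b' := hbb'
      change cm (g * a * g⁻¹) (cm (g * b1 * g⁻¹) v) ∈ _
      rw [key]
      have h2 : Submodule.span (ZMod 2) {w : V | ∃ a' ∈ A, w = cm a' (cm b0 (g⁻¹ • v))} ≤
          (Submodule.span (ZMod 2) {w : V | ∃ a' ∈ (fun a => g * a * g⁻¹) '' A,
            w = cm a' (cm (g * b0 * g⁻¹) v)}).comap (lin g) := by
        rw [Submodule.span_le]
        rintro _ ⟨a', ha', rfl⟩
        refine Submodule.subset_span ⟨g * a' * g⁻¹, ⟨a', ha', rfl⟩, ?_⟩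
        change g • cm a' (cm b0 (g⁻¹ • v)) = _
        rw [key]
      exact h2 (h1 a ha b1 hb1)

/-- `f_y` vanishes on `β(B, A)` -/
theorem NB.good {φ : Du V} {B : Subgroup Y} (h : NB φ B) {A : Set Y} (hA : Good φ B A) {ψ : Du V}
    {y : V} (hy : φ y = 0) (hψ : ∀ c : Y, c • y = y → ∀ v : V, ψ (c • v) = ψ v) {v : V} (hv : φ v = 1)
    {a b : Y} (ha : a ∈ A) (hb : b ∈ B) : ψ (cm a (cm b v)) = 0 := by
  have key : ∀ c : Y, c • y = y → ∀ v : V, ψ (cm c v) = 0 := by
    intro c hc v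
    rw [cm, map_add, hψ c hc, add_self]
  obtain ⟨c, hc, hd⟩ := h.surj v y hv hy
  have h1 : y = cm c v + (cm c v + y) := by
    rw [← add_assoc, add_self, zero_add]
  have hcy : c • y = y := by
    conv_lhs => rw [h1, smul_add, h.smul_cm_self hc, hd c hc]
    exact h1.symm
  rcases hA.good v hv c hc with h2 | h2
  · -- `A` fixes `y`
    have h3 : a • y = y := by
      rw [← cm_eq_zero, h1, cm_add, h2 a ha, cm_eq_zero.2 (hd a (hA.sub a ha)), add_zero]
    exact key a h3 _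
  · have h3 : Submodule.span (ZMod 2) {w : V | ∃ a' ∈ A, w = cm a' (cm c v)} ≤ LinearMap.ker ψ := by
      rw [Submodule.span_le]
      rintro _ ⟨a', ha', rfl⟩
      change ψ (cm a' (cm c v)) = 0
      rw [cm_comm (h.comm a' (hA.sub a' ha') c hc)]
      exact key c hcy _
    exact h3 (h2 a ha b hb)

namespace Dat

variable {T : Sylow 2 Y} {M : Subgroup Y} {z : V} {f : V → Du V} {Q : V → Subgroup Y}
  {BB : V → Set (Subgroup Y)} (h : Dat T M z f Q BB)
include h

/-- a `T`-invariant subspace `≠ 0` contains `z` -/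
theorem z_mem [Finite Y] [Finite V] {W : Submodule (ZMod 2) V} (hW : ∀ t ∈ T, ∀ w ∈ W, t • w ∈ W) {w : V}
    (hw : w ∈ W) (hw0 : w ≠ 0) : z ∈ W := by
  let : DistribMulAction T W :=
    { smul := fun t w => ⟨(t : Y) • (w : V), hW t t.2 w w.2⟩
      one_smul := fun w => Subtype.ext (one_smul Y (w : V))
      mul_smul := fun s t w => Subtype.ext (mul_smul (s : Y) (t : Y) (w : V))
      smul_zero := fun t => Subtype.ext (smul_zero (t : Y))
      smul_add := fun t v w => Subtype.ext (smul_add (t : Y) (v : V) (w : V)) }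
  have h1 : (⟨w, hw⟩ : W) ≠ 0 := fun h2 => hw0 (congrArg Subtype.val h2)
  obtain ⟨w0, hw1, hT⟩ := exists_fixed (Q := T) T.isPGroup' h1
  have h2 : (w0 : V) ≠ 0 := fun h3 => hw1 (Subtype.ext h3)
  have h3 := (h.fixT (w0 : V) fun t ht => congrArg Subtype.val (hT ⟨t, ht⟩)).resolve_left h2
  rw [← h3]
  exact w0.2

/-- **(C4)** of #16277 -/
theorem symm_of_good [Finite Y] [Finite V] {B : Subgroup Y} (hB : B ∈ BB z) {A : Set Y}
    (hA : Good (f z) B A) {a : Y} (ha : a ∈ A) (ha1 : a ≠ 1) {x y : V}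
    (hx : x ∈ MulAction.orbit Y z) (hy : y ∈ MulAction.orbit Y z) : f x y = f y x := by
  refine h.symm_of_z (fun y hy hzy => ?_) hx hy
  have hz := MulAction.mem_orbit_self (M := Y) z
  let W : Submodule (ZMod 2) V := Submodule.span (ZMod 2) {w : V | ∃ B ∈ BB z, ∃ A : Set Y,
    Good (f z) B A ∧ ∃ a ∈ A, ∃ b ∈ B, ∃ v : V, f z v = 1 ∧ w = cm a (cm b v)}
  have hW : ∀ t ∈ T, ∀ w ∈ W, t • w ∈ W := by
    intro t ht w hw
    have htz : t • z = z := h.z_fix t ht
    have h1 : W ≤ W.comap (lin t) := by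
      rw [Submodule.span_le]
      rintro _ ⟨B, hB, A, hA, a, ha, b, hb, v, hv, rfl⟩
      have h2 := h.bb_smul t z hz B hB
      rw [htz] at h2
      refine Submodule.subset_span ⟨_, h2, _, hA.conj (g := t) fun v => h.f_fix hz htz v,
        t * a * t⁻¹, ⟨a, ha, rfl⟩, t * b * t⁻¹, ⟨b, hb, rfl⟩, t • v, ?_, ?_⟩
      · rw [h.f_fix hz htz, hv]
      · change t • cm a (cm b v) = _
        rw [smul_cm_conj, smul_cm_conj]
    exact h1 hw
  have hker : W ≤ LinearMap.ker (f y) := by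
    rw [Submodule.span_le]
    rintro _ ⟨B, hB, A, hA, a, ha, b, hb, v, hv, rfl⟩
    exact (h.bb B hB).good hA hzy (fun c hc => h.f_fix hy hc) hv ha hb
  -- `β(a, B) ≠ 0`
  have hN := h.bb B hB
  obtain ⟨v, hv⟩ := exists_one h.f_ne
  obtain ⟨e, he, hae⟩ : ∃ e : V, f z e = 0 ∧ cm a e ≠ 0 := by
    by_contra hc
    push Not at hc
    exact ha1 (eq_one_of_hyper h.faith h.nt (φ := f z) hc)
  obtain ⟨b, hb, hd⟩ := hN.surj v e hv he
  have h2 : cm a (cm b v) ≠ 0 := by
    intro h0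
    apply hae
    have h3 : e = cm b v + (cm b v + e) := by
      rw [← add_assoc, add_self, zero_add]
    rw [h3, cm_add, h0, cm_eq_zero.2 (hd a (hA.sub a ha)), add_zero]
  exact hker (h.z_mem hW (Submodule.subset_span ⟨B, hB, A, hA, a, ha, b, hb, v, hv, rfl⟩) h2)

/-- **KEY LEMMA** of #16277: `|[E, b]| = 2` for some `1 ≠ b ∈ B` ⟹ `f` symmetric -/
theorem symm_of_two [Finite Y] [Finite V] {B : Subgroup Y} (hB : B ∈ BB z) {b : Y} (hb : b ∈ B)
    (hb1 : b ≠ 1) {w : V} (hw : ∀ e : V, f z e = 0 → cm b e = 0 ∨ cm b e = w) {x y : V}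
    (hx : x ∈ MulAction.orbit Y z) (hy : y ∈ MulAction.orbit Y z) : f x y = f y x := by
  refine h.symm_of_good hB (A := {b}) ⟨?_, ?_⟩ (Set.mem_singleton b) hb1 hx hy
  · rintro a rfl
    exact hb
  · intro v hv c hc
    have hcv : ∀ c ∈ B, cm b (cm c v) = 0 ∨ cm b (cm c v) = w := fun c hc =>
      hw _ ((h.bb B hB).cm_mem hc v)
    rcases hcv c hc with h1 | h1
    · left
      rintro a rfl
      exact h1
    · right
      rintro a rfl b' hb'
      rcases hcv b' hb' with h2 | h2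
      · rw [h2]
        exact Submodule.zero_mem _
      · rw [h2]
        exact Submodule.subset_span ⟨a, Set.mem_singleton a, h1.symm⟩

end Dat

end Cfsg.Agent.Omega.NearFF

end

section


/-!
# (BT), `|V/E| = 2`: (UP) of #14096 (helper620) and #15976 (0) (helper897) (project OMEGA, leaf N1)

* `Dat.stab_le` : `C_Y(f_z) ≤ M`;
* `Dat.fix_f` : `B ∈ BB z` fixes exactly one member of `f^Y`;
* `Dat.up` : `B ∈ BB z` lies in exactly one conjugate of `M`;
* `Dat.exists_pt` : a 2-group fixing `f_x` fixes some `y ∈ Ω` with `f_y = f_x`;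
* `Dat.arrow` : `C_B(f_y) ≠ 1 ⟺` some `y' ∈ Ω ∩ E_z` has `f_{y'} = f_y`.
-/

set_option autoImplicit false
set_option linter.unusedSectionVars false

namespace Cfsg.Agent.Omega.NearFF

open Subgroup Cfsg.Agent.Omega.Transv

variable {Y : Type*} [Group Y] {V : Type*} [AddCommGroup V] [Module (ZMod 2) V] [DistribMulAction Y V]

theorem dua_one (φ : Du V) : dua (1 : Y) φ = φ := by
  ext v
  rw [dua_apply, inv_one, one_smul]

theorem dua_mul (g k : Y) (φ : Du V) : dua (g * k) φ = dua g (dua k φ) := by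
  ext v
  rw [dua_apply, dua_apply, dua_apply, mul_inv_rev, mul_smul]

/-- the stabiliser of a form -/
def stabF (Y : Type*) {V : Type*} [Group Y] [AddCommGroup V] [Module (ZMod 2) V] [DistribMulAction Y V]
    (φ : Du V) : Subgroup Y where
  carrier := {g | dua g φ = φ}
  one_mem' := dua_one φ
  mul_mem' := by
    rintro a b ha hb
    change dua (a * b) φ = φ
    rw [dua_mul, hb, ha]
  inv_mem' := by
    rintro a ha
    change dua a⁻¹ φ = φ
    conv_lhs => rw [← (show dua a φ = φ from ha), dua_inv]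

theorem mem_stabF {φ : Du V} {g : Y} : g ∈ stabF Y φ ↔ dua g φ = φ := Iff.rfl

theorem stabF_apply {φ : Du V} {g : Y} (hg : g ∈ stabF Y φ) (v : V) : φ (g • v) = φ v := by
  have h1 : dua g φ (g • v) = φ (g • v) := by rw [mem_stabF.1 hg]
  rw [dua_apply, inv_smul_smul] at h1
  exact h1.symm

namespace Dat

variable {T : Sylow 2 Y} {M : Subgroup Y} {z : V} {f : V → Du V} {Q : V → Subgroup Y}
  {BB : V → Set (Subgroup Y)} (h : Dat T M z f Q BB)
include h

theorem f_orbit (g : Y) : f (g • z) = dua g (f z) := h.f_smul g z (MulAction.mem_orbit_self z)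

theorem T_le_stab : (T : Subgroup Y) ≤ stabF Y (f z) := by
  intro t ht
  rw [mem_stabF, ← h.f_orbit, h.z_fix t ht]

/-- `C_Y(f_z) ≤ M` -/
theorem stab_le : stabF Y (f z) ≤ M := by
  refine (h.max _ h.T_le_stab).resolve_right fun htop => ?_
  apply h.f_ne
  refine LinearMap.ext fun v => ?_
  refine h.induct (p := fun v => f z v = 0) (map_zero _) ?_ ?_ v
  · rintro _ ⟨g, rfl⟩
    change f z (g • z) = 0
    rw [stabF_apply (htop ▸ mem_top g), h.f_self]
  · intro a b ha hb
    rw [map_add, ha, hb, add_zero]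

/-- a 2-group inside a subgroup over `T` is conjugate there into `T` -/
theorem exists_conj [Finite Y] {K : Subgroup Y} (hK : (T : Subgroup Y) ≤ K) {R : Subgroup Y}
    (hR : IsPGroup 2 R) (hRK : R ≤ K) : ∃ k ∈ K, ∀ r ∈ R, k⁻¹ * r * k ∈ T := by
  have : Fact (Nat.Prime 2) := ⟨Nat.prime_two⟩
  let TK : Sylow 2 K := T.subtype hK
  have hRK' : IsPGroup 2 (R.subgroupOf K) := hR.comap_of_injective K.subtype Subtype.coe_injective
  obtain ⟨P, hP⟩ := hRK'.exists_le_sylow
  obtain ⟨k, hk⟩ := MulAction.exists_smul_eq K TK P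
  refine ⟨k, k.2, fun r hr => ?_⟩
  have h1 : (⟨r, hRK hr⟩ : K) ∈ (P : Subgroup K) := hP hr
  rw [← hk, Sylow.coe_subgroup_smul, Subgroup.mem_pointwise_smul_iff_inv_smul_mem] at h1
  have h2 : ((k⁻¹ * ⟨r, hRK hr⟩ * k : K)) ∈ (TK : Subgroup K) := by
    have h3 : (MulAut.conj k)⁻¹ • (⟨r, hRK hr⟩ : K) = k⁻¹ * ⟨r, hRK hr⟩ * k := by
      rw [← map_inv, MulAut.smul_def, MulAut.conj_apply, inv_inv]
    rwa [h3] at h1
  exact h2

/-- a 2-group fixing `f (g • z)` fixes some `y ∈ Ω` with `f y = f (g • z)` -/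
theorem exists_pt [Finite Y] {R : Subgroup Y} (hR : IsPGroup 2 R) {g : Y}
    (hf : R ≤ stabF Y (f (g • z))) : ∃ k ∈ stabF Y (f (g • z)), Fx R ((k * g) • z) ∧
      f ((k * g) • z) = f (g • z) := by
  let R' : Subgroup Y := R.map (MulAut.conj g⁻¹).toMonoidHom
  have hR' : IsPGroup 2 R' := hR.map _
  have hle : R' ≤ stabF Y (f z) := by
    rintro _ ⟨r, hr, rfl⟩
    change dua (g⁻¹ * r * g⁻¹⁻¹) (f z) = f z
    rw [inv_inv, dua_mul, dua_mul, ← h.f_orbit, mem_stabF.1 (hf hr), h.f_orbit, dua_inv]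
  obtain ⟨k, hk, hkT⟩ := h.exists_conj h.T_le_stab hR' hle
  have hk2 : g * k * g⁻¹ ∈ stabF Y (f (g • z)) := by
    rw [mem_stabF, dua_mul, dua_mul, h.f_orbit, dua_inv, mem_stabF.1 hk]
  refine ⟨g * k * g⁻¹, hk2, fun r hr => ?_, ?_⟩
  · rw [inv_mul_cancel_right]
    have h1 := h.z_fix _ (hkT _ ⟨r, hr, rfl⟩)
    change (k⁻¹ * (g⁻¹ * r * g⁻¹⁻¹) * k) • z = z at h1
    rw [inv_inv, mul_smul, mul_smul, inv_smul_eq_iff, mul_smul, mul_smul, inv_smul_eq_iff] at h1
    rw [mul_smul]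
    exact h1
  · rw [inv_mul_cancel_right, h.f_orbit, dua_mul, mem_stabF.1 hk, ← h.f_orbit]

theorem B_two {B : Subgroup Y} (hB : B ∈ BB z) : IsPGroup 2 B := h.q_two.to_le (h.bb_le B hB)

/-- **(UP)** `B ∈ BB z` fixes exactly one member of `f^Y` -/
theorem fix_f [Finite Y] {B : Subgroup Y} (hB : B ∈ BB z) {g : Y} (hf : B ≤ stabF Y (f (g • z))) :
    f (g • z) = f z := by
  obtain ⟨k, -, h1, h2⟩ := h.exists_pt (h.B_two hB) hf
  rw [← h2]
  exact h.star B hB _ ⟨k * g, rfl⟩ h1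

/-- **(UP)** `B ∈ BB z` lies in exactly one conjugate of `M` -/
theorem up [Finite Y] {B : Subgroup Y} (hB : B ∈ BB z) {g : Y} (hg : ∀ b ∈ B, g⁻¹ * b * g ∈ M) : g ∈ M := by
  let R : Subgroup Y := B.map (MulAut.conj g⁻¹).toMonoidHom
  have hR : IsPGroup 2 R := (h.B_two hB).map _
  have hRM : R ≤ M := by
    rintro _ ⟨b, hb, rfl⟩
    change g⁻¹ * b * g⁻¹⁻¹ ∈ M
    rw [inv_inv]
    exact hg b hb
  obtain ⟨k, hk, hkT⟩ := h.exists_conj h.le hR hRM
  have h1 : Fx B ((g * k) • z) := by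
    intro b hb
    have h2 := h.z_fix _ (hkT _ ⟨b, hb, rfl⟩)
    change (k⁻¹ * (g⁻¹ * b * g⁻¹⁻¹) * k) • z = z at h2
    rw [inv_inv, mul_smul, mul_smul, inv_smul_eq_iff, mul_smul, mul_smul, inv_smul_eq_iff] at h2
    rw [mul_smul]
    exact h2
  have h2 := h.star B hB _ ⟨g * k, rfl⟩ h1
  rw [h.f_orbit] at h2
  have h3 : g * k ∈ M := h.stab_le h2
  exact (mul_mem_cancel_right hk).1 h3

/-- the members of `BB` at `f^g` -/
theorem bb_fix [Finite Y] {B : Subgroup Y} {k : Y} (hB : B ∈ BB (k • z)) {g : Y}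
    (hf : B ≤ stabF Y (f (g • z))) : f (g • z) = f (k • z) := by
  have h1 := h.bb_smul k⁻¹ _ (smul_orbit (MulAction.mem_orbit_self z) k) B hB
  rw [inv_smul_smul] at h1
  have h2 : B.map (MulAut.conj k⁻¹).toMonoidHom ≤ stabF Y (f ((k⁻¹ * g) • z)) := by
    rintro _ ⟨b, hb, rfl⟩
    change dua (k⁻¹ * b * k⁻¹⁻¹) (f ((k⁻¹ * g) • z)) = f ((k⁻¹ * g) • z)
    rw [h.f_orbit, dua_mul k⁻¹ g, dua_mul, dua_mul, dua_inv, ← h.f_orbit, mem_stabF.1 (hf hb)]
  have h3 := h.fix_f h1 h2
  rw [h.f_orbit, dua_mul, ← h.f_orbit g] at h3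
  have h4 : dua k (dua k⁻¹ (f (g • z))) = dua k (f z) := by rw [h3]
  rw [← dua_mul, mul_inv_cancel, dua_one] at h4
  rw [h4, h.f_orbit k]

/-- `C_Y(f_y) ∩ B ≠ 1` for `y ∈ E_z` -/
theorem exists_by [Finite Y] {B : Subgroup Y} (hB : B ∈ BB z) {y : V} (hzy : f z y = 0) :
    ∃ b ∈ B, b ≠ 1 ∧ b • y = y := by
  have hN := h.bb B hB
  by_cases hy : Fx B y
  · have hne : ∃ b ∈ B, b ≠ 1 := by
      by_contra hc
      push Not at hc
      exact hN.ne ((eq_bot_iff_forall B).2 hc)
    obtain ⟨b, hb, hb1⟩ := hne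
    exact ⟨b, hb, hb1, hy b hb⟩
  · obtain ⟨b, hb, hby, v, d, -, hd, h1⟩ := hN.exists_b h.f_ne hzy
    refine ⟨b, hb, ?_, hby⟩
    rintro rfl
    apply hy
    rw [h1, cm_one, zero_add]
    exact hd

/-- **(0)** of #15976 : `C_B(f_y) ≠ 1 ⟺` some `y' ∈ Ω ∩ E_z` has `f_{y'} = f_y` -/
theorem arrow [Finite Y] {B : Subgroup Y} (hB : B ∈ BB z) (g : Y) :
    (∃ b ∈ B, b ≠ 1 ∧ b ∈ stabF Y (f (g • z))) ↔
      ∃ y ∈ MulAction.orbit Y z, f y = f (g • z) ∧ f z y = 0 := by
  constructor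
  · rintro ⟨b, hb, hb1, hbf⟩
    have hN := h.bb B hB
    have h2 : IsPGroup 2 (zpowers b) := (h.B_two hB).to_le (zpowers_le.2 hb)
    obtain ⟨k, -, h3, h4⟩ := h.exists_pt h2 (g := g) (zpowers_le.2 hbf)
    exact ⟨_, ⟨k * g, rfl⟩, h4, hN.fix hb hb1 (h3 b (mem_zpowers b))⟩
  · rintro ⟨y, ⟨k, rfl⟩, hy, hzy⟩
    obtain ⟨b, hb, hb1, hby⟩ := h.exists_by hB hzy
    refine ⟨b, hb, hb1, ?_⟩
    rw [← hy, mem_stabF]
    change dua b (f (k • z)) = f (k • z)
    rw [← h.f_smul b _ ⟨k, rfl⟩]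
    exact congrArg f hby

end Dat

end Cfsg.Agent.Omega.NearFF

end

section


/-!
# (BT), `|V/E| = 2`: minimal pairs, the submodule (G) (project OMEGA, leaf N1)

Text: helper132 (bb OMEGA, 05:30Z).  `MP φ B L w`: `L = ⟨B, B^x⟩` for all `x ∈ L` moving `φ`, `w ∈ C_V(T_L)`.

* `MP.key` : (G), `[D_{B^x} ∩ E_φ, B] ≤ D_B ∩ E_{φ^x}`;
* `MP.case2` : `⟨w^L⟩ ≤ E_φ` unless `|[E, b]| = 2` for some `1 ≠ b ∈ B`.
-/

set_option autoImplicit false
set_option linter.unusedSectionVars false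

namespace Cfsg.Agent.Omega.NearFF

open Subgroup Cfsg.Agent.Omega.Transv

variable {Y : Type*} [Group Y] {V : Type*} [AddCommGroup V] [Module (ZMod 2) V] [DistribMulAction Y V]

/-- `|[E, b]| ≥ 4` for all `1 ≠ b ∈ B` -/
def Big (φ : Du V) (B : Subgroup Y) : Prop :=
  ∀ b ∈ B, b ≠ 1 → ∀ w : V, ∃ e : V, φ e = 0 ∧ cm b e ≠ 0 ∧ cm b e ≠ w

/-- A minimal pair: `L = ⟨B, B^x⟩` for all `x ∈ L` moving `φ`, and `w` is fixed by a Sylow 2-subgroup of `L`
containing `B`. -/
structure MP (φ : Du V) (B L : Subgroup Y) (w : V) : Prop where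
  faith : Faith Y V
  ne : φ ≠ 0
  nb : NB φ B
  le : B ≤ L
  ex : ∃ x ∈ L, dua x φ ≠ φ
  min : ∀ x ∈ L, dua x φ ≠ φ → ∀ H : Subgroup Y, B ≤ H → (∀ b ∈ B, x * b * x⁻¹ ∈ H) → L ≤ H
  fixw : Fx B w
  stab : ∀ l ∈ L, l • w = w → dua l φ = φ
  syl : ∀ x ∈ L, ∀ b ∈ B, dua b (dua x φ) = dua x φ →
    ∃ y ∈ L, dua y φ = dua x φ ∧ b • (y • w) = y • w
  core : ∀ b ∈ B, (∀ x ∈ L, dua b (dua x φ) = dua x φ) → ∀ x ∈ L, b • (x • w) = x • w
  noff : ∀ A : Subgroup Y, A ≠ ⊥ → (∀ a ∈ A, ∀ b ∈ A, a * b = b * a) → (∀ a ∈ A, a * a = 1) →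
    Nat.card A * Nat.card {v : V // Fx A v} < Nat.card V

namespace MP

variable {φ : Du V} {B L : Subgroup Y} {w : V} (h : MP φ B L w)
include h

theorem dua_B {b : Y} (hb : b ∈ B) : dua b φ = φ := by
  ext v
  rw [dua_apply, h.nb.inv _ (inv_mem hb)]

theorem inv_B {b : Y} (hb : b ∈ B) : b⁻¹ = b := inv_eq_of_mul_eq_one_left (h.nb.sq b hb)

/-- generation by `B^x` and an element `b` moving `φ^x` -/
theorem gen {x : Y} (hx : x ∈ L) {b : Y} (hb : b ∈ L) (hne : dua b (dua x φ) ≠ dua x φ) (H : Subgroup Y)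
    (h1 : ∀ c ∈ B, x * c * x⁻¹ ∈ H) (h2 : b ∈ H) : L ≤ H := by
  have h3 : dua (x⁻¹ * b * x) φ ≠ φ := by
    intro h0
    apply hne
    rw [dua_mul, dua_mul] at h0
    rw [← dua_mul, show b * x = x * (x⁻¹ * b * x) by group, dua_mul, dua_mul, dua_mul, h0]
  have h4 := h.min _ (mul_mem (mul_mem (inv_mem hx) hb) hx) h3 (H.comap (MulAut.conj x).toMonoidHom)
    (fun c hc => h1 c hc) (fun c hc => by
      change x * (x⁻¹ * b * x * c * (x⁻¹ * b * x)⁻¹) * x⁻¹ ∈ H
      rw [show x * (x⁻¹ * b * x * c * (x⁻¹ * b * x)⁻¹) * x⁻¹ = b * (x * c * x⁻¹) * b⁻¹ by group]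
      exact mul_mem (mul_mem h2 (h1 c hc)) (inv_mem h2))
  intro l hl
  have h5 : x * (x⁻¹ * l * x) * x⁻¹ ∈ H := h4 (mul_mem (mul_mem (inv_mem hx) hl) hx)
  rwa [show x * (x⁻¹ * l * x) * x⁻¹ = l by group] at h5

omit h in
theorem fx_conj {x : Y} {u : V} : Fx B (x⁻¹ • u) ↔ ∀ c ∈ B, (x * c * x⁻¹) • u = u := by
  refine forall₂_congr fun c _ => ?_
  rw [mul_smul, mul_smul]
  constructor
  · intro h1
    rw [h1, smul_inv_smul]
  · intro h1
    rw [eq_inv_smul_iff, h1]

/-- a vector fixed by `B^x` and by an element moving `φ^x` is fixed by `L` -/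
theorem fix_of {x : Y} (hx : x ∈ L) {u : V} (hu : Fx B (x⁻¹ • u)) {b : Y} (hb : b ∈ L) (hbu : b • u = u)
    (hne : dua b (dua x φ) ≠ dua x φ) : Fx L u := fun _ hl =>
  h.gen hx hb hne (MulAction.stabilizer Y u) (fun c hc => fx_conj.1 hu c hc) hbu hl

theorem fix_of2 {x : Y} (hx : x ∈ L) (hne : dua x φ ≠ φ) {u : V} (h1 : Fx B u) (h2 : Fx B (x⁻¹ • u)) :
    Fx L u := fun _ hl =>
  h.min x hx hne (MulAction.stabilizer Y u) (fun c hc => h1 c hc) (fun c hc => fx_conj.1 h2 c hc) hl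

omit h in
theorem fx_smul {l : Y} (hl : l ∈ L) {u : V} : Fx L (l • u) ↔ Fx L u := by
  constructor
  · intro h1 k hk
    have h2 := h1 (l * k * l⁻¹) (mul_mem (mul_mem hl hk) (inv_mem hl))
    rw [mul_smul, mul_smul, inv_smul_smul, smul_left_cancel_iff] at h2
    exact h2
  · intro h1 k hk
    rw [h1 l hl, h1 k hk]

theorem fix_of3 {x y : Y} (hx : x ∈ L) (hy : y ∈ L) (hne : dua x φ ≠ dua y φ) {u : V}
    (h1 : Fx B (x⁻¹ • u)) (h2 : Fx B (y⁻¹ • u)) : Fx L u := by
  rw [← fx_smul (inv_mem hx)]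
  refine h.fix_of2 (x := x⁻¹ * y) (mul_mem (inv_mem hx) hy) ?_ h1 ?_
  · intro h0
    apply hne
    rw [← h0, ← dua_mul, mul_inv_cancel_left]
    rw [h0]
  · rw [mul_inv_rev, inv_inv, mul_smul, smul_inv_smul]
    exact h2

theorem w_not : ¬ Fx L w := by
  intro h0
  obtain ⟨x, hx, hne⟩ := h.ex
  exact hne (h.stab x hx (h0 x hx))

/-- **(G)** -/
theorem key {x : Y} (hx : x ∈ L) {u : V} (hu : φ u = 0) (hf : Fx B (x⁻¹ • u)) {b : Y} (hb : b ∈ B) :
    Fx B (cm b u) ∧ dua x φ (cm b u) = 0 := by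
  refine ⟨h.nb.ed u hu b hb, ?_⟩
  by_cases hL : Fx L u
  · rw [cm_eq_zero.2 (hL b (h.le hb)), map_zero]
  · obtain ⟨c, hc, hcu, v, d, -, hd, h1⟩ := h.nb.exists_b h.ne hu
    have h2 : dua c (dua x φ) = dua x φ := by
      by_contra hne
      exact hL (h.fix_of hx hf (h.le hc) hcu hne)
    have h3 : cm b u = cm c (cm b v) := by
      rw [h1, cm_add, cm_eq_zero.2 (hd b hb), add_zero, cm_comm (h.nb.comm b hb c hc)]
    rw [h3, cm_def, map_add]
    have h4 : dua x φ (c • cm b v) = dua x φ (cm b v) := stabF_apply (mem_stabF.2 h2) _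
    rw [h4, add_self]

/-- invariance under `L` from invariance under `B` and `B^x` -/
theorem inv_of {x : Y} (hx : x ∈ L) (hne : dua x φ ≠ φ) (p : V → Prop)
    (h1 : ∀ b ∈ B, ∀ u, p u → p (b • u)) (h2 : ∀ b ∈ B, ∀ u, p u → p ((x * b * x⁻¹) • u)) :
    ∀ l ∈ L, ∀ u, p u → p (l • u) := by
  let H : Subgroup Y :=
    { carrier := {k | ∀ u, p (k • u) ↔ p u}
      one_mem' := fun u => by rw [one_smul]
      mul_mem' := by
        intro a b ha hb u
        rw [mul_smul, ha, hb]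
      inv_mem' := by
        intro a ha u
        rw [← ha, smul_inv_smul] }
  have hB : B ≤ H := by
    intro b hb u
    refine ⟨fun h3 => ?_, h1 b hb u⟩
    have h4 := h1 b hb _ h3
    rwa [smul_smul, h.nb.sq b hb, one_smul] at h4
  have hx' : ∀ b ∈ B, x * b * x⁻¹ ∈ H := by
    intro b hb u
    refine ⟨fun h3 => ?_, h2 b hb u⟩
    have h4 := h2 b hb _ h3
    rwa [smul_smul, show x * b * x⁻¹ * (x * b * x⁻¹) = x * (b * b) * x⁻¹ by group, h.nb.sq b hb, mul_one,
      mul_inv_cancel, one_smul] at h4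
  intro l hl u hu
  exact (h.min x hx hne H hB hx' hl u).2 hu

/-- **CASE 2** -/
theorem case2 (hbig : Big φ B) : ∀ l ∈ L, φ (l • w) = 0 := by
  by_contra hc
  push Not at hc
  obtain ⟨y₀, hy₀, hy₁⟩ := hc
  -- a
  have ha : ∀ x ∈ L, dua x φ ≠ φ → φ (x • w) = 1 := by
    intro x hx hne
    refine eq_one_of_ne fun h0 => hy₁ ?_
    let p : V → Prop := fun u => ∃ g g' : V, u = g + g' ∧ (φ g = 0 ∧ Fx B (x⁻¹ • g)) ∧
      (Fx B g' ∧ dua x φ g' = 0)
    have hne' : dua x⁻¹ φ ≠ φ := by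
      intro h1
      apply hne
      conv_lhs => rw [← h1, ← dua_mul, mul_inv_cancel, dua_one]
    have hp := h.inv_of hx hne p ?_ ?_
    · obtain ⟨g, g', h1, ⟨h2, -⟩, h3, -⟩ := hp (y₀ * x⁻¹) (mul_mem hy₀ (inv_mem hx)) (x • w)
        ⟨x • w, 0, (add_zero _).symm, ⟨h0, by rw [inv_smul_smul]; exact h.fixw⟩, Fx.zero B, map_zero _⟩
      rw [mul_smul, inv_smul_smul] at h1
      rw [h1, map_add, h2, zero_add]
      obtain ⟨b, hb, hb1⟩ : ∃ b ∈ B, b ≠ 1 := by
        by_contra hc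
        push Not at hc
        exact h.nb.ne ((eq_bot_iff_forall B).2 hc)
      exact h.nb.fix hb hb1 (h3 b hb)
    · rintro b hb _ ⟨g, g', rfl, ⟨h1, h2⟩, h3, h4⟩
      obtain ⟨h5, h6⟩ := h.key hx h1 h2 hb
      refine ⟨g, cm b g + g', ?_, ⟨h1, h2⟩, h5.add h3, by rw [map_add, h6, h4, add_zero]⟩
      rw [smul_add, h3 b hb, smul_eq_add_cm b g, add_assoc]
    · rintro b hb _ ⟨g, g', rfl, ⟨h1, h2⟩, h3, h4⟩
      obtain ⟨h5, h6⟩ := h.key (inv_mem hx) (u := x⁻¹ • g') (b := b) h4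
        (by rw [inv_inv, smul_inv_smul]; exact h3) hb
      have h7 : x⁻¹ • cm (x * b * x⁻¹) g' = cm b (x⁻¹ • g') := by
        rw [smul_cm_conj]
        congr 1
        group
      rw [← h7] at h5 h6
      refine ⟨cm (x * b * x⁻¹) g' + g, g', ?_, ⟨?_, ?_⟩, h3, h4⟩
      · rw [smul_add, fx_conj.1 h2 b hb, smul_eq_add_cm _ g']
        abel
      · rw [map_add, h1, add_zero]
        rwa [dua_apply, inv_inv, smul_inv_smul] at h6
      · rw [smul_add]
        exact h5.add h2
  -- b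
  have hb' : ∀ x ∈ L, dua x φ ≠ φ → ∀ b ∈ B, b ≠ 1 → dua b (dua x φ) ≠ dua x φ := by
    intro x hx hne b hb hb1 h0
    obtain ⟨y, hy, h1, h2⟩ := h.syl x hx b hb h0
    have h3 := h.nb.fix hb hb1 h2
    rw [ha y hy (by rw [h1]; exact hne)] at h3
    exact one_ne h3
  obtain ⟨x, hx, hne⟩ := h.ex
  have hw0 : φ w = 0 := by
    obtain ⟨b, hb, hb1⟩ : ∃ b ∈ B, b ≠ 1 := by
      by_contra hc
      push Not at hc
      exact h.nb.ne ((eq_bot_iff_forall B).2 hc)
    exact h.nb.fix hb hb1 (h.fixw b hb)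
  have h1 : ∀ b ∈ B, b ≠ 1 → dua x φ (cm b (x • w)) = 1 := by
    intro b hb hb1
    rw [cm_def, map_add, dua_apply, dua_apply, inv_smul_smul, hw0, add_zero, smul_smul, smul_smul]
    refine ha _ (mul_mem (mul_mem (inv_mem hx) (h.le hb)) hx) fun h0 => hb' x hx hne b hb hb1 ?_
    rw [dua_mul, dua_mul] at h0
    have h2 : dua x (dua x⁻¹ (dua b (dua x φ))) = dua x φ := by rw [h0]
    rwa [← dua_mul, mul_inv_cancel, dua_one] at h2
  have h2 : ∀ a ∈ B, ∀ b ∈ B, a ≠ 1 → b ≠ 1 → a * b ≠ 1 → dua x φ (cm a (cm b (x • w))) = 1 := by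
    intro a ha' b hb ha1 hb1 hab
    have h3 := h1 _ (mul_mem ha' hb) hab
    rw [cm_mul, map_add, map_add, h1 a ha' ha1, h1 b hb hb1, one_add_one, zero_add] at h3
    exact h3
  obtain ⟨a, ha', ha1⟩ : ∃ a ∈ B, a ≠ 1 := by
    by_contra hc
    push Not at hc
    exact h.nb.ne ((eq_bot_iff_forall B).2 hc)
  have hv : φ (x • w) = 1 := ha x hx hne
  obtain ⟨e₁, he₁, h3, -⟩ := hbig a ha' ha1 0
  obtain ⟨e₂, he₂, h4, h5⟩ := hbig a ha' ha1 (cm a e₁)
  obtain ⟨b₁, hb₁, hd₁⟩ := h.nb.surj _ e₁ hv he₁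
  obtain ⟨b₂, hb₂, hd₂⟩ := h.nb.surj _ e₂ hv he₂
  have e1 : cm a e₁ = cm a (cm b₁ (x • w)) := by
    have h6 := cm_eq_zero.2 (hd₁ a ha')
    rw [cm_add] at h6
    exact (eq_of_add h6).symm
  have e2 : cm a e₂ = cm a (cm b₂ (x • w)) := by
    have h6 := cm_eq_zero.2 (hd₂ a ha')
    rw [cm_add] at h6
    exact (eq_of_add h6).symm
  have e3 : cm a (cm (b₁ * b₂) (x • w)) = cm a e₁ + cm a e₂ := by
    rw [cm_mul, cm_add, cm_add, e1, e2,
      cm_eq_zero.2 (h.nb.ed _ (h.nb.cm_mem hb₂ _) b₁ hb₁ a ha'), add_zero]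
  have key : ∀ c ∈ B, cm a (cm c (x • w)) ≠ 0 → dua x φ (cm a (cm c (x • w))) = 1 := by
    intro c hc hn
    refine h2 a ha' c hc ha1 ?_ ?_
    · rintro rfl
      exact hn (by rw [cm_one, cm_zero])
    · intro h0
      have h6 : a = c := by rw [eq_inv_of_mul_eq_one_left h0, h.inv_B hc]
      subst h6
      exact hn (cm_eq_zero.2 (h.nb.smul_cm_self ha' _))
  have k1 := key b₁ hb₁ (by rwa [← e1])
  have k2 := key b₂ hb₂ (by rwa [← e2])
  have k3 := key (b₁ * b₂) (mul_mem hb₁ hb₂) (by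
    rw [e3]
    intro h0
    exact h5 (eq_of_add h0).symm)
  rw [e3, e1, e2, map_add, k1, k2, one_add_one] at k3
  exact one_ne k3.symm

end MP

end Cfsg.Agent.Omega.NearFF

end

section


/-!
# (BT), `|V/E| = 2`: minimal pairs, Case 1 (project OMEGA, leaf N1)

Text: helper132, bb OMEGA #17318.  `MP.false_of_big` : there is no minimal pair with `|[E, b]| ≥ 4` for all `b`.
-/

set_option autoImplicit false
set_option linter.unusedSectionVars false

namespace Cfsg.Agent.Omega.NearFF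

open Subgroup Cfsg.Agent.Omega.Transv

variable {Y : Type*} [Group Y] {V : Type*} [AddCommGroup V] [Module (ZMod 2) V] [DistribMulAction Y V]

/-- the fixed space of `L` -/
def VL (V : Type*) [AddCommGroup V] [Module (ZMod 2) V] [DistribMulAction Y V] (L : Subgroup Y) :
    Submodule (ZMod 2) V where
  carrier := {v | Fx L v}
  zero_mem' := Fx.zero L
  add_mem' := fun h1 h2 => Fx.add h1 h2
  smul_mem' := by
    intro c v hv
    rcases zmod_cases c with h1 | h1
    · rw [h1, zero_smul]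
      exact Fx.zero L
    · rw [h1, one_smul]
      exact hv

/-- `⟨w^L⟩ + C_V(L)` -/
def PW (L : Subgroup Y) (w : V) : Submodule (ZMod 2) V :=
  Submodule.span (ZMod 2) (Set.range fun l : L => (l : Y) • w) ⊔ VL V L

theorem PW_induct {L : Subgroup Y} {w : V} {p : V → Prop} (h1 : ∀ l ∈ L, p (l • w)) (h2 : ∀ v, Fx L v → p v)
    (h3 : ∀ u v, p u → p v → p (u + v)) {u : V} (hu : u ∈ PW L w) : p u := by
  obtain ⟨a, ha, b, hb, rfl⟩ := Submodule.mem_sup.1 hu
  refine h3 _ _ ?_ (h2 b hb)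
  clear hu
  induction ha using Submodule.span_induction with
  | mem x hx =>
    obtain ⟨l, rfl⟩ := hx
    exact h1 l l.2
  | zero => exact h2 0 (Fx.zero L)
  | add x y _ _ hx hy => exact h3 _ _ hx hy
  | smul c x _ hx =>
    rcases zmod_cases c with h4 | h4
    · rw [h4, zero_smul]
      exact h2 0 (Fx.zero L)
    · rw [h4, one_smul]
      exact hx

theorem orb_mem_PW {L : Subgroup Y} {w : V} {l : Y} (hl : l ∈ L) : l • w ∈ PW L w :=
  Submodule.mem_sup_left (Submodule.subset_span ⟨⟨l, hl⟩, rfl⟩)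

theorem VL_le_PW {L : Subgroup Y} {w v : V} (hv : Fx L v) : v ∈ PW L w :=
  Submodule.mem_sup_right hv

theorem smul_mem_PW {L : Subgroup Y} {w : V} {l : Y} (hl : l ∈ L) {u : V} (hu : u ∈ PW L w) :
    l • u ∈ PW L w := by
  refine PW_induct (p := fun u => l • u ∈ PW L w) ?_ ?_ ?_ hu
  · intro k hk
    rw [smul_smul]
    exact orb_mem_PW (mul_mem hl hk)
  · intro v hv
    rw [hv l hl]
    exact VL_le_PW hv
  · intro u v h1 h2
    rw [smul_add]
    exact add_mem h1 h2

theorem cm_mem_PW {L : Subgroup Y} {w : V} {l : Y} (hl : l ∈ L) {u : V} (hu : u ∈ PW L w) :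
    cm l u ∈ PW L w := add_mem (smul_mem_PW hl hu) hu

/-- the elements fixing all `φ^x`, `x ∈ L` -/
def KL (L : Subgroup Y) (φ : Du V) : Subgroup Y where
  carrier := {g | ∀ x ∈ L, dua g (dua x φ) = dua x φ}
  one_mem' := fun x _ => dua_one _
  mul_mem' := by
    intro a b ha hb x hx
    rw [dua_mul, hb x hx, ha x hx]
  inv_mem' := by
    intro a ha x hx
    conv_lhs => rw [← ha x hx, dua_inv]

theorem card_two_le {H K : Subgroup Y} [Finite Y] (h1 : H ≤ K) {k : Y} (hk : k ∈ K) (hk' : k ∉ H) :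
    2 * Nat.card H ≤ Nat.card K := by
  obtain ⟨m, hm⟩ := Subgroup.card_dvd_of_le h1
  have h2 : Nat.card H ≠ Nat.card K := by
    intro h0
    exact hk' (Subgroup.eq_of_le_of_card_ge h1 h0.ge ▸ hk)
  have h3 : 0 < Nat.card K := Nat.card_pos
  have h4 : m ≠ 0 := by
    rintro rfl
    rw [mul_zero] at hm
    omega
  have h5 : m ≠ 1 := by
    rintro rfl
    rw [mul_one] at hm
    exact h2 hm.symm
  have h6 : 2 ≤ m := by omega
  rw [hm, mul_comm]
  exact Nat.mul_le_mul_left _ h6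

namespace MP

variable {φ : Du V} {B L : Subgroup Y} {w : V} (h : MP φ B L w)
include h

theorem exists_B : ∃ b ∈ B, b ≠ 1 := by
  by_contra hc
  push Not at hc
  exact h.nb.ne ((eq_bot_iff_forall B).2 hc)

theorem phi_of_fx {v : V} (hv : Fx B v) : φ v = 0 := by
  obtain ⟨b, hb, hb1⟩ := h.exists_B
  exact h.nb.fix hb hb1 (hv b hb)

theorem fx_B {v : V} (hv : Fx L v) : Fx B v := fun b hb => hv b (h.le hb)

theorem phi_PW (hE : ∀ l ∈ L, φ (l • w) = 0) {u : V} (hu : u ∈ PW L w) : φ u = 0 := by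
  refine PW_induct (p := fun u => φ u = 0) hE (fun v hv => h.phi_of_fx (h.fx_B hv)) ?_ hu
  intro u v h1 h2
  rw [map_add, h1, h2, add_zero]

/-- (1) -/
theorem split (hE : ∀ l ∈ L, φ (l • w) = 0) {x : Y} (hx : x ∈ L) (hne : dua x φ ≠ φ) {u : V}
    (hu : u ∈ PW L w) :
    ∃ u₁ ∈ PW L w, ∃ u₂ ∈ PW L w, u = u₁ + u₂ ∧ Fx B u₁ ∧ Fx B (x⁻¹ • u₂) := by
  let p : V → Prop := fun u => ∃ u₁ ∈ PW L w, ∃ u₂ ∈ PW L w, u = u₁ + u₂ ∧ Fx B u₁ ∧ Fx B (x⁻¹ • u₂)
  have hp := h.inv_of hx hne p ?_ ?_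
  · refine PW_induct (p := p) ?_ ?_ ?_ hu
    · intro l hl
      refine hp l hl w ⟨w, ?_, 0, zero_mem _, (add_zero w).symm, h.fixw, ?_⟩
      · have h1 := orb_mem_PW (w := w) (one_mem L)
        rwa [one_smul] at h1
      · rw [smul_zero]
        exact Fx.zero B
    · intro v hv
      refine ⟨v, VL_le_PW hv, 0, zero_mem _, (add_zero v).symm, h.fx_B hv, ?_⟩
      rw [smul_zero]
      exact Fx.zero B
    · rintro _ _ ⟨a₁, h1, a₂, h2, rfl, h3, h4⟩ ⟨b₁, k1, b₂, k2, rfl, k3, k4⟩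
      refine ⟨a₁ + b₁, add_mem h1 k1, a₂ + b₂, add_mem h2 k2, by abel, h3.add k3, ?_⟩
      rw [smul_add]
      exact h4.add k4
  · rintro b hb _ ⟨a₁, h1, a₂, h2, rfl, h3, h4⟩
    refine ⟨a₁ + cm b a₂, add_mem h1 (cm_mem_PW (h.le hb) h2), a₂, h2, ?_,
      h3.add (h.nb.ed _ (h.phi_PW hE h2) b hb), h4⟩
    rw [smul_add, h3 b hb, smul_eq_add_cm b a₂]
    abel
  · rintro b hb _ ⟨a₁, h1, a₂, h2, rfl, h3, h4⟩
    have hc : x * b * x⁻¹ ∈ L := mul_mem (mul_mem hx (h.le hb)) (inv_mem hx)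
    refine ⟨a₁, h1, a₂ + cm (x * b * x⁻¹) a₁, add_mem h2 (cm_mem_PW hc h1), ?_, h3, ?_⟩
    · rw [smul_add, fx_conj.1 h4 b hb, smul_eq_add_cm _ a₁]
      abel
    · rw [smul_add]
      refine h4.add ?_
      have h7 : x⁻¹ • cm (x * b * x⁻¹) a₁ = cm b (x⁻¹ • a₁) := by
        rw [smul_cm_conj]
        congr 1
        group
      rw [h7]
      exact h.nb.ed _ (h.phi_PW hE (smul_mem_PW (inv_mem hx) h1)) b hb

/-- (2) -/
theorem two {x : Y} (hx : x ∈ L) {u : V} (hu : Fx B (x⁻¹ • u)) {a : Y} (ha : a ∈ L) (hau : Fx L (cm a u))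
    (hne : dua a (dua x φ) ≠ dua x φ) : Fx L u := by
  let H : Subgroup Y :=
    { carrier := {k | k ∈ L ∧ Fx L (cm k u)}
      one_mem' := ⟨one_mem L, by rw [cm_one]; exact Fx.zero L⟩
      mul_mem' := by
        rintro a b ⟨ha, ha'⟩ ⟨hb, hb'⟩
        refine ⟨mul_mem ha hb, ?_⟩
        rw [cm_mul, cm_eq_zero.2 (hb' a ha), add_zero]
        exact ha'.add hb'
      inv_mem' := by
        rintro a ⟨ha, ha'⟩
        refine ⟨inv_mem ha, ?_⟩
        have h1 : cm a⁻¹ u = cm a u := by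
          rw [← ha' a⁻¹ (inv_mem ha), cm, cm, smul_add, inv_smul_smul, add_comm]
        rw [h1]
        exact ha' }
  have h1 : L ≤ H := by
    refine h.gen hx ha hne H (fun c hc => ⟨mul_mem (mul_mem hx (h.le hc)) (inv_mem hx), ?_⟩) ⟨ha, hau⟩
    rw [cm_eq_zero.2 (fx_conj.1 hu c hc)]
    exact Fx.zero L
  have h2 : ∀ l ∈ L, ∀ b ∈ B, (l * b * l⁻¹) • u = u := by
    intro l hl b hb
    have h3 : Fx L (cm (x * l⁻¹) u) := (h1 (mul_mem hx (inv_mem hl))).2
    have h4 : (x * l⁻¹) • u = u + cm (x * l⁻¹) u := smul_eq_add_cm _ _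
    have h5 : l * b * l⁻¹ = (x * l⁻¹)⁻¹ * (x * b * x⁻¹) * (x * l⁻¹) := by group
    have h6 : x * b * x⁻¹ ∈ L := mul_mem (mul_mem hx (h.le hb)) (inv_mem hx)
    rw [h5, mul_smul, mul_smul, inv_smul_eq_iff, h4, smul_add, fx_conj.1 hu b hb, h3 _ h6]
  obtain ⟨y, hy, hy'⟩ := h.ex
  refine fun l hl => h.min y hy hy' (MulAction.stabilizer Y u) (fun b hb => ?_) (fun b hb => h2 y hy b hb) hl
  have h3 := h2 1 (one_mem L) b hb
  rwa [one_mul, inv_one, mul_one] at h3

/-- (3) -/
theorem three (hE : ∀ l ∈ L, φ (l • w) = 0) {y : Y} (hy : y ∈ L) (hne : dua y φ ≠ φ) {a : Y} (ha : a ∈ B)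
    (hay : dua a (dua y φ) = dua y φ) : a ∈ KL L φ := by
  intro x hx
  by_contra hxa
  have hx1 : dua x φ ≠ φ := by
    intro h0
    apply hxa
    rw [h0]
    exact h.dua_B ha
  obtain ⟨y', hy', h1, h2⟩ := h.syl y hy a ha hay
  obtain ⟨t₁, -, t₂, -, h3, h4, h5⟩ := h.split hE hx hx1 (orb_mem_PW (w := w) hy')
  have h6 : a • t₂ = t₂ := by
    rw [h3, smul_add, h4 a ha, add_right_inj] at h2
    exact h2
  have h7 : Fx L t₂ := h.two hx h5 (h.le ha) (by rw [cm_eq_zero.2 h6]; exact Fx.zero L) hxa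
  have h8 : Fx B (y' • w) := by
    rw [h3]
    exact h4.add (h.fx_B h7)
  have h9 : Fx L (y' • w) := h.fix_of2 hy' (by rw [h1]; exact hne) h8 (by
    rw [inv_smul_smul]
    exact h.fixw)
  exact h.w_not ((fx_smul hy').1 h9)

/-- `B₀ = B ∩ K₀` centralises `⟨w^L⟩ + C_V(L)` -/
theorem fix_PW {b : Y} (hb : b ∈ B) (hb' : b ∈ KL L φ) {u : V} (hu : u ∈ PW L w) : b • u = u := by
  refine PW_induct (p := fun u => b • u = u) (fun l hl => h.core b hb hb' l hl)
    (fun v hv => hv b (h.le hb)) ?_ hu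
  intro u v h1 h2
  rw [smul_add, h1, h2]

/-- `[v, H] + C_V(B)` -/
theorem card_VH {v : V} (hv : φ v = 1) {H : Subgroup Y} (hH : H ≤ B) :
    ∃ E : AddSubgroup V, (∀ u, u ∈ E ↔ ∃ b ∈ H, Fx B (cm b v + u)) ∧
      Nat.card E = Nat.card H * Nat.card {d : V // Fx B d} := by
  let E : AddSubgroup V :=
    { carrier := {u | ∃ b ∈ H, Fx B (cm b v + u)}
      zero_mem' := ⟨1, one_mem H, by rw [cm_one, zero_add]; exact Fx.zero B⟩
      add_mem' := by
        rintro u u' ⟨b, hb, h1⟩ ⟨b', hb', h2⟩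
        refine ⟨b * b', mul_mem hb hb', ?_⟩
        have h3 := h.nb.ed _ (h.nb.cm_mem (hH hb') v) b (hH hb)
        rw [cm_mul, show cm b v + cm b' v + cm b (cm b' v) + (u + u') =
          (cm b v + u) + (cm b' v + u') + cm b (cm b' v) by abel]
        exact (h1.add h2).add h3
      neg_mem' := by
        rintro u ⟨b, hb, h1⟩
        rw [neg_eq]
        exact ⟨b, hb, h1⟩ }
  refine ⟨E, fun u => Iff.rfl, ?_⟩
  rw [← Nat.card_prod]
  refine (Nat.card_congr (Equiv.ofBijective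
    (fun p : H × {d : V // Fx B d} => (⟨cm (p.1 : Y) v + p.2, p.1, p.1.2, by
      rw [← add_assoc, add_self, zero_add]; exact p.2.2⟩ : E)) ⟨?_, ?_⟩)).symm
  · rintro ⟨⟨b, hb⟩, d, hd⟩ ⟨⟨b', hb'⟩, d', hd'⟩ h1
    have h2 : cm b v + d = cm b' v + d' := congrArg Subtype.val h1
    have h3 : Fx B (cm (b * b') v) := by
      rw [cm_mul]
      refine Fx.add ?_ (h.nb.ed _ (h.nb.cm_mem (hH hb') v) b (hH hb))
      have h4 : cm b v + cm b' v = d + d' := by
        have h5 : cm b v = cm b' v + d' + d := by rw [← h2, add_add_self]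
        rw [h5]
        have h6 : cm b' v + d' + d + cm b' v = (cm b' v + cm b' v) + (d + d') := by abel
        rw [h6, add_self, zero_add]
      rw [h4]
      exact Fx.add hd hd'
    have h5 := h.nb.inj v hv _ (mul_mem (hH hb) (hH hb')) h3
    have h6 : b = b' := by rw [eq_inv_of_mul_eq_one_left h5, h.inv_B (hH hb')]
    subst h6
    have h7 : d = d' := add_left_cancel h2
    subst h7
    rfl
  · rintro ⟨u, b, hb, h1⟩
    refine ⟨(⟨b, hb⟩, ⟨cm b v + u, h1⟩), Subtype.ext ?_⟩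
    change cm b v + (cm b v + u) = u
    rw [← add_assoc, add_self, zero_add]

theorem card_V [Finite V] : Nat.card V = 2 * (Nat.card B * Nat.card {d : V // Fx B d}) := by
  obtain ⟨v, hv⟩ := exists_one h.ne
  obtain ⟨E, hE, hc⟩ := h.card_VH hv (le_refl B)
  rw [← hc, ← card_ker h.ne]
  congr 1
  refine Nat.card_congr (Equiv.subtypeEquivRight fun u => ?_)
  rw [← SetLike.mem_coe, SetLike.mem_coe, hE]
  constructor
  · intro h1
    obtain ⟨b, hb, h2⟩ := h.nb.surj v u hv h1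
    exact ⟨b, hb, h2⟩
  · rintro ⟨b, hb, h1⟩
    have h2 := h.phi_of_fx h1
    rwa [map_add, h.nb.cm_mem hb, zero_add] at h2

end MP

end Cfsg.Agent.Omega.NearFF

end

section


/-!
# (BT), `|V/E| = 2`: minimal pairs, Case 1, the group `A` (project OMEGA, leaf N1)

Text: helper132, bb OMEGA #17318, Case 1 (4).
-/

set_option autoImplicit false
set_option linter.unusedSectionVars false

namespace Cfsg.Agent.Omega.NearFF

open Subgroup Cfsg.Agent.Omega.Transv

variable {Y : Type*} [Group Y] {V : Type*} [AddCommGroup V] [Module (ZMod 2) V] [DistribMulAction Y V]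

/-- the output of Case 1 (4) -/
structure Out (φ : Du V) (B L : Subgroup Y) (w : V) (x : Y) (v : V) (A : Subgroup Y) : Prop where
  le : A ≤ B
  KL : ∀ a ∈ A, a ∈ KL L φ
  ne : ∃ a ∈ A, a ≠ 1
  perp0 : ∀ a ∈ A, ∀ b ∈ B, b ∈ NearFF.KL L φ → cm b (cm a v) = 0
  perp1 : ∀ a ∈ A, a ≠ 1 → ∀ b ∈ B, cm b (cm a v) = 0 → b ∈ NearFF.KL L φ
  card : Nat.card A * Nat.card ((B ⊓ NearFF.KL L φ : Subgroup Y)) = Nat.card B
  surj : ∀ u ∈ PW L w, Fx B (x⁻¹ • u) → ¬ Fx L u → ∀ t ∈ PW L w, Fx B t → ∃ b ∈ B, Fx L (cm b u + t)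

namespace MP

variable {φ : Du V} {B L : Subgroup Y} {w : V} (h : MP φ B L w)
include h

theorem cm_cm_of_fx {v u : V} {a b : Y} (hb : b ∈ B) (hu : Fx B (cm a v + u)) : cm b (cm a v) = cm b u := by
  have h1 := cm_eq_zero.2 (hu b hb)
  rw [cm_add] at h1
  exact eq_of_add h1

theorem perp0 {v u : V} {a b : Y} (hb : b ∈ B) (hb' : b ∈ KL L φ) (hu : u ∈ PW L w)
    (hau : Fx B (cm a v + u)) : cm b (cm a v) = 0 := by
  rw [h.cm_cm_of_fx hb hau, cm_eq_zero.2 (h.fix_PW hb hb' hu)]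

theorem perp1 (hE : ∀ l ∈ L, φ (l • w) = 0) {x : Y} (hx : x ∈ L) (hne : dua x φ ≠ φ) {v u : V}
    (hv : φ v = 1) {a b : Y} (ha : a ∈ B) (ha1 : a ≠ 1) (hux : Fx B (x⁻¹ • u)) (hau : Fx B (cm a v + u))
    (hb : b ∈ B) (h0 : cm b (cm a v) = 0) : b ∈ KL L φ := by
  refine h.three hE hx hne hb ?_
  by_contra hbx
  rw [h.cm_cm_of_fx hb hau] at h0
  have h1 : Fx L u := h.two hx hux (h.le hb) (by rw [h0]; exact Fx.zero L) hbx
  exact ha1 (h.nb.inj v hv a ha (hau.of_add (h.fx_B h1)))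

/-- `|P ∩ D_{B^x}| = |A| |C_V(L)|` -/
theorem card_C2 {x : Y} (hx : x ∈ L) (hne : dua x φ ≠ φ) {v : V} (hv : φ v = 1)
    (hE : ∀ l ∈ L, φ (l • w) = 0) {A : Subgroup Y}
    (hA : ∀ a, a ∈ A ↔ a ∈ B ∧ ∃ u ∈ PW L w, Fx B (x⁻¹ • u) ∧ Fx B (cm a v + u)) :
    Nat.card {u : V // u ∈ PW L w ∧ Fx B (x⁻¹ • u)} = Nat.card A * Nat.card (VL V L) := by
  classical
  choose s hs1 hs2 hs3 using fun a : A => ((hA a).1 a.2).2
  rw [← Nat.card_prod]
  refine (Nat.card_congr (Equiv.ofBijective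
    (fun p : A × VL V L => (⟨s p.1 + p.2, add_mem (hs1 p.1) (VL_le_PW p.2.2), by
      rw [smul_add]
      exact (hs2 p.1).add (h.fx_B ((fx_smul (inv_mem hx)).2 p.2.2))⟩ :
      {u : V // u ∈ PW L w ∧ Fx B (x⁻¹ • u)})) ⟨?_, ?_⟩)).symm
  · rintro ⟨a, n, hn⟩ ⟨a', n', hn'⟩ h1
    have h2 : s a + n = s a' + n' := congrArg Subtype.val h1
    have haB := ((hA a).1 a.2).1
    have haB' := ((hA a').1 a'.2).1
    have h3 : Fx B (cm ((a : Y) * a') v) := by
      rw [cm_mul]
      refine Fx.add ?_ (h.nb.ed _ (h.nb.cm_mem haB' v) a haB)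
      have h4 := ((hs3 a).add (hs3 a')).add ((h.fx_B hn).add (h.fx_B hn'))
      have h5 : cm (a : Y) v + s a + (cm (a' : Y) v + s a') + (n + n') =
          (cm (a : Y) v + cm (a' : Y) v) + ((s a + n) + (s a' + n')) := by abel
      rw [h5, h2, add_self, add_zero] at h4
      exact h4
    have h5 := h.nb.inj v hv _ (mul_mem haB haB') h3
    have h6 : (a : Y) = a' := by rw [eq_inv_of_mul_eq_one_left h5, h.inv_B haB']
    have h7 : a = a' := Subtype.ext h6
    subst h7
    have h8 : n = n' := add_left_cancel h2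
    subst h8
    rfl
  · rintro ⟨u, hu, hux⟩
    obtain ⟨b, hb, hd⟩ := h.nb.surj v u hv (h.phi_PW hE hu)
    let a : A := ⟨b, (hA b).2 ⟨hb, u, hu, hux, hd⟩⟩
    have h1 : Fx B (u + s a) := by
      have h4 := hd.add (hs3 a)
      have h5 : cm b v + u + (cm (a : Y) v + s a) = (cm b v + cm b v) + (u + s a) := by
        change cm b v + u + (cm b v + s a) = _
        abel
      rw [h5, add_self, zero_add] at h4
      exact h4
    have h2 : Fx B (x⁻¹ • (u + s a)) := by
      rw [smul_add]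
      exact hux.add (hs2 a)
    refine ⟨(a, ⟨u + s a, h.fix_of2 hx hne h1 h2⟩), Subtype.ext ?_⟩
    change s a + (u + s a) = u
    rw [add_comm, add_add_self]

/-- `b ↦ [u, b] + C_V(L)` -/
theorem exists_R (hE : ∀ l ∈ L, φ (l • w) = 0) {x : Y} (hx : x ∈ L) (hne : dua x φ ≠ φ) {u : V}
    (hu : u ∈ PW L w) (hux : Fx B (x⁻¹ • u)) (huL : ¬ Fx L u) :
    ∃ R : AddSubgroup V, (∀ n, n ∈ R ↔ ∃ b ∈ B, Fx L (cm b u + n)) ∧
      Nat.card R * Nat.card ((B ⊓ KL L φ : Subgroup Y)) = Nat.card B * Nat.card (VL V L) := by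
  classical
  have hu0 := h.phi_PW hE hu
  have hcc : ∀ b ∈ B, ∀ c ∈ B, cm b (cm c u) = 0 := fun b hb c hc =>
    cm_eq_zero.2 (h.nb.ed u hu0 c hc b hb)
  let R : AddSubgroup V :=
    { carrier := {n | ∃ b ∈ B, Fx L (cm b u + n)}
      zero_mem' := ⟨1, one_mem B, by rw [cm_one, zero_add]; exact Fx.zero L⟩
      add_mem' := by
        rintro n n' ⟨b, hb, h1⟩ ⟨b', hb', h2⟩
        refine ⟨b * b', mul_mem hb hb', ?_⟩
        rw [cm_mul, hcc b hb b' hb', add_zero, show cm b u + cm b' u + (n + n') =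
          (cm b u + n) + (cm b' u + n') by abel]
        exact h1.add h2
      neg_mem' := by
        rintro n ⟨b, hb, h1⟩
        rw [neg_eq]
        exact ⟨b, hb, h1⟩ }
  refine ⟨R, fun n => Iff.rfl, ?_⟩
  have hfix : ∀ b ∈ B, Fx L (cm b u) → b ∈ KL L φ := by
    intro b hb h1
    refine h.three hE hx hne hb ?_
    by_contra hbx
    exact huL (h.two hx hux (h.le hb) h1 hbx)
  choose s hs1 hs2 using fun n : R => (n.2 : ∃ b ∈ B, Fx L (cm b u + n))
  rw [← Nat.card_prod, ← Nat.card_prod]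
  have hmul : ∀ n : R, ∀ b : (B ⊓ KL L φ : Subgroup Y), cm (s n * b) u = cm (s n) u := by
    intro n b
    rw [cm_mul, hcc _ (hs1 n) _ b.2.1, add_zero, cm_eq_zero.2 (h.fix_PW b.2.1 b.2.2 hu), add_zero]
  refine Nat.card_congr (Equiv.ofBijective
    (fun p : R × (B ⊓ KL L φ : Subgroup Y) => ((⟨s p.1 * p.2, mul_mem (hs1 p.1) p.2.2.1⟩,
      ⟨cm (s p.1) u + p.1, hs2 p.1⟩) : B × VL V L)) ⟨?_, ?_⟩)
  · rintro ⟨n, b⟩ ⟨n', b'⟩ h1
    have h2 : s n * b = s n' * b' := congrArg (fun p => (p.1 : Y)) h1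
    have h3 : cm (s n) u + (n : V) = cm (s n') u + n' := congrArg (fun p => (p.2 : V)) h1
    have h4 : cm (s n) u = cm (s n') u := by rw [← hmul n b, ← hmul n' b', h2]
    rw [h4] at h3
    have h5 : n = n' := Subtype.ext (add_left_cancel h3)
    subst h5
    have h6 : b = b' := Subtype.ext (mul_left_cancel h2)
    subst h6
    rfl
  · rintro ⟨⟨b, hb⟩, m, hm⟩
    have hR : cm b u + m ∈ R := ⟨b, hb, by
      rw [← add_assoc, add_self, zero_add]
      exact hm⟩
    let n : R := ⟨cm b u + m, hR⟩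
    have h1 := hs2 n
    have h2 : cm (s n * b) u = cm (s n) u + (n : V) + m := by
      rw [cm_mul, hcc _ (hs1 n) _ hb, add_zero]
      change _ = cm (s n) u + (cm b u + m) + m
      rw [add_assoc, add_assoc, add_self, add_zero]
    have h3 : s n * b ∈ KL L φ := by
      refine hfix _ (mul_mem (hs1 n) hb) ?_
      rw [h2]
      exact h1.add hm
    have h4 : cm (s n * b) u = 0 := cm_eq_zero.2 (h.fix_PW (mul_mem (hs1 n) hb) h3 hu)
    rw [h2] at h4
    refine ⟨(n, ⟨s n * b, mul_mem (hs1 n) hb, h3⟩), Prod.ext (Subtype.ext ?_) (Subtype.ext ?_)⟩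
    · change s n * (s n * b) = b
      rw [← mul_assoc, h.nb.sq _ (hs1 n), one_mul]
    · exact eq_of_add h4

theorem exists_out [Finite Y] [Finite V] (hE : ∀ l ∈ L, φ (l • w) = 0) {x : Y} (hx : x ∈ L)
    (hne : dua x φ ≠ φ) {v : V} (hv : φ v = 1) : ∃ A : Subgroup Y, Out φ B L w x v A := by
  classical
  let A : Subgroup Y :=
    { carrier := {a | a ∈ B ∧ ∃ u ∈ PW L w, Fx B (x⁻¹ • u) ∧ Fx B (cm a v + u)}
      one_mem' := ⟨one_mem B, 0, zero_mem _, by rw [smul_zero]; exact Fx.zero B, by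
        rw [cm_one, zero_add]
        exact Fx.zero B⟩
      mul_mem' := by
        rintro a b ⟨ha, u, hu, hux, h1⟩ ⟨hb, u', hu', hux', h2⟩
        refine ⟨mul_mem ha hb, u + u', add_mem hu hu', by rw [smul_add]; exact hux.add hux', ?_⟩
        have h3 := h.nb.ed _ (h.nb.cm_mem hb v) a ha
        rw [cm_mul, show cm a v + cm b v + cm a (cm b v) + (u + u') =
          (cm a v + u) + (cm b v + u') + cm a (cm b v) by abel]
        exact (h1.add h2).add h3
      inv_mem' := by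
        rintro a ⟨ha, h1⟩
        rw [h.inv_B ha]
        exact ⟨ha, h1⟩ }
  have hA : ∀ a, a ∈ A ↔ a ∈ B ∧ ∃ u ∈ PW L w, Fx B (x⁻¹ • u) ∧ Fx B (cm a v + u) := fun a => Iff.rfl
  have hxw : x • w ∈ PW L w := orb_mem_PW hx
  have hxw' : Fx B (x⁻¹ • (x • w)) := by
    rw [inv_smul_smul]
    exact h.fixw
  have hxwL : ¬ Fx L (x • w) := fun h0 => h.w_not ((fx_smul hx).1 h0)
  have hAne : ∃ a ∈ A, a ≠ 1 := by
    obtain ⟨a, ha, hd⟩ := h.nb.surj v (x • w) hv (h.phi_PW hE hxw)
    refine ⟨a, ⟨ha, x • w, hxw, hxw', hd⟩, ?_⟩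
    rintro rfl
    rw [cm_one, zero_add] at hd
    exact hxwL (h.fix_of2 hx hne hd hxw')
  have hp0 : ∀ a ∈ A, ∀ b ∈ B, b ∈ KL L φ → cm b (cm a v) = 0 := by
    rintro a ⟨-, u, hu, -, h1⟩ b hb hb'
    exact h.perp0 hb hb' hu h1
  have hp1 : ∀ a ∈ A, a ≠ 1 → ∀ b ∈ B, cm b (cm a v) = 0 → b ∈ KL L φ := by
    rintro a ⟨ha, u, -, hux, h1⟩ ha1 b hb h0
    exact h.perp1 hE hx hne hv ha ha1 hux h1 hb h0
  have hAK : ∀ a ∈ A, a ∈ KL L φ := by
    intro a ha
    by_cases ha1 : a = 1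
    · rw [ha1]
      exact one_mem _
    · exact hp1 a ha ha1 a ha.1 (cm_eq_zero.2 (h.nb.smul_cm_self ha.1 v))
  -- no offender
  have hlt : Nat.card A * Nat.card ((B ⊓ KL L φ : Subgroup Y)) < 2 * Nat.card B := by
    obtain ⟨E, hE', hc⟩ := h.card_VH hv (inf_le_left : B ⊓ KL L φ ≤ B)
    have h1 : Nat.card E ≤ Nat.card {v : V // Fx A v} := by
      refine Nat.card_le_card_of_injective (fun u : E => (⟨u, ?_⟩ : {v : V // Fx A v})) ?_
      · intro a ha
        obtain ⟨b, hb, h1⟩ := (hE' u).1 u.2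
        rw [← cm_eq_zero, ← h.cm_cm_of_fx ha.1 h1, cm_comm (h.nb.comm a ha.1 b hb.1)]
        exact hp0 a ha b hb.1 hb.2
      · intro u u' h2
        exact Subtype.ext (congrArg (fun p : {v : V // Fx A v} => (p : V)) h2)
    have h2 := h.noff A (by
      rintro h0
      obtain ⟨a, ha, ha1⟩ := hAne
      rw [h0, mem_bot] at ha
      exact ha1 ha) (fun a ha b hb => h.nb.comm a ha.1 b hb.1) (fun a ha => h.nb.sq a ha.1)
    rw [h.card_V] at h2
    have h3 := lt_of_le_of_lt (Nat.mul_le_mul_left (Nat.card A) h1) h2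
    rw [hc, ← mul_assoc, ← mul_assoc] at h3
    exact lt_of_mul_lt_mul_right h3 (Nat.zero_le _)
  have hC2 := h.card_C2 hx hne hv hE hA
  let C : AddSubgroup V :=
    { carrier := {u | u ∈ PW L w ∧ Fx B u}
      zero_mem' := ⟨zero_mem _, Fx.zero B⟩
      add_mem' := fun h1 h2 => ⟨add_mem h1.1 h2.1, h1.2.add h2.2⟩
      neg_mem' := by
        intro u hu
        rw [neg_eq]
        exact hu }
  have hC : Nat.card C = Nat.card A * Nat.card (VL V L) := by
    rw [← hC2]
    refine Nat.card_congr ⟨fun u => ⟨x • u, smul_mem_PW hx u.2.1, by rw [inv_smul_smul]; exact u.2.2⟩,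
      fun u => ⟨x⁻¹ • u, smul_mem_PW (inv_mem hx) u.2.1, u.2.2⟩, fun u => Subtype.ext ?_,
      fun u => Subtype.ext ?_⟩
    · exact inv_smul_smul x _
    · exact smul_inv_smul x _
  have hpos : 0 < Nat.card ((B ⊓ KL L φ : Subgroup Y)) := Nat.card_pos
  have hpos' : 0 < Nat.card (VL V L) := Nat.card_pos
  have main : ∀ u ∈ PW L w, Fx B (x⁻¹ • u) → ¬ Fx L u →
      (∀ t ∈ PW L w, Fx B t → ∃ b ∈ B, Fx L (cm b u + t)) ∧
      Nat.card A * Nat.card ((B ⊓ KL L φ : Subgroup Y)) = Nat.card B := by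
    intro u hu hux huL
    obtain ⟨R, hR, hRc⟩ := h.exists_R hE hx hne hu hux huL
    have hRC : R ≤ C := by
      intro n hn
      obtain ⟨b, hb, h1⟩ := (hR n).1 hn
      have h2 : n = cm b u + (cm b u + n) := by rw [← add_assoc, add_self, zero_add]
      rw [h2]
      exact ⟨add_mem (cm_mem_PW (h.le hb) hu) (VL_le_PW h1),
        (h.nb.ed u (h.phi_PW hE hu) b hb).add (h.fx_B h1)⟩
    have h1 : Nat.card C < 2 * Nat.card R := by
      have h2 : Nat.card C * Nat.card ((B ⊓ KL L φ : Subgroup Y)) <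
          2 * Nat.card R * Nat.card ((B ⊓ KL L φ : Subgroup Y)) := by
        rw [hC, mul_assoc 2, hRc]
        calc Nat.card A * Nat.card (VL V L) * Nat.card ((B ⊓ KL L φ : Subgroup Y))
            = Nat.card A * Nat.card ((B ⊓ KL L φ : Subgroup Y)) * Nat.card (VL V L) := by ring
          _ < 2 * Nat.card B * Nat.card (VL V L) := Nat.mul_lt_mul_of_pos_right hlt hpos'
          _ = 2 * (Nat.card B * Nat.card (VL V L)) := by ring
      exact lt_of_mul_lt_mul_right h2 (Nat.zero_le _)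
    obtain ⟨m, hm⟩ := AddSubgroup.card_dvd_of_le hRC
    have hCpos : 0 < Nat.card C := Nat.card_pos
    have hm1 : m = 1 := by
      have h3 : m ≠ 0 := by
        rintro rfl
        rw [mul_zero] at hm
        omega
      have h4 : m < 2 := by
        by_contra hc
        have h5 : 2 ≤ m := by omega
        have h6 := Nat.mul_le_mul_left (Nat.card R) h5
        rw [← hm] at h6
        omega
      omega
    rw [hm1, mul_one] at hm
    have hRC' : R = C := AddSubgroup.eq_of_le_of_card_ge hRC hm.le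
    refine ⟨fun t ht htB => ?_, ?_⟩
    · have h3 : t ∈ R := by
        rw [hRC']
        exact ⟨ht, htB⟩
      exact (hR t).1 h3
    · rw [← hm, hC] at hRc
      have h4 : Nat.card A * Nat.card ((B ⊓ KL L φ : Subgroup Y)) * Nat.card (VL V L) =
          Nat.card B * Nat.card (VL V L) := by
        rw [← hRc]
        ring
      exact Nat.eq_of_mul_eq_mul_right hpos' h4
  exact ⟨A, fun a ha => ha.1, hAK, hAne, hp0, hp1, (main _ hxw hxw' hxwL).2,
    fun u hu hux huL => (main u hu hux huL).1⟩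

end MP

end Cfsg.Agent.Omega.NearFF

end
end

-- part: Mrg/Omega/NO1/FrPlusMain
section
-- merged: Cfsg.Agent.Mrg.Omega.NO1.FrRep
section

/-!
# The bridge from the frames of TEXT B4 to the modules of #17521 (helper438)

`Fr S P M F`, `R : Rep S P (zl S P) Y V T Mx`, (+) give `HE.Pts Y (Y ⧸ Mx)` and
`HE.Fr |V_P : V_P ∩ E_F| T 1 (V_P ∩ E_F) (V_P ∩ F) B`, `B` a complement of the image of `C_W(E)` in the image of
`W = W_F`.
-/

set_option autoImplicit false
set_option linter.unusedSectionVars false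

namespace Cfsg.Agent.Omega.NO1.FrRep

open Subgroup Cfsg Cfsg.Agent.ZN Cfsg.Agent.Omega.MinPar Cfsg.Agent.Omega.Frame
open Cfsg.Agent.Omega.NOne.Flat (Hyp Bad WW NN)
open Cfsg.Agent.Omega.NOne.NearFF (c c_def)
open scoped Pointwise

universe u

section compl

variable {Y : Type u} [Group Y] [Finite Y]

/-- Complements in elementary abelian 2-groups. -/
theorem exists_compl {U N : Subgroup Y} (hc : ∀ a ∈ U, ∀ b ∈ U, a * b = b * a) (hsq : ∀ a ∈ U, a * a = 1)
    (hN : N ≤ U) : ∃ B ≤ U, B ⊓ N = ⊥ ∧ ∀ u ∈ U, ∃ b ∈ B, ∃ n ∈ N, u = b * n := by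
  classical
  obtain ⟨B, hB⟩ := (Set.toFinite {B : Subgroup Y | B ≤ U ∧ B ⊓ N = ⊥}).exists_maximal
    ⟨⊥, bot_le, bot_inf_eq N⟩
  obtain ⟨⟨hBU, hBN⟩, hmax⟩ := hB
  refine ⟨B, hBU, hBN, fun u hu => ?_⟩
  by_contra hcon
  push Not at hcon
  have hu0 : u ∉ B := fun h1 => hcon u h1 1 (one_mem _) (mul_one u).symm
  let B' : Subgroup Y :=
    { carrier := {x | x ∈ B ∨ u * x ∈ B}
      mul_mem' := by
        rintro a b (ha | ha) (hb | hb)
        · exact Or.inl (mul_mem ha hb)
        · right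
          have e : u * (a * b) = a * (u * b) := by
            rw [← mul_assoc, hc u hu a (hBU ha), mul_assoc]
          rw [e]
          exact mul_mem ha hb
        · right
          rw [← mul_assoc]
          exact mul_mem ha hb
        · left
          have hbU : b ∈ U := by
            have := mul_mem hu (hBU hb)
            rwa [← mul_assoc, hsq u hu, one_mul] at this
          have haU : a ∈ U := by
            have := mul_mem hu (hBU ha)
            rwa [← mul_assoc, hsq u hu, one_mul] at this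
          have e : a * b = u * a * (u * b) := by
            calc a * b = u * u * (a * b) := by rw [hsq u hu, one_mul]
              _ = u * (u * a) * b := by group
              _ = u * (a * u) * b := by rw [hc u hu a haU]
              _ = _ := by group
          rw [e]
          exact mul_mem ha hb
      one_mem' := Or.inl (one_mem _)
      inv_mem' := by
        rintro a (ha | ha)
        · exact Or.inl (inv_mem ha)
        · right
          have haU : a ∈ U := by
            have := mul_mem hu (hBU ha)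
            rwa [← mul_assoc, hsq u hu, one_mul] at this
          have h1 : a⁻¹ = a := inv_eq_of_mul_eq_one_left (hsq a haU)
          rw [h1]
          exact ha }
  have h1 : B ≤ B' := fun x hx => Or.inl hx
  have h2 : B' ≤ U := by
    rintro x (hx | hx)
    · exact hBU hx
    · have := mul_mem hu (hBU hx)
      rwa [← mul_assoc, hsq u hu, one_mul] at this
  have h3 : B' ⊓ N = ⊥ := by
    rw [eq_bot_iff]
    rintro x ⟨hx, hxN⟩
    rcases hx with hx | hx
    · rw [← hBN]; exact ⟨hx, hxN⟩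
    · exfalso
      refine hcon _ hx x⁻¹ (inv_mem hxN) ?_
      group
  have h4 : B' ≤ B := hmax ⟨h2, h3⟩ h1
  exact hu0 (h4 (Or.inr (by rw [hsq u hu]; exact one_mem _)))

end compl

variable {G : Type u} [Group G] [Finite G] {S : Sylow 2 G} {P M F : Subgroup G}
  {Y V : Type u} [Group Y] [Finite Y] [AddCommGroup V] [DistribMulAction Y V] {T : Sylow 2 Y} {Mx : Subgroup Y}
  (R : Rep (S : Subgroup G) P (zl (S : Subgroup G) P) Y V T Mx)

/-- The additive subgroup of the module given by `A ≤ G`. -/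
def co (A : Subgroup G) : AddSubgroup V where
  carrier := {m | R.el m ∈ A}
  add_mem' := by
    intro a b ha hb
    change R.el (a + b) ∈ A
    rw [R.add]
    exact mul_mem ha hb
  zero_mem' := by
    change R.el 0 ∈ A
    rw [R.el_zero]
    exact one_mem _
  neg_mem' := by
    intro a ha
    have h1 : -a = a := neg_eq_of_add_eq_zero_left (R.two a)
    rw [h1]
    exact ha

theorem mem_co {A : Subgroup G} {m : V} : m ∈ co R A ↔ R.el m ∈ A := Iff.rfl

include R in
theorem ext_y {y y' : Y} (h : ∀ m : V, y • m = y' • m) : y = y' := by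
  have h1 : y'⁻¹ * y = 1 := R.faith _ fun m => by rw [mul_smul, h, inv_smul_smul]
  exact (inv_mul_eq_one.1 h1).symm

theorem el_c {s : G} (hs : s ∈ P) (m : V) : R.el (R.ac ⟨s, hs⟩ • m + m) = c (R.el m) s := by
  rw [add_comm, R.add, R.smul, c_def]
  have h1 : (R.el m)⁻¹ = R.el m := R.el_inv m
  rw [h1]
  group

theorem two_iff {a b : V} (R : Rep (S : Subgroup G) P (zl (S : Subgroup G) P) Y V T Mx) :
    a + b = 0 ↔ a = b := by
  constructor
  · intro h
    have h1 : a + b + b = b := by rw [h, zero_add]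
    rwa [add_assoc, R.two, add_zero] at h1
  · rintro rfl
    exact R.two a

section fr

variable (h : Fr S P M F)
include h

theorem W_le_P : WW (zl (S : Subgroup G) M) F ≤ P := h.W_le_S.trans h.cfg.S_le

include R in
theorem top1 : Top1 T Mx where
  TM := R.TM
  M_ne := R.Mne
  max := R.max
  o2 := R.core
  T_ne := by
    intro h1
    apply h.W_not
    have h2 : WW (zl (S : Subgroup G) M) F ≤ (S : Subgroup G) ⊓ centralizer (zl (S : Subgroup G) P : Set G) := by
      refine le_inf h.W_le_S fun s hs => ?_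
      have hsP := W_le_P h hs
      have h3 : R.ac ⟨s, hsP⟩ ∈ (T : Subgroup Y) := (R.mem_T _).2 ⟨⟨s, hsP⟩, h.W_le_S hs, rfl⟩
      rw [h1, mem_bot] at h3
      exact R.ac_eq_one.1 h3
    exact h2.trans h.cfg.S_inf_centralizer.le

/-- (+) for the module -/
theorem plus_of (hp : PlusAt (S : Subgroup G) P (NOne.Flat.EE (zl (S : Subgroup G) M) F)) {g : Y} {m : V}
    (hm : m ≠ 0) (hfix : ∀ t ∈ (T : Subgroup Y), t • m = m)
    (hE : R.el (g • m) ∈ NOne.Flat.EE (zl (S : Subgroup G) M) F) : g ∈ Mx := by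
  obtain ⟨⟨p, hpP⟩, rfl⟩ := R.acs g
  have hz : R.el m ∈ zc (S : Subgroup G) := by
    refine ChoiceBase.mem_zc.2 ⟨h.cfg.V_le_S (R.mem m), by rw [sq]; exact R.el_sq m, fun s hs => ?_⟩
    have hsP := h.cfg.S_le hs
    have h1 := hfix _ ((R.mem_T _).2 ⟨⟨s, hsP⟩, hs, rfl⟩)
    have h2 := R.smul ⟨s, hsP⟩ m
    rw [h1] at h2
    have h3 : R.el m = s * R.el m * s⁻¹ := h2
    calc s * R.el m = (s * R.el m * s⁻¹) * s := by group
      _ = R.el m * s := by rw [← h3]
  have hz1 : R.el m ≠ 1 := fun h1 => hm (R.el_eq_one.1 h1)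
  have h1 : (S : Subgroup G) ⊔ zpowers p ≠ P := by
    refine hp p hpP _ hz hz1 ?_
    have h2 := R.smul ⟨p, hpP⟩ m
    rw [h2] at hE
    exact hE
  by_contra hg
  apply h1
  have hSp : (S : Subgroup G) ⊔ zpowers p ≤ P := sup_le h.cfg.S_le (zpowers_le.2 hpP)
  -- `⟨T, g⟩ = Y`
  have h2 : (T : Subgroup Y) ⊔ zpowers (R.ac ⟨p, hpP⟩) = ⊤ := by
    by_contra hne
    exact hg (R.max _ le_sup_left hne (le_sup_right (a := (T : Subgroup Y)) (mem_zpowers _)))
  have h3 : P ≤ ((S : Subgroup G) ⊔ zpowers p) ⊔ (P ⊓ centralizer (zl (S : Subgroup G) P : Set G)) := by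
    intro x hx
    have h4 : R.ac ⟨x, hx⟩ ∈ R.im ((S : Subgroup G) ⊔ zpowers p) := by
      have h5 : (T : Subgroup Y) ⊔ zpowers (R.ac ⟨p, hpP⟩) ≤ R.im ((S : Subgroup G) ⊔ zpowers p) := by
        refine sup_le ?_ ?_
        · intro t ht
          obtain ⟨⟨s, hsP⟩, hs, rfl⟩ := (R.mem_T t).1 ht
          exact R.mem_im.2 ⟨s, hsP, le_sup_left (a := (S : Subgroup G)) hs, rfl⟩
        · rw [zpowers_le]
          exact R.mem_im.2 ⟨p, hpP, le_sup_right (a := (S : Subgroup G)) (mem_zpowers p), rfl⟩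
      rw [h2] at h5
      exact h5 (mem_top _)
    obtain ⟨a, haP, ha, hax⟩ := R.mem_im.1 h4
    have h6 : R.ac (⟨a, haP⟩⁻¹ * ⟨x, hx⟩) = 1 := by rw [map_mul, map_inv, hax, inv_mul_cancel]
    have h7 := R.ac_eq_one.1 h6
    have h8 : x = a * (a⁻¹ * x) := by group
    rw [h8]
    exact mul_mem (le_sup_left (a := (S : Subgroup G) ⊔ zpowers p) ha)
      (le_sup_right (a := (S : Subgroup G) ⊔ zpowers p) (mem_inf.2 ⟨P.mul_mem (P.inv_mem haP) hx, h7⟩))
  -- the unique maximal subgroup of `P` over `S`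
  obtain ⟨M₀, hM₀, hM₁⟩ := h.cfg.par.toIsMinPar.exists_max
  by_contra hne
  have h4 : (S : Subgroup G) ⊔ zpowers p ≤ M₀ := hM₁ _ le_sup_left (lt_of_le_of_ne hSp hne)
  have h5 : (S : Subgroup G) ⊔ (P ⊓ centralizer (zl (S : Subgroup G) P : Set G)) ≤ M₀ := by
    refine hM₁ _ le_sup_left (lt_of_le_of_ne (sup_le h.cfg.S_le inf_le_left) fun h6 => R.Mne ?_)
    rw [eq_top_iff]
    intro y _
    obtain ⟨⟨x, hx⟩, rfl⟩ := R.acs y
    apply R.TM
    have hx' := hx
    rw [← h6] at hx'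
    have h7 : ((S : Subgroup G) ⊔ (P ⊓ centralizer (zl (S : Subgroup G) P : Set G))).subgroupOf P ≤
        (T : Subgroup Y).comap R.ac := by
      have e1 : ((S : Subgroup G) ⊔ (P ⊓ centralizer (zl (S : Subgroup G) P : Set G))).subgroupOf P =
          (S : Subgroup G).subgroupOf P ⊔
            (P ⊓ centralizer (zl (S : Subgroup G) P : Set G)).subgroupOf P :=
        subgroupOf_sup h.cfg.S_le inf_le_left
      rw [e1]
      refine sup_le ?_ ?_
      · intro s hs
        exact (R.mem_T _).2 ⟨s, hs, rfl⟩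
      · intro s hs
        have h8 : R.ac s = 1 := R.ac_eq_one.2 hs.2
        change R.ac s ∈ (T : Subgroup Y)
        rw [h8]
        exact one_mem _
    exact h7 (show (⟨x, hx⟩ : P) ∈ _ from hx')
  exact hM₀.not_ge (h3.trans (sup_le h4 (le_sup_right.trans h5)))

/-- **The bridge.** -/
theorem exists_fr' (hp : PlusAt (S : Subgroup G) P (NOne.Flat.EE (zl (S : Subgroup G) M) F)) :
    ∃ B : Subgroup Y, HE.Fr ((co R (NOne.Flat.EE (zl (S : Subgroup G) M) F)).index) T ((1 : Y) : Y ⧸ Mx)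
      (co R (NOne.Flat.EE (zl (S : Subgroup G) M) F)) (co R F) B := by
  have H := h.hyp
  have hfl := h.fdat.flat
  have hWP := W_le_P h
  set VV : Subgroup G := zl (S : Subgroup G) M with hVV
  set E : Subgroup G := NOne.Flat.EE VV F with hE
  have hV : ∀ m : V, R.el m ∈ VV := fun m => h.VP_le (R.mem m)
  have hNW : NN VV F ≤ WW VV F := inf_le_left
  -- the image of `W`
  have hU : ∀ y ∈ R.im (WW VV F), ∃ (s : G) (hs : s ∈ P), s ∈ WW VV F ∧ R.ac ⟨s, hs⟩ = y := fun y hy => R.mem_im.1 hy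
  have hcomm : ∀ a ∈ R.im (WW VV F), ∀ b ∈ R.im (WW VV F), a * b = b * a := by
    intro a ha b hb
    obtain ⟨s, hs, hsW, rfl⟩ := hU a ha
    obtain ⟨t, ht, htW, rfl⟩ := hU b hb
    refine ext_y R fun m => R.inj ?_
    rw [mul_smul, mul_smul, R.smul, R.smul, R.smul, R.smul]
    exact hfl.ab s hsW t htW _ (R.mem m)
  have hsq : ∀ a ∈ R.im (WW VV F), a * a = 1 := by
    intro a ha
    obtain ⟨s, hs, hsW, rfl⟩ := hU a ha
    refine ext_y R fun m => R.inj ?_
    rw [mul_smul, R.smul, R.smul, one_smul]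
    exact hfl.inv s hsW _ (R.mem m)
  have hNU : R.im (NN VV F) ≤ R.im (WW VV F) := by
    intro y hy
    obtain ⟨s, hs, hsN, rfl⟩ := R.mem_im.1 hy
    exact R.mem_im.2 ⟨s, hs, hNW hsN, rfl⟩
  obtain ⟨B, hBU, hBN, hdec⟩ := exists_compl hcomm hsq hNU
  -- the elements of the image of `N`
  have hN1 : ∀ n ∈ R.im (NN VV F), ∀ m : V, n • m + m ∈ co R F := by
    intro n hn m
    obtain ⟨s, hs, hsN, rfl⟩ := R.mem_im.1 hn
    rw [mem_co, el_c]
    exact H.c_mem_F (hV m) hsN
  have hN2 : ∀ n ∈ R.im (NN VV F), ∀ m ∈ co R E, n • m = m := by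
    intro n hn m hm
    obtain ⟨s, hs, hsN, rfl⟩ := R.mem_im.1 hn
    apply R.inj
    rw [R.smul]
    have h1 : s * R.el m = R.el m * s := (mem_centralizer_iff.1 hsN.2 _ hm).symm
    change s * R.el m * s⁻¹ = R.el m
    rw [h1, mul_inv_cancel_right]
  have hFfix : ∀ b ∈ R.im (WW VV F), ∀ m ∈ co R F, b • m = m := by
    intro b hb m hm
    obtain ⟨s, hs, hsW, rfl⟩ := hU b hb
    rw [← two_iff R]
    apply R.inj
    rw [el_c, R.el_zero]
    exact NOne.Flat.Hyp.c_F hm hsW
  have hsurj : ∀ w, w ∉ co R E → ∀ e ∈ co R E, ∃ b ∈ B, b • w + w + e ∈ co R F := by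
    intro w hw e he
    obtain ⟨s, hsW, f, hf, hfe⟩ := hfl.reg (R.el w) (R.mem w) (fun h1 => hw h1.2) (R.el e) ⟨R.mem e, he⟩
    have hs := hWP hsW
    obtain ⟨b, hb, n, hn, hbn⟩ := hdec (R.ac ⟨s, hs⟩) (R.mem_im.2 ⟨s, hs, hsW, rfl⟩)
    refine ⟨b, hb, ?_⟩
    have h1 : R.ac ⟨s, hs⟩ • w + w + e ∈ co R F := by
      rw [mem_co, R.add, el_c, c_def]
      have e1 : R.el w * s * (R.el w)⁻¹ * s⁻¹ = (R.el w)⁻¹ * (s * R.el w * s⁻¹) := by
        rw [R.el_inv]; group
      rw [e1, hfe]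
      have e2 : (R.el w)⁻¹ * (s * R.el w * s⁻¹) * ((R.el w)⁻¹ * (s * R.el w * s⁻¹) * f) = f := by
        have h2 : (R.el w)⁻¹ * (s * R.el w * s⁻¹) ∈ zl (S : Subgroup G) P := (zl (S : Subgroup G) P).mul_mem (inv_mem (R.mem w)) (hfl.norm s hsW _ (R.mem w))
        have h3 := h.cfg.V_sq _ h2
        rw [← mul_assoc, ← sq, h3, one_mul]
      rw [e2]
      exact hf.2
    rw [hbn, mul_smul] at h1
    -- `b n w = b w + f`
    have h2 := hN1 n hn w
    have h3 : b • (n • w) = b • w + (n • w + w) := by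
      have h4 : b • (n • w + w) = n • w + w := hFfix b (hBU hb) _ h2
      rw [smul_add] at h4
      calc b • (n • w) = b • (n • w) + (b • w + b • w) := by rw [R.two, add_zero]
        _ = (b • (n • w) + b • w) + b • w := by abel
        _ = b • w + (n • w + w) := by rw [h4, add_comm]
    rw [h3] at h1
    have h5 : b • w + w + e = (b • w + (n • w + w) + w + e) + (n • w + w) := by
      have h6 : (b • w + (n • w + w) + w + e) + (n • w + w) =
          b • w + w + e + ((n • w + w) + (n • w + w)) := by abel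
      rw [h6, R.two, add_zero]
    rw [h5]
    exact (co R F).add_mem h1 h2
  refine ⟨B, ?_⟩
  exact
    { at' := by
        intro t ht
        change ((t * 1 : Y) : Y ⧸ Mx) = ((1 : Y) : Y ⧸ Mx)
        rw [mul_one, eq_comm, QuotientGroup.eq, inv_one, one_mul]
        exact R.TM ht
      ind := rfl
      BT := by
        intro b hb
        obtain ⟨s, hs, hsW, rfl⟩ := hU b (hBU hb)
        exact (R.mem_T _).2 ⟨⟨s, hs⟩, h.W_le_S hsW, rfl⟩
      comm := fun b hb b' hb' => hcomm b (hBU hb) b' (hBU hb')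
      sq := fun b hb => hsq b (hBU hb)
      FE := fun m hm => H.F_lt_E.le hm
      VB := by
        intro b hb m
        obtain ⟨s, hs, hsW, rfl⟩ := hU b (hBU hb)
        rw [mem_co, el_c]
        exact H.c_memE (hV m) hsW
      EB := by
        intro b hb m hm
        obtain ⟨s, hs, hsW, rfl⟩ := hU b (hBU hb)
        rw [mem_co, el_c]
        exact H.comm_EW hm hsW
      FB := fun b hb => hFfix b (hBU hb)
      CB := by
        intro v hv
        by_cases hvE : v ∈ co R E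
        · -- `U` fixes `v`
          have h1 : R.el v ∈ zl (S : Subgroup G) P ⊓ centralizer (WW VV F : Set G) := by
            refine ⟨R.mem v, mem_centralizer_iff.2 fun s hsW => ?_⟩
            have hs := hWP hsW
            obtain ⟨b, hb, n, hn, hbn⟩ := hdec (R.ac ⟨s, hs⟩) (R.mem_im.2 ⟨s, hs, hsW, rfl⟩)
            have h2 : R.ac ⟨s, hs⟩ • v = v := by rw [hbn, mul_smul, hN2 n hn v hvE, hv b hb]
            have h3 := R.smul ⟨s, hs⟩ v
            rw [h2] at h3
            have h4 : R.el v = s * R.el v * s⁻¹ := h3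
            calc s * R.el v = (s * R.el v * s⁻¹) * s := by group
              _ = R.el v * s := by rw [← h4]
          rw [← hfl.F_eq] at h1
          exact h1.2
        · exfalso
          apply hfl.ne
          rintro e ⟨he, heE⟩
          obtain ⟨m, rfl⟩ := R.surj e he
          obtain ⟨b, hb, h1⟩ := hsurj v hvE m heE
          rw [hv b hb, R.two, zero_add] at h1
          exact ⟨he, h1⟩
      inj := by
        intro w hw b hb h1
        obtain ⟨s, hs, hsW, rfl⟩ := hU b (hBU hb)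
        rw [mem_co, el_c] at h1
        have h2 : s ∈ NN VV F := (H.c_mem_F_iff (hV w) hw hsW).1 h1
        have h3 : R.ac ⟨s, hs⟩ ∈ B ⊓ R.im (NN VV F) := ⟨hb, R.mem_im.2 ⟨s, hs, h2, rfl⟩⟩
        rw [hBN, mem_bot] at h3
        exact h3
      surj := hsurj
      ne := by
        obtain ⟨v, hv, hvE⟩ := SetLike.not_le_iff_exists.1 hfl.ne'
        obtain ⟨m, rfl⟩ := R.surj v hv
        exact ⟨m, fun h1 => hvE ⟨hv, h1⟩⟩
      ne' := by
        obtain ⟨v, hv, hvF⟩ := SetLike.not_le_iff_exists.1 hfl.ne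
        obtain ⟨m, rfl⟩ := R.surj v hv.1
        exact ⟨m, hv.2, fun h1 => hvF ⟨hv.1, h1⟩⟩
      plus := by
        rintro T' q hq ⟨v, hvE, hv0, hfix⟩
        obtain ⟨g, rfl⟩ := MulAction.exists_smul_eq Y T T'
        have h1 : g ∈ Mx := by
          refine plus_of R h hp (m := g⁻¹ • v) (fun h0 => hv0 ?_) (fun t ht => ?_) ?_
          · rwa [inv_smul_eq_iff, smul_zero] at h0
          · have h2 := hfix (g * t * g⁻¹) (by
              rw [HE.mem_smul_sylow]
              have e : g⁻¹ * (g * t * g⁻¹) * g = t := by group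
              rwa [e])
            rw [mul_smul, mul_smul, ← eq_inv_smul_iff] at h2
            exact h2
          · rw [smul_inv_smul]
            exact hvE
        have h2 := (top1 R h).pts.one (g • T) q ((1 : Y) : Y ⧸ Mx) hq ?_
        · exact h2
        · intro t ht
          rw [HE.mem_smul_sylow] at ht
          change ((t * 1 : Y) : Y ⧸ Mx) = ((1 : Y) : Y ⧸ Mx)
          rw [mul_one, eq_comm, QuotientGroup.eq, inv_one, one_mul]
          have h3 := mul_mem (mul_mem h1 (R.TM ht)) (inv_mem h1)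
          have e : g * (g⁻¹ * t * g) * g⁻¹ = t := by group
          rwa [e] at h3 }

end fr

theorem card_co {A : Subgroup G} : Nat.card (co R A) = Nat.card ↥(A ⊓ zl (S : Subgroup G) P) :=
  Nat.card_congr (Equiv.ofBijective (fun m : co R A => (⟨R.el m, m.2, R.mem m⟩ : ↥(A ⊓ zl (S : Subgroup G) P)))
    ⟨fun a b h => Subtype.ext (R.inj (congrArg Subtype.val h)), fun v => by
      obtain ⟨m, hm⟩ := R.surj v v.2.2
      exact ⟨⟨m, by rw [mem_co, hm]; exact v.2.1⟩, Subtype.ext hm⟩⟩)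

/-- `|V_P : V_P ∩ A|` in the module -/
theorem index_co {A : Subgroup G} : (co R A).index = A.relIndex (zl (S : Subgroup G) P) := by
  have h1 := (co R A).card_mul_index
  have h2 := NOne.Flat.card_mul_relIndex' (inf_le_right : A ⊓ zl (S : Subgroup G) P ≤ zl (S : Subgroup G) P)
  rw [inf_relIndex_right] at h2
  rw [R.card_M, ← h2, card_co] at h1
  exact Nat.eq_of_mul_eq_mul_left Nat.card_pos h1

end Cfsg.Agent.Omega.NO1.FrRep

end

-- merged: Cfsg.Agent.Mrg.Omega.NO1.HE.Norm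
section

/-!
# (11) of text #17521: `φ b x = N(b) x`

* `hua` : an additive `f` with `f 1 = 1`, `f (s⁻¹) = f s * s⁻¹` satisfies `f (s²) = s`;
* `Q.lin`, `Q.sq` : `φ` is `k`-linear in `x` and quadratic in `b`;
* `normStmt : NormStmt`.
-/

set_option autoImplicit false

namespace Cfsg.Agent.Omega.NO1.HE

universe u

section Hua

variable {k : Type*} [Field k]

theorem hua (h2 : ∀ t : k, t + t = 0) (f : k → k) (hadd : ∀ s t, f (s + t) = f s + f t) (h1 : f 1 = 1)
    (h : ∀ s, s ≠ 0 → f s⁻¹ = f s * s⁻¹) (s : k) : f (s * s) = s := by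
  have h0 : f 0 = 0 := by
    have := hadd 0 0
    rw [add_zero, h2] at this
    exact this
  by_cases hs : s = 0
  · rw [hs, mul_zero, h0]
  by_cases hs1 : s = 1
  · rw [hs1, mul_one, h1]
  have hs2 : 1 + s ≠ 0 := by
    intro h3
    apply hs1
    calc s = 1 + (1 + s) := by rw [← add_assoc, h2, zero_add]
      _ = 1 := by rw [h3, add_zero]
  have hk : s * (1 + s) ≠ 0 := mul_ne_zero hs hs2
  have e1 : (s * (1 + s))⁻¹ = s⁻¹ + (1 + s)⁻¹ := by
    have h3 : s⁻¹ + (1 + s)⁻¹ = (1 + (s + s)) * (s * (1 + s))⁻¹ := by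
      field_simp
      ring
    rw [h3, h2, add_zero, one_mul]
  have h4 := h _ hk
  rw [e1, hadd, h s hs, h _ hs2, hadd 1 s, h1] at h4
  have h5 : f (s * (1 + s)) = f s + f (s * s) := by
    rw [mul_add, mul_one, hadd]
  rw [h5] at h4
  have h6 : f s + f (s * s) = (f s * s⁻¹ + (1 + f s) * (1 + s)⁻¹) * (s * (1 + s)) := by
    rw [h4, ← e1, mul_assoc, inv_mul_cancel₀ hk, mul_one]
  have h7 : (f s * s⁻¹ + (1 + f s) * (1 + s)⁻¹) * (s * (1 + s)) = f s + s + (f s * s + f s * s) := by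
    field_simp
    ring
  rw [h7, h2, add_zero] at h6
  exact add_left_cancel h6

end Hua

variable {B X M D : Type u} [AddCommGroup B] [AddCommGroup X] [AddCommGroup M] [AddCommGroup D]

namespace Fld

variable {S : Sys B X M D} {k : Type u} [Field k] [Module k B] (F : Fld S k)
include F

theorem two (t : k) : t + t = 0 := by
  obtain ⟨x, rfl⟩ := F.eX.surjective t
  rw [← map_add, S.twoX, map_zero]

/-- `φ b` in coordinates -/
def ph (b : B) (t : k) : k := F.eD (S.φ b (F.eX.symm t))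

theorem ph_eX (b : B) (x : X) : F.ph b (F.eX x) = F.eD (S.φ b x) := by
  rw [ph, AddEquiv.symm_apply_apply]

theorem ph_add (b : B) (s t : k) : F.ph b (s + t) = F.ph b s + F.ph b t := by
  rw [ph, map_add, map_add, map_add]
  rfl

theorem ph_zero (b : B) : F.ph b 0 = 0 := by
  rw [ph, map_zero, map_zero, map_zero]

theorem f_smul' (r : k) (b c : B) : F.f b (r • c) = r * F.f b c := by
  rw [F.f_symm, F.f_smul, F.f_symm]

theorem ph_add_left (a b : B) (t : k) : F.ph (a + b) t = F.ph a t + F.ph b t + t * F.f b a := by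
  rw [ph, S.φ_add, map_add, map_add, F.hl, F.hτ, AddEquiv.apply_symm_apply, F.f_smul']
  rfl

theorem ph_inj {b : B} (hb : b ≠ 0) : Function.Injective (F.ph b) := fun _ _ h =>
  F.eX.symm.injective (S.φ_inj b hb (F.eD.injective h))

theorem ph_surj {b : B} (hb : b ≠ 0) : Function.Surjective (F.ph b) := by
  intro t
  obtain ⟨x, hx⟩ := S.φ_surj b hb (F.eD.symm t)
  exact ⟨F.eX x, by rw [ph_eX, hx, AddEquiv.apply_symm_apply]⟩

theorem ph_ne {b : B} (hb : b ≠ 0) {t : k} (ht : t ≠ 0) : F.ph b t ≠ 0 := fun h =>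
  ht (F.ph_inj hb (h.trans (F.ph_zero b).symm))

theorem f_surj {b : B} (hb : b ≠ 0) (y : k) : ∃ m, F.f b m = y := by
  obtain ⟨m, hm⟩ := S.l_surj b hb (F.eD.symm y)
  exact ⟨F.eM m, by rw [← F.hl, hm, AddEquiv.apply_symm_apply]⟩

/-- (R) for `b`, `r b` -/
theorem op {b : B} (hb : b ≠ 0) {r : k} (hr : r ≠ 0) (hr1 : r ≠ 1) : ∃ c, c ≠ 0 ∧
    (∀ s t, F.ph b s = F.ph (r • b) t → F.ph c (s + t) = F.ph b s ∧ (s + t) • c = (s + r * t) • b) ∧
    (∀ m s t, F.ph b s = F.f b m → F.ph (r • b) t = r * F.f b m → F.ph c (s + t) = F.f c m) := by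
  have hrb : r • b ≠ 0 := smul_ne_zero hr hb
  have hne : b ≠ r • b := by
    intro h
    have h1 : (r - 1) • b = 0 := by rw [sub_smul, one_smul, ← h, sub_self]
    rcases smul_eq_zero.1 h1 with h2 | h2
    · exact hr1 (sub_eq_zero.1 h2)
    · exact hb h2
  obtain ⟨c, hc, h1, h2⟩ := S.op b (r • b) hb hrb hne
  refine ⟨c, hc, ?_, ?_⟩
  · intro s t hst
    obtain ⟨z, hz1, hz2, hz3⟩ := h1 (F.eX.symm s) (F.eX.symm t) (F.eD.injective hst)
    have h3 : S.l (r • b) (S.τ b (F.eX.symm s)) = 0 := by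
      apply F.eD.injective
      rw [F.hl, F.hτ, F.f_smul', F.f_smul, F.f_self, mul_zero, mul_zero, map_zero]
    rw [h3] at hz3
    have h4 : z + F.eX.symm s + F.eX.symm t = 0 := S.φ_inj _ hrb (hz3.trans (map_zero _).symm)
    have h5 : F.eX z = s + t := by
      have h6 := congrArg F.eX h4
      rw [map_add, map_add, AddEquiv.apply_symm_apply, AddEquiv.apply_symm_apply, map_zero] at h6
      calc F.eX z = F.eX z + s + t + (s + t) := by
            have h7 : F.eX z + s + t + (s + t) = F.eX z + (s + s) + (t + t) := by ring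
            rw [h7, F.two, F.two, add_zero, add_zero]
        _ = s + t := by rw [h6, zero_add]
    constructor
    · rw [← h5, ph_eX, hz1]
      rfl
    · have h6 := congrArg F.eM hz2
      rw [map_add, F.hτ, F.hτ, F.hτ, AddEquiv.apply_symm_apply, AddEquiv.apply_symm_apply, h5, smul_smul,
        ← add_smul, mul_comm t r] at h6
      exact h6
  · intro m s t hs ht
    have h3 := h2 (F.eM.symm m) (F.eX.symm s) (F.eX.symm t) (by
      apply F.eD.injective
      rw [F.hl, AddEquiv.apply_symm_apply]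
      exact hs) (by
      apply F.eD.injective
      rw [F.hl, AddEquiv.apply_symm_apply, F.f_smul]
      exact ht)
    have h4 := congrArg F.eD h3
    rw [F.hl, AddEquiv.apply_symm_apply, ← map_add] at h4
    exact h4

/-- the scalar `μ` -/
theorem exists_mu {b : B} (hb : b ≠ 0) {r : k} (hr : r ≠ 0) (hr1 : r ≠ 1) : ∃ μ γ : k, μ ≠ 0 ∧
    (∀ s, F.ph (r • b) (μ * s) = F.ph b s) ∧ (∀ s, F.ph b (μ * s) = μ * F.ph b s) ∧
    γ * (1 + μ) = 1 + r * μ ∧ (∀ s, F.ph (γ • b) ((1 + μ) * s) = F.ph b s) := by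
  obtain ⟨c, hc, h1, h2⟩ := F.op hb hr hr1
  have hrb : r • b ≠ 0 := smul_ne_zero hr hb
  -- the function `t (s)`
  choose t ht using fun s => F.ph_surj hrb (F.ph b s)
  have h3 : ∀ s, s ≠ 0 → s + t s ≠ 0 := by
    intro s hs h0
    have h4 := (h1 s (t s) (ht s).symm).2
    have h5 : t s = s := by
      calc t s = s + (s + t s) := by rw [← add_assoc, F.two, zero_add]
        _ = s := by rw [h0, add_zero]
    rw [h0, zero_smul, h5] at h4
    rcases smul_eq_zero.1 h4.symm with h6 | h6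
    · have h7 : s * (1 + r) = 0 := by rw [← h6]; ring
      rcases mul_eq_zero.1 h7 with h8 | h8
      · exact hs h8
      · apply hr1
        calc r = 1 + (1 + r) := by rw [← add_assoc, F.two, zero_add]
          _ = 1 := by rw [h8, add_zero]
    · exact hb h6
  have hne1 : (1 : k) + t 1 ≠ 0 := h3 1 one_ne_zero
  set γ : k := (1 + t 1)⁻¹ * (1 + r * t 1) with hγ
  have hcγ : c = γ • b := by
    have h4 := (h1 1 (t 1) (ht 1).symm).2
    rw [hγ, mul_smul, ← h4, smul_smul, inv_mul_cancel₀ hne1, one_smul]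
  have hsc : ∀ s, (s + t s) * γ = s + r * t s := by
    intro s
    have h4 := (h1 s (t s) (ht s).symm).2
    rw [hcγ, smul_smul, ← sub_eq_zero, ← sub_smul] at h4
    rcases smul_eq_zero.1 h4 with h5 | h5
    · exact sub_eq_zero.1 h5
    · exact absurd h5 hb
  have key : ∀ s, t s * (γ + r) = s * (1 + γ) := by
    intro s
    have h4 := hsc s
    calc t s * (γ + r) = (s + t s) * γ + r * t s + s * γ - (s * γ + s * γ) := by ring
      _ = (s + r * t s) + r * t s + s * γ := by rw [F.two, sub_zero, h4]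
      _ = s * (1 + γ) + (r * t s + r * t s) := by ring
      _ = s * (1 + γ) := by rw [F.two, add_zero]
  have hγr : γ + r ≠ 0 := by
    intro h0
    have h4 := key 1
    rw [h0, mul_zero, one_mul] at h4
    apply hr1
    have h5 : γ = r := by
      calc γ = γ + r + r := by rw [add_assoc, F.two, add_zero]
        _ = r := by rw [h0, zero_add]
    rw [h5] at h4
    calc r = 1 + (1 + r) := by rw [← add_assoc, F.two, zero_add]
      _ = 1 := by rw [← h4, add_zero]
  set μ : k := (1 + γ) * (γ + r)⁻¹ with hμ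
  have hμγ : μ * (γ + r) = 1 + γ := by rw [hμ, mul_assoc, inv_mul_cancel₀ hγr, mul_one]
  have htμ : ∀ s, t s = μ * s := by
    intro s
    have h4 : t s = t s * (γ + r) * (γ + r)⁻¹ := by rw [mul_assoc, mul_inv_cancel₀ hγr, mul_one]
    rw [h4, key, hμ]
    ring
  have hA : ∀ s, F.ph (r • b) (μ * s) = F.ph b s := fun s => by rw [← htμ]; exact ht s
  have hB : ∀ s, F.ph (γ • b) ((1 + μ) * s) = F.ph b s := by
    intro s
    have h4 := (h1 s (t s) (ht s).symm).1
    rw [hcγ, htμ] at h4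
    have e : (1 + μ) * s = s + μ * s := by ring
    rw [e]
    exact h4
  have hμ0 : μ ≠ 0 := by
    intro h0
    have h4 := hA 1
    rw [h0, zero_mul, ph_zero] at h4
    exact F.ph_ne hb one_ne_zero h4.symm
  refine ⟨μ, γ, hμ0, hA, ?_, ?_, hB⟩
  · -- linearity
    have h4 : ∀ y s₁ s₂ s₃, F.ph b s₁ = γ * y → F.ph b s₂ = y → F.ph b s₃ = r * y →
        (1 + μ) * s₁ = s₂ + μ * s₃ := by
      intro y s₁ s₂ s₃ e1 e2 e3
      obtain ⟨m, hm⟩ := F.f_surj hb y
      have h5 := h2 m s₂ (μ * s₃) (by rw [e2, hm]) (by rw [hA, e3, hm])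
      rw [hcγ, F.f_smul, hm, ← e1, ← hB] at h5
      have hγb : γ • b ≠ 0 := hcγ ▸ hc
      exact (F.ph_inj hγb h5).symm
    intro s
    -- `y = ph b s / (γ + r)`
    obtain ⟨s₂, e2⟩ := F.ph_surj hb (F.ph b s * (γ + r)⁻¹)
    obtain ⟨s₁, e1⟩ := F.ph_surj hb (γ * (F.ph b s * (γ + r)⁻¹))
    obtain ⟨s₃, e3⟩ := F.ph_surj hb (r * (F.ph b s * (γ + r)⁻¹))
    have h5 := h4 _ s₁ s₂ s₃ e1 e2 e3
    have h6 : s₁ + s₃ = s := by
      apply F.ph_inj hb
      rw [F.ph_add, e1, e3]
      calc γ * (F.ph b s * (γ + r)⁻¹) + r * (F.ph b s * (γ + r)⁻¹) = F.ph b s * ((γ + r) * (γ + r)⁻¹) := by ring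
        _ = F.ph b s := by rw [mul_inv_cancel₀ hγr, mul_one]
    have h7 : s₁ + s₂ = μ * s := by
      calc s₁ + s₂ = (1 + μ) * s₁ + μ * s₁ + s₂ - (μ * s₁ + μ * s₁) := by ring
        _ = s₂ + μ * s₃ + μ * s₁ + s₂ := by rw [F.two, sub_zero, h5]
        _ = μ * (s₁ + s₃) + (s₂ + s₂) := by ring
        _ = μ * s := by rw [F.two, add_zero, h6]
    rw [← h7, F.ph_add, e1, e2]
    calc γ * (F.ph b s * (γ + r)⁻¹) + F.ph b s * (γ + r)⁻¹ = ((1 + γ) * (γ + r)⁻¹) * F.ph b s := by ring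
      _ = μ * F.ph b s := by rw [hμ]
  · have h4 := hsc 1
    rw [htμ, mul_one] at h4
    rw [mul_comm]
    exact h4

/-- the map `r ↦ φ (r b) / φ b` -/
def rho (b : B) (r : k) : k := F.ph (r • b) 1 * (F.ph b 1)⁻¹

theorem rho_add (b : B) (r s : k) : F.rho b (r + s) = F.rho b r + F.rho b s := by
  rw [rho, rho, rho, add_smul, ph_add_left, F.f_smul, F.f_smul', F.f_self, mul_zero, mul_zero, mul_zero,
    add_zero, add_mul]

theorem rho_one {b : B} (hb : b ≠ 0) : F.rho b 1 = 1 := by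
  rw [rho, one_smul, mul_inv_cancel₀ (F.ph_ne hb one_ne_zero)]

theorem ph_zero_left (t : k) : F.ph 0 t = 0 := by
  have h1 := F.ph_add_left 0 0 t
  rw [add_zero, F.f_self, mul_zero, add_zero, F.two] at h1
  exact h1

theorem rho_zero (b : B) : F.rho b 0 = 0 := by
  rw [rho, zero_smul, ph_zero_left, zero_mul]

theorem rho_mu {b : B} (hb : b ≠ 0) {r μ : k} (hμ : μ ≠ 0) (h1 : ∀ s, F.ph (r • b) (μ * s) = F.ph b s)
    (h2 : ∀ s, F.ph b (μ * s) = μ * F.ph b s) : F.rho b r = μ⁻¹ := by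
  have h3 : F.ph (r • b) 1 = F.ph b μ⁻¹ := by
    rw [← h1, mul_inv_cancel₀ hμ]
  have h4 : μ * F.ph b μ⁻¹ = F.ph b 1 := by rw [← h2, mul_inv_cancel₀ hμ]
  have h5 := F.ph_ne hb one_ne_zero
  rw [rho, h3]
  calc F.ph b μ⁻¹ * (F.ph b 1)⁻¹ = μ⁻¹ * (μ * F.ph b μ⁻¹) * (F.ph b 1)⁻¹ := by
        rw [← mul_assoc μ⁻¹, inv_mul_cancel₀ hμ, one_mul]
    _ = μ⁻¹ := by rw [h4, mul_assoc, mul_inv_cancel₀ h5, mul_one]

theorem rho_ne {b : B} (hb : b ≠ 0) {r : k} (hr : r ≠ 0) : F.rho b r ≠ 0 := by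
  rw [rho]
  exact mul_ne_zero (F.ph_ne (smul_ne_zero hr hb) one_ne_zero) (inv_ne_zero (F.ph_ne hb one_ne_zero))

theorem rho_inj {b : B} (hb : b ≠ 0) : Function.Injective (F.rho b) := by
  intro r s hrs
  by_contra hne
  have h1 : r + s ≠ 0 := by
    intro h0
    apply hne
    calc r = r + (s + s) := by rw [F.two, add_zero]
      _ = (r + s) + s := by ring
      _ = s := by rw [h0, zero_add]
  apply F.rho_ne hb h1
  rw [rho_add, hrs, F.two]

theorem rho_surj [Finite k] {b : B} (hb : b ≠ 0) : Function.Surjective (F.rho b) :=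
  Finite.surjective_of_injective (F.rho_inj hb)

theorem lin_rho {b : B} (hb : b ≠ 0) (r s : k) : F.ph b (F.rho b r * s) = F.rho b r * F.ph b s := by
  by_cases hr : r = 0
  · rw [hr, rho_zero, zero_mul, ph_zero, zero_mul]
  by_cases hr1 : r = 1
  · rw [hr1, F.rho_one hb, one_mul, one_mul]
  obtain ⟨μ, γ, hμ, h1, h2, -, -⟩ := F.exists_mu hb hr hr1
  rw [F.rho_mu hb hμ h1 h2]
  have h3 : F.ph b s = μ * F.ph b (μ⁻¹ * s) := by
    rw [← h2, ← mul_assoc, mul_inv_cancel₀ hμ, one_mul]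
  rw [h3, ← mul_assoc, inv_mul_cancel₀ hμ, one_mul]

/-- `q b = φ b 1` -/
def q (b : B) : k := F.ph b 1

/-- `φ b` is `k`-linear. -/
theorem lin [Finite k] (b : B) (t : k) : F.ph b t = t * F.q b := by
  by_cases hb : b = 0
  · rw [hb, q, ph_zero_left, ph_zero_left, mul_zero]
  obtain ⟨r, rfl⟩ := F.rho_surj hb t
  have h1 := F.lin_rho hb r 1
  rwa [mul_one] at h1

theorem rho_sq [Finite k] {b : B} (hb : b ≠ 0) (r : k) : F.rho b r = r * r := by
  choose g hg using F.rho_surj hb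
  have hg' : ∀ r, g (F.rho b r) = r := fun r => F.rho_inj hb (hg _)
  have hadd : ∀ s t, g (s + t) = g s + g t := fun s t => by
    apply F.rho_inj hb
    rw [hg, rho_add, hg, hg]
  have h1 : g 1 = 1 := by
    apply F.rho_inj hb
    rw [hg, F.rho_one hb]
  have h0 : g 0 = 0 := by
    apply F.rho_inj hb
    rw [hg, F.rho_zero]
  -- the relation
  have hrel : ∀ p, p ≠ 0 → p ≠ 1 → g (p * (1 + p)⁻¹) = (p + g p) * (1 + p)⁻¹ := by
    intro p hp hp1
    have hr : g p ≠ 0 := by
      intro h2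
      apply hp
      rw [← hg p, h2, rho_zero]
    have hr1 : g p ≠ 1 := by
      intro h2
      apply hp1
      rw [← hg p, h2, F.rho_one hb]
    have hp2 : 1 + p ≠ 0 := by
      intro h2
      apply hp1
      calc p = 1 + (1 + p) := by rw [← add_assoc, F.two, zero_add]
        _ = 1 := by rw [h2, add_zero]
    obtain ⟨μ, γ, hμ, e1, e2, e3, e4⟩ := F.exists_mu hb hr hr1
    have e5 := F.rho_mu hb hμ e1 e2
    rw [hg] at e5
    -- `μ = p⁻¹`
    have e6 : μ = p⁻¹ := by rw [e5, inv_inv]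
    have e7 : 1 + μ ≠ 0 := by
      intro h2
      have h3 := e4 1
      rw [h2, zero_mul, ph_zero] at h3
      exact F.ph_ne hb one_ne_zero h3.symm
    have e8 : F.rho b γ * (1 + μ) = 1 := by
      have h3 := e4 1
      have h4 : F.ph (γ • b) ((1 + μ) * 1) = (1 + μ) * F.ph (γ • b) 1 := by
        rw [F.lin (γ • b), mul_one, q]
      rw [h4] at h3
      rw [rho, mul_comm, ← mul_assoc, h3, mul_inv_cancel₀ (F.ph_ne hb one_ne_zero)]
    have e9 : F.rho b γ = p * (1 + p)⁻¹ := by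
      have h3 : 1 + μ = (1 + p) * p⁻¹ := by
        rw [e6, add_mul, mul_inv_cancel₀ hp, one_mul, add_comm]
      rw [h3] at e8
      calc F.rho b γ = F.rho b γ * ((1 + p) * p⁻¹) * (p * (1 + p)⁻¹) := by
            field_simp
        _ = p * (1 + p)⁻¹ := by rw [e8, one_mul]
    rw [← e9, hg']
    have h3 : 1 + μ = (1 + p) * p⁻¹ := by
      rw [e6, add_mul, mul_inv_cancel₀ hp, one_mul, add_comm]
    have h4 : 1 + g p * μ = (p + g p) * p⁻¹ := by
      rw [e6, add_mul, mul_inv_cancel₀ hp]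
    rw [h3, h4] at e3
    calc γ = γ * ((1 + p) * p⁻¹) * (p * (1 + p)⁻¹) := by field_simp
      _ = (p + g p) * p⁻¹ * (p * (1 + p)⁻¹) := by rw [e3]
      _ = (p + g p) * (1 + p)⁻¹ := by field_simp
  have hinv : ∀ s, s ≠ 0 → g s⁻¹ = g s * s⁻¹ := by
    intro s hs
    by_cases hs1 : s = 1
    · rw [hs1, inv_one, mul_one]
    have hp : 1 + s ≠ 0 := by
      intro h2
      apply hs1
      calc s = 1 + (1 + s) := by rw [← add_assoc, F.two, zero_add]
        _ = 1 := by rw [h2, add_zero]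
    have hp1 : 1 + s ≠ 1 := by
      intro h2
      exact hs (by simpa using h2)
    have h3 := hrel (1 + s) hp hp1
    have e1 : 1 + (1 + s) = s := by rw [← add_assoc, F.two, zero_add]
    have e2 : (1 + s) * s⁻¹ = 1 + s⁻¹ := by
      rw [add_mul, one_mul, mul_inv_cancel₀ hs, add_comm]
    rw [e1, e2, hadd, hadd 1 s, h1] at h3
    have e3 : (1 + s + (1 + g s)) * s⁻¹ = 1 + g s * s⁻¹ := by
      have e4 : (1 + s + (1 + g s)) = s + g s + (1 + 1) := by ring
      rw [e4, F.two, add_zero, add_mul, mul_inv_cancel₀ hs]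
    rw [e3] at h3
    exact add_left_cancel h3
  have h3 := hua F.two g hadd h1 hinv r
  rw [← hg (r * r), h3]

/-- `q` is quadratic. -/
theorem q_smul [Finite k] (r : k) (b : B) : F.q (r • b) = r * r * F.q b := by
  by_cases hb : b = 0
  · rw [hb, smul_zero, q, ph_zero_left, mul_zero]
  · have h1 := F.rho_sq hb r
    have h2 := F.ph_ne hb one_ne_zero
    rw [← h1, rho, q, q, mul_assoc, inv_mul_cancel₀ h2, mul_one]

theorem q_add (a b : B) : F.q (a + b) = F.q a + F.q b + F.f b a := by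
  rw [q, ph_add_left, one_mul]
  rfl

theorem q_ne {b : B} (hb : b ≠ 0) : F.q b ≠ 0 := F.ph_ne hb one_ne_zero

/-- `f` is the polar form of `q`. -/
theorem f_eq (a b : B) : F.f b a = F.q (a + b) + F.q a + F.q b := by
  rw [q_add]
  have h1 : F.q a + F.q b + F.f b a + F.q a + F.q b = F.f b a + (F.q a + F.q a) + (F.q b + F.q b) := by ring
  rw [h1, F.two, F.two, add_zero, add_zero]

theorem neg_eq (t : k) : -t = t := neg_eq_of_add_eq_zero_left (F.two t)

end Fld

open QuadraticAlgebra in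
/-- **(11)** -/
theorem normStmt : NormStmt.{u} := by
  rintro B X M D _ _ _ _ _ S k _ _ _ ⟨F⟩
  obtain ⟨b₁, hb₁⟩ := S.ntB
  set α := F.q b₁ with hα
  have hα0 : α ≠ 0 := F.q_ne hb₁
  obtain ⟨b₂, hb₂⟩ := F.f_surj hb₁ α
  set β := F.q b₂ * α⁻¹ with hβ
  have hβα : F.q b₂ = α * β := by rw [hβ, mul_comm, mul_assoc, inv_mul_cancel₀ hα0, mul_one]
  -- the quadratic form
  have hq : ∀ x y : k, F.q (x • b₁ + y • b₂) = α * (x * x + x * y + β * (y * y)) := by
    intro x y
    rw [F.q_add, F.q_smul, F.q_smul, F.f_smul, F.f_smul', F.f_symm, hb₂, hβα, ← hα]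
    ring
  have hfact : Fact (∀ r : k, r ^ 2 ≠ β + 1 * r) := by
    refine ⟨fun r hr => ?_⟩
    have h1 : r • b₁ + (1 : k) • b₂ ≠ 0 := by
      intro h0
      have h2 := congrArg (F.f b₁) h0
      have h3 : F.f b₁ 0 = 0 := by
        have := F.f_smul' 0 b₁ 0
        rwa [smul_zero, zero_mul] at this
      rw [F.f_symm, F.f_add, F.f_smul, F.f_smul, F.f_self, mul_zero, zero_add, one_mul, F.f_symm, hb₂, h3] at h2
      exact hα0 h2
    apply F.q_ne h1
    rw [hq]
    have h2 : r * r = β + r := by rw [← pow_two, hr, one_mul]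
    rw [h2]
    have h3 : β + r + r * 1 + β * (1 * 1) = (β + β) + (r + r) := by ring
    rw [h3, F.two, F.two, add_zero, mul_zero]
  let K₀ := QuadraticAlgebra k β 1
  -- the norm
  have hN : ∀ z : K₀, F.q (z.re • b₁ + z.im • b₂) = α * norm z := by
    intro z
    rw [hq, norm_def, sub_eq_add_neg, F.neg_eq, one_mul, mul_assoc β]
  have two₀ : ∀ z : K₀, z + z = 0 := by
    intro z
    ext
    · rw [re_add, F.two]; rfl
    · rw [im_add, F.two]; rfl
  -- the isomorphism `B = K₀`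
  let e₀ : K₀ →+ B :=
    { toFun := fun z => z.re • b₁ + z.im • b₂
      map_zero' := by rw [re_zero, im_zero, zero_smul, zero_smul, add_zero]
      map_add' := fun z w => by
        rw [re_add, im_add, add_smul, add_smul]
        abel }
  have he₀ : ∀ z, e₀ z = z.re • b₁ + z.im • b₂ := fun _ => rfl
  have hinj : Function.Injective e₀ := by
    rw [injective_iff_map_eq_zero]
    intro z hz
    by_contra hne
    have h1 : F.q (e₀ z) = α * norm z := hN z
    rw [hz] at h1
    have h2 : F.q 0 = 0 := F.ph_zero_left 1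
    rw [h2] at h1
    have h3 : norm z = 0 := by
      rcases mul_eq_zero.1 h1.symm with h4 | h4
      · exact absurd h4 hα0
      · exact h4
    exact hne (norm_eq_zero_iff_eq_zero.1 h3)
  have hsurj : Function.Surjective e₀ := by
    intro b
    set y := F.f b₁ b * α⁻¹ with hy
    have h1 : F.f b₁ (b + y • b₂) = 0 := by
      rw [F.f_symm, F.f_add, F.f_smul, F.f_symm b, F.f_symm b₂, hb₂, hy, mul_assoc, inv_mul_cancel₀ hα0, mul_one,
        F.two]
    obtain ⟨x, hx⟩ := F.f_ker b₁ _ hb₁ h1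
    refine ⟨⟨x, y⟩, ?_⟩
    rw [he₀]
    change x • b₁ + y • b₂ = b
    rw [← hx, add_assoc, ← add_smul, F.two, zero_smul, add_zero]
  let eB₀ : B ≃+ K₀ := (AddEquiv.ofBijective e₀ ⟨hinj, hsurj⟩).symm
  have heB : ∀ b, e₀ (eB₀ b) = b := fun b => (AddEquiv.ofBijective e₀ ⟨hinj, hsurj⟩).apply_symm_apply b
  have hqB : ∀ b, F.q b = α * norm (eB₀ b) := by
    intro b
    conv_lhs => rw [← heB b, he₀]
    exact hN _
  have hsmul : ∀ (r : k) b, eB₀ (r • b) = eB₀ b * algebraMap k K₀ r := by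
    intro r b
    apply hinj
    rw [heB]
    conv_lhs => rw [← heB b]
    rw [he₀, he₀, re_mul, im_mul, algebraMap_re, algebraMap_im, smul_add, smul_smul, smul_smul]
    simp only [mul_zero, add_zero, zero_add, mul_comm r]
  have hfB : ∀ b m, algebraMap k K₀ (α⁻¹ * F.f b m) =
      eB₀ b * star (eB₀ m) + star (eB₀ b) * eB₀ m := by
    intro b m
    rw [F.f_eq, hqB, hqB m, hqB b, map_add]
    have h1 : α⁻¹ * (α * norm (eB₀ m + eB₀ b) + α * norm (eB₀ m) + α * norm (eB₀ b)) =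
        norm (eB₀ m + eB₀ b) + norm (eB₀ m) + norm (eB₀ b) := by
      field_simp
    rw [h1, map_add, map_add, algebraMap_norm_eq_mul_star, algebraMap_norm_eq_mul_star,
      algebraMap_norm_eq_mul_star, star_add]
    calc (eB₀ m + eB₀ b) * (star (eB₀ m) + star (eB₀ b)) + eB₀ m * star (eB₀ m) + eB₀ b * star (eB₀ b)
        = eB₀ b * star (eB₀ m) + star (eB₀ b) * eB₀ m +
          (eB₀ m * star (eB₀ m) + eB₀ m * star (eB₀ m)) + (eB₀ b * star (eB₀ b) + eB₀ b * star (eB₀ b)) := by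
          exact (by intro a b c d; ring : ∀ a b c d : QuadraticAlgebra k β 1, (a + b) * (c + d) + a * c + b * d =
            b * c + d * a + (a * c + a * c) + (b * d + b * d)) _ _ _ _
      _ = _ := by rw [two₀, two₀, add_zero, add_zero]
  have hfin : Finite K₀ := Finite.of_equiv _ (equivProd β (1 : k)).symm
  -- the field in `Type`
  let K := Shrink.{0} K₀
  let e : K₀ ≃+* K := (Shrink.ringEquiv.{0, u} K₀).symm
  have hfinK : Finite K := Finite.of_equiv _ e.toEquiv
  have hchar : CharP K 2 := by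
    refine CharTwo.of_one_ne_zero_of_two_eq_zero one_ne_zero ?_
    rw [← one_add_one_eq_two, ← map_one e, ← map_add, two₀, map_zero]
  let σ₀ : K₀ ≃+* K₀ := starRingAut
  have hσ₀ : ∀ z, σ₀ z = star z := fun _ => rfl
  let σ : K ≃+* K := (e.symm.trans σ₀).trans e
  have hσ : ∀ z, σ (e z) = e (star z) := by
    intro z
    change e (σ₀ (e.symm (e z))) = _
    rw [RingEquiv.symm_apply_apply, hσ₀]
  have hstar : ∀ r : k, star (algebraMap k K₀ r) = algebraMap k K₀ r := by
    intro r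
    ext
    · rw [re_star, algebraMap_im, mul_zero, add_zero]
    · rw [im_star, algebraMap_im, neg_zero]
  have hfix : ∀ z : K₀, star z = z → z = algebraMap k K₀ z.re := by
    intro z hz
    have h1 := congrArg QuadraticAlgebra.re hz
    rw [re_star, one_mul] at h1
    have h2 : z.im = 0 := by simpa using h1
    ext
    · rfl
    · rw [h2]; rfl
  have hinjK : Function.Injective fun t : k => e (algebraMap k K₀ t) :=
    e.injective.comp (algebraMap_injective (R := k) (a := β) (b := 1))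
  refine ⟨K, inferInstance, hfinK, hchar, σ, ?_, ?_, ?_, ⟨?_⟩⟩
  · intro h1
    have h2 := hσ (ω : K₀)
    rw [h1] at h2
    have h3 : (ω : K₀) = star (ω : K₀) := e.injective h2
    have h4 := congrArg QuadraticAlgebra.re h3
    rw [re_star, omega_re, omega_im, one_mul, zero_add] at h4
    exact zero_ne_one h4
  · intro x
    obtain ⟨z, rfl⟩ := e.surjective x
    rw [hσ, hσ, star_star]
  · rw [← Nat.card_congr e.toEquiv, Nat.card_congr (equivProd β (1 : k)), Nat.card_prod, pow_two]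
  · exact
    { eB := eB₀.trans e.toAddEquiv
      eM := (F.eM.trans eB₀).trans e.toAddEquiv
      eX := (e.toAddEquiv.toAddMonoidHom.comp (algebraMap k K₀).toAddMonoidHom).comp F.eX.toAddMonoidHom
      eD := ((e.toAddEquiv.toAddMonoidHom.comp (algebraMap k K₀).toAddMonoidHom).comp
        (AddMonoidHom.mulLeft α⁻¹)).comp F.eD.toAddMonoidHom
      eX_inj := hinjK.comp F.eX.injective
      eD_inj := by
        refine (hinjK.comp ?_).comp F.eD.injective
        exact mul_right_injective₀ (inv_ne_zero hα0)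
      eX_fix := fun x => by
        change σ (e (algebraMap k K₀ (F.eX x))) = e (algebraMap k K₀ (F.eX x))
        rw [hσ, hstar]
      eD_fix := fun d => by
        change σ (e (algebraMap k K₀ (α⁻¹ * F.eD d))) = e (algebraMap k K₀ (α⁻¹ * F.eD d))
        rw [hσ, hstar]
      eX_surj := fun t ht => by
        obtain ⟨z, rfl⟩ := e.surjective t
        rw [hσ] at ht
        refine ⟨F.eX.symm z.re, ?_⟩
        change e (algebraMap k K₀ (F.eX (F.eX.symm z.re))) = e z
        rw [AddEquiv.apply_symm_apply, ← hfix z (e.injective ht)]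
      eD_surj := fun t ht => by
        obtain ⟨z, rfl⟩ := e.surjective t
        rw [hσ] at ht
        refine ⟨F.eD.symm (α * z.re), ?_⟩
        change e (algebraMap k K₀ (α⁻¹ * F.eD (F.eD.symm (α * z.re)))) = e z
        rw [AddEquiv.apply_symm_apply, ← mul_assoc, inv_mul_cancel₀ hα0, one_mul, ← hfix z (e.injective ht)]
      hτ := fun b x => by
        change e (eB₀ (F.eM (S.τ b x))) = e (eB₀ b) * e (algebraMap k K₀ (F.eX x))
        rw [F.hτ, hsmul, map_mul]
      hl := fun b m => by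
        change e (algebraMap k K₀ (α⁻¹ * F.eD (S.l b m))) =
          e (eB₀ b) * σ (e (eB₀ (F.eM m))) + σ (e (eB₀ b)) * e (eB₀ (F.eM m))
        rw [F.hl, hfB, map_add, map_mul, map_mul, hσ, hσ]
      hφ := fun b x => by
        change e (algebraMap k K₀ (α⁻¹ * F.eD (S.φ b x))) =
          e (eB₀ b) * σ (e (eB₀ b)) * e (algebraMap k K₀ (F.eX x))
        rw [← F.ph_eX, F.lin, hqB, hσ, ← map_mul e, ← map_mul e, ← algebraMap_norm_eq_mul_star, ← map_mul]
        congr 2
        field_simp }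

end Cfsg.Agent.Omega.NO1.HE

end

-- merged: Cfsg.Agent.Mrg.Omega.NO1.HE.End
section

/-!
# THE END of (BT): (+) for one frame ⟹ `MinusQ` (N1, text #17521, helper438)

`Fra T Mx E F B` : a frame `B ≤ T` of `V` (TEXT B4) with (+): if a Sylow 2-subgroup `T'` of `Y` fixes a nonzero
vector of `E`, then `T' ≤ Mx`.  `Rep.ty` : then `Ty` (type `MinusQ`) if `|V / E| ≥ 4`.
-/

set_option autoImplicit false
set_option linter.unusedSectionVars false

namespace Cfsg.Agent.Omega.NO1.HE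

open Subgroup
open Cfsg Cfsg.Agent.ZN Cfsg.Agent.Omega.MinPar Cfsg.Agent.Omega.Frame
open scoped Pointwise

universe u

section pts

variable {Y : Type u} [Group Y] [Finite Y]

theorem normalizer_eq_of {T : Sylow 2 Y} {Mx : Subgroup Y} (core : ∀ N : Subgroup Y, N.Normal → IsPGroup 2 N → N = ⊥)
    (TM : (T : Subgroup Y) ≤ Mx) (Mne : Mx ≠ ⊤) (max : ∀ K : Subgroup Y, (T : Subgroup Y) ≤ K → K ≠ ⊤ → K ≤ Mx)
    (hT : (T : Subgroup Y) ≠ ⊥) {x : Y} (hx : MulAut.conj x • Mx = Mx) : x ∈ Mx := by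
  have : Fact (Nat.Prime 2) := ⟨Nat.prime_two⟩
  have hNT : normalizer ((T : Subgroup Y) : Set Y) ≤ Mx := by
    refine max _ le_normalizer fun h => hT (core _ (normalizer_eq_top_iff.1 h) T.isPGroup')
  have hN : normalizer (Mx : Set Y) ≤ Mx := by
    refine max _ (TM.trans le_normalizer) fun h => Mne ?_
    have hn : Mx.Normal := normalizer_eq_top_iff.1 h
    have h1 := Sylow.normalizer_sup_eq_top (T.subtype TM)
    have h2 : ((T.subtype TM : Sylow 2 Mx) : Subgroup Mx).map Mx.subtype = (T : Subgroup Y) := by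
      rw [Sylow.coe_subtype, Subgroup.map_subgroupOf_eq_of_le TM]
    rw [h2] at h1
    rw [← top_le_iff, ← h1]
    exact sup_le hNT le_rfl
  apply hN
  rw [Subgroup.mem_normalizer_iff]
  intro y
  constructor
  · intro hy
    rw [← hx, mem_conj]
    rwa [show x⁻¹ * (x * y * x⁻¹) * x = y by group]
  · intro hy
    rw [← hx, mem_conj, show x⁻¹ * (x * y * x⁻¹) * x = y by group] at hy
    exact hy

theorem pts_of {T : Sylow 2 Y} {Mx : Subgroup Y} (core : ∀ N : Subgroup Y, N.Normal → IsPGroup 2 N → N = ⊥)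
    (TM : (T : Subgroup Y) ≤ Mx) (Mne : Mx ≠ ⊤) (max : ∀ K : Subgroup Y, (T : Subgroup Y) ≤ K → K ≠ ⊤ → K ≤ Mx)
    (hT : (T : Subgroup Y) ≠ ⊥) : Pts Y (Y ⧸ Mx) := by
  have : Fact (Nat.Prime 2) := ⟨Nat.prime_two⟩
  have hfix : ∀ x y : Y, y • (x : Y ⧸ Mx) = (x : Y ⧸ Mx) ↔ x⁻¹ * y * x ∈ Mx := by
    intro x y
    rw [MulAction.Quotient.smul_coe, smul_eq_mul, eq_comm, QuotientGroup.eq, mul_assoc]
  -- `T` fixes only `Mx`
  have key : ∀ x : Y, At T (x : Y ⧸ Mx) → (x : Y ⧸ Mx) = ((1 : Y) : Y ⧸ Mx) := by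
    intro x hx
    have h1 : (T : Subgroup Y) ≤ MulAut.conj x • Mx := fun t ht => by
      rw [mem_conj]; exact (hfix x t).1 (hx t ht)
    have hc : Nat.card (MulAut.conj x • Mx : Subgroup Y) = Nat.card Mx :=
      Nat.card_congr (Subgroup.equivSMul (MulAut.conj x) Mx).symm.toEquiv
    have h2 : (MulAut.conj x • Mx : Subgroup Y) ≠ ⊤ := by
      intro h
      apply Mne
      apply Subgroup.eq_top_of_card_eq
      rw [← hc, h, Subgroup.card_top]
    have h3 := max _ h1 h2
    have h4 : MulAut.conj x • Mx = Mx := Subgroup.eq_of_le_of_card_ge h3 hc.ge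
    rw [eq_comm, QuotientGroup.eq, inv_one, one_mul]
    exact normalizer_eq_of core TM Mne max hT h4
  have at1 : At T ((1 : Y) : Y ⧸ Mx) := fun t ht => by
    rw [hfix, inv_one, one_mul, mul_one]
    exact TM ht
  refine ⟨?_, ?_, ?_, ?_, ?_⟩
  · intro p q
    exact MulAction.exists_smul_eq Y p q
  · intro T' p q hp hq
    obtain ⟨g, rfl⟩ := MulAction.exists_smul_eq Y T T'
    obtain ⟨x, rfl⟩ := QuotientGroup.mk_surjective p
    obtain ⟨y, rfl⟩ := QuotientGroup.mk_surjective q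
    have e : ∀ z : Y, At (g • T) (z : Y ⧸ Mx) → (z : Y ⧸ Mx) = g • ((1 : Y) : Y ⧸ Mx) := by
      intro z hz
      have h1 := hz.smul g⁻¹
      rw [inv_smul_smul] at h1
      have h2 := key (g⁻¹ * z) h1
      rw [← h2]
      change (z : Y ⧸ Mx) = ((g * (g⁻¹ * z) : Y) : Y ⧸ Mx)
      rw [mul_inv_cancel_left]
    exact (e x hp).trans (e y hq).symm
  · intro T'
    obtain ⟨g, rfl⟩ := MulAction.exists_smul_eq Y T T'
    exact ⟨_, at1.smul g⟩
  · intro p
    obtain ⟨y, hy⟩ : ∃ y, y ∉ Mx := by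
      by_contra hcon
      push Not at hcon
      exact Mne ((Subgroup.eq_top_iff' _).2 hcon)
    obtain ⟨x, rfl⟩ := QuotientGroup.mk_surjective p
    refine ⟨((x * y : Y) : Y ⧸ Mx), fun h => hy ?_⟩
    rw [eq_comm, QuotientGroup.eq, inv_mul_cancel_left] at h
    exact h
  · intro R hR hfix'
    by_contra hne
    have hRK : R ≤ Mx.normalCore := by
      intro r hr
      intro g
      have h1 := hfix' r hr ((g⁻¹ : Y) : Y ⧸ Mx)
      rw [hfix, inv_inv] at h1
      exact h1
    set K := Mx.normalCore with hK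
    obtain ⟨Q, hQ⟩ := (hR.comap_of_injective _ K.subtype_injective : IsPGroup 2 (R.subgroupOf K)).exists_le_sylow
    have hF := Sylow.normalizer_sup_eq_top Q
    set Q' := (Q : Subgroup K).map K.subtype with hQ'
    have hRQ : R ≤ Q' := fun r hr => ⟨⟨r, hRK hr⟩, hQ (Subgroup.mem_subgroupOf.2 hr), rfl⟩
    have hQp : IsPGroup 2 Q' := Q.isPGroup'.map _
    have hQne : Q' ≠ ⊥ := fun h => hne (le_bot_iff.1 (h ▸ hRQ))
    obtain ⟨T', hT'⟩ := hQp.exists_le_sylow
    obtain ⟨g, rfl⟩ := MulAction.exists_smul_eq Y T T'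
    -- `Q' = T' ∩ K`
    have hTK : ((g • T : Sylow 2 Y) : Subgroup Y) ⊓ K ≤ Q' := by
      have h1 : IsPGroup 2 ((((g • T : Sylow 2 Y) : Subgroup Y) ⊓ K).subgroupOf K) :=
        ((g • T).isPGroup'.to_le inf_le_left).comap_of_injective _ K.subtype_injective
      have h2 : (Q : Subgroup K) ≤ (((g • T : Sylow 2 Y) : Subgroup Y) ⊓ K).subgroupOf K := by
        intro x hx
        rw [Subgroup.mem_subgroupOf]
        exact ⟨hT' ⟨x, hx, rfl⟩, x.2⟩
      have h3 := Q.is_maximal' h1 h2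
      rintro y ⟨hy1, hy2⟩
      refine ⟨⟨y, hy2⟩, ?_, rfl⟩
      rw [SetLike.mem_coe, ← h3, Subgroup.mem_subgroupOf]
      exact ⟨hy1, hy2⟩
    have hnorm : ((g • T : Sylow 2 Y) : Subgroup Y) ≤ normalizer (Q' : Set Y) := by
      intro t ht
      have key' : ∀ s ∈ ((g • T : Sylow 2 Y) : Subgroup Y), ∀ y ∈ Q', s * y * s⁻¹ ∈ Q' := by
        intro s hs y hy
        refine hTK ⟨Subgroup.mul_mem _ (Subgroup.mul_mem _ hs (hT' hy)) (Subgroup.inv_mem _ hs), ?_⟩
        have hyK : y ∈ K := by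
          obtain ⟨x, -, rfl⟩ := hy
          exact x.2
        exact (Subgroup.normalCore_normal Mx).conj_mem y hyK s
      rw [Subgroup.mem_normalizer_iff]
      intro y
      refine ⟨key' t ht y, fun h => ?_⟩
      have := key' t⁻¹ (inv_mem ht) _ h
      rwa [show t⁻¹ * (t * y * t⁻¹) * t⁻¹⁻¹ = y by group] at this
    have hNne : normalizer (Q' : Set Y) ≠ ⊤ := fun h => hQne (core _ (normalizer_eq_top_iff.1 h) hQp)
    have hconj : ∀ H : Subgroup Y, ((g • T : Sylow 2 Y) : Subgroup Y) ≤ H → H ≠ ⊤ → H ≤ MulAut.conj g • Mx := by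
      intro H hH hH1
      have h1 : (T : Subgroup Y) ≤ MulAut.conj g⁻¹ • H := by
        intro t ht
        rw [mem_conj, inv_inv]
        apply hH
        rw [Sylow.coe_subgroup_smul, mem_conj]
        rwa [show g⁻¹ * (g * t * g⁻¹) * g = t by group]
      have h2 : (MulAut.conj g⁻¹ • H : Subgroup Y) ≠ ⊤ := by
        intro h
        apply hH1
        apply Subgroup.eq_top_of_card_eq
        rw [Nat.card_congr (Subgroup.equivSMul (MulAut.conj g⁻¹) H).toEquiv, h, Subgroup.card_top]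
      have h3 := max _ h1 h2
      intro y hy
      rw [mem_conj]
      apply h3
      rw [mem_conj, inv_inv]
      rwa [show g * (g⁻¹ * y * g) * g⁻¹ = y by group]
    have h1 := hconj _ hnorm hNne
    have h2 : K ≤ MulAut.conj g • Mx := by
      intro y hy
      rw [mem_conj]
      have h3 := (Subgroup.normalCore_normal Mx).conj_mem y hy g⁻¹
      rw [inv_inv] at h3
      exact Subgroup.normalCore_le Mx h3
    have h3 : (MulAut.conj g • Mx : Subgroup Y) = ⊤ := by
      rw [← top_le_iff, ← hF]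
      exact sup_le h1 h2
    apply Mne
    apply Subgroup.eq_top_of_card_eq
    rw [Nat.card_congr (Subgroup.equivSMul (MulAut.conj g) Mx).toEquiv, h3, Subgroup.card_top]

end pts

/-- A frame `B ≤ T` (TEXT B4) with (+). -/
structure Fra {Y V : Type u} [Group Y] [AddCommGroup V] [DistribMulAction Y V] (T : Sylow 2 Y)
    (Mx : Subgroup Y) (E F : AddSubgroup V) (B : Subgroup Y) : Prop where
  BT : B ≤ T
  comm : ∀ b ∈ B, ∀ c ∈ B, b * c = c * b
  sq : ∀ b ∈ B, b * b = 1
  FE : F ≤ E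
  VB : ∀ b ∈ B, ∀ v : V, b • v + v ∈ E
  EB : ∀ b ∈ B, ∀ e ∈ E, b • e + e ∈ F
  FB : ∀ b ∈ B, ∀ f ∈ F, b • f = f
  CB : ∀ v : V, (∀ b ∈ B, b • v = v) → v ∈ F
  inj : ∀ w, w ∉ E → ∀ b ∈ B, b • w + w ∈ F → b = 1
  surj : ∀ w, w ∉ E → ∀ e ∈ E, ∃ b ∈ B, b • w + w + e ∈ F
  ne : ∃ v, v ∉ E
  ne' : ∃ e ∈ E, e ∉ F
  plus : ∀ T' : Sylow 2 Y, (∃ v ∈ E, v ≠ 0 ∧ ∀ t ∈ T', t • v = v) → (T' : Subgroup Y) ≤ Mx

variable {G : Type u} [Group G] {S₀ P : Subgroup G} {Y V : Type u} [Group Y] [Finite Y] [AddCommGroup V]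
  [Finite V] [DistribMulAction Y V] {T : Sylow 2 Y} {Mx : Subgroup Y}

/-- **THE END of (BT)**: (+) for one frame implies type `MinusQ`. -/
theorem minusQ (R : Rep S₀ P (zl S₀ P) Y V T Mx) {E F : AddSubgroup V} {B : Subgroup Y}
    (h : Fra T Mx E F B) (h4 : 4 ≤ E.index) : Ty S₀ P := by
  have hT : (T : Subgroup Y) ≠ ⊥ := by
    intro h1
    obtain ⟨e, he, hf⟩ := h.ne'
    refine hf (h.CB e fun b hb => ?_)
    have h3 : b ∈ (T : Subgroup Y) := h.BT hb
    rw [h1, Subgroup.mem_bot] at h3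
    rw [h3, one_smul]
  have Pt := pts_of R.core R.TM R.Mne R.max hT
  have at1 : ∀ T' : Sylow 2 Y, (T' : Subgroup Y) ≤ Mx → At T' ((1 : Y) : Y ⧸ Mx) := fun T' hT' t ht => by
    rw [MulAction.Quotient.smul_coe, smul_eq_mul, mul_one, eq_comm, QuotientGroup.eq, inv_one, one_mul]
    exact hT' ht
  have hfr : Fr E.index T ((1 : Y) : Y ⧸ Mx) E F B :=
    { at' := at1 T R.TM
      ind := rfl
      BT := h.BT
      comm := h.comm
      sq := h.sq
      FE := h.FE
      VB := h.VB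
      EB := h.EB
      FB := h.FB
      CB := h.CB
      inj := h.inj
      surj := h.surj
      ne := h.ne
      ne' := h.ne'
      plus := fun T' q hq hv => Pt.one T' q _ hq (at1 T' (h.plus T' hv)) }
  obtain ⟨Ge⟩ := exists_geo Pt R.two R.faith hfr
  obtain ⟨q, hq⟩ := Pt.ne ((1 : Y) : Y ⧸ Mx)
  refine (Ge.act hq.symm).ty Comm.commStmt normStmt ?_ R
  rw [Ge.card_F]
  exact h4

end Cfsg.Agent.Omega.NO1.HE

end

-- merged: Cfsg.Agent.Mrg.Omega.NO1.FrPlusQ
section

/-!
# (+) for a frame with `|V_P : V_P ∩ E_F| ≥ 4` gives `MinusQ` (text #17521, helper438)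
-/

set_option autoImplicit false
set_option linter.unusedSectionVars false

namespace Cfsg.Agent.Omega.NO1.FrRep

open Subgroup Cfsg Cfsg.Agent.ZN Cfsg.Agent.Omega.MinPar Cfsg.Agent.Omega.Frame
open scoped Pointwise

universe u

variable {G : Type u} [Group G] [Finite G] {S : Sylow 2 G} {P M F : Subgroup G}

/-- 438's frame. -/
theorem exists_fra {Y V : Type u} [Group Y] [Finite Y] [AddCommGroup V] [DistribMulAction Y V] {T : Sylow 2 Y}
    {Mx : Subgroup Y} (R : Rep (S : Subgroup G) P (zl (S : Subgroup G) P) Y V T Mx) (h : Fr S P M F)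
    (hp : PlusAt (S : Subgroup G) P (NOne.Flat.EE (zl (S : Subgroup G) M) F)) :
    ∃ B : Subgroup Y, HE.Fra T Mx (co R (NOne.Flat.EE (zl (S : Subgroup G) M) F)) (co R F) B := by
  obtain ⟨B, hB⟩ := exists_fr' R h hp
  refine ⟨B, hB.BT, hB.comm, hB.sq, hB.FE, hB.VB, hB.EB, hB.FB, hB.CB, hB.inj, hB.surj, hB.ne, hB.ne', ?_⟩
  intro T' hv t ht
  obtain ⟨q, hq⟩ := (top1 R h).pts.ex T'
  obtain rfl := hB.plus T' q hq hv
  have h1 := hq t ht
  change ((t * 1 : Y) : Y ⧸ Mx) = ((1 : Y) : Y ⧸ Mx) at h1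
  rw [mul_one, eq_comm, QuotientGroup.eq, inv_one, one_mul] at h1
  exact h1

/-- **(+), `|V_P : V_P ∩ E_F| ≥ 4`** -/
theorem ty_of_plus (h : Fr S P M F) (hp : PlusAt (S : Subgroup G) P (NOne.Flat.EE (zl (S : Subgroup G) M) F))
    (h4 : 4 ≤ (NOne.Flat.EE (zl (S : Subgroup G) M) F).relIndex (zl (S : Subgroup G) P)) :
    Ty (S : Subgroup G) P := by
  obtain ⟨Y, V, _, _, _, _, _, T, Mx, ⟨R⟩⟩ := h.cfg.exists_rep
  obtain ⟨B, hB⟩ := exists_fra R h hp
  refine HE.minusQ R hB ?_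
  rw [index_co]
  exact h4

end Cfsg.Agent.Omega.NO1.FrRep

end

-- merged: Cfsg.Agent.Omega.NearFF.SymPlus
section

/-!
# OMEGA, (BT), `|V/E| = 2`: a symmetric form and `|R_z| ≥ 4` give (+)

Text: helper276, bb #14522 (replaces (P0)-(P5) of THEOREM BT4, helper318, bb #14336).

`V` a finite `F_2`-space with a nondegenerate alternating form invariant under `Y`, `Y` faithful;
`T` a Sylow 2-subgroup with `C_V(T) = {0, z}`, `M` the unique maximal subgroup over `T`,
`Om = z^Y` spans `V`, `R x` the group of the elements fixing `x` and acting on `x^⊥ / x`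
trivially, `|R z| ≥ 4`, `C_V(R z) ∩ Om = {z}` (DO), no transvections (NT), no four-group
`⟨t_y t_{x+y}, t_x t_{x+y}⟩` (NF).  Result `Data.plus` = (+):
every `g` with `b z (g z) = 0` lies in `M`.
-/

namespace Cfsg.Agent.Omega.NearFF.SymPlus

open scoped Pointwise

section Basic

variable {V : Type*} [AddCommGroup V] [Module (ZMod 2) V]

theorem z2 (c : ZMod 2) : c = 0 ∨ c = 1 := by revert c; decide

theorem add_self' (v : V) : v + v = 0 := ZModModule.add_self v

theorem one_one : (1 : ZMod 2) + 1 = 0 := by decide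

theorem add_cancel (u v : V) : u + (u + v) = v := by
  rw [← add_assoc, add_self', zero_add]

theorem eq_of_add (u v : V) (h : u + v = 0) : u = v := by
  have := congrArg (· + v) h
  simpa [add_assoc, add_self'] using this

/-- an alternating nondegenerate form over `F_2`, values only -/
structure Frm (V : Type*) [AddCommGroup V] [Module (ZMod 2) V] where
  b : V → V → ZMod 2
  add_left : ∀ u v w, b (u + v) w = b u w + b v w
  symm : ∀ u v, b u v = b v u
  alt : ∀ v, b v v = 0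
  nondeg : ∀ v, (∀ w, b v w = 0) → v = 0

variable (F : Frm V)

namespace Frm

theorem add_right (u v w : V) : F.b u (v + w) = F.b u v + F.b u w := by
  rw [F.symm, F.add_left, F.symm v, F.symm w]

theorem zero_left (w : V) : F.b 0 w = 0 := by
  have := F.add_left 0 0 w
  simpa using this

theorem zero_right (w : V) : F.b w 0 = 0 := by rw [F.symm, F.zero_left]

theorem smul_left (c : ZMod 2) (v w : V) : F.b (c • v) w = c * F.b v w := by
  rcases z2 c with rfl | rfl
  · simp [F.zero_left]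
  · simp

theorem smul_right (c : ZMod 2) (v w : V) : F.b v (c • w) = c * F.b v w := by
  rw [F.symm, F.smul_left, F.symm]

/-- `v ↦ v + b(x,v) w + (b(w,v) + k b(x,v)) x` -/
def sig (x w : V) (k : ZMod 2) (v : V) : V :=
  v + F.b x v • w + (F.b w v + k * F.b x v) • x

theorem sig_comp {x w w' : V} (k k' : ZMod 2) (h : F.b x w = 0) (h' : F.b x w' = 0) (v : V) :
    F.sig x w k (F.sig x w' k' v) = F.sig x (w + w') (k + k' + F.b w w') v := by
  have hw : F.b w x = 0 := by rw [F.symm, h]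
  unfold sig
  simp only [F.add_left, F.add_right, F.smul_right, h', hw, F.alt]
  match_scalars <;> ring_nf

theorem sig_shift (x w : V) (k : ZMod 2) (v : V) :
    F.sig x (w + x) k v = F.sig x w k v := by
  unfold sig
  rw [F.add_left]
  rcases z2 (F.b x v) with h | h <;> rcases z2 (F.b w v) with h' | h' <;>
    rcases z2 k with rfl | rfl <;> simp only [h, h', one_one, _root_.smul_add, _root_.zero_smul, _root_.add_zero, _root_.MulZeroClass.mul_zero, _root_.one_smul, _root_.zero_add, _root_.mul_one, _root_.Cfsg.Agent.Omega.NearFF.SymPlus.one_one] <;> abel_nf <;>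
    simp [two_smul, add_self']

theorem sig_swap (x w : V) (v : V) : F.sig x w 0 v = F.sig w x 0 v := by
  unfold sig
  simp only [zero_mul, add_zero]
  abel

theorem exists_far {x : V} (hx : x ≠ 0) : ∃ v, F.b x v = 1 := by
  by_contra h
  push Not at h
  exact hx (F.nondeg x fun w => (z2 _).resolve_right (h w))

end Frm
end Basic

section Act

variable {Y V : Type*} [Group Y] [AddCommGroup V] [Module (ZMod 2) V] [DistribMulAction Y V]

theorem smul_zmod (g : Y) (c : ZMod 2) (x : V) : g • (c • x) = c • (g • x) := by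
  rcases z2 c with rfl | rfl <;> simp

/-- an invariant form, faithful action -/
structure IFrm (Y V : Type*) [Group Y] [AddCommGroup V] [Module (ZMod 2) V]
    [DistribMulAction Y V] extends Frm V where
  inv : ∀ (g : Y) (v w : V), b (g • v) (g • w) = b v w
  faith : ∀ g : Y, (∀ v : V, g • v = v) → g = 1

namespace IFrm

variable (F : IFrm Y V)

theorem inv' (g : Y) (v w : V) : F.b (g⁻¹ • v) w = F.b v (g • w) := by
  rw [← F.inv g (g⁻¹ • v) w, smul_inv_smul]

/-- the group `R_x` of the elements fixing `x` and acting on `x^⊥` modulo `x` trivially -/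
def R (x : V) : Subgroup Y where
  carrier := {r | r • x = x ∧ ∀ u, F.b x u = 0 → r • u = u ∨ r • u = u + x}
  one_mem' := ⟨one_smul _ _, fun u _ => Or.inl (one_smul _ _)⟩
  mul_mem' := by
    rintro r s ⟨hr, hr'⟩ ⟨hs, hs'⟩
    refine ⟨by rw [mul_smul, hs, hr], fun u hu => ?_⟩
    rcases hs' u hu with h | h <;> rcases hr' u hu with h' | h' <;>
      simp [mul_smul, h, h', hr, add_assoc, add_self']
  inv_mem' := by
    rintro r ⟨hr, hr'⟩
    refine ⟨by rw [inv_smul_eq_iff, hr], fun u hu => ?_⟩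
    have h1 : F.b x (r⁻¹ • u) = 0 := by
      rw [F.symm, F.inv', hr, F.symm, hu]
    rcases hr' _ h1 with h | h
    · left; rw [smul_inv_smul] at h; exact h.symm
    · right
      rw [smul_inv_smul] at h
      rw [h, add_assoc, add_self', add_zero, ← h]

theorem mem_R {x : V} {r : Y} :
    r ∈ F.R x ↔ r • x = x ∧ ∀ u, F.b x u = 0 → r • u = u ∨ r • u = u + x := Iff.rfl

/-- `g` acts as `sig x w k` -/
def Acts (g : Y) (x w : V) (k : ZMod 2) : Prop := ∀ v, g • v = F.sig x w k v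

theorem acts_mul {r r' : Y} {x w w' : V} {k k' : ZMod 2} (h : F.b x w = 0) (h' : F.b x w' = 0)
    (hr : F.Acts r x w k) (hr' : F.Acts r' x w' k') :
    F.Acts (r * r') x (w + w') (k + k' + F.b w w') := by
  intro v
  rw [mul_smul, hr' v, hr, F.sig_comp k k' h h']

theorem acts_conj {r : Y} {x w : V} {k : ZMod 2} (g : Y) (hr : F.Acts r x w k) :
    F.Acts (g * r * g⁻¹) (g • x) (g • w) k := by
  intro v
  rw [mul_smul, mul_smul, hr]
  unfold Frm.sig
  rw [smul_add, smul_add, smul_zmod, smul_zmod, smul_inv_smul]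
  rw [← F.inv g x, ← F.inv g w, smul_inv_smul]

theorem acts_shift {r : Y} {x w : V} {k : ZMod 2} :
    F.Acts r x (w + x) k ↔ F.Acts r x w k := by
  unfold Acts
  simp only [F.sig_shift]

theorem acts_swap {r : Y} {x w : V} : F.Acts r x w 0 ↔ F.Acts r w x 0 := by
  unfold Acts
  exact forall_congr' fun v => by rw [F.sig_swap]

theorem R_of_acts {r : Y} {x w : V} {k : ZMod 2} (h : F.b x w = 0) (hr : F.Acts r x w k) :
    r ∈ F.R x := by
  rw [mem_R]
  constructor
  · rw [hr]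
    simp [Frm.sig, F.alt, F.symm w x, h]
  · intro u hu
    rw [hr]
    rcases z2 (F.b w u) with h' | h' <;> simp [Frm.sig, hu, h']

theorem acts_of_R {r : Y} {x : V} (hx : x ≠ 0) (hr : r ∈ F.R x) :
    ∃ w k, F.b x w = 0 ∧ F.Acts r x w k := by
  obtain ⟨hrx, hru⟩ := hr
  obtain ⟨v0, hv0⟩ := F.exists_far hx
  have hw : F.b x (r • v0 + v0) = 0 := by
    rw [F.add_right, hv0]
    nth_rw 1 [← hrx]
    rw [F.inv, hv0]; exact one_one
  -- on x^perp
  have hperp : ∀ u, F.b x u = 0 → r • u = u + F.b (r • v0 + v0) u • x := by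
    intro u hu
    have h1 : F.b (r • v0) (r • u) = F.b v0 u := F.inv _ _ _
    have h2 : F.b (r • v0) x = 1 := by
      nth_rw 1 [← hrx]
      rw [F.inv, F.symm, hv0]
    rw [F.add_left]
    rcases hru u hu with h | h
    · rw [h] at h1
      rw [h, h1]
      simp [← two_mul, show (2 : ZMod 2) = 0 from rfl]
    · rw [h, F.add_right, h2] at h1
      rw [h, ← h1]
      rcases z2 (F.b (r • v0) u) with h3 | h3 <;> simp [h3, one_one]
  refine ⟨r • v0 + v0, F.b (r • v0 + v0) v0, hw, fun v => ?_⟩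
  unfold Frm.sig
  rcases z2 (F.b x v) with h | h
  · rw [hperp v h, h]; simp
  · have h1 : F.b x (v + v0) = 0 := by rw [F.add_right, h, hv0]; exact one_one
    have h2 := hperp _ h1
    have h3 : r • v = r • (v + v0) + r • v0 := by
      rw [smul_add, add_assoc, add_self', add_zero]
    rw [h3, h2, h, F.add_right]
    simp only [one_smul, mul_one]
    abel_nf

theorem R_conj {x : V} {r : Y} (g : Y) (hr : r ∈ F.R x) : g * r * g⁻¹ ∈ F.R (g • x) := by
  obtain ⟨h1, h2⟩ := hr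
  refine ⟨by rw [mul_smul, mul_smul, inv_smul_smul, h1], fun u hu => ?_⟩
  have hu' : F.b x (g⁻¹ • u) = 0 := by rw [F.symm, F.inv', F.symm, hu]
  rcases h2 _ hu' with h | h
  · left; rw [mul_smul, mul_smul, h, smul_inv_smul]
  · right; rw [mul_smul, mul_smul, h, smul_add, smul_inv_smul]

theorem R_smul {x : V} {r : Y} (hx : x ≠ 0) (hr : r ∈ F.R x) : r * r = 1 := by
  obtain ⟨w, k, h, hr⟩ := F.acts_of_R hx hr
  apply F.faith
  intro v
  rw [F.acts_mul h h hr hr]
  simp [Frm.sig, add_self', F.zero_left, F.alt]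

theorem R_two {x : V} (hx : x ≠ 0) : IsPGroup 2 (F.R x) := by
  intro g
  refine ⟨1, ?_⟩
  ext
  simpa only [pow_two, _root_.pow_one, _root_.Subgroup.coe_mul, _root_.OneMemClass.coe_one] using F.R_smul hx g.2

/-- freeness outside the hyperplane -/
theorem R_free {x u : V} (hx : x ≠ 0) (hu : F.b x u = 1) {r : Y} (hr : r ∈ F.R x)
    (h : r • u = u) : r = 1 := by
  obtain ⟨w, k, hw, hr⟩ := F.acts_of_R hx hr
  rw [hr] at h
  have h1 : w + (F.b w u + k) • x = 0 := by
    unfold Frm.sig at h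
    rw [hu, one_smul, mul_one, add_assoc] at h
    simpa only [_root_.add_eq_left] using h
  apply F.faith
  have hwx := eq_of_add _ _ h1
  intro v
  rw [hr]
  unfold Frm.sig
  rcases z2 (F.b w u + k) with h2 | h2
  · rw [h2] at hwx
    have hw0 : w = 0 := by simpa using hwx
    subst hw0
    rw [F.zero_left, zero_add] at h2
    simp [F.zero_left, h2]
  · rw [h2, one_smul] at hwx
    subst hwx
    rw [hu] at h2
    have : k = 0 := by simpa using h2
    subst this
    simp [add_assoc, ← add_smul, ← two_mul, show (2 : ZMod 2) = 0 from rfl]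

end IFrm

/-- the line `{x, y, x + y}` -/
def line (x y : V) : Set V := {x, y, x + y}

omit [Module (ZMod 2) V] in
theorem mem_line {x y v : V} : v ∈ line x y ↔ v = x ∨ v = y ∨ v = x + y := Iff.rfl

omit [Module (ZMod 2) V] in
theorem smul_line (g : Y) (x y : V) : g • line x y = line (g • x) (g • y) := by
  unfold line
  rw [Set.smul_set_insert, Set.smul_set_insert, Set.smul_set_singleton, smul_add]

omit [Module (ZMod 2) V] in
theorem line_comm (x y : V) : line x y = line y x := by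
  ext v; simp only [mem_line, add_comm x y]; tauto

theorem line_add (x y : V) : line x y = line x (x + y) := by
  ext v; simp only [mem_line, add_cancel]; tauto

/-- the hypotheses: `f` is a symplectic form -/
structure Data (Y V : Type*) [Group Y] [AddCommGroup V] [Module (ZMod 2) V]
    [DistribMulAction Y V] extends IFrm Y V where
  z : V
  z_ne : z ≠ 0
  span : AddSubgroup.closure (MulAction.orbit Y z) = (⊤ : AddSubgroup V)
  T : Subgroup Y
  M : Subgroup Y
  T_two : IsPGroup 2 T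
  T_max : ∀ Q : Subgroup Y, IsPGroup 2 Q → T ≤ Q → Q = T
  T_fix : ∀ t ∈ T, t • z = z
  T_only : ∀ v : V, (∀ t ∈ T, t • v = v) → v = 0 ∨ v = z
  M_only : ∀ H : Subgroup Y, T ≤ H → H ≠ ⊤ → H ≤ M
  card4 : 4 ≤ Nat.card (toIFrm.R z)
  DO : ∀ y ∈ MulAction.orbit Y z, (∀ r ∈ toIFrm.R z, r • y = y) → y = z
  NT : ∀ (g : Y) (x : V), x ≠ 0 → ¬ ∀ v, g • v = v + b v x • x
  NF : ∀ (g h : Y) (x y : V), x ≠ 0 → y ≠ 0 → x ≠ y → b x y = 0 →
    (∀ v, g • v = v + b v y • y + b v (x + y) • (x + y)) →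
    ¬ ∀ v, h • v = v + b v x • x + b v (x + y) • (x + y)

/-- parity -/
theorem exists_fix {α : Type*} [MulAction Y α] (X : Set α) (hX : X.Finite) (P Q : Subgroup Y)
    (hP : IsPGroup 2 P) (hQ : IsPGroup 2 Q) (hPX : ∀ g ∈ P, ∀ x ∈ X, g • x ∈ X)
    (hQX : ∀ g ∈ Q, ∀ x ∈ X, g • x ∈ X) (x0 : α) (hx0 : x0 ∈ X) (h0 : ∀ g ∈ P, g • x0 = x0)
    (hu : ∀ x ∈ X, (∀ g ∈ P, g • x = x) → x = x0) : ∃ x ∈ X, ∀ g ∈ Q, g • x = x := by
  classical
  let SP : SubMulAction P α := ⟨X, fun g {x} hx => hPX g g.2 x hx⟩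
  let SQ : SubMulAction Q α := ⟨X, fun g {x} hx => hQX g g.2 x hx⟩
  have : Finite SP := hX
  have : Finite SQ := hX
  have h1 : Nat.card SP ≡ Nat.card (MulAction.fixedPoints P SP) [MOD 2] :=
    hP.card_modEq_card_fixedPoints SP
  have h2 : Nat.card (MulAction.fixedPoints P SP) = 1 := by
    rw [Nat.card_eq_one_iff_unique]
    refine ⟨⟨fun a b => ?_⟩, ⟨⟨⟨x0, hx0⟩, fun g => Subtype.ext (h0 g g.2)⟩⟩⟩
    have key : ∀ a : MulAction.fixedPoints P SP, (a : SP).1 = x0 := fun a =>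
      hu _ a.1.2 fun g hg => congrArg Subtype.val (a.2 ⟨g, hg⟩)
    exact Subtype.ext (Subtype.ext ((key a).trans (key b).symm))
  have h3 : ¬ 2 ∣ Nat.card SQ := by
    have : Nat.card SQ = Nat.card SP := rfl
    rw [this]
    rw [h2] at h1
    intro hd
    have := (Nat.modEq_zero_iff_dvd.mpr hd).symm.trans h1
    exact absurd this (by decide)
  obtain ⟨x, hx⟩ := hQ.nonempty_fixed_point_of_prime_not_dvd_card SQ h3
  exact ⟨x.1, x.2, fun g hg => congrArg Subtype.val (hx ⟨g, hg⟩)⟩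

namespace Data

variable (D : Data Y V)

abbrev Om : Set V := MulAction.orbit Y D.z

theorem z_mem : D.z ∈ D.Om := MulAction.mem_orbit_self _

theorem smul_mem (g : Y) {x : V} (hx : x ∈ D.Om) : g • x ∈ D.Om := by
  obtain ⟨h, rfl⟩ := hx
  exact ⟨g * h, mul_smul _ _ _⟩

theorem ne_zero {x : V} (hx : x ∈ D.Om) : x ≠ 0 := by
  obtain ⟨g, rfl⟩ := hx
  intro h
  exact D.z_ne ((smul_eq_zero_iff_eq g).mp h)

theorem far {x : V} (hx : x ≠ 0) : ∃ v ∈ D.Om, D.b x v = 1 := by
  by_contra h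
  push Not at h
  apply hx
  apply D.nondeg
  intro w
  have hw : w ∈ AddSubgroup.closure (MulAction.orbit Y D.z) := by rw [D.span]; trivial
  induction hw using AddSubgroup.closure_induction with
  | mem v hv => exact (z2 _).resolve_right (h v hv)
  | zero => exact D.zero_right _
  | add u v _ _ hu hv => rw [D.add_right, hu, hv, add_zero]
  | neg v _ hv =>
    have : -v = v := ZModModule.neg_eq_self v
    rw [this, hv]

theorem do' {x y : V} (hx : x ∈ D.Om) (hy : y ∈ D.Om) (h : ∀ r ∈ D.R x, r • y = y) : y = x := by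
  obtain ⟨g, rfl⟩ := hx
  have := D.DO (g⁻¹ • y) (D.smul_mem _ hy) (fun r hr => by
    have h1 := h _ (D.R_conj g hr)
    rw [mul_smul, mul_smul, smul_eq_iff_eq_inv_smul] at h1
    exact h1)
  rw [← this]
  simp

theorem exists_move {x y : V} (hx : x ∈ D.Om) (hy : y ∈ D.Om) (hxy : x ≠ y) (hb : D.b x y = 0) :
    ∃ r ∈ D.R x, r • y = y + x := by
  by_contra h
  push Not at h
  exact hxy (D.do' hx hy fun r hr => (hr.2 y hb).resolve_right (h r hr)).symm

theorem add_mem {x y : V} (hx : x ∈ D.Om) (hy : y ∈ D.Om) (hxy : x ≠ y) (hb : D.b x y = 0) :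
    x + y ∈ D.Om := by
  obtain ⟨r, _, h⟩ := D.exists_move hx hy hxy hb
  rw [add_comm, ← h]
  exact D.smul_mem _ hy

theorem tt (x y v : V) :
    D.sig x y 1 v = v + D.b v y • y + D.b v (x + y) • (x + y) := by
  unfold Frm.sig
  rw [D.add_right, D.symm v x, D.symm v y]
  rcases z2 (D.b x v) with h | h <;> rcases z2 (D.b y v) with h' | h' <;>
    simp only [h, h', one_one, _root_.zero_smul, _root_.add_zero, _root_.MulZeroClass.mul_zero, _root_.smul_add, _root_.one_smul, _root_.zero_add, _root_.mul_one, _root_.Cfsg.Agent.Omega.NearFF.SymPlus.one_one]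
  · rw [add_comm x y, ← add_assoc, add_assoc v, add_self', add_zero]
  · abel
  
theorem good {x y : V} (hx : x ∈ D.Om) (hy : y ∈ D.Om) (hxy : x ≠ y) (hb : D.b x y = 0)
    {r : Y} {k : ZMod 2} (hr : D.Acts r x y k) : k = 0 := by
  refine (z2 k).resolve_right fun hk => ?_
  subst hk
  have hb' : D.b y x = 0 := by rw [D.symm, hb]
  obtain ⟨r1, hr1, h1⟩ := D.exists_move hy hx hxy.symm hb'
  obtain ⟨u, k1, hu, ha⟩ := D.acts_of_R (D.ne_zero hy) hr1
  have hux : D.b u x = 1 := by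
    refine (z2 _).resolve_left fun h0 => ?_
    rw [ha, Frm.sig, hb', h0] at h1
    exact D.ne_zero hy (by simpa using h1)
  have hxu : D.b x u = 1 := by rw [D.symm, hux]
  have hry : r • y = y := by
    rw [hr]; simp [Frm.sig, hb, D.alt]
  have hru : r • u = u + (y + x) := by
    rw [hr, Frm.sig, hxu, hu]; simp [add_assoc]
  have ha2 := D.acts_conj r ha
  rw [hry, hru] at ha2
  have hb2 : D.b y (u + (y + x)) = 0 := by
    rw [D.add_right, D.add_right, hu, D.alt, hb']; simp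
  have ha3 := D.acts_mul hu hb2 ha ha2
  rw [add_cancel] at ha3
  have hk3 : k1 + k1 + D.b u (u + (y + x)) = 1 := by
    rw [D.add_right, D.add_right, D.alt, D.symm u y, hu, hux]
    simp [← two_mul, show (2 : ZMod 2) = 0 from rfl]
  rw [hk3, add_comm, D.acts_shift] at ha3
  refine D.NF r (r1 * (r * r1 * r⁻¹)) x y (D.ne_zero hx) (D.ne_zero hy) hxy hb
    (fun v => ?_) (fun v => ?_)
  · rw [hr, D.tt]
  · rw [ha3, D.tt, add_comm y x]

theorem card_R {x : V} (hx : x ∈ D.Om) : Nat.card (D.R x) = Nat.card (D.R D.z) := by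
  obtain ⟨g, rfl⟩ := hx
  symm
  refine Nat.card_congr ⟨fun r => ⟨g * r * g⁻¹, D.R_conj g r.2⟩,
    fun r => ⟨g⁻¹ * r * g, ?_⟩, fun r => ?_, fun r => ?_⟩
  · have := D.R_conj g⁻¹ r.2
    simpa only [_root_.inv_smul_smul, _root_.inv_inv] using this
  · ext; simp [mul_assoc]
  · ext; simp [mul_assoc]

theorem stab_le : MulAction.stabilizer Y D.z ≤ D.M := by
  apply D.M_only
  · intro t ht
    exact D.T_fix t ht
  · intro h
    obtain ⟨v, ⟨g, rfl⟩, hv⟩ := D.far D.z_ne
    have : g ∈ MulAction.stabilizer Y D.z := by rw [h]; trivial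
    rw [MulAction.mem_stabilizer_iff] at this
    rw [show (fun m : Y => m • D.z) g = g • D.z from rfl, this, D.alt] at hv
    exact zero_ne_one hv

theorem R_stab {x y : V} (hb : D.b x y = 0) {r : Y} (hr : r ∈ D.R x) :
    r • line x y = line x y := by
  rw [smul_line, hr.1]
  rcases hr.2 y hb with h | h
  · rw [h]
  · rw [h, add_comm y x, ← line_add]

theorem trans_line {x y p : V} (hx : x ∈ D.Om) (hy : y ∈ D.Om) (hxy : x ≠ y) (hb : D.b x y = 0)
    (hp : p ∈ line x y) : ∃ n ∈ MulAction.stabilizer Y (line x y), n • x = p := by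
  have hs : x + y ∈ D.Om := D.add_mem hx hy hxy hb
  rcases hp with rfl | rfl | rfl
  · exact ⟨1, one_mem _, one_smul _ _⟩
  · obtain ⟨r, hr, h⟩ := D.exists_move hs hx
      (fun h => D.ne_zero hy (by simpa using h)) (by rw [D.add_left, D.alt, D.symm, hb, add_zero])
    refine ⟨r, ?_, by rw [h, add_cancel]⟩
    rw [MulAction.mem_stabilizer_iff]
    have h2 := D.R_stab (x := x + p) (y := x) (by rw [D.add_left, D.alt, D.symm, hb, add_zero]) hr
    rwa [line_comm, ← line_add] at h2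
  · obtain ⟨r, hr, h⟩ := D.exists_move hy hx hxy.symm (by rw [D.symm, hb])
    refine ⟨r, ?_, h⟩
    rw [MulAction.mem_stabilizer_iff, line_comm]
    exact D.R_stab (by rw [D.symm, hb]) hr

/-- the end of the argument: a `T`-invariant line conjugate to `{z, g z, z + g z}` -/
theorem fin {g h : Y} {u : V} (hu : u ∈ D.Om) (hzu : D.z ≠ u) (hb : D.b D.z u = 0)
    (hT : ∀ t ∈ D.T, t • line D.z u = line D.z u)
    (hl : line D.z u = h • line D.z (g • D.z)) : g ∈ D.M := by
  set N := MulAction.stabilizer Y (line D.z u) with hN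
  have hNM : N ≤ D.M := by
    apply D.M_only
    · intro t ht
      exact hT t ht
    · intro hN'
      obtain ⟨v, ⟨k, rfl⟩, hv⟩ := D.far D.z_ne
      have hk : k ∈ N := by rw [hN']; trivial
      rw [hN, MulAction.mem_stabilizer_iff] at hk
      have hz : k • D.z ∈ line D.z u := by
        rw [← hk]
        exact Set.smul_mem_smul_set (Or.inl rfl)
      have h0 : D.b D.z (k • D.z) = 0 := by
        rcases hz with h | h | h
        · rw [h, D.alt]
        · rw [h, hb]
        · rw [h, D.add_right, D.alt, hb, add_zero]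
      rw [show (fun m : Y => m • D.z) k = k • D.z from rfl, h0] at hv
      exact zero_ne_one hv
  have key : ∀ k : Y, k • D.z ∈ line D.z u → k ∈ D.M := by
    intro k hk
    obtain ⟨n, hn, hnz⟩ := D.trans_line D.z_mem hu hzu hb hk
    have h1 : k⁻¹ * n ∈ D.M := D.stab_le (by
      rw [MulAction.mem_stabilizer_iff, mul_smul, hnz, inv_smul_smul])
    have h2 := D.M.mul_mem (hNM hn) (D.M.inv_mem h1)
    simpa using h2
  have hh : h ∈ D.M := key h (by
    rw [hl]; exact Set.smul_mem_smul_set (Or.inl rfl))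
  have hg : h * g ∈ D.M := key _ (by
    rw [hl, mul_smul]; exact Set.smul_mem_smul_set (Or.inr (Or.inl rfl)))
  have := D.M.mul_mem (D.M.inv_mem hh) hg
  simpa using this

theorem line_mem' {p q x : V} (hp : p ∈ D.Om) (hq : q ∈ D.Om) (hpq : p ≠ q)
    (hb : D.b p q = 0) (hx : x ∈ line p q) :
    ∃ u ∈ D.Om, x ≠ u ∧ D.b x u = 0 ∧ line p q = line x u := by
  rcases mem_line.mp hx with rfl | rfl | rfl
  · exact ⟨_, hq, hpq, hb, rfl⟩
  · exact ⟨_, hp, hpq.symm, by rw [D.symm, hb], line_comm _ _⟩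
  · refine ⟨p, hp, ?_, ?_, ?_⟩
    · intro h5
      exact D.ne_zero hq (by simpa using h5)
    · rw [D.add_left, D.alt, D.symm, hb, add_zero]
    · rw [line_add, line_comm]

theorem line_mem {w : V} (hw : w ∈ D.Om) (hzw : D.z ≠ w) (hb : D.b D.z w = 0) {h : Y}
    (hz : D.z ∈ h • line D.z w) :
    ∃ u ∈ D.Om, D.z ≠ u ∧ D.b D.z u = 0 ∧ h • line D.z w = line D.z u := by
  rw [smul_line] at hz ⊢
  exact D.line_mem' (D.smul_mem h D.z_mem) (D.smul_mem h hw)
    (fun h' => hzw (smul_left_cancel _ h')) (by rw [D.inv, hb]) hz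

/-- (PAR): outside the exceptional case -/
theorem par [Finite V] {g : Y} (hzw : D.z ≠ g • D.z) (hb : D.b D.z (g • D.z) = 0)
    (hne : ¬ (Nat.card (D.R D.z) = 4 ∧ ∃ r, D.Acts r D.z (g • D.z) 0)) : g ∈ D.M := by
  set w := g • D.z with hwdef
  have hw : w ∈ D.Om := D.smul_mem g D.z_mem
  have hb' : D.b w D.z = 0 := by rw [D.symm, hb]
  let X : Set (Set V) := {l | (∃ h : Y, l = h • line D.z w) ∧ D.z ∈ l}
  let C : Subgroup Y := D.R w ⊓ MulAction.stabilizer Y D.z
  obtain ⟨r0, hr0, hr0z⟩ := D.exists_move hw D.z_mem hzw.symm hb'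
  have hCT : ∀ H : Subgroup Y, (∀ t ∈ H, t • D.z = D.z) → ∀ t ∈ H, ∀ l ∈ X, t • l ∈ X := by
    rintro H hH t ht l ⟨⟨h, rfl⟩, hz⟩
    refine ⟨⟨t * h, by rw [mul_smul]⟩, ?_⟩
    rw [← hH t ht]
    exact Set.smul_mem_smul_set (by rw [hH t ht]; exact hz)
  obtain ⟨l, ⟨⟨h, rfl⟩, hz⟩, hfix⟩ := exists_fix X (Set.toFinite _) C D.T
    ((D.R_two (D.ne_zero hw)).to_le inf_le_left) D.T_two (hCT C fun t ht => ht.2)
    (hCT D.T D.T_fix) (line D.z w) ⟨⟨1, by rw [one_smul]⟩, Or.inl rfl⟩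
    (fun r hr => by
      rw [line_comm]
      exact D.R_stab hb' hr.1)
    (by
      rintro l ⟨⟨h, rfl⟩, hz⟩ hfix
      obtain ⟨u, hu, hzu, hbu, hl⟩ := D.line_mem hw hzw hb hz
      rw [hl] at hfix ⊢
      rcases z2 (D.b w u) with hwu | hwu
      · by_cases huw : u = w
        · rw [huw]
        -- `C` fixes `u`
        have hCu : ∀ r ∈ C, r • u = u := by
          intro r hr
          refine (hr.1.2 u hwu).resolve_right fun h => ?_
          have h1 : u + w ∈ line D.z u := by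
            rw [← hfix r hr, ← h]
            exact Set.smul_mem_smul_set (Or.inr (Or.inl rfl))
          rcases mem_line.mp h1 with h1 | h1 | h1
          · have h2 : r • D.z = D.z := hr.2
            rw [← h1, smul_add, h, hr.1.1, add_assoc, add_self', add_zero] at h2
            exact D.ne_zero hw (by simpa using h2.symm)
          · exact D.ne_zero hw (by simpa using h1)
          · rw [add_comm u w] at h1
            exact hzw (add_right_cancel h1).symm
        obtain ⟨r1, hr1, hr1u⟩ := D.exists_move hw hu (Ne.symm huw) hwu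
        have hr1z : r1 • D.z = D.z + w := by
          refine (hr1.2 _ hb').resolve_left fun h => ?_
          have := hCu r1 ⟨hr1, h⟩
          rw [hr1u] at this
          exact D.ne_zero hw (by simpa using this)
        have hzu' : D.z + u ∈ D.Om := D.add_mem D.z_mem hu hzu hbu
        have h3 : D.z + u = w := by
          apply D.do' hw hzu'
          intro r hr
          rcases hr.2 D.z hb' with h | h
          · rw [smul_add, h, hCu r ⟨hr, h⟩]
          · have h4 : r1⁻¹ * r ∈ C := by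
              refine ⟨(D.R w).mul_mem ((D.R w).inv_mem hr1) hr, ?_⟩
              show (r1⁻¹ * r) • D.z = D.z
              rw [mul_smul, inv_smul_eq_iff, h, hr1z]
            have h5 := hCu _ h4
            rw [mul_smul, inv_smul_eq_iff, hr1u] at h5
            rw [smul_add, h, h5]
            rw [add_assoc, add_comm u w, add_cancel]
        rw [← h3, ← line_add]
      · exfalso
        have hzwu : D.b w (D.z + u) = 1 := by rw [D.add_right, hb', hwu, zero_add]
        have h2 : ∀ r ∈ C, r • u = u ∨ r • u = u + D.z := by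
          intro r hr
          have h1 : r • u ∈ line D.z u := by
            rw [← hfix r hr]
            exact Set.smul_mem_smul_set (Or.inr (Or.inl rfl))
          rcases h1 with h1 | h1 | h1
          · exfalso
            have h2 : r • D.z = D.z := hr.2
            exact hzu (smul_left_cancel r (h2.trans h1.symm))
          · exact Or.inl h1
          · right; rw [h1, add_comm]
        -- `|C| ≤ 2`
        have hinj : ∀ r ∈ D.R w, ∀ s ∈ D.R w, r • u = s • u → r = s := by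
          intro r hr s hs h
          have h1 := D.R_free (D.ne_zero hw) hwu ((D.R w).mul_mem ((D.R w).inv_mem hs) hr)
            (by rw [mul_smul, h, inv_smul_smul])
          exact (inv_mul_eq_one.mp h1).symm
        have hfour : ∀ r ∈ D.R w, r • u ∈ ({u, u + D.z, r0 • u, r0 • (u + D.z)} : Set V) := by
          intro r hr
          rcases hr.2 D.z hb' with h | h
          · rcases h2 r ⟨hr, h⟩ with h' | h' <;> simp only [h', _root_.smul_add, _root_.Set.mem_insert_iff, _root_.left_eq_add, _root_.Set.mem_singleton_iff, _root_.true_or, _root_.add_eq_left, _root_.or_true]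
          · have h4 : r0⁻¹ * r ∈ C := by
              refine ⟨(D.R w).mul_mem ((D.R w).inv_mem hr0) hr, ?_⟩
              show (r0⁻¹ * r) • D.z = D.z
              rw [mul_smul, inv_smul_eq_iff, h, hr0z]
            rcases h2 _ h4 with h5 | h5 <;> rw [mul_smul, inv_smul_eq_iff] at h5 <;> simp only [h5, _root_.smul_add, _root_.Set.mem_insert_iff, _root_.Set.mem_singleton_iff, _root_.left_eq_add, _root_.true_or, _root_.or_true, _root_.add_eq_left]
        have hcard : Nat.card (D.R w) ≤ 4 := by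
          classical
          have hle : Nat.card (D.R w) ≤
              Nat.card (({u, u + D.z, r0 • u, r0 • (u + D.z)} : Finset V) : Set V) := by
            refine Nat.card_le_card_of_injective
              (fun r => ⟨(r : Y) • u, by simpa only [_root_.smul_add, _root_.Finset.coe_insert, _root_.Finset.coe_singleton, _root_.Set.mem_insert_iff, _root_.Set.mem_singleton_iff] using hfour r r.2⟩) ?_
            intro r s h
            exact Subtype.ext (hinj _ r.2 _ s.2 (congrArg Subtype.val h))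
          refine hle.trans ?_
          rw [Nat.card_coe_set_eq, Set.ncard_coe_finset]
          exact Finset.card_le_four
        have hc4 : Nat.card (D.R D.z) = 4 := by
          have := D.card4
          rw [D.card_R hw] at hcard
          omega
        -- some element of `C` moves `u`
        have hex : ∃ r ∈ C, r • u = u + D.z := by
          by_contra hno
          push Not at hno
          have hC1 : ∀ r ∈ C, r = 1 := fun r hr =>
            hinj r hr.1 1 (one_mem _) (by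
              rw [one_smul]; exact (h2 r hr).resolve_right (hno r hr))
          have h6 : ∀ r ∈ D.R w, r = 1 ∨ r = r0 := by
            intro r hr
            rcases hr.2 D.z hb' with h | h
            · exact Or.inl (hC1 r ⟨hr, h⟩)
            · right
              have h4 : r0⁻¹ * r ∈ C := by
                refine ⟨(D.R w).mul_mem ((D.R w).inv_mem hr0) hr, ?_⟩
                show (r0⁻¹ * r) • D.z = D.z
                rw [mul_smul, inv_smul_eq_iff, h, hr0z]
              exact (inv_mul_eq_one.mp (hC1 _ h4)).symm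
          have h7 : Nat.card (D.R w) ≤ 2 := by
            classical
            have hle : Nat.card (D.R w) ≤ Nat.card (({1, r0} : Finset Y) : Set Y) := by
              refine Nat.card_le_card_of_injective
                (fun r => ⟨(r : Y), by simpa only [_root_.Finset.coe_insert, _root_.Finset.coe_singleton, _root_.Set.mem_insert_iff, _root_.OneMemClass.coe_eq_one, _root_.Set.mem_singleton_iff] using h6 r r.2⟩) ?_
              intro r s h
              exact Subtype.ext (Subtype.mk.inj h)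
            refine hle.trans ?_
            rw [Nat.card_coe_set_eq, Set.ncard_coe_finset]
            exact Finset.card_le_two
          have := D.card4
          rw [← D.card_R hw] at this
          omega
        obtain ⟨r, hr, hru⟩ := hex
        obtain ⟨w', k, hw', ha⟩ := D.acts_of_R (D.ne_zero hw) hr.1
        have h8 : D.Acts r w D.z k := by
          have h9 := ha u
          rw [hru, Frm.sig, hwu, one_smul, mul_one, add_assoc] at h9
          have h10 : D.z = w' + (D.b w' u + k) • w := add_left_cancel h9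
          rcases z2 (D.b w' u + k) with h11 | h11
          · rw [h11, zero_smul, add_zero] at h10
            rw [h10]; exact ha
          · rw [h11, one_smul] at h10
            rw [h10, D.acts_shift]; exact ha
        have hk : k = 0 := D.good hw D.z_mem hzw.symm hb' h8
        subst hk
        exact hne ⟨hc4, r, (D.acts_swap).mp h8⟩)
  obtain ⟨u, hu, hzu, hbu, hl⟩ := D.line_mem hw hzw hb hz
  rw [hl] at hfix
  exact D.fin hu hzu hbu hfix hl.symm

theorem acts_unique {s : Y} {x w w' : V} {k k' : ZMod 2} (hx : x ≠ 0)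
    (h : D.Acts s x w k) (h' : D.Acts s x w' k') : (w' = w ∨ w' = w + x) ∧ k = k' := by
  obtain ⟨v, _, hv⟩ := D.far hx
  have h1 := (h v).symm.trans (h' v)
  unfold Frm.sig at h1
  rw [hv, one_smul, one_smul, mul_one, mul_one, add_assoc, add_assoc] at h1
  have h2 := add_left_cancel h1
  have h3 : w' = w ∨ w' = w + x := by
    rcases z2 (D.b w v + k) with h4 | h4 <;> rcases z2 (D.b w' v + k') with h5 | h5 <;>
      rw [h4, h5] at h2 <;> simp only [zero_smul, one_smul, add_zero] at h2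
    · exact Or.inl h2.symm
    · right; rw [h2, add_assoc, add_self', add_zero]
    · exact Or.inr h2.symm
    · left; exact (add_right_cancel h2).symm
  refine ⟨h3, ?_⟩
  rcases h3 with rfl | rfl
  · have h4 := add_left_cancel h2
    rcases z2 (D.b w' v) with h5 | h5 <;> rcases z2 k with rfl | rfl <;>
      rcases z2 k' with rfl | rfl <;> simp [h5, one_one] at h4 ⊢ <;>
      first | exact (hx h4).elim | exact (hx h4.symm).elim
  · rw [add_assoc, D.add_left, hv] at h2
    have h4 := add_left_cancel h2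
    rcases z2 (D.b w v) with h5 | h5 <;> rcases z2 k with rfl | rfl <;>
      rcases z2 k' with rfl | rfl <;> simp [h5, add_self'] at h4 ⊢ <;>
      first | exact (hx h4).elim | exact (hx h4.symm).elim

/-- `x, y` span a line `l` with `s_l ∈ Y` -/
def Good (x y : V) : Prop :=
  x ∈ D.Om ∧ y ∈ D.Om ∧ x ≠ y ∧ D.b x y = 0 ∧ ∃ r, D.Acts r x y 0

variable {D} in
theorem Good.sy {x y : V} (h : D.Good x y) : D.Good y x := by
  obtain ⟨h1, h2, h3, h4, r, h5⟩ := h
  exact ⟨h2, h1, h3.symm, by rw [D.symm, h4], r, D.acts_swap.mp h5⟩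

variable {D} in
theorem Good.sm {x y : V} (h : D.Good x y) (g : Y) : D.Good (g • x) (g • y) := by
  obtain ⟨h1, h2, h3, h4, r, h5⟩ := h
  exact ⟨D.smul_mem g h1, D.smul_mem g h2, fun h => h3 (smul_left_cancel _ h),
    by rw [D.inv, h4], _, D.acts_conj g h5⟩

theorem four {x a : V} (h4 : Nat.card (D.R D.z) = 4) (ha : D.Good x a) {ra : Y}
    (hra : D.Acts ra x a 0) :
    ∃ c rc, D.Good x c ∧ D.b a c = 1 ∧ D.Acts rc x c 0 ∧
      D.Acts (ra * rc) x (a + c) 1 ∧
      (∀ r ∈ D.R x, r = 1 ∨ r = ra ∨ r = rc ∨ r = ra * rc) ∧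
      (∀ y, D.Good x y → y = a ∨ y = a + x ∨ y = c ∨ y = c + x) := by
  obtain ⟨hx, ha', hxa, hbxa, _⟩ := ha
  have hx0 := D.ne_zero hx
  have hbax : D.b a x = 0 := by rw [D.symm, hbxa]
  obtain ⟨r, hr, hra1⟩ := D.exists_move hx ha' hxa hbxa
  obtain ⟨w, k, hw, hrw⟩ := D.acts_of_R hx0 hr
  have hwa : D.b w a = 1 := by
    refine (z2 _).resolve_left fun h0 => ?_
    rw [hrw, Frm.sig, hbxa, h0] at hra1
    exact hx0 (by simpa using hra1)
  have haw : D.b a w = 1 := by rw [D.symm, hwa]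
  obtain ⟨c, rc, hxc, hac, hrc⟩ : ∃ c rc, D.b x c = 0 ∧ D.b a c = 1 ∧ D.Acts rc x c 0 := by
    rcases z2 k with rfl | rfl
    · exact ⟨w, r, hw, haw, hrw⟩
    · refine ⟨a + w, ra * r, by rw [D.add_right, hbxa, hw, add_zero],
        by rw [D.add_right, D.alt, haw, zero_add], ?_⟩
      have := D.acts_mul hbxa hw hra hrw
      rw [haw] at this
      simpa [one_one] using this
  have hca : D.b c a = 1 := by rw [D.symm, hac]
  have hc0 : c ≠ 0 := fun h => by rw [h, D.zero_right] at hac; exact zero_ne_one hac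
  have hcx : x ≠ c := fun h => by rw [← h, hbax] at hac; exact zero_ne_one hac
  have hc : c ∈ D.Om := by
    obtain ⟨v, hv, hxv⟩ := D.far hx0
    have h1 := hrc v
    rw [Frm.sig, hxv, one_smul, mul_one, add_zero] at h1
    rcases z2 (D.b c v) with h2 | h2
    · rw [h2, zero_smul, add_zero] at h1
      have h3 : v + c ∈ D.Om := by rw [← h1]; exact D.smul_mem _ hv
      have h4 := D.add_mem hv h3 (fun h => hc0 (by simpa using h))
        (by rw [D.add_right, D.alt, D.symm, h2, add_zero])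
      rwa [add_cancel] at h4
    · rw [h2, one_smul, add_assoc] at h1
      have h3 : v + (c + x) ∈ D.Om := by rw [← h1]; exact D.smul_mem _ hv
      have h4 := D.add_mem hv h3 (fun h => hcx (by
          have : c + x = 0 := by simpa only [_root_.left_eq_add] using h
          exact (eq_of_add _ _ this).symm))
        (by rw [D.add_right, D.add_right, D.alt, D.symm, h2, D.symm v, hxv, zero_add, one_one])
      rw [add_cancel] at h4
      have h5 := D.add_mem hx h4 (fun h => hc0 (by simpa using h))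
        (by rw [D.add_right, hxc, D.alt, add_zero])
      rwa [add_comm c x, add_cancel] at h5
  have hgc : D.Good x c := ⟨hx, hc, hcx, hxc, rc, hrc⟩
  have hac1 : D.Acts (ra * rc) x (a + c) 1 := by
    have := D.acts_mul hbxa hxc hra hrc
    rw [hac] at this
    simpa using this
  have hall : ∀ r ∈ D.R x, r = 1 ∨ r = ra ∨ r = rc ∨ r = ra * rc := by
    classical
    have e1 : ra • a = a := by rw [hra]; simp [Frm.sig, hbxa, D.alt]
    have e2 : ra • c = c + x := by rw [hra]; simp [Frm.sig, hxc, hac]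
    have e3 : rc • a = a + x := by rw [hrc]; simp [Frm.sig, hbxa, hca]
    have e4 : rc • c = c := by rw [hrc]; simp [Frm.sig, hxc, D.alt]
    have e5 : ra • x = x := (D.R_of_acts hbxa hra).1
    have e6 : (ra * rc) • a = a + x := by rw [mul_smul, e3, smul_add, e1, e5]
    have e7 : (ra * rc) • c = c + x := by rw [mul_smul, e4, e2]
    have nx : ∀ v : V, v ≠ v + x := fun v h => hx0 (by simpa using h)
    have n1 : (1 : Y) ≠ ra := fun h => nx c (by rw [← e2, ← h, one_smul])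
    have n2 : (1 : Y) ≠ rc := fun h => nx a (by rw [← e3, ← h, one_smul])
    have n3 : (1 : Y) ≠ ra * rc := fun h => nx a (by rw [← e6, ← h, one_smul])
    have n4 : ra ≠ rc := fun h => nx a (by rw [← e3, ← h, e1])
    have n5 : ra ≠ ra * rc := fun h => nx a (by rw [← e6, ← h, e1])
    have n6 : rc ≠ ra * rc := fun h => nx c (by rw [← e7, ← h, e4])
    have hS : ((({1, ra, rc, ra * rc} : Finset Y) : Set Y)) = (D.R x : Set Y) := by
      have hfin : (D.R x : Set Y).Finite := by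
        have : Finite (D.R x) := Nat.finite_of_card_ne_zero (by rw [D.card_R hx, h4]; decide)
        exact this
      refine Set.eq_of_subset_of_ncard_le ?_ ?_ hfin
      · intro s hs
        simp only [Finset.coe_insert, Finset.coe_singleton, Set.mem_insert_iff,
          Set.mem_singleton_iff] at hs
        have m1 := D.R_of_acts hbxa hra
        have m2 := D.R_of_acts hxc hrc
        rcases hs with rfl | rfl | rfl | rfl
        · exact one_mem _
        · exact m1
        · exact m2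
        · exact mul_mem m1 m2
      · rw [Set.ncard_coe_finset]
        have h5 : (D.R x : Set Y).ncard = 4 := by
          rw [← Nat.card_coe_set_eq]
          exact (D.card_R hx).trans h4
        rw [h5]
        rw [Finset.card_insert_of_notMem (by simp [n1, n2, n3]),
          Finset.card_insert_of_notMem (by simp [n4, n5]),
          Finset.card_insert_of_notMem (by simp only [Finset.mem_singleton]; exact n6),
          Finset.card_singleton]
    intro r hr
    have : r ∈ (D.R x : Set Y) := hr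
    rw [← hS] at this
    simpa only [_root_.Finset.coe_insert, _root_.Finset.coe_singleton, _root_.Set.mem_insert_iff, _root_.Set.mem_singleton_iff] using this
  refine ⟨c, rc, hgc, hac, hrc, hac1, hall, ?_⟩
  rintro y ⟨_, hy, hxy, hbxy, s, hs⟩
  rcases hall s (D.R_of_acts hbxy hs) with rfl | rfl | rfl | rfl
  · have h1 : D.Acts (1 : Y) x 0 0 := fun v => by simp only [Frm.sig, D.zero_left, _root_.one_smul, _root_.Cfsg.Agent.Omega.NearFF.SymPlus.Frm.sig, _root_.smul_zero, _root_.add_zero, _root_.MulZeroClass.zero_mul, _root_.zero_smul]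
    rcases (D.acts_unique hx0 h1 hs).1 with h2 | h2
    · exact (D.ne_zero hy h2).elim
    · exact (hxy (by rw [h2, zero_add])).elim
  · rcases (D.acts_unique hx0 hra hs).1 with h2 | h2
    · exact Or.inl h2
    · exact Or.inr (Or.inl h2)
  · rcases (D.acts_unique hx0 hrc hs).1 with h2 | h2
    · exact Or.inr (Or.inr (Or.inl h2))
    · exact Or.inr (Or.inr (Or.inr h2))
  · exact (one_ne_zero (D.acts_unique hx0 hac1 hs).2).elim

/-- the second good line on `a`, normalised by `c` -/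
theorem second {x a c : V} (h4 : Nat.card (D.R D.z) = 4) (ha : D.Good x a)
    (hac : D.b a c = 1) :
    ∃ m, D.Good a m ∧ D.b x m = 1 ∧ D.b m c = 0 ∧
      ∀ y, D.Good a y → y = x ∨ y = x + a ∨ y = m ∨ y = m + a := by
  obtain ⟨_, _, _, _, r, hr⟩ := ha.sy
  obtain ⟨m, rm, hm, hxm, hrm, _, _, huniq⟩ := D.four h4 ha.sy hr
  rcases z2 (D.b m c) with h | h
  · exact ⟨m, hm, hxm, h, huniq⟩
  · have hxa : D.b x a = 0 := ha.2.2.2.1
    refine ⟨m + a, ⟨hm.1, ?_, ?_, ?_, rm, ?_⟩, ?_, ?_, ?_⟩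
    · have := D.add_mem hm.1 hm.2.1 hm.2.2.1 hm.2.2.2.1
      rwa [add_comm] at this
    · intro h'
      exact D.ne_zero hm.2.1 (by simpa using h')
    · rw [D.add_right, hm.2.2.2.1, D.alt, add_zero]
    · rw [D.acts_shift]; exact hrm
    · rw [D.add_right, hxm, hxa, add_zero]
    · rw [D.add_left, h, hac, one_one]
    · intro y hy
      rcases huniq y hy with h' | h' | h' | h'
      · exact Or.inl h'
      · exact Or.inr (Or.inl h')
      · right; right; right; rw [h', add_assoc, add_self', add_zero]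
      · exact Or.inr (Or.inr (Or.inl h'))

theorem R_le_T : D.R D.z ≤ D.T := by
  have h1 : D.T ≤ Subgroup.normalizer (D.R D.z : Set Y) := by
    intro t ht
    rw [Subgroup.mem_normalizer_iff]
    intro r
    constructor
    · intro hr
      have := D.R_conj t hr
      rwa [D.T_fix t ht] at this
    · intro hr
      have := D.R_conj t⁻¹ hr
      rw [D.T_fix _ (D.T.inv_mem ht)] at this
      simpa [mul_assoc] using this
  have h2 : IsPGroup 2 (D.T ⊔ D.R D.z : Subgroup Y) :=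
    IsPGroup.to_sup_of_normal_right' D.T_two (D.R_two D.z_ne) h1
  have h3 := D.T_max _ h2 le_sup_left
  rw [← h3]
  exact le_sup_right

/-- the exceptional case -/
theorem exc [Finite V] {g : Y} (hzw : D.z ≠ g • D.z) (hb : D.b D.z (g • D.z) = 0)
    (h4 : Nat.card (D.R D.z) = 4) (hex : ∃ r, D.Acts r D.z (g • D.z) 0) : g ∈ D.M := by
  obtain ⟨ra, hra⟩ := hex
  obtain ⟨a, ha⟩ : ∃ a, a = g • D.z := ⟨_, rfl⟩
  obtain ⟨z, hz⟩ : ∃ z, z = D.z := ⟨_, rfl⟩
  have hgza : D.Good z a := by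
    rw [hz, ha]
    exact ⟨D.z_mem, D.smul_mem g D.z_mem, hzw, hb, ra, hra⟩
  rw [← ha] at hra hb hzw
  have hTz : ∀ t ∈ D.T, t • z = z := by rw [hz]; exact D.T_fix
  obtain ⟨c, rc, hgzc, hac, hrc, hrac, hall, huniq⟩ := D.four h4 hgza (by rw [hz]; exact hra)
  by_cases hT : ∀ t ∈ D.T, t • a = a ∨ t • a = a + z
  · refine D.fin (h := 1) hgza.2.1 hzw hb (fun t ht => ?_) (by rw [one_smul, ha])
    rw [← hz, smul_line, hTz t ht]
    rcases hT t ht with h | h
    · rw [h]
    · rw [h, add_comm a z, ← line_add]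
  exfalso
  push Not at hT
  have hz0 : z ≠ 0 := by rw [hz]; exact D.z_ne
  have hzOm : z ∈ D.Om := hgza.1
  have haOm : a ∈ D.Om := hgza.2.1
  have hcOm : c ∈ D.Om := hgzc.2.1
  have hza : D.b z a = 0 := hgza.2.2.2.1
  have haz : D.b a z = 0 := by rw [D.symm, hza]
  have hzc : D.b z c = 0 := hgzc.2.2.2.1
  have hcz : D.b c z = 0 := by rw [D.symm, hzc]
  have hca : D.b c a = 1 := by rw [D.symm, hac]
  rw [← hz] at hra
  have hraR : ra ∈ D.R z := D.R_of_acts hza hra
  have hrcR : rc ∈ D.R z := D.R_of_acts hzc hrc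
  have hRT : ∀ r ∈ D.R z, r ∈ D.T := fun r hr => by rw [hz] at hr; exact D.R_le_T hr
  have e1 : ra • a = a := by rw [hra]; simp [Frm.sig, hza, D.alt]
  have e2 : ra • c = c + z := by rw [hra]; simp [Frm.sig, hzc, hac]
  have e3 : rc • a = a + z := by rw [hrc]; simp [Frm.sig, hza, hca]
  have e4 : rc • c = c := by rw [hrc]; simp [Frm.sig, hzc, D.alt]
  have e5 : ra • z = z := hraR.1
  have e6 : rc • z = z := hrcR.1
  -- good neighbours of `z`
  have hnb : ∀ t ∈ D.T, ∀ y, D.Good z y → D.Good z (t • y) := fun t ht y hy => by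
    have := hy.sm t
    rwa [hTz t ht] at this
  -- the element `t`
  obtain ⟨t, htT, hta⟩ : ∃ t ∈ D.T, t • a = c := by
    obtain ⟨t, ht, h1, h2⟩ := hT
    rcases huniq _ (hnb t ht a hgza) with h | h | h | h
    · exact (h1 h).elim
    · exact (h2 h).elim
    · exact ⟨t, ht, h⟩
    · refine ⟨ra * t, D.T.mul_mem (hRT _ hraR) ht, ?_⟩
      rw [mul_smul, h, smul_add, e2, e5, add_assoc, add_self', add_zero]
  obtain ⟨m, hgam, hzm, hmc, hum⟩ := D.second h4 hgza hac
  obtain ⟨m', hgcm, hzm', hma', hum'⟩ := D.second h4 hgzc hca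
  have ham : D.b a m = 0 := hgam.2.2.2.1
  have hma : D.b m a = 0 := by rw [D.symm, ham]
  have hmz : D.b m z = 1 := by rw [D.symm, hzm]
  have hmz' : D.b m' z = 1 := by rw [D.symm, hzm']
  have hcm : D.b c m = 0 := by rw [D.symm, hmc]
  have hcm' : D.b c m' = 0 := hgcm.2.2.2.1
  have hmc' : D.b m' c = 0 := by rw [D.symm, hcm']
  have ham' : D.b a m' = 0 := by rw [D.symm, hma']
  have hmOm : m ∈ D.Om := hgam.2.1
  have hmOm' : m' ∈ D.Om := hgcm.2.1
  -- elements of `T` fixing `a` and `c` fix `m` and `m'`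
  have hfixm : ∀ s ∈ D.T, s • a = a → s • c = c → s • m = m := by
    intro s hs h1 h2
    have h3 : D.Good a (s • m) := by
      have := hgam.sm s
      rwa [h1] at this
    have h5 : D.b z (s • m) = 1 := by
      rw [← hTz s hs, D.inv, hzm]
    have h6 : D.b (s • m) c = 0 := by
      rw [← h2, D.inv, hmc]
    rcases hum _ h3 with h | h | h | h
    · rw [h, D.alt] at h5; exact (zero_ne_one h5).elim
    · rw [h, D.add_right, D.alt, hza, add_zero] at h5; exact (zero_ne_one h5).elim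
    · exact h
    · rw [h, D.add_left, hmc, hac, zero_add] at h6; exact (one_ne_zero h6).elim
  have hfixm' : ∀ s ∈ D.T, s • a = a → s • c = c → s • m' = m' := by
    intro s hs h1 h2
    have h3 : D.Good c (s • m') := by
      have := hgcm.sm s
      rwa [h2] at this
    have h5 : D.b z (s • m') = 1 := by
      rw [← hTz s hs, D.inv, hzm']
    have h6 : D.b (s • m') a = 0 := by
      rw [← h1, D.inv, hma']
    rcases hum' _ h3 with h | h | h | h
    · rw [h, D.alt] at h5; exact (zero_ne_one h5).elim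
    · rw [h, D.add_right, D.alt, hzc, add_zero] at h5; exact (zero_ne_one h5).elim
    · exact h
    · rw [h, D.add_left, hma', hca, zero_add] at h6; exact (one_ne_zero h6).elim
  -- the images of `a`, `c` under `T`
  have hTa : ∀ s ∈ D.T, s • a = a ∨ s • a = a + z ∨ s • a = c ∨ s • a = c + z :=
    fun s hs => huniq _ (hnb s hs a hgza)
  have hTc : ∀ s ∈ D.T, s • c = a ∨ s • c = a + z ∨ s • c = c ∨ s • c = c + z :=
    fun s hs => huniq _ (hnb s hs c hgzc)
  have hbs : ∀ s : Y, D.b (s • a) (s • c) = 1 := fun s => by rw [D.inv, hac]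
  have hT1 : ∀ s ∈ D.T, (s • a = a ∨ s • a = a + z) → (s • c = c ∨ s • c = c + z) := by
    intro s hs h
    have h1 := hbs s
    rcases hTc s hs with h2 | h2 | h2 | h2
    · exfalso
      rcases h with h | h <;> rw [h, h2] at h1 <;>
        simp only [D.add_left, D.alt, hza, _root_.zero_ne_one, _root_.add_zero] at h1
    · exfalso
      rcases h with h | h <;> rw [h, h2] at h1 <;>
        simp [D.add_left, D.add_right, D.alt, hza, haz] at h1
    · exact Or.inl h2
    · exact Or.inr h2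
  have hT2 : ∀ s ∈ D.T, (s • a = c ∨ s • a = c + z) → (s • c = a ∨ s • c = a + z) := by
    intro s hs h
    have h1 := hbs s
    rcases hTc s hs with h2 | h2 | h2 | h2
    · exact Or.inl h2
    · exact Or.inr h2
    · exfalso
      rcases h with h | h <;> rw [h, h2] at h1 <;>
        simp [D.add_left, D.alt, hzc] at h1
    · exfalso
      rcases h with h | h <;> rw [h, h2] at h1 <;>
        simp [D.add_left, D.add_right, D.alt, hzc, hcz] at h1
  -- `F`
  let F : V → Prop := fun v => D.b z v = 0 ∧ D.b a v = 0 ∧ D.b c v = 0 ∧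
    ∀ s ∈ D.T, s • a = a → s • c = c → s • v = v
  have hdual : ∀ u v : V, D.b z v = 0 → D.b a v = 0 → D.b c v = 0 →
      (u = a ∨ u = a + z ∨ u = c ∨ u = c + z) → D.b u v = 0 := by
    intro u v h1 h2 h3 h
    rcases h with rfl | rfl | rfl | rfl <;> simp [D.add_left, h1, h2, h3]
  have f1 : ∀ s ∈ D.T, ∀ v, F v → F (s • v) := by
    rintro s hs v ⟨h1, h2, h3, h5⟩
    have hs' := D.T.inv_mem hs
    refine ⟨?_, ?_, ?_, ?_⟩
    · rw [← hTz s hs, D.inv, h1]
    · rw [← D.inv', hdual _ v h1 h2 h3 (hTa _ hs')]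
    · rw [← D.inv', hdual _ v h1 h2 h3 (hTc _ hs')]
    · intro s' hs'' h6 h7
      have h8 : ∀ u, (u = a ∨ u = a + z ∨ u = c ∨ u = c + z) → s' • u = u := by
        have h9 := hTz s' hs''
        intro u hu
        rcases hu with rfl | rfl | rfl | rfl
        · exact h6
        · rw [smul_add, h6, h9]
        · exact h7
        · rw [smul_add, h7, h9]
      have h9 : (s⁻¹ * s' * s) • v = v := by
        apply h5 _ (D.T.mul_mem (D.T.mul_mem hs' hs'') hs)
        · rw [mul_smul, mul_smul, h8 _ (hTa s hs), inv_smul_smul]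
        · rw [mul_smul, mul_smul, h8 _ (hTc s hs), inv_smul_smul]
      rw [mul_smul, mul_smul, inv_smul_eq_iff] at h9
      exact h9
  have hRfix : ∀ r ∈ D.R z, ∀ v, F v → r • v = v := by
    rintro r hr v ⟨h1, h2, h3, _⟩
    have g1 : ra • v = v := by rw [hra]; simp [Frm.sig, h1, h2]
    have g2 : rc • v = v := by rw [hrc]; simp [Frm.sig, h1, h3]
    rcases hall r hr with rfl | rfl | rfl | rfl
    · exact one_smul _ _
    · exact g1
    · exact g2
    · rw [mul_smul, g2, g1]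
  have f2 : ∀ s ∈ D.T, (s • a = a ∨ s • a = a + z) → ∀ v, F v → s • v = v := by
    intro s hs h v hv
    obtain ⟨ρ, hρ, h1, h2⟩ : ∃ ρ ∈ D.R z, (ρ * s) • a = a ∧ (ρ * s) • c = c := by
      have k1 : rc • (a + z) = a := by rw [smul_add, e3, e6, add_assoc, add_self', add_zero]
      have k2 : ra • (c + z) = c := by rw [smul_add, e2, e5, add_assoc, add_self', add_zero]
      have k3 : rc • (c + z) = c + z := by rw [smul_add, e4, e6]
      rcases h with h | h <;> rcases hT1 s hs (by simp [h]) with h' | h'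
      · exact ⟨1, one_mem _, by rw [one_mul, h], by rw [one_mul, h']⟩
      · exact ⟨ra, hraR, by rw [mul_smul, h, e1], by rw [mul_smul, h', k2]⟩
      · exact ⟨rc, hrcR, by rw [mul_smul, h, k1], by rw [mul_smul, h', e4]⟩
      · exact ⟨ra * rc, mul_mem hraR hrcR, by rw [mul_smul, mul_smul, h, k1, e1],
          by rw [mul_smul, mul_smul, h', k3, k2]⟩
    have h3 := hv.2.2.2 (ρ * s) (D.T.mul_mem (hRT _ hρ) hs) h1 h2
    rw [mul_smul] at h3
    have h5 := hRfix ρ⁻¹ (inv_mem hρ) v hv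
    rw [← h3, inv_smul_smul, h3] at h5
    exact h5
  have htc : t • c = a ∨ t • c = a + z := hT2 t htT (Or.inl hta)
  have htinv : ∀ u, (u = c ∨ u = c + z) → (t⁻¹ • u = a ∨ t⁻¹ • u = a + z) := by
    intro u hu
    rcases hu with rfl | rfl
    · left; rw [← hta, inv_smul_smul]
    · right
      rw [smul_add, hTz _ (D.T.inv_mem htT)]
      congr 1
      rw [← hta, inv_smul_smul]
  have f3' : ∀ v, F v → t • v = v → v = 0 ∨ v = z := by
    intro v hv h
    rw [hz]
    apply D.T_only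
    intro s hs
    rcases hTa s hs with h1 | h1 | h1 | h1
    · exact f2 s hs (Or.inl h1) v hv
    · exact f2 s hs (Or.inr h1) v hv
    all_goals
      have h2 := f2 (t⁻¹ * s) (D.T.mul_mem (D.T.inv_mem htT) hs) (by
        rw [mul_smul]; exact htinv _ (by simp [h1])) v hv
      rw [mul_smul, inv_smul_eq_iff] at h2
      rw [h2, h]
  have f3 : ∀ v, F v → v = 0 ∨ v = z ∨ t • v = v + z := by
    intro v hv
    have h1 : v + t • v = 0 ∨ v + t • v = z := by
      rw [hz]
      apply D.T_only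
      intro s hs
      rw [smul_add]
      have hv' := f1 t htT v hv
      rcases hTa s hs with h1 | h1 | h1 | h1
      · rw [f2 s hs (Or.inl h1) v hv, f2 s hs (Or.inl h1) _ hv']
      · rw [f2 s hs (Or.inr h1) v hv, f2 s hs (Or.inr h1) _ hv']
      all_goals
        have h2 := f2 (t⁻¹ * s) (D.T.mul_mem (D.T.inv_mem htT) hs) (by
          rw [mul_smul]; exact htinv _ (by simp [h1])) v hv
        have h3 := f2 (s * t) (D.T.mul_mem hs htT) (by
          rw [mul_smul, hta]
          exact hT2 s hs (by simp [h1])) v hv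
        rw [mul_smul, inv_smul_eq_iff] at h2
        rw [mul_smul] at h3
        rw [h2, h3, add_comm]
    rcases h1 with h1 | h1
    · rcases f3' v hv (eq_of_add _ _ h1).symm with h | h
      · exact Or.inl h
      · exact Or.inr (Or.inl h)
    · right; right
      rw [← h1, add_cancel]
  -- the vector `d = m + m'`
  have hd : F (m + m') := by
    refine ⟨by rw [D.add_right, hzm, hzm', one_one], by rw [D.add_right, ham, ham', add_zero],
      by rw [D.add_right, hcm, hcm', add_zero], fun s hs h1 h2 => ?_⟩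
    rw [smul_add, hfixm s hs h1 h2, hfixm' s hs h1 h2]
  have htm : t • m = m' ∨ t • m = m' + c := by
    have h1 : D.Good c (t • m) := by
      have := hgam.sm t
      rwa [hta] at this
    have h2 : D.b z (t • m) = 1 := by rw [← hTz t htT, D.inv, hzm]
    rcases hum' _ h1 with h | h | h | h
    · rw [h, D.alt] at h2; exact (zero_ne_one h2).elim
    · rw [h, D.add_right, D.alt, hzc, add_zero] at h2; exact (zero_ne_one h2).elim
    · exact Or.inl h
    · exact Or.inr h
  by_cases hD2 : ∃ e, e ≠ 0 ∧ D.b z e = 0 ∧ D.b a e = 0 ∧ D.b c e = 0 ∧ D.b m e = 0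
  · -- case (4b)
    obtain ⟨e, he0, he, hme⟩ : ∃ e, e ≠ 0 ∧ F e ∧ D.b m e = 0 := by
      obtain ⟨e0, he0, g1, g2, g3, g4⟩ := hD2
      let C0 : Subgroup Y := D.T ⊓ (MulAction.stabilizer Y a ⊓ MulAction.stabilizer Y c)
      let A : AddSubgroup V :=
        { carrier := {v | D.b z v = 0 ∧ D.b a v = 0 ∧ D.b c v = 0 ∧ D.b m v = 0}
          zero_mem' := ⟨D.zero_right _, D.zero_right _, D.zero_right _, D.zero_right _⟩
          add_mem' := by
            rintro u v ⟨u1, u2, u3, u4⟩ ⟨v1, v2, v3, v4⟩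
            exact ⟨by rw [D.add_right, u1, v1, add_zero], by rw [D.add_right, u2, v2, add_zero],
              by rw [D.add_right, u3, v3, add_zero], by rw [D.add_right, u4, v4, add_zero]⟩
          neg_mem' := by
            intro v hv
            rw [ZModModule.neg_eq_self v]
            exact hv }
      have hC0 : ∀ s ∈ C0, s ∈ D.T ∧ s • a = a ∧ s • c = c := fun s hs => ⟨hs.1, hs.2.1, hs.2.2⟩
      let S : SubMulAction C0 V :=
        { carrier := {v | D.b z v = 0 ∧ D.b a v = 0 ∧ D.b c v = 0 ∧ D.b m v = 0}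
          smul_mem' := by
            rintro ⟨s, hs⟩ v ⟨v1, v2, v3, v4⟩
            obtain ⟨k1, k2, k3⟩ := hC0 s hs
            change D.b z (s • v) = 0 ∧ D.b a (s • v) = 0 ∧ D.b c (s • v) = 0 ∧
              D.b m (s • v) = 0
            refine ⟨?_, ?_, ?_, ?_⟩
            · rw [← hTz s k1, D.inv, v1]
            · rw [← k2, D.inv, v2]
            · rw [← k3, D.inv, v3]
            · rw [← hfixm s k1 k2 k3, D.inv, v4] }
      have hS : Nat.card S = Nat.card A := rfl
      have h2 : 2 ∣ Nat.card S := by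
        rw [hS]
        have h3 : addOrderOf (⟨e0, g1, g2, g3, g4⟩ : A) = 2 := by
          rw [addOrderOf_eq_prime_iff]
          refine ⟨?_, fun h => he0 (congrArg Subtype.val h)⟩
          rw [two_nsmul]
          exact Subtype.ext (add_self' e0)
        rw [← h3]
        exact addOrderOf_dvd_natCard _
      have hfin : Finite S := Subtype.finite
      obtain ⟨⟨e, g5, g6, g7, g8⟩, hef, hne⟩ :=
        (D.T_two.to_le (inf_le_left : C0 ≤ D.T)).exists_fixed_point_of_prime_dvd_card_of_fixed_point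
          S h2 (a := ⟨0, A.zero_mem⟩) (fun s => Subtype.ext (smul_zero _))
      refine ⟨e, fun h => hne (Subtype.ext h.symm), ⟨g5, g6, g7, fun s hs k2 k3 => ?_⟩, g8⟩
      exact congrArg Subtype.val (hef ⟨s, hs, k2, k3⟩)
    have hem : D.b e m = 0 := by rw [D.symm, hme]
    have hez : e ≠ z := fun h => by rw [h, hmz] at hme; exact one_ne_zero hme
    have hte : t • e = e + z := ((f3 e he).resolve_left he0).resolve_left hez
    have hec : D.b e c = 0 := by rw [D.symm, he.2.2.1]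
    have hez' : D.b e z = 0 := by rw [D.symm, he.1]
    have h1 : D.b (t • e) (t • m) = 0 := by rw [D.inv, hem]
    have hem' : D.b e m' = 1 := by
      rw [hte] at h1
      refine (z2 _).resolve_left fun h0 => ?_
      rcases htm with h | h <;> rw [h] at h1 <;>
        simp [D.add_left, D.add_right, h0, hec, hzm', hzc] at h1
    have hed : D.b e (m + m') = 1 := by rw [D.add_right, hem, hem', zero_add]
    rcases f3 _ hd with h | h | h
    · rw [h, D.zero_right] at hed; exact zero_ne_one hed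
    · rw [h, hez'] at hed; exact zero_ne_one hed
    · have hsum : F (m + m' + e) := by
        obtain ⟨a1, a2, a3, a4⟩ := hd
        obtain ⟨b1, b2, b3, b4⟩ := he
        refine ⟨by rw [D.add_right, a1, b1, add_zero], by rw [D.add_right, a2, b2, add_zero],
          by rw [D.add_right, a3, b3, add_zero], fun s hs h1 h2 => ?_⟩
        rw [smul_add, a4 s hs h1 h2, b4 s hs h1 h2]
      have h5 : t • (m + m' + e) = m + m' + e := by
        rw [smul_add, h, hte]
        rw [add_assoc (m + m'), add_comm e z, ← add_assoc z, add_self', zero_add]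
      rcases f3' _ hsum h5 with h6 | h6
      · rw [eq_of_add _ _ h6, D.alt] at hed; exact zero_ne_one hed
      · have h7 : m + m' = z + e := by
          rw [← h6, add_assoc, add_self', add_zero]
        rw [h7, D.add_right, hez', D.alt, add_zero] at hed; exact zero_ne_one hed
  · -- case (4a)
    push Not at hD2
    have hexp : ∀ v, v = D.b m v • z + D.b z v • m + (D.b c v • a + D.b a v • c) := by
      intro v
      apply eq_of_add
      by_contra h0
      refine hD2 _ h0 ?_ ?_ ?_ ?_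
      · simp only [D.add_right, D.smul_right, D.alt, hzm, hza, hzc]
        ring_nf
        simp [show (2 : ZMod 2) = 0 from rfl]
      · simp only [D.add_right, D.smul_right, D.alt, haz, ham, hac]
        ring_nf
        simp [show (2 : ZMod 2) = 0 from rfl]
      · simp only [D.add_right, D.smul_right, D.alt, hcz, hcm, hca]
        ring_nf
        simp [show (2 : ZMod 2) = 0 from rfl]
      · simp only [D.add_right, D.smul_right, D.alt, hmz, hma, hmc]
        ring_nf
        simp [show (2 : ZMod 2) = 0 from rfl]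
    have hdz : m + m' = 0 ∨ m + m' = z := by
      have h1 := hexp (m + m')
      rw [hd.1, hd.2.1, hd.2.2.1] at h1
      rcases z2 (D.b m (m + m')) with h | h <;> rw [h] at h1
      · left; simpa only [_root_.zero_smul, _root_.add_zero] using h1
      · right; simpa using h1
    rcases hdz with h | h
    · have hmm : m' = m := (eq_of_add _ _ h).symm
      rw [hmm] at htm
      obtain ⟨t', ht', htz', hta', htm'⟩ : ∃ t' ∈ D.T, t' • z = z ∧ t' • a = c ∧ t' • m = m := by
        rcases htm with h | h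
        · exact ⟨t, htT, hTz t htT, hta, h⟩
        · refine ⟨rc * t, D.T.mul_mem (hRT _ hrcR) htT, ?_, ?_, ?_⟩
          · rw [mul_smul, hTz t htT, e6]
          · rw [mul_smul, hta, e4]
          · rw [mul_smul, h, hrc]
            simp [Frm.sig, D.add_right, hzm, hzc, hcm, D.alt, add_assoc, add_self']
      have htc' : t' • c = a := by
        rcases hT2 t' ht' (Or.inl hta') with h1 | h1
        · exact h1
        · have h2 : D.b (t' • c) (t' • m) = 0 := by rw [D.inv, hcm]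
          rw [h1, htm', D.add_left, ham, hzm, zero_add] at h2
          exact (one_ne_zero h2).elim
      refine D.NT t' (a + c) (fun h0 => ?_) (fun v => ?_)
      · rw [eq_of_add _ _ h0, D.alt] at hac; exact zero_ne_one hac
      · have h1 : t' • v = D.b m v • z + D.b z v • m + (D.b c v • c + D.b a v • a) := by
          nth_rw 1 [hexp v]
          rw [smul_add, smul_add, smul_add, smul_zmod, smul_zmod, smul_zmod, smul_zmod,
            htz', hta', htm', htc']
        rw [h1]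
        nth_rw 5 [hexp v]
        rw [D.symm v, D.add_left]
        rcases z2 (D.b a v) with h2 | h2 <;> rcases z2 (D.b c v) with h3 | h3 <;>
          rw [h2, h3] <;> simp only [add_self', _root_.zero_smul, _root_.Cfsg.Agent.Omega.NearFF.SymPlus.add_self', _root_.add_zero, _root_.smul_add, _root_.one_smul, _root_.zero_add, _root_.add_right_inj]
        · rw [add_assoc _ a, add_cancel]
        · rw [add_assoc _ c, add_comm a c, add_cancel]
        · exact add_comm _ _
    · have hmm : m' = m + z := by rw [← h, add_cancel]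
      have hmzOm : m + z ∈ D.Om := by rw [← hmm]; exact hmOm'
      have hzne : D.b z a ≠ 1 := by rw [hza]; exact zero_ne_one
      have hacOm : a + c ∉ D.Om := by
        intro h1
        have h2 := D.good hzOm h1 (fun h3 => by
          rw [h3, D.add_right, D.alt, hac, zero_add] at haz; exact one_ne_zero haz)
          (by rw [D.add_right, hza, hzc, add_zero]) hrac
        exact one_ne_zero h2
      have hac0 : a + c ≠ 0 := fun h1 => by
        rw [eq_of_add _ _ h1, D.alt] at hac; exact zero_ne_one hac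
      have haczOm : a + c + z ∉ D.Om := by
        intro h1
        have h2 := D.add_mem hzOm h1 (fun h3 => hac0 (by simpa only [_root_.right_eq_add] using h3))
          (by rw [D.add_right, D.add_right, hza, hzc, D.alt, add_zero, add_zero])
        rw [add_comm (a + c) z, add_cancel] at h2
        exact hacOm h2
      -- everything else lies in `Om`
      have hmaOm : m + a ∈ D.Om := D.add_mem hmOm haOm hgam.2.2.1.symm hma
      have hmcOm : m + c ∈ D.Om := D.add_mem hmOm hcOm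
        (fun h1 => by rw [h1, hac] at ham; exact one_ne_zero ham) hmc
      have hmzaOm : m + z + a ∈ D.Om := by
        have := D.add_mem hmOm' haOm
          (fun h1 => by rw [h1, hca] at hcm'; exact one_ne_zero hcm') hma'
        rwa [hmm] at this
      have hmzcOm : m + z + c ∈ D.Om := by
        have := D.add_mem hmOm' hcOm hgcm.2.2.1.symm hmc'
        rwa [hmm] at this
      have hm1 : m + z + (a + c) ∈ D.Om := by
        have h1 : rc • (m + a) = m + z + (a + c) := by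
          rw [hrc]
          simp only [Frm.sig, D.add_right, hzm, hza, hcm, hca, add_zero, zero_add, one_smul,
            zero_mul]
          abel
        rw [← h1]; exact D.smul_mem _ hmaOm
      have hm2 : m + (a + c) ∈ D.Om := by
        have h1 : rc • (m + z + a) = m + (a + c) := by
          rw [hrc]
          simp only [Frm.sig, D.add_right, hzm, hza, hcm, hca, hcz, D.alt, add_zero, zero_add,
            one_smul, zero_mul]
          have : m + z + a + c + z = m + (a + c) + (z + z) := by abel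
          rw [this, add_self', add_zero]
        rw [← h1]; exact D.smul_mem _ hmzaOm
      have hazOm : a + z ∈ D.Om := by
        rw [add_comm]; exact D.add_mem hzOm haOm hgza.2.2.1 hza
      have hczOm : c + z ∈ D.Om := by
        rw [add_comm]; exact D.add_mem hzOm hcOm hgzc.2.2.1 hzc
      have hout : ∀ v, v ∉ D.Om → v ≠ 0 → v = a + c ∨ v = a + c + z := by
        intro v hv hv0
        have h1 := hexp v
        rcases z2 (D.b m v) with k1 | k1 <;> rcases z2 (D.b z v) with k2 | k2 <;>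
          rcases z2 (D.b c v) with k3 | k3 <;> rcases z2 (D.b a v) with k4 | k4 <;>
          simp only [k1, k2, k3, k4, zero_smul, one_smul, zero_add, add_zero] at h1
        · exact (hv0 h1).elim
        · exact (hv (h1 ▸ hcOm)).elim
        · exact (hv (h1 ▸ haOm)).elim
        · exact Or.inl h1
        · exact (hv (h1 ▸ hmOm)).elim
        · exact (hv (h1 ▸ hmcOm)).elim
        · exact (hv (h1 ▸ hmaOm)).elim
        · exact (hv (h1 ▸ hm2)).elim
        · exact (hv (h1 ▸ hzOm)).elim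
        · rw [add_comm] at h1; exact (hv (h1 ▸ hczOm)).elim
        · rw [add_comm] at h1; exact (hv (h1 ▸ hazOm)).elim
        · right; rw [h1, add_comm]
        · rw [add_comm] at h1; exact (hv (h1 ▸ hmzOm)).elim
        · rw [add_comm z m] at h1; exact (hv (h1 ▸ hmzcOm)).elim
        · rw [add_comm z m] at h1; exact (hv (h1 ▸ hmzaOm)).elim
        · rw [add_comm z m] at h1; exact (hv (h1 ▸ hm1)).elim
      have hgOm : ∀ v, v ∉ D.Om → g • v ∉ D.Om := by
        intro v hv h1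
        apply hv
        have := D.smul_mem g⁻¹ h1
        rwa [inv_smul_smul] at this
      have hg0 : ∀ v : V, v ≠ 0 → g • v ≠ 0 := fun v hv h1 =>
        hv ((smul_eq_zero_iff_eq g).mp h1)
      have hacz0 : a + c + z ≠ 0 := fun h1 => by
        have h2 := eq_of_add _ _ h1
        exact hacOm (h2 ▸ hzOm)
      have h1 := hout _ (hgOm _ hacOm) (hg0 _ hac0)
      have h2 := hout _ (hgOm _ haczOm) (hg0 _ hacz0)
      rw [smul_add g (a + c) z] at h2
      have h3 : g • z = a := by rw [hz, ha]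
      rw [h3] at h2
      have hca0 : ∀ v : V, v + a = v → False := fun v hv => D.ne_zero haOm (by simpa using hv)
      have hazne : a ≠ z := fun h => hgza.2.2.1 h.symm
      rcases h1 with h1 | h1 <;> rw [h1] at h2 <;> rcases h2 with h2 | h2
      · exact hca0 _ h2
      · exact hazne (add_left_cancel h2)
      · rw [add_assoc, add_eq_left] at h2
        exact hazne (eq_of_add _ _ h2).symm
      · exact hca0 _ h2

/-- **helper276 #14522**: the form is symmetric and `|R_z| ≥ 4`, then `(+)`: every `g ∈ Y` with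
`g z` perpendicular to `z` lies in the unique maximal subgroup over `T`. -/
theorem plus [Finite V] {g : Y} (hb : D.b D.z (g • D.z) = 0) : g ∈ D.M := by
  by_cases hzw : D.z = g • D.z
  · exact D.stab_le hzw.symm
  by_cases hne : Nat.card (D.R D.z) = 4 ∧ ∃ r, D.Acts r D.z (g • D.z) 0
  · exact D.exc hzw hb hne.1 hne.2
  · exact D.par hzw hb hne

end Data

end Act

end Cfsg.Agent.Omega.NearFF.SymPlus

end

-- merged: Cfsg.Agent.Mrg.Omega.NearFF.Case1End
section

section


/-!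
# (BT), `|V/E| = 2`: there is no minimal pair with `|[E, b]| ≥ 4` for all `b` (project OMEGA, leaf N1)

Text: helper132, bb OMEGA #17318, Case 1 (5), (6).
-/

set_option autoImplicit false
set_option linter.unusedSectionVars false

namespace Cfsg.Agent.Omega.NearFF

open Subgroup Cfsg.Agent.Omega.Transv

variable {Y : Type*} [Group Y] {V : Type*} [AddCommGroup V] [Module (ZMod 2) V] [DistribMulAction Y V]

theorem dua_injF {g : Y} {φ ψ : Du V} (h : dua g φ = dua g ψ) : φ = ψ := by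
  rw [← dua_inv g φ, h, dua_inv]

theorem card_half [Finite V] (E : AddSubgroup V) (ψ : Du V) :
    Nat.card E ≤ 2 * Nat.card {u : V // u ∈ E ∧ ψ u = 0} := by
  classical
  by_cases h0 : ∃ e ∈ E, ψ e = 1
  · obtain ⟨e, he, he1⟩ := h0
    have h1 : Nat.card (Fin 2 × {u : V // u ∈ E ∧ ψ u = 0}) = 2 * Nat.card {u : V // u ∈ E ∧ ψ u = 0} := by
      rw [Nat.card_prod, Nat.card_fin]
    rw [← h1]
    refine Nat.card_le_card_of_injective (fun u : E => if hu : ψ u = 0 then
      ((0 : Fin 2), (⟨u, u.2, hu⟩ : {u : V // u ∈ E ∧ ψ u = 0})) else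
      ((1 : Fin 2), ⟨u + e, add_mem u.2 he, by rw [map_add, he1, eq_one_of_ne hu, one_add_one]⟩)) ?_
    intro u u' h2
    by_cases hu : ψ u = 0
    · by_cases hu' : ψ u' = 0
      · simp only [hu, hu', dif_pos] at h2
        exact Subtype.ext (congrArg (fun p => (p.2 : V)) h2)
      · simp only [hu, hu', dif_pos, dif_neg, not_false_iff] at h2
        have h3 : (0 : Fin 2) = 1 := congrArg Prod.fst h2
        exact absurd h3 (by decide)
    · by_cases hu' : ψ u' = 0
      · simp only [hu, hu', dif_pos, dif_neg, not_false_iff] at h2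
        have h3 : (1 : Fin 2) = 0 := congrArg Prod.fst h2
        exact absurd h3 (by decide)
      · simp only [hu, hu', dif_neg, not_false_iff] at h2
        have h3 : (u : V) + e = u' + e := congrArg (fun p => (p.2 : V)) h2
        exact Subtype.ext (add_right_cancel h3)
  · push Not at h0
    have h1 : Nat.card E ≤ Nat.card {u : V // u ∈ E ∧ ψ u = 0} :=
      Nat.card_le_card_of_injective (fun u : E => (⟨u, u.2, eq_zero_of_ne (h0 u u.2)⟩ :
        {u : V // u ∈ E ∧ ψ u = 0})) fun u u' h2 =>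
        Subtype.ext (congrArg (fun p : {u : V // u ∈ E ∧ ψ u = 0} => (p : V)) h2)
    omega

namespace MP

variable {φ : Du V} {B L : Subgroup Y} {w : V} (h : MP φ B L w)
include h

/-- `B` is transitive on `φ^L - φ` -/
theorem trans (hE : ∀ l ∈ L, φ (l • w) = 0) {x : Y} (hx : x ∈ L) (hne : dua x φ ≠ φ) {v : V}
    {A : Subgroup Y} (hA : Out φ B L w x v A) {y : Y} (hy : y ∈ L) (hney : dua y φ ≠ φ) :
    ∃ b ∈ B, dua y φ = dua (b * x) φ := by
  obtain ⟨t₁, h1, t₂, h2, h3, h4, h5⟩ := h.split hE hx hne (orb_mem_PW (w := w) hy)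
  have hw : Fx B (y⁻¹ • (y • w)) := by
    rw [inv_smul_smul]
    exact h.fixw
  have hyL : ¬ Fx L (y • w) := fun h0 => h.w_not ((fx_smul hy).1 h0)
  have h6 : ¬ Fx L t₂ := by
    intro h0
    refine hyL (h.fix_of2 hy hney ?_ hw)
    rw [h3]
    exact h4.add (h.fx_B h0)
  obtain ⟨b, hb, h7⟩ := hA.surj t₂ h2 h5 h6 t₁ h1 h4
  refine ⟨b, hb, ?_⟩
  by_contra hc
  refine hyL (h.fix_of3 hy (mul_mem (h.le hb) hx) hc hw ?_)
  have h8 : b • (y • w) = t₂ + (cm b t₂ + t₁) := by
    rw [h3, smul_add, h4 b hb, smul_eq_add_cm b t₂]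
    abel
  rw [mul_inv_rev, h.inv_B hb, mul_smul, h8, smul_add]
  exact h5.add (h.fx_B ((fx_smul (inv_mem hx)).2 h7))

theorem dua_b {b : Y} (hb : b ∈ B) (ψ : Du V) (u : V) : dua b ψ u = ψ u + ψ (cm b u) := by
  rw [dua_apply, h.inv_B hb, smul_eq_add_cm, map_add]

/-- **no minimal pair** with `|[E, b]| ≥ 4` for all `1 ≠ b ∈ B` -/
theorem false_of_big [Finite Y] [Finite V] (hbig : Big φ B) : False := by
  classical
  have hE := h.case2 hbig
  obtain ⟨x, hx, hne⟩ := h.ex
  obtain ⟨v, hv⟩ := exists_one h.ne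
  obtain ⟨A, hA⟩ := h.exists_out hE hx hne hv
  have htr := fun {y : Y} (hy : y ∈ L) (hney : dua y φ ≠ φ) => h.trans hE hx hne hA hy hney
  have h3 := fun {a : Y} (ha : a ∈ B) (hax : dua a (dua x φ) = dua x φ) => h.three hE hx hne ha hax
  -- `b₁, b₂`
  obtain ⟨a, haA, ha1⟩ := hA.ne
  have haB := hA.le haA
  have hk0 : ∀ b ∈ B, (b ∈ KL L φ ↔ cm a (cm b v) = 0) := by
    intro b hb
    rw [cm_comm (h.nb.comm a haB b hb)]
    exact ⟨fun h0 => hA.perp0 a haA b hb h0, fun h0 => hA.perp1 a haA ha1 b hb h0⟩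
  have hmul : ∀ b ∈ B, ∀ c ∈ B, cm a (cm (b * c) v) = cm a (cm b v) + cm a (cm c v) := by
    intro b hb c hc
    rw [cm_mul, cm_add, cm_add, cm_eq_zero.2 (h.nb.ed _ (h.nb.cm_mem hc v) b hb a haB), add_zero]
  obtain ⟨e₁, he₁, g1, -⟩ := hbig a haB ha1 0
  obtain ⟨e₂, he₂, g2, g3⟩ := hbig a haB ha1 (cm a e₁)
  obtain ⟨b₁, hb₁, hd₁⟩ := h.nb.surj _ e₁ hv he₁
  obtain ⟨b₂, hb₂, hd₂⟩ := h.nb.surj _ e₂ hv he₂
  have k1 : cm a (cm b₁ v) = cm a e₁ := h.cm_cm_of_fx haB hd₁
  have k2 : cm a (cm b₂ v) = cm a e₂ := h.cm_cm_of_fx haB hd₂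
  have n1 : b₁ ∉ KL L φ := by
    rw [hk0 b₁ hb₁, k1]
    exact g1
  have n2 : b₂ ∉ KL L φ := by
    rw [hk0 b₂ hb₂, k2]
    exact g2
  have n3 : b₁ * b₂ ∉ KL L φ := by
    rw [hk0 _ (mul_mem hb₁ hb₂), hmul b₁ hb₁ b₂ hb₂, k1, k2]
    exact fun h0 => g3 (eq_of_add h0).symm
  -- (5)
  obtain ⟨d, hd, hd1⟩ : ∃ d, Fx B d ∧ dua x φ d = 1 := by
    by_contra hc
    push Not at hc
    have h0 : ∀ d, Fx B d → dua x φ d = 0 := fun d hd => eq_zero_of_ne (hc d hd)
    have h1 : ∀ b ∈ B, b ∉ KL L φ → dua x φ (cm b v) = 1 := by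
      intro b hb hbK
      refine eq_one_of_ne fun h4 => hbK (h3 hb ?_)
      refine LinearMap.ext fun u => ?_
      rw [h.dua_b hb]
      have h5 : dua x φ (cm b u) = 0 := by
        rcases zmod_cases (φ u) with h6 | h6
        · exact h0 _ (h.nb.ed u h6 b hb)
        · have h7 : φ (u + v) = 0 := by rw [map_add, h6, hv, one_add_one]
          have h8 := h0 _ (h.nb.ed _ h7 b hb)
          rw [cm_add, map_add, h4, add_zero] at h8
          exact h8
      rw [h5, add_zero]
    have h4 := h1 _ (mul_mem hb₁ hb₂) n3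
    rw [cm_mul, map_add, map_add, h1 b₁ hb₁ n1, h1 b₂ hb₂ n2,
      h0 _ (h.nb.ed _ (h.nb.cm_mem hb₂ v) b₁ hb₁), add_zero, one_add_one] at h4
    exact one_ne h4.symm
  have hd' : ∀ y ∈ L, dua y φ ≠ φ → dua y φ d = 1 := by
    intro y hy hney
    obtain ⟨b, hb, h4⟩ := htr hy hney
    rw [h4, dua_mul, dua_apply, hd _ (inv_mem hb), hd1]
  -- (5')
  have hrad : ∀ b ∈ B, (∀ c ∈ B, dua x φ (cm c (cm b v)) = 0) → b ∈ KL L φ := by
    intro b hb hr
    by_contra hbK
    have h4 : dua b (dua x φ) + dua x φ = φ := by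
      refine (eq_of_hyper (φ := φ) (ψ := dua b (dua x φ) + dua x φ) fun e he => ?_).resolve_left ?_
      · obtain ⟨c, hc, h5⟩ := h.nb.surj v e hv he
        rw [LinearMap.add_apply, h.dua_b hb]
        have h6 : dua x φ (cm b e) = 0 := by
          rw [← h.cm_cm_of_fx hb h5, cm_comm (h.nb.comm b hb c hc)]
          exact hr c hc
        rw [h6, add_zero, add_self]
      · intro h0
        refine hbK (h3 hb (LinearMap.ext fun u => ?_))
        have h5 := LinearMap.congr_fun h0 u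
        rw [LinearMap.add_apply] at h5
        exact eq_of_add h5
    obtain ⟨c, hc, hcK, hbc⟩ : ∃ c ∈ B, c ∉ KL L φ ∧ b * c ∉ KL L φ := by
      by_cases h5 : b * b₁ ∈ KL L φ
      · refine ⟨b₂, hb₂, n2, fun h6 => n3 ?_⟩
        have h7 := mul_mem h5 h6
        have h8 : b * b₁ * (b * b₂) = b₁ * b₂ := by
          rw [h.nb.comm b hb b₁ hb₁, mul_assoc b₁ b, ← mul_assoc b b, h.nb.sq b hb, one_mul]
        rwa [h8] at h7
      · exact ⟨b₁, hb₁, n1, h5⟩
    have hg : (c * x)⁻¹ ∈ L := inv_mem (mul_mem (h.le hc) hx)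
    have e1 : dua (c * x)⁻¹ φ ≠ φ := by
      intro h0
      apply hne
      have h5 : dua c (dua x φ) = dua c φ := by
        rw [h.dua_B hc, ← dua_mul]
        conv_lhs => rw [← h0, ← dua_mul, mul_inv_cancel, dua_one]
      exact dua_injF h5
    have e2 : dua ((c * x)⁻¹ * x) φ ≠ φ := by
      intro h0
      apply hcK
      apply h3 hc
      rw [dua_mul] at h0
      have h5 : dua (c * x) (dua (c * x)⁻¹ (dua x φ)) = dua (c * x) φ := by rw [h0]
      rw [← dua_mul, mul_inv_cancel, dua_one, dua_mul] at h5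
      exact h5.symm
    have e3 : dua ((c * x)⁻¹ * (b * x)) φ ≠ φ := by
      intro h0
      apply hbc
      apply h3 (mul_mem hb hc)
      rw [dua_mul] at h0
      have h5 : dua (c * x) (dua (c * x)⁻¹ (dua (b * x) φ)) = dua (c * x) φ := by rw [h0]
      rw [← dua_mul, mul_inv_cancel, dua_one, dua_mul c] at h5
      rw [dua_mul b c, ← h5, ← dua_mul, ← mul_assoc, h.nb.sq b hb, one_mul]
    have e4 := hd' _ hg e1
    have e5 := hd' _ (mul_mem hg hx) e2
    have e6 := hd' _ (mul_mem hg (mul_mem (h.le hb) hx)) e3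
    rw [dua_mul] at e5 e6
    rw [dua_apply] at e4 e5 e6
    have e7 := LinearMap.congr_fun h4 (((c * x)⁻¹)⁻¹ • d)
    rw [LinearMap.add_apply, ← dua_mul, e6, e5, e4, one_add_one] at e7
    exact one_ne e7.symm
  -- (6)
  let El : V → Prop := fun u => ∀ y ∈ L, dua y φ u = 0
  have hEl1 : ∀ l ∈ L, ∀ u, El u → El (l • u) := by
    intro l hl u hu y hy
    have h4 := hu (l⁻¹ * y) (mul_mem (inv_mem hl) hy)
    rw [dua_mul, dua_apply, inv_inv] at h4
    exact h4
  have hAf : ∀ a ∈ A, ∀ u, El u → a • u = u := by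
    intro a ha u hu
    have haB := hA.le ha
    have hu0 : φ u = 0 := by
      have h4 := hu 1 (one_mem L)
      rwa [dua_one] at h4
    obtain ⟨b, hb, h4⟩ := h.nb.surj v u hv hu0
    have h5 : b ∈ KL L φ := by
      refine hrad b hb fun c hc => ?_
      have h6 := hu (c * x) (mul_mem (h.le hc) hx)
      rw [dua_mul, h.dua_b hc, hu x hx, zero_add] at h6
      rwa [h.cm_cm_of_fx hc h4]
    rw [← cm_eq_zero, ← h.cm_cm_of_fx haB h4, cm_comm (h.nb.comm a haB b hb)]
    exact hA.perp0 a ha b hb h5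
  have hAc : ∀ a ∈ A, ∀ u, El (cm a u) := by
    intro a ha u y hy
    rw [cm_def, map_add, stabF_apply (mem_stabF.2 (hA.KL a ha y hy)), add_self]
  have hXf : ∀ a ∈ A, ∀ u, El u → (x * a * x⁻¹) • u = u := by
    intro a ha u hu
    rw [mul_smul, mul_smul, hAf a ha _ (hEl1 _ (inv_mem hx) u hu), smul_inv_smul]
  have hXc : ∀ a ∈ A, ∀ u, El (cm (x * a * x⁻¹) u) := by
    intro a ha u
    rw [smul_cm_inv]
    exact hEl1 x hx _ (hAc a ha _)
  have hcom : ∀ a ∈ A, ∀ c ∈ A, a * (x * c * x⁻¹) = x * c * x⁻¹ * a := by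
    intro a ha c hc
    refine h.faith.ext fun u => ?_
    rw [mul_smul a, mul_smul (x * c * x⁻¹) a, smul_eq_add_cm (x * c * x⁻¹) u, smul_add,
      hAf a ha _ (hXc c hc u),
      smul_eq_add_cm a u, smul_add, hXf c hc _ (hAc a ha u), smul_eq_add_cm (x * c * x⁻¹) u]
    abel
  have hti : ∀ a ∈ A, ∀ c ∈ A, a = x * c * x⁻¹ → c = 1 := by
    intro a ha c hc h4
    by_contra hc1
    have h5 : a • d = d := hd a (hA.le ha)
    rw [h4, mul_smul, mul_smul] at h5
    have h6 : c • (x⁻¹ • d) = x⁻¹ • d := by rw [eq_inv_smul_iff, h5]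
    have h7 := h.nb.fix (hA.le hc) hc1 h6
    rw [dua_apply, h7] at hd1
    exact one_ne hd1.symm
  have hAcomm : ∀ a ∈ A, ∀ b ∈ A, a * b = b * a := fun a ha b hb =>
    h.nb.comm a (hA.le ha) b (hA.le hb)
  let K : Subgroup Y :=
    { carrier := {k | ∃ a ∈ A, ∃ c ∈ A, k = a * (x * c * x⁻¹)}
      one_mem' := ⟨1, one_mem A, 1, one_mem A, by group⟩
      mul_mem' := by
        rintro _ _ ⟨a, ha, c, hc, rfl⟩ ⟨a', ha', c', hc', rfl⟩
        refine ⟨a * a', mul_mem ha ha', c * c', mul_mem hc hc', ?_⟩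
        calc a * (x * c * x⁻¹) * (a' * (x * c' * x⁻¹))
            = a * (x * c * x⁻¹ * a') * (x * c' * x⁻¹) := by group
          _ = a * (a' * (x * c * x⁻¹)) * (x * c' * x⁻¹) := by rw [hcom a' ha' c hc]
          _ = a * a' * (x * (c * c') * x⁻¹) := by group
      inv_mem' := by
        rintro _ ⟨a, ha, c, hc, rfl⟩
        refine ⟨a⁻¹, inv_mem ha, c⁻¹, inv_mem hc, ?_⟩
        rw [hcom a ha c hc]
        group }
  have hKc : ∀ a ∈ K, ∀ b ∈ K, a * b = b * a := by
    rintro _ ⟨a, ha, c, hc, rfl⟩ _ ⟨a', ha', c', hc', rfl⟩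
    calc a * (x * c * x⁻¹) * (a' * (x * c' * x⁻¹))
        = a * (x * c * x⁻¹ * a') * (x * c' * x⁻¹) := by group
      _ = a * (a' * (x * c * x⁻¹)) * (x * c' * x⁻¹) := by rw [hcom a' ha' c hc]
      _ = a * a' * (x * (c * c') * x⁻¹) := by group
      _ = a' * a * (x * (c' * c) * x⁻¹) := by rw [hAcomm a ha a' ha', hAcomm c hc c' hc']
      _ = a' * (a * (x * c' * x⁻¹)) * (x * c * x⁻¹) := by group
      _ = a' * (x * c' * x⁻¹ * a) * (x * c * x⁻¹) := by rw [hcom a ha c' hc']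
      _ = a' * (x * c' * x⁻¹) * (a * (x * c * x⁻¹)) := by group
  have hK2 : ∀ a ∈ K, a * a = 1 := by
    rintro _ ⟨a, ha, c, hc, rfl⟩
    calc a * (x * c * x⁻¹) * (a * (x * c * x⁻¹))
        = a * (x * c * x⁻¹ * a) * (x * c * x⁻¹) := by group
      _ = a * (a * (x * c * x⁻¹)) * (x * c * x⁻¹) := by rw [hcom a ha c hc]
      _ = a * a * (x * (c * c) * x⁻¹) := by group
      _ = 1 := by rw [h.nb.sq a (hA.le ha), h.nb.sq c (hA.le hc)]; group
  have hKcard : Nat.card A * Nat.card A = Nat.card K := by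
    rw [← Nat.card_prod]
    refine Nat.card_congr (Equiv.ofBijective
      (fun p : A × A => (⟨p.1 * (x * p.2 * x⁻¹), p.1, p.1.2, p.2, p.2.2, rfl⟩ : K)) ⟨?_, ?_⟩)
    · rintro ⟨⟨a, ha⟩, c, hc⟩ ⟨⟨a', ha'⟩, c', hc'⟩ h4
      have h5 : a * (x * c * x⁻¹) = a' * (x * c' * x⁻¹) := congrArg Subtype.val h4
      have h6 : a'⁻¹ * a = x * (c' * c⁻¹) * x⁻¹ := by
        have h7 : a'⁻¹ * a = a'⁻¹ * (a * (x * c * x⁻¹)) * (x * c * x⁻¹)⁻¹ := by group
        rw [h7, h5]
        group
      have h7 := hti _ (mul_mem (inv_mem ha') ha) _ (mul_mem hc' (inv_mem hc)) h6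
      have h8 : c' = c := by rwa [mul_inv_eq_one] at h7
      subst h8
      rw [mul_inv_cancel, mul_one, mul_inv_cancel] at h6
      have h9 : a' = a := inv_mul_eq_one.1 h6
      subst h9
      rfl
    · rintro ⟨_, a, ha, c, hc, rfl⟩
      exact ⟨(⟨a, ha⟩, ⟨c, hc⟩), rfl⟩
  have hKne : K ≠ ⊥ := by
    intro h0
    have h4 : a ∈ K := ⟨a, haA, 1, one_mem A, by group⟩
    rw [h0, mem_bot] at h4
    exact ha1 h4
  have hoff := h.noff K hKne hKc hK2
  have hElK : Nat.card {u : V // El u} ≤ Nat.card {u : V // Fx K u} := by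
    refine Nat.card_le_card_of_injective (fun u : {u : V // El u} => (⟨u, ?_⟩ : {u : V // Fx K u})) ?_
    · rintro _ ⟨a, ha, c, hc, rfl⟩
      rw [mul_smul, hXf c hc _ u.2, hAf a ha _ u.2]
    · intro u u' h4
      exact Subtype.ext (congrArg (fun p : {u : V // Fx K u} => (p : V)) h4)
  obtain ⟨E, hE', hEc⟩ := h.card_VH hv (inf_le_left : B ⊓ KL L φ ≤ B)
  have hEE : Nat.card {u : V // u ∈ E ∧ dua x φ u = 0} ≤ Nat.card {u : V // El u} := by
    refine Nat.card_le_card_of_injective (fun u : {u : V // u ∈ E ∧ dua x φ u = 0} =>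
      (⟨u, ?_⟩ : {u : V // El u})) ?_
    · obtain ⟨u, hu, hux⟩ := u
      obtain ⟨b, hb, h4⟩ := (hE' u).1 hu
      have hu0 : φ u = 0 := by
        have h5 := h.phi_of_fx h4
        rwa [map_add, h.nb.cm_mem hb.1, zero_add] at h5
      intro y hy
      change dua y φ u = 0
      by_cases hney : dua y φ = φ
      · rw [hney, hu0]
      · obtain ⟨c, hc, h5⟩ := htr hy hney
        rw [h5, dua_mul, h.dua_b hc, hux, zero_add, ← h.cm_cm_of_fx hc h4,
          cm_comm (h.nb.comm c hc b hb.1), cm_def, map_add,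
          stabF_apply (mem_stabF.2 (hb.2 x hx)), add_self]
    · intro u u' h4
      exact Subtype.ext (congrArg (fun p : {u : V // El u} => (p : V)) h4)
  have hhalf := card_half E (dua x φ)
  have hV := h.card_V
  rw [← hA.card] at hV
  -- `4 ≤ |A|`
  have h4A : 4 * Nat.card ((B ⊓ KL L φ : Subgroup Y)) ≤ Nat.card B := by
    let B₁ : Subgroup Y :=
      { carrier := {b | b ∈ B ∧ (cm a (cm b v) = 0 ∨ cm a (cm b v) = cm a e₁)}
        one_mem' := ⟨one_mem B, Or.inl (by rw [cm_one, cm_zero])⟩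
        mul_mem' := by
          rintro b c ⟨hb, hb'⟩ ⟨hc, hc'⟩
          refine ⟨mul_mem hb hc, ?_⟩
          rw [hmul b hb c hc]
          rcases hb' with h4 | h4 <;> rcases hc' with h5 | h5 <;> rw [h4, h5]
          · left; rw [add_zero]
          · right; rw [zero_add]
          · right; rw [add_zero]
          · left; rw [add_self]
        inv_mem' := by
          rintro b ⟨hb, hb'⟩
          rw [h.inv_B hb]
          exact ⟨hb, hb'⟩ }
    have h4 : 2 * Nat.card ((B ⊓ KL L φ : Subgroup Y)) ≤ Nat.card B₁ :=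
      card_two_le (fun b hb => ⟨hb.1, Or.inl ((hk0 b hb.1).1 hb.2)⟩) (k := b₁) ⟨hb₁, Or.inr k1⟩
        (fun h5 => n1 h5.2)
    have h5 : 2 * Nat.card B₁ ≤ Nat.card B :=
      card_two_le (fun b hb => hb.1) (k := b₂) hb₂ (fun h6 => by
        rcases h6.2 with h7 | h7
        · exact g2 (by rw [← k2, h7])
        · exact g3 (by rw [← k2, h7]))
    omega
  have hpos : 0 < Nat.card ((B ⊓ KL L φ : Subgroup Y)) := Nat.card_pos
  have h4A' : 4 ≤ Nat.card A := by
    rw [← hA.card] at h4A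
    exact le_of_mul_le_mul_right h4A hpos
  -- final count
  have hf1 : Nat.card A * Nat.card A * Nat.card {u : V // El u} < Nat.card V := by
    rw [hKcard]
    exact lt_of_le_of_lt (Nat.mul_le_mul_left _ hElK) hoff
  have hf2 : Nat.card V ≤ 4 * Nat.card A * Nat.card {u : V // El u} := by
    rw [hV]
    calc 2 * (Nat.card A * Nat.card ((B ⊓ KL L φ : Subgroup Y)) * Nat.card {d : V // Fx B d})
        = 2 * Nat.card A * Nat.card E := by rw [hEc]; ring
      _ ≤ 2 * Nat.card A * (2 * Nat.card {u : V // u ∈ E ∧ dua x φ u = 0}) := Nat.mul_le_mul_left _ hhalf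
      _ ≤ 2 * Nat.card A * (2 * Nat.card {u : V // El u}) :=
          Nat.mul_le_mul_left _ (Nat.mul_le_mul_left _ hEE)
      _ = 4 * Nat.card A * Nat.card {u : V // El u} := by ring
  have hf3 : 4 * Nat.card A * Nat.card {u : V // El u} ≤ Nat.card A * Nat.card A * Nat.card {u : V // El u} :=
    Nat.mul_le_mul_right _ (Nat.mul_le_mul_right _ h4A')
  omega

end MP

end Cfsg.Agent.Omega.NearFF

end

section


/-!
# (BT), `|V/E| = 2`: existence of minimal pairs (project OMEGA, leaf N1)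

Text: helper132 (bb OMEGA #17318), (MIN).

* `Dat.exists_mp` : `Dat → MP`.
-/

set_option autoImplicit false
set_option linter.unusedSectionVars false

namespace Cfsg.Agent.Omega.NearFF

open Subgroup Cfsg.Agent.Omega.Transv

section grp

variable {Γ : Type*} [Group Γ] [Finite Γ]

/-- a 2-group inside a subgroup over a Sylow 2-subgroup `P` is conjugate there into `P` -/
theorem sylow_conj (P : Sylow 2 Γ) {K : Subgroup Γ} (hK : (P : Subgroup Γ) ≤ K) {R : Subgroup Γ}
    (hR : IsPGroup 2 R) (hRK : R ≤ K) : ∃ k ∈ K, ∀ r ∈ R, k⁻¹ * r * k ∈ P := by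
  have : Fact (Nat.Prime 2) := ⟨Nat.prime_two⟩
  let TK : Sylow 2 K := P.subtype hK
  have hRK' : IsPGroup 2 (R.subgroupOf K) := hR.comap_of_injective K.subtype Subtype.coe_injective
  obtain ⟨Q, hQ⟩ := hRK'.exists_le_sylow
  obtain ⟨k, hk⟩ := MulAction.exists_smul_eq K TK Q
  refine ⟨k, k.2, fun r hr => ?_⟩
  have h1 : (⟨r, hRK hr⟩ : K) ∈ (Q : Subgroup K) := hQ (mem_subgroupOf.mpr hr)
  rw [← hk, Sylow.coe_subgroup_smul, Subgroup.mem_pointwise_smul_iff_inv_smul_mem] at h1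
  have h2 : ((k⁻¹ * ⟨r, hRK hr⟩ * k : K)) ∈ (TK : Subgroup K) := by
    have h3 : (MulAut.conj k)⁻¹ • (⟨r, hRK hr⟩ : K) = k⁻¹ * ⟨r, hRK hr⟩ * k := by
      rw [← map_inv, MulAut.smul_def, MulAut.conj_apply, inv_inv]
    rwa [h3] at h1
  exact h2

/-- `P ∩ N` is Sylow in the normal subgroup `N`: Frattini -/
theorem frattini_inf (P : Sylow 2 Γ) (N : Subgroup Γ) [N.Normal] :
    normalizer (((P : Subgroup Γ) ⊓ N : Subgroup Γ) : Set Γ) ⊔ N = ⊤ := by
  have : Fact (Nat.Prime 2) := ⟨Nat.prime_two⟩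
  have hd : ¬ 2 ∣ (P : Subgroup Γ).relIndex N := by
    have h1 := relIndex_mul_relIndex ((P : Subgroup Γ) ⊓ N) N ((P : Subgroup Γ) ⊔ N) inf_le_right le_sup_right
    have h2 := relIndex_mul_relIndex ((P : Subgroup Γ) ⊓ N) P ((P : Subgroup Γ) ⊔ N) inf_le_left le_sup_left
    rw [inf_relIndex_left, ← relIndex_sup_right (H := (P : Subgroup Γ)) (K := N), ← h1,
      inf_relIndex_right, mul_comm] at h2
    have h3 : (N.relIndex ((P : Subgroup Γ) ⊔ N)) ≠ 0 := index_ne_zero_of_finite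
    have h4 := Nat.eq_of_mul_eq_mul_right (Nat.pos_of_ne_zero h3) h2
    rw [← h4]
    intro h5
    exact P.not_dvd_index (h5.trans (relIndex_dvd_index_of_le le_sup_left))
  let Q : Sylow 2 N := (P.2.comap_subtype (K := N)).toSylow hd
  have hQ : (Q : Subgroup N) = (P : Subgroup Γ).subgroupOf N := rfl
  have h1 := Q.normalizer_sup_eq_top
  rw [hQ, subgroupOf_map_subtype] at h1
  exact h1

theorem isPGroup_zpowers_of_sq {y : Γ} (hy : y * y = 1) : IsPGroup 2 (zpowers y) := by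
  rintro ⟨w, hw⟩
  obtain ⟨n, rfl⟩ := mem_zpowers_iff.mp hw
  refine ⟨1, Subtype.ext ?_⟩
  rw [pow_one]
  change (y ^ n) ^ 2 = 1
  rw [← zpow_natCast, ← zpow_mul, mul_comm, zpow_mul, zpow_natCast, pow_two, hy, one_zpow]

end grp

variable {Y : Type*} [Group Y] {V : Type*} [AddCommGroup V] [Module (ZMod 2) V] [DistribMulAction Y V]

theorem dua_conj_eq {φ : Du V} {x b : Y} : dua (x⁻¹ * b * x) φ = φ ↔ dua b (dua x φ) = dua x φ := by
  rw [dua_mul, dua_mul]
  constructor
  · intro h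
    have h1 : dua x (dua x⁻¹ (dua b (dua x φ))) = dua x φ := by rw [h]
    rwa [← dua_mul, mul_inv_cancel, dua_one] at h1
  · intro h
    rw [h, ← dua_mul, inv_mul_cancel, dua_one]

namespace Dat

variable {T : Sylow 2 Y} {M : Subgroup Y} {z : V} {f : V → Du V} {Q : V → Subgroup Y}
  {BB : V → Set (Subgroup Y)} (h : Dat T M z f Q BB)
include h

theorem exists_move : ∃ g : Y, f (g • z) ≠ f z := by
  by_contra hc
  push Not at hc
  apply h.ne
  rw [eq_top_iff]
  intro g _
  apply h.stab_le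
  rw [mem_stabF, ← h.f_orbit]
  exact hc g

/-- **(MIN)**: minimal pairs exist. -/
theorem exists_mp [Finite Y] [Finite V] {B : Subgroup Y} (hB : B ∈ BB z) :
    ∃ (B' : Subgroup Y) (L : Subgroup Y) (w : V), B' ∈ BB z ∧ MP (f z) B' L w := by
  classical
  have : Fact (Nat.Prime 2) := ⟨Nat.prime_two⟩
  -- the minimal pair
  have hex : ∃ n : ℕ, ∃ B₁ ∈ BB z, ∃ g : Y, ∃ C₁ ∈ BB (g • z), f (g • z) ≠ f z ∧
      Nat.card (B₁ ⊔ C₁ : Subgroup Y) = n := by
    obtain ⟨g, hg⟩ := h.exists_move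
    exact ⟨_, B, hB, g, _, h.bb_smul g z (MulAction.mem_orbit_self z) B hB, hg, rfl⟩
  obtain ⟨B₁, hB₁, g, C₁, hC₁, hne, hcard⟩ := Nat.find_spec hex
  have hmin : ∀ B₂ ∈ BB z, ∀ k : Y, ∀ C₂ ∈ BB (k • z), f (k • z) ≠ f z →
      Nat.card (B₁ ⊔ C₁ : Subgroup Y) ≤ Nat.card (B₂ ⊔ C₂ : Subgroup Y) := by
    intro B₂ hB₂ k C₂ hC₂ hk
    rw [hcard]
    exact Nat.find_min' hex ⟨B₂, hB₂, k, C₂, hC₂, hk, rfl⟩
  set L := B₁ ⊔ C₁ with hL
  have hBL : B₁ ≤ L := le_sup_left
  have hN := h.bb B₁ hB₁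
  -- generation
  have hgen : ∀ x ∈ L, dua x (f z) ≠ f z → ∀ H : Subgroup Y, B₁ ≤ H → (∀ b ∈ B₁, x * b * x⁻¹ ∈ H) → L ≤ H := by
    intro x hx hxne H h1 h2
    have h3 : B₁.map (MulAut.conj x).toMonoidHom ∈ BB (x • z) :=
      h.bb_smul x z (MulAction.mem_orbit_self z) B₁ hB₁
    have h4 := hmin B₁ hB₁ x _ h3 (by rwa [h.f_orbit])
    have h5 : B₁ ⊔ B₁.map (MulAut.conj x).toMonoidHom ≤ L := by
      refine sup_le hBL ?_
      rintro _ ⟨b, hb, rfl⟩
      exact mul_mem (mul_mem hx (hBL hb)) (inv_mem hx)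
    have h6 : B₁ ⊔ B₁.map (MulAut.conj x).toMonoidHom = L := eq_of_le_of_card_ge h5 h4
    rw [← h6]
    refine sup_le h1 ?_
    rintro _ ⟨b, hb, rfl⟩
    exact h2 b hb
  have hmv : ∃ x ∈ L, dua x (f z) ≠ f z := by
    by_contra hc
    push Not at hc
    have h1 : C₁ ≤ stabF Y (f ((1 : Y) • z)) := by
      intro c hc'
      rw [one_smul, mem_stabF]
      exact hc c (le_sup_right (a := B₁) hc')
    have h2 := h.bb_fix hC₁ h1
    rw [one_smul] at h2
    exact hne h2.symm
  -- a Sylow 2-subgroup of `L` over `B₁`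
  have hB2 : IsPGroup 2 (B₁.subgroupOf L) :=
    (h.B_two hB₁).comap_of_injective L.subtype Subtype.coe_injective
  obtain ⟨P, hP⟩ := hB2.exists_le_sylow
  have hTL : IsPGroup 2 ((P : Subgroup L).map L.subtype) := P.2.map _
  obtain ⟨k, -, hk⟩ := sylow_conj T (K := ⊤) le_top hTL le_top
  have hPw : ∀ r ∈ (P : Subgroup L), (r : Y) • (k • z) = k • z := by
    intro r hr
    have h1 := h.z_fix _ (hk _ ⟨r, hr, rfl⟩)
    change (k⁻¹ * (r : Y) * k) • z = z at h1
    rwa [mul_smul, mul_smul, inv_smul_eq_iff] at h1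
  have hBP : ∀ b (hb : b ∈ B₁), (⟨b, hBL hb⟩ : L) ∈ (P : Subgroup L) := fun b hb => hP (mem_subgroupOf.mpr hb)
  have hfix : Fx B₁ (k • z) := fun b hb => hPw _ (hBP b hb)
  have hfw : f (k • z) = f z := h.star B₁ hB₁ _ ⟨k, rfl⟩ hfix
  have hstab : ∀ l : Y, l • (k • z) = k • z → dua l (f z) = f z := by
    intro l hl
    have h1 := h.f_smul l (k • z) ⟨k, rfl⟩
    rw [hl, hfw] at h1
    exact h1.symm
  refine ⟨B₁, L, k • z, hB₁, ?_⟩
  exact
    { faith := h.faith
      ne := h.f_ne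
      nb := hN
      le := hBL
      ex := hmv
      min := hgen
      fixw := hfix
      stab := fun l _ hl => hstab l hl
      syl := by
        intro x hx b hb hbx
        have h1 : dua (x⁻¹ * b * x) (f z) = f z := dua_conj_eq.mpr hbx
        have hxb : x⁻¹ * b * x ∈ L := mul_mem (mul_mem (inv_mem hx) (hBL hb)) hx
        let K : Subgroup L := (stabF Y (f z)).subgroupOf L
        have hPK : (P : Subgroup L) ≤ K := by
          intro r hr
          rw [mem_subgroupOf, mem_stabF]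
          exact hstab _ (hPw r hr)
        have hR : IsPGroup 2 (zpowers (⟨x⁻¹ * b * x, hxb⟩ : L)) := by
          refine isPGroup_zpowers_of_sq ?_
          refine Subtype.ext ?_
          change x⁻¹ * b * x * (x⁻¹ * b * x) = 1
          rw [show x⁻¹ * b * x * (x⁻¹ * b * x) = x⁻¹ * (b * b) * x by group, hN.sq b hb]
          group
        obtain ⟨l, hl, hl'⟩ := sylow_conj P hPK hR (zpowers_le.mpr (mem_subgroupOf.mpr h1))
        refine ⟨x * l, mul_mem hx l.2, ?_, ?_⟩
        · rw [dua_mul]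
          rw [show dua (l : Y) (f z) = f z from hl]
        · have h2 := hPw _ (hl' _ (mem_zpowers _))
          have h3 : ((l⁻¹ * ⟨x⁻¹ * b * x, hxb⟩ * l : L) : Y) = (x * l)⁻¹ * b * (x * l) := by
            simp only [Subgroup.coe_mul, Subgroup.coe_inv]
            group
          rw [h3, mul_smul, mul_smul, inv_smul_eq_iff] at h2
          exact h2
      core := by
        intro b hb hbc x hx
        let N : Subgroup L :=
          { carrier := {l | ∀ x ∈ L, dua (l : Y) (dua x (f z)) = dua x (f z)}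
            mul_mem' := by
              intro a c ha hc x hx
              rw [Subgroup.coe_mul, dua_mul, hc x hx, ha x hx]
            one_mem' := by
              intro x hx
              rw [Subgroup.coe_one, dua_one]
            inv_mem' := by
              intro a ha x hx
              have h1 := ha x hx
              conv_lhs => rw [← h1]
              rw [Subgroup.coe_inv, ← dua_mul, inv_mul_cancel, dua_one] }
        have hNn : N.Normal := by
          refine ⟨fun n hn l x hx => ?_⟩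
          have h1 := hn ((l : Y)⁻¹ * x) (mul_mem (inv_mem l.2) hx)
          rw [dua_mul] at h1
          rw [Subgroup.coe_mul, Subgroup.coe_mul, Subgroup.coe_inv, dua_mul, dua_mul, h1, ← dua_mul,
            mul_inv_cancel, dua_one]
        have hfr := frattini_inf P N
        set R : Subgroup L := (P : Subgroup L) ⊓ N with hR
        have hPR : (P : Subgroup L) ≤ normalizer (R : Set L) := by
          intro r hr
          rw [mem_normalizer_iff]
          intro s
          rw [hR, mem_inf, mem_inf]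
          constructor
          · rintro ⟨h1, h2⟩
            exact ⟨(P : Subgroup L).mul_mem ((P : Subgroup L).mul_mem hr h1) ((P : Subgroup L).inv_mem hr),
              hNn.conj_mem _ h2 _⟩
          · rintro ⟨h1, h2⟩
            refine ⟨?_, ?_⟩
            · have h3 := (P : Subgroup L).mul_mem ((P : Subgroup L).mul_mem ((P : Subgroup L).inv_mem hr) h1) hr
              rwa [show r⁻¹ * (r * s * r⁻¹) * r = s by group] at h3
            · have h3 := hNn.conj_mem _ h2 r⁻¹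
              rwa [show r⁻¹ * (r * s * r⁻¹) * r⁻¹⁻¹ = s by group] at h3
        -- `N_L(R) = L`
        have hmv' : ∃ x : L, x ∈ normalizer (R : Set L) ∧ dua (x : Y) (f z) ≠ f z := by
          by_contra hc
          push Not at hc
          obtain ⟨x, hx, hxne⟩ := hmv
          have h1 : (normalizer (R : Set L) ⊔ N : Subgroup L) ≤ (stabF Y (f z)).subgroupOf L := by
            refine sup_le (fun y hy => mem_subgroupOf.mpr (hc y hy)) fun y hy => mem_subgroupOf.mpr ?_
            have h2 := hy 1 (one_mem _)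
            rwa [dua_one] at h2
          rw [hfr] at h1
          exact hxne (mem_subgroupOf.mp (h1 (mem_top (⟨x, hx⟩ : L))))
        obtain ⟨x₀, hx₀, hx₀ne⟩ := hmv'
        have hall : L ≤ (normalizer (R : Set L)).map L.subtype := by
          refine hgen x₀ x₀.2 hx₀ne _ (fun b hb => ⟨⟨b, hBL hb⟩, hPR (hBP b hb), rfl⟩) fun b hb => ?_
          exact ⟨x₀ * ⟨b, hBL hb⟩ * x₀⁻¹, mul_mem (mul_mem hx₀ (hPR (hBP b hb))) (inv_mem hx₀), rfl⟩
        have hxR : (⟨x, hx⟩ : L) ∈ normalizer (R : Set L) := by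
          obtain ⟨y, hy, e⟩ := hall hx
          have : y = ⟨x, hx⟩ := Subtype.ext e
          rwa [← this]
        have hbR : (⟨b, hBL hb⟩ : L) ∈ R := ⟨hBP b hb, hbc⟩
        have h1 : (⟨x, hx⟩ : L)⁻¹ * ⟨b, hBL hb⟩ * ⟨x, hx⟩ ∈ R := (mem_normalizer_iff''.mp hxR _).mp hbR
        have h2 := hPw _ h1.1
        simp only [Subgroup.coe_mul, Subgroup.coe_inv] at h2
        rw [mul_smul, mul_smul, inv_smul_eq_iff] at h2
        exact h2
      noff := h.noff }

end Dat

end Cfsg.Agent.Omega.NearFF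

end

end

-- merged: Cfsg.Agent.Mrg.Omega.NearFF.SymPlusSp
section

section


/-!
# (BT), `|V/E| = 2`: `Sp ⟹ (+)` (helper276 #14522, on helper132's structure `Sp`)

* `Sp.data` : the structure `SymPlus.Data`;
* `Sp.plus` : `β z (g • z) = 0 → g ∈ M`.
-/

set_option autoImplicit false

namespace Cfsg.Agent.Omega.NearFF

open Subgroup Cfsg.Agent.Omega.Transv

variable {Y : Type*} [Group Y] {V : Type*} [AddCommGroup V] [Module (ZMod 2) V] [DistribMulAction Y V]

namespace Sp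

variable {T : Sylow 2 Y} {M : Subgroup Y} {z : V} {β : V →ₗ[ZMod 2] Du V} (h : Sp T M z β)
include h

/-- the form -/
def frm : SymPlus.IFrm Y V where
  b v w := β v w
  add_left u v w := by rw [map_add, LinearMap.add_apply]
  symm := h.symm
  alt := h.alt
  nondeg v hv := h.nondeg v (LinearMap.ext fun w => by rw [hv]; rfl)
  inv := h.inv
  faith := h.faith

theorem R_eq (x : V) : h.frm.R x = KK Y x (β x) := by
  ext r
  rw [SymPlus.IFrm.mem_R, mem_KK]
  constructor
  · rintro ⟨h1, h2⟩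
    refine ⟨h1, fun v => ?_, h2⟩
    have h3 := h.inv r x v
    rwa [h1] at h3
  · rintro ⟨h1, _, h2⟩
    exact ⟨h1, h2⟩

theorem lt_ker [Finite V] {g : Y} {x : V} (hx : x ≠ 0) (hg : ∀ v, g • v = v + β v x • x) : False := by
  have hβx : β x ≠ 0 := fun h0 => hx (h.nondeg x h0)
  have hg' : ∀ v, g • v = v + β x v • x := fun v => by rw [hg, h.symm]
  have htv : Tv g x (β x) := ⟨hx, hβx, hg'⟩
  have hsq := htv.mul_self h.faith
  have hmem : ∀ b ∈ zpowers g, b = 1 ∨ b = g := by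
    intro b hb
    obtain ⟨n, rfl⟩ := mem_zpowers_iff.1 hb
    rcases Int.even_or_odd' n with ⟨k, hk | hk⟩
    · left
      rw [hk, zpow_mul, zpow_two, hsq, one_zpow]
    · right
      rw [hk, zpow_add, zpow_mul, zpow_two, hsq, one_zpow, one_mul, zpow_one]
  have h1 := h.noff (zpowers g) (fun h0 => htv.ne_one (zpowers_eq_bot.1 h0))
    (fun a ha b hb => by
      rcases hmem a ha with rfl | rfl <;> rcases hmem b hb with rfl | rfl <;> simp)
    (fun a ha => by
      rcases hmem a ha with rfl | rfl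
      · exact one_mul 1
      · exact hsq)
  have h2 : Nat.card (zpowers g) = 2 := by
    rw [Nat.card_zpowers]
    exact orderOf_eq_prime (by rw [pow_two, hsq]) htv.ne_one
  have h3 : Nat.card {v : V // Fx (zpowers g) v} = Nat.card {u : V // β x u = 0} := by
    refine Nat.card_congr (Equiv.subtypeEquivRight fun v => ?_)
    rw [← htv.fix_iff]
    constructor
    · intro h4
      exact h4 g (mem_zpowers g)
    · intro h4 b hb
      rcases hmem b hb with rfl | rfl
      · exact one_smul Y v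
      · exact h4
  have h4 : Nat.card {u : V // β x u = 0} = Nat.card {u : V // β x u = 1} := by
    obtain ⟨w, hw⟩ := exists_one hβx
    refine Nat.card_congr ⟨fun u => ⟨(u : V) + w, by rw [map_add, u.2, hw, zero_add]⟩,
      fun u => ⟨(u : V) + w, by rw [map_add, u.2, hw, one_add_one]⟩, fun u => ?_, fun u => ?_⟩
    · exact Subtype.ext (add_add_self _ _)
    · exact Subtype.ext (add_add_self _ _)
  rw [h2, h3, h4, card_hyper hβx] at h1
  exact lt_irrefl _ h1

theorem nf [Finite V] {g k : Y} {x y : V} (hx : x ≠ 0) (hy : y ≠ 0) (hxy : x ≠ y) (hb : β x y = 0)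
    (hg : ∀ v, g • v = v + β v y • y + β v (x + y) • (x + y))
    (hk : ∀ v, k • v = v + β v x • x + β v (x + y) • (x + y)) : False := by
  have hs0 : x + y ≠ 0 := fun h0 => hxy (eq_of_add h0)
  have hxs : x ≠ x + y := fun h0 => hy (by simpa using h0.symm)
  have hys : y ≠ x + y := fun h0 => hx (by simpa using h0.symm)
  have hβx : β x ≠ 0 := fun h0 => hx (h.nondeg x h0)
  have hβy : β y ≠ 0 := fun h0 => hy (h.nondeg y h0)
  have hyx : β y x = 0 := by rw [h.symm, hb]
  have hg' : ∀ v, g • v = v + β y v • y + β (x + y) v • (x + y) := fun v => by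
    rw [hg, h.symm v y, h.symm v (x + y)]
  have hk' : ∀ v, k • v = v + β x v • x + β (x + y) v • (x + y) := fun v => by
    rw [hk, h.symm v x, h.symm v (x + y)]
  have a1 : β x x = 0 := h.alt x
  have a2 : β y y = 0 := h.alt y
  have a3 : β (x + y) (x + y) = 0 := h.alt _
  have a4 : β x (x + y) = 0 := by rw [map_add, a1, hb, add_zero]
  have a5 : β y (x + y) = 0 := by rw [map_add, a2, hyx, add_zero]
  have a6 : β (x + y) x = 0 := by rw [h.symm, a4]
  have a7 : β (x + y) y = 0 := by rw [h.symm, a5]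
  have e1 : g * g = 1 := comp_self h.faith hg' a2 a5 a7 a3
  have e2 : k * k = 1 := comp_self h.faith hk' a1 a4 a6 a3
  have e3 : g * k = k * g := comp_comm h.faith hg' hk' hyx a5 a6 a3 hb a4 a7 a3
  have m1 := comp_fix hy hs0 hys hg'
  have m2 := comp_fix hx hs0 hxs hk'
  obtain ⟨v, hv⟩ := exists_one hβy
  obtain ⟨w, hw⟩ := exists_one hβx
  have n1 : g ≠ 1 := fun h1 => by
    have h2 := (m1 v).mp (by rw [h1, one_smul])
    rw [hv] at h2
    exact one_ne h2.1
  have n2 : k ≠ 1 := fun h1 => by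
    have h2 := (m2 w).mp (by rw [h1, one_smul])
    rw [hw] at h2
    exact one_ne h2.1
  have n3 : g ≠ k := fun h1 => by
    have h2 := hg' v
    rw [h1, hk' v, hv, one_smul] at h2
    rcases zmod_cases (β x v) with h3 | h3
    · rw [h3, zero_smul, add_zero] at h2
      have h4 := add_right_cancel h2
      exact hy (by simpa using h4.symm)
    · rw [h3, one_smul] at h2
      have h4 := add_left_cancel (add_right_cancel h2)
      exact hxy h4
  have h1 := h.noff (NearFF.four e1 e2 e3) (fun h0 => n1 (by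
      have : g ∈ NearFF.four e1 e2 e3 := Or.inr (Or.inl rfl)
      rw [h0] at this
      exact mem_bot.1 this)) (by
    rintro a (rfl | rfl | rfl | rfl) b (rfl | rfl | rfl | rfl)
    all_goals first
      | rfl
      | rw [one_mul, mul_one]
      | exact e3
      | exact e3.symm
      | skip
    · rw [← mul_assoc, e1, one_mul, e3, mul_assoc, e1, mul_one]
    · rw [← mul_assoc, ← e3, mul_assoc, e2, mul_one]
    · rw [mul_assoc, ← e3, ← mul_assoc]
    · rw [mul_assoc, e2, mul_one, ← mul_assoc, ← e3, mul_assoc, e2, mul_one]) (by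
    rintro a (rfl | rfl | rfl | rfl)
    · exact one_mul 1
    · exact e1
    · exact e2
    · rw [mul_assoc, ← mul_assoc k, ← e3, mul_assoc g, e2, mul_one, e1])
  have hne : β x ≠ β y := fun h0 => hxy (eq_of_add (h.nondeg _ (by rw [map_add, h0]; exact add_self _)))
  have h2 := card_two hβx hβy hne (fixS V (NearFF.four e1 e2 e3)) (fun u => by
    rw [mem_fixS]
    constructor
    · intro h1
      have h2 := (m1 u).mp (h1 _ (Or.inr (Or.inl rfl)))
      have h3 := (m2 u).mp (h1 _ (Or.inr (Or.inr (Or.inl rfl))))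
      exact ⟨h3.1, h2.1⟩
    · rintro ⟨h1, h2⟩
      have h5 : β (x + y) u = 0 := by rw [map_add, LinearMap.add_apply, h1, h2, add_zero]
      have h3 := (m1 u).mpr ⟨h2, h5⟩
      have h4 := (m2 u).mpr ⟨h1, h5⟩
      rintro n (rfl | rfl | rfl | rfl)
      · exact one_smul _ u
      · exact h3
      · exact h4
      · rw [mul_smul, h4, h3])
  rw [card_four n1 n2 n3] at h1
  have h3 : Nat.card {v : V // Fx (NearFF.four e1 e2 e3) v} = Nat.card (fixS V (NearFF.four e1 e2 e3)) := rfl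
  rw [h3, ← h2] at h1
  exact lt_irrefl _ h1

/-- the structure `SymPlus.Data` -/
def data [Finite V] : SymPlus.Data Y V where
  toIFrm := h.frm
  z := z
  z_ne := h.z_ne
  span := by
    rw [eq_top_iff]
    intro v _
    have h1 : v ∈ Submodule.span (ZMod 2) (Set.range fun g : Y => g • z) := by rw [h.span]; trivial
    induction h1 using Submodule.span_induction with
    | mem x hx => exact AddSubgroup.subset_closure hx
    | zero => exact zero_mem _
    | add a b _ _ ha hb => exact add_mem (ha trivial) (hb trivial)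
    | smul c a _ ha =>
      rcases zmod_cases c with rfl | rfl
      · rw [zero_smul]; exact zero_mem _
      · rw [one_smul]; exact ha trivial
  T := T
  M := M
  T_two := T.isPGroup'
  T_max := fun Q hQ hTQ => T.is_maximal' hQ hTQ
  T_fix := h.z_fix
  T_only := h.fixT
  M_only := fun H hT hH => (h.max H hT).resolve_right hH
  card4 := by
    rw [h.R_eq]
    exact h.four z (MulAction.mem_orbit_self z)
  DO := fun y hy hr => h.only z (MulAction.mem_orbit_self z) y hy (by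
    rw [← h.R_eq]
    exact hr)
  NT := fun g x hx hg => h.lt_ker hx hg
  NF := fun g k x y hx hy hxy hb hg hk => h.nf hx hy hxy hb hg hk

/-- **#14522**: (+) -/
theorem plus [Finite V] {g : Y} (hg : β z (g • z) = 0) : g ∈ M := h.data.plus hg

end Sp

end Cfsg.Agent.Omega.NearFF

end

section


/-!
# (BT), `|V/E| = 2`: the symmetric case on `Dat` (project OMEGA, leaf N1)

* `Dat.plus_of_symm` : `f` symmetric ⟹ (+);
* `Dat.plus_of_Fz` : `F₀(z) = ⟨z⟩` ⟹ (+);
* `Dat.plus_of_card` : `|R_z| ≥ 3` ⟹ (+);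
* `Dat.plus_of_good`, `Dat.plus_of_two` : a good `A ≠ 1`, resp. `|[E, b]| = 2` ⟹ (+);
* `Dat.five_of_plus` : (+) ⟹ `|Ω| = 5`.
-/

set_option autoImplicit false
set_option linter.unusedSectionVars false

namespace Cfsg.Agent.Omega.NearFF

open Subgroup Cfsg.Agent.Omega.Transv

variable {Y : Type*} [Group Y] {V : Type*} [AddCommGroup V] [Module (ZMod 2) V] [DistribMulAction Y V]

namespace Dat

variable {T : Sylow 2 Y} {M : Subgroup Y} {z : V} {f : V → Du V} {Q : V → Subgroup Y}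
  {BB : V → Set (Subgroup Y)} [Finite Y] [Finite V] (h : Dat T M z f Q BB)
include h

/-- `f` symmetric ⟹ (+) -/
theorem plus_of_symm (hs : ∀ x ∈ MulAction.orbit Y z, ∀ y ∈ MulAction.orbit Y z, f x y = f y x) :
    ∀ g : Y, f z (g • z) = 0 → g ∈ M := by
  obtain ⟨β, hβ, hf⟩ := h.exists_sp hs
  intro g hg
  refine hβ.plus ?_
  rw [hf z (MulAction.mem_orbit_self z)]
  exact hg

/-- `|[E, b]| = 2` for some `1 ≠ b ∈ B ∈ BB z` ⟹ (+) -/
theorem plus_of_two {B : Subgroup Y} (hB : B ∈ BB z) {b : Y} (hb : b ∈ B) (hb1 : b ≠ 1) {w : V}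
    (hw : ∀ e : V, f z e = 0 → cm b e = 0 ∨ cm b e = w) : ∀ g : Y, f z (g • z) = 0 → g ∈ M :=
  h.plus_of_symm fun _ hx _ hy => h.symm_of_two hB hb hb1 hw hx hy

end Dat

end Cfsg.Agent.Omega.NearFF

end

section


/-!
# (BT), `|V/E| = 2`: (+) (project OMEGA, leaf N1)

Text: helper132, bb OMEGA #17318.

* `Dat.plusAbs` : (+);
* `btAbs` : `NO1.Two.BTAbs`;
* `Dat.five` : `|Ω| = 5`.
-/

set_option autoImplicit false
set_option linter.unusedSectionVars false

namespace Cfsg.Agent.Omega.NearFF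

open Subgroup Cfsg.Agent.Omega.Transv

variable {Y : Type*} [Group Y] {V : Type*} [AddCommGroup V] [Module (ZMod 2) V] [DistribMulAction Y V]

/-- **(+)** for `|V/E| = 2` -/
theorem Dat.plusAbs [Finite Y] [Finite V] {T : Sylow 2 Y} {M : Subgroup Y} {z : V} {f : V → Du V}
    {Q : V → Subgroup Y} {BB : V → Set (Subgroup Y)} (h : Dat T M z f Q BB) :
    ∀ g : Y, f z (g • z) = 0 → g ∈ M := by
  obtain ⟨B, hB⟩ := h.bb_ne
  obtain ⟨B', L, w, hB', hmp⟩ := h.exists_mp hB
  by_cases hbig : Big (f z) B'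
  · exact (hmp.false_of_big hbig).elim
  · unfold Big at hbig
    push Not at hbig
    obtain ⟨b, hb, hb1, w', hw⟩ := hbig
    refine h.plus_of_two hB' hb hb1 (w := w') fun e he => ?_
    by_cases h0 : cm b e = 0
    · exact Or.inl h0
    · exact Or.inr (hw e he h0)

/-- **(BT), `|V/E| = 2`, abstract form** -/
theorem btAbs.{u} : NO1.Two.BTAbs.{u} := by
  intro Y V _ _ _ _ _ _ T M z f Q BB h
  exact h.plusAbs

end Cfsg.Agent.Omega.NearFF

end

end

-- merged: Cfsg.Agent.Mrg.Omega.NO1.FrCut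
section

/-!
# N1, (BT): the cut of `BTNot` along the frames of TEXT B4

`btNot_of_fr : FrPlus → FrFour → FrTwo → BTNot`.
-/

set_option autoImplicit false
set_option linter.unusedSectionVars false

namespace Cfsg.Agent.Omega.NO1

open Subgroup Cfsg Cfsg.Agent.ZN Cfsg.Agent.Omega.MinPar Cfsg.Agent.Omega.Frame
open Cfsg.Agent.Omega.Transv Cfsg.Agent.Omega.NearFF TwoG

universe u

/-- `|Z| = 2`, `|V_P : E| = 2` (`BTAbs`, closed). -/
theorem ty_two {G : Type u} [Group G] [Finite G] {S : Sylow 2 G} {P : Subgroup G} (h : Cfg S P)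
    (hoff : NoOff (S : Subgroup G) P) (hZ : Nat.card (zc (S : Subgroup G)) = 2)
    (hA : (EE (S : Subgroup G) P).relIndex (zl (S : Subgroup G) P) = 2) : Ty (S : Subgroup G) P := by
  obtain ⟨z, hz1, hz2, hz3⟩ := exists_z (S := S) hZ
  have hz : Zd S z := ⟨hz1, hz2, hz3⟩
  have hE : (Ex (zl (S : Subgroup G) P) z).relIndex (zl (S : Subgroup G) P) = 2 := by
    rw [← EE_of_Zd hz]
    exact hA
  obtain ⟨Y, M, _, _, _, _, _, T, Mx, ⟨R⟩⟩ := h.exists_rep
  let _ : Module (ZMod 2) M := AddCommGroup.zmodModule fun m => by rw [two_nsmul]; exact R.two m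
  obtain ⟨m, hm⟩ := R.surj z (h.Z_le_V hz.mem)
  obtain ⟨BB, hD⟩ := exists_dat h R hz hm hE hoff
  obtain ⟨w, w1, w2, w3, w4, w5, w6⟩ := PlusFam.five' hD (btAbs Y M T Mx m _ _ BB hD)
  exact Ty.minus2 _ (R.minus2 hz hm w1 w2 w3 w4 w5 w6)

/-- **The cut of `BTNot`.** -/
theorem btNot_of_fr (h1 : FrPlus.{u}) (h4 : FrFour.{u}) (h2 : FrTwo.{u}) : BTNot.{u} := by
  intro G _ _ S P h hoff
  obtain ⟨M, F, hf⟩ := exists_fr h hoff
  by_cases hp : PlusAt (S : Subgroup G) P (NOne.Flat.EE (zl (S : Subgroup G) M) F)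
  · exact h1 G S P M F hf hp
  · rcases relIndex_two_or h hf.not_le with h3 | h3
    · by_cases hZ : Nat.card (zc (S : Subgroup G)) = 2
      · have hE : ¬ zl (S : Subgroup G) P ≤ EE (S : Subgroup G) P := fun h5 => h.one.not_le (h5.trans inf_le_right)
        rcases relIndex_two_or h hE with h5 | h5
        · exact ty_two h hoff hZ h5
        · exact h2 G S P M F hf hp h3 (Or.inr h5)
      · exact h2 G S P M F hf hp h3 (Or.inl hZ)
    · exact h4 G S P M F hf hp h3

end Cfsg.Agent.Omega.NO1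

end

-- merged: Cfsg.Agent.Mrg.Omega.NO1.HE.EndTwo
section

/-!
# THE END of (BT), `|V / E| = 2`: (+) for one frame ⟹ `Minus2` (N1, text #17521, helper207)

* `alt_of` : a regular four-group on the last four of five vectors gives `A₅`;
* `Geo.five` : `Geo 2` gives five vectors with sum 0;
* **`minus2`** : (+) for one frame implies type `Minus2` if `|V / E| = 2`.
-/

set_option autoImplicit false
set_option linter.unusedSectionVars false

namespace Cfsg.Agent.Omega.NO1.HE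

open Subgroup
open Cfsg Cfsg.Agent.ZN Cfsg.Agent.Omega.MinPar Cfsg.Agent.Omega.Frame
open scoped Pointwise

universe u

section alt

open Cfsg.Agent.Omega.NearFF.Plus

variable {Y V : Type u} [Group Y] [Finite Y] [AddCommGroup V] [DistribMulAction Y V]

/-- A regular four-group on the last four vectors gives `A₅`. -/
theorem alt_of {w : Fin 5 → V} (hinj : Function.Injective w) {B : Subgroup Y} (h4 : Nat.card B = 4)
    (h2 : ∀ b ∈ B, b * b = 1) (hfix : ∀ b ∈ B, b • w 0 = w 0)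
    (hfree : ∀ b ∈ B, ∀ i, b • w i = w i → b = 1 ∨ i = 0)
    (hr : Set.range w = MulAction.orbit Y (w 0)) :
    (∀ g : Y, ∃ σ : Equiv.Perm (Fin 5), ∀ i, g • w i = w (σ i)) ∧
    ∀ σ ∈ alternatingGroup (Fin 5), ∃ g : Y, ∀ i, g • w i = w (σ i) := by
  classical
  have hperm : ∀ g : Y, ∃ σ : Equiv.Perm (Fin 5), ∀ i, g • w i = w (σ i) := by
    intro g
    have h1 : ∀ i, ∃ j, g • w i = w j := by
      intro i
      have h0 : w i ∈ MulAction.orbit Y (w 0) := hr ▸ ⟨i, rfl⟩
      have h3 : g • w i ∈ Set.range w := by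
        rw [hr]
        exact MulAction.mem_orbit_of_mem_orbit g h0
      obtain ⟨j, hj⟩ := h3
      exact ⟨j, hj.symm⟩
    choose f hf using h1
    have hfi : Function.Injective f := by
      intro i j hij
      apply hinj
      apply MulAction.injective g
      change g • w i = g • w j
      rw [hf, hf, hij]
    exact ⟨Equiv.ofBijective f (Finite.injective_iff_bijective.1 hfi), hf⟩
  refine ⟨hperm, ?_⟩
  choose p hp using hperm
  have hpm : ∀ g g' : Y, p (g * g') = p g * p g' := by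
    intro g g'
    ext i
    congr 1
    apply hinj
    rw [← hp, mul_smul, hp g', hp g, Equiv.Perm.mul_apply]
  let ψ : Y →* Equiv.Perm (Fin 5) := MonoidHom.mk' p hpm
  have hle : alternatingGroup (Fin 5) ≤ ψ.range := by
    refine alt_le ?_ ?_
    · intro i
      have h1 : w i ∈ MulAction.orbit Y (w 0) := hr ▸ ⟨i, rfl⟩
      obtain ⟨g, hg⟩ := h1
      refine ⟨ψ g, ⟨g, rfl⟩, hinj ?_⟩
      change w (p g 0) = w i
      rw [← hp]
      exact hg
    · have hB : ∀ b ∈ B, b ≠ 1 → Good (p b) := by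
        intro b hb hb1
        refine ⟨?_, ?_, fun i hi h3 => ?_⟩
        · rw [← hpm, h2 b hb]
          ext i
          congr 1
          apply hinj
          rw [← hp, one_smul, Equiv.Perm.one_apply]
        · apply hinj
          rw [← hp, hfix b hb]
        · rcases hfree b hb i (by rw [hp, h3]) with h4 | h4
          · exact hb1 h4
          · exact hi h4
      haveI := Fintype.ofFinite B
      have hcB : Fintype.card B = 4 := by rw [← Nat.card_eq_fintype_card]; exact h4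
      let S : Finset (Equiv.Perm (Fin 5)) := (Finset.univ.erase (1 : B)).image fun b : B => p (b : Y)
      have hS : S.card = 3 := by
        rw [Finset.card_image_of_injOn, Finset.card_erase_of_mem (Finset.mem_univ _), Finset.card_univ, hcB]
        intro b _ b' _ hbb
        have hbb' : p (b : Y) = p (b' : Y) := hbb
        have h3 : (b'⁻¹ * b : B) = 1 := by
          have h4 : ((b' : Y)⁻¹ * (b : Y)) • w 1 = w 1 := by
            rw [mul_smul, hp (b : Y), hbb', ← hp (b' : Y), inv_smul_smul]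
          rcases hfree _ (mul_mem (inv_mem b'.2) b.2) 1 h4 with h5 | h5
          · exact Subtype.ext h5
          · exact absurd h5 (by decide)
        exact (inv_mul_eq_one.1 h3).symm
      have hSG : S ⊆ Finset.univ.filter Good := by
        intro τ hτ
        obtain ⟨b, hb, rfl⟩ := Finset.mem_image.1 hτ
        rw [Finset.mem_filter]
        refine ⟨Finset.mem_univ _, hB b b.2 fun h3 => ?_⟩
        exact (Finset.mem_erase.1 hb).1 (Subtype.ext h3)
      have hSeq : S = Finset.univ.filter Good := Finset.eq_of_subset_of_card_le hSG (by rw [card_good, hS])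
      intro τ hτ
      have h3 : τ ∈ S := by rw [hSeq, Finset.mem_filter]; exact ⟨Finset.mem_univ _, hτ⟩
      obtain ⟨b, -, rfl⟩ := Finset.mem_image.1 h3
      exact ⟨b, rfl⟩
  intro σ hσ
  obtain ⟨g, hg⟩ := hle hσ
  refine ⟨g, fun i => ?_⟩
  rw [hp, ← hg]
  rfl

end alt

namespace Geo

variable {Y : Type u} [Group Y] [Finite Y] {V : Type u} [AddCommGroup V] [Finite V] [DistribMulAction Y V]
  {Ω : Type u} [MulAction Y Ω] (G : Geo 2 Y V Ω)

/-- `F_p = {0, w_p}` -/
theorem exists_w (p : Ω) : ∃ w ∈ G.F p, w ≠ 0 ∧ ∀ x ∈ G.F p, x = 0 ∨ x = w := by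
  have h1 : Nat.card (G.F p) = 2 := G.card_F
  obtain ⟨a, ha, h2⟩ := (Nat.card_eq_two_iff' (0 : G.F p)).1 h1
  refine ⟨a, a.2, fun h => ha (Subtype.ext h), fun x hx => ?_⟩
  by_cases hx0 : x = 0
  · exact Or.inl hx0
  · right
    have h3 := h2 ⟨x, hx⟩ (fun h => hx0 (congrArg Subtype.val h))
    exact congrArg Subtype.val h3

/-- **The five vectors.** -/
theorem five (p : Ω) {m : V} (hm : m ∈ G.F p) (hm0 : m ≠ 0) : ∃ w : Fin 5 → V, Function.Injective w ∧ w 0 = m ∧
    Set.range w = MulAction.orbit Y m ∧ w 0 + w 1 + w 2 + w 3 + w 4 = 0 ∧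
    (∀ g : Y, ∃ σ : Equiv.Perm (Fin 5), ∀ i, g • w i = w (σ i)) ∧
    ∀ σ ∈ alternatingGroup (Fin 5), ∃ g : Y, ∀ i, g • w i = w (σ i) := by
  classical
  choose w hwF hw0 hw using fun p => G.exists_w p
  have hmp : m = w p := (hw p m hm).resolve_left hm0
  subst hmp
  have hsm : ∀ (g : Y) (r : Ω), g • w r = w (g • r) := fun g r =>
    (hw (g • r) _ (G.smul_memF (hwF r))).resolve_left fun h => hw0 r ((smul_eq_zero_iff_eq g).1 h)
  have hwi : Function.Injective w := by
    intro r s hrs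
    by_contra hne
    refine hw0 r (G.disj hne (hwF r) ?_)
    rw [hrs]
    exact G.FE (hwF s)
  obtain ⟨q, hq⟩ := G.P.ne p
  have hB4 : Nat.card (G.B p) = 4 := G.card_B p
  let e : Fin 4 ≃ G.B p := (Finite.equivFinOfCardEq hB4).symm
  let o : Fin 5 → Ω := Fin.cons p fun i => (e i : Y) • q
  have ho0 : o 0 = p := rfl
  have hos : ∀ i : Fin 4, o i.succ = (e i : Y) • q := fun i => rfl
  have hmv : ∀ b ∈ G.B p, b • q ≠ p := by
    intro b hb h
    have h1 : b • p = p := G.fix hb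
    exact hq (smul_left_cancel b (h.trans h1.symm))
  have hfr : ∀ b ∈ G.B p, ∀ i, b • o i = o i → b = 1 ∨ i = 0 := by
    intro b hb i hi
    by_cases h1 : b = 1
    · exact Or.inl h1
    · right
      induction i using Fin.cases with
      | zero => rfl
      | succ i =>
        exfalso
        rw [hos] at hi
        exact hmv _ (e i).2 (G.free hb h1 hi)
  have hoi : Function.Injective o := by
    intro i j hij
    induction i using Fin.cases with
    | zero =>
      induction j using Fin.cases with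
      | zero => rfl
      | succ j =>
        rw [ho0, hos] at hij
        exact absurd hij.symm (hmv _ (e j).2)
    | succ i =>
      induction j using Fin.cases with
      | zero =>
        rw [ho0, hos] at hij
        exact absurd hij (hmv _ (e i).2)
      | succ j =>
        rw [hos, hos] at hij
        have h1 : ((e j : Y)⁻¹ * (e i : Y)) • q = q := by rw [mul_smul, hij, inv_smul_smul]
        have h2 : (e j : Y)⁻¹ * (e i : Y) = 1 := by
          by_contra hne
          exact hq (G.free ((G.B p).mul_mem ((G.B p).inv_mem (e j).2) (e i).2) hne h1)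
        rw [inv_mul_eq_one] at h2
        rw [e.injective (Subtype.ext h2)]
  have hosur : Function.Surjective o := by
    intro r
    by_cases hr : r = p
    · exact ⟨0, hr.symm⟩
    · obtain ⟨b, hb, h1⟩ := G.exists_B hq hr
      refine ⟨(e.symm ⟨b, hb⟩).succ, ?_⟩
      rw [hos, e.apply_symm_apply]
      exact h1
  have hwo : Function.Injective (w ∘ o) := hwi.comp hoi
  have hrange : Set.range (w ∘ o) = MulAction.orbit Y (w p) := by
    ext v
    constructor
    · rintro ⟨i, rfl⟩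
      obtain ⟨g, hg⟩ := G.P.tr p (o i)
      refine ⟨g, ?_⟩
      change g • w p = w (o i)
      rw [hsm, hg]
    · rintro ⟨g, rfl⟩
      obtain ⟨i, hi⟩ := hosur (g • p)
      refine ⟨i, ?_⟩
      change w (o i) = g • w p
      rw [hi, hsm]
  have hall := alt_of hwo hB4 (G.fr p).sq
    (fun b hb => by
      change b • w (o 0) = w (o 0)
      rw [ho0, hsm, G.fix hb])
    (fun b hb i hi => hfr b hb i (hwi (by
      change b • w (o i) = w (o i) at hi
      rw [← hsm]
      exact hi))) hrange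
  refine ⟨w ∘ o, hwo, rfl, hrange, ?_, hall.1, hall.2⟩
  -- the sum
  set s : V := ∑ i, (w ∘ o) i with hs
  have h1 : ∀ g : Y, g • s = s := by
    intro g
    obtain ⟨σ, hσ⟩ := hall.1 g
    rw [hs, Finset.smul_sum]
    simp only [hσ]
    exact Equiv.sum_comp σ (w ∘ o)
  have h2 : s = 0 := by
    refine G.disj hq.symm ((G.fr p).fixF fun t _ => h1 t) ?_
    exact G.FE ((G.fr q).fixF fun t _ => h1 t)
  rw [Fin.sum_univ_five] at hs
  rw [← hs, h2]

end Geo

variable {G : Type u} [Group G] [Finite G] {S : Sylow 2 G} {P : Subgroup G} {Y V : Type u} [Group Y] [Finite Y]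
  [AddCommGroup V] [Finite V] [DistribMulAction Y V] {T : Sylow 2 Y} {Mx : Subgroup Y}

/-- **THE END of (BT), `|V / E| = 2`**: (+) for one frame implies type `Minus2`. -/
theorem minus2 (R : Rep (S : Subgroup G) P (zl (S : Subgroup G) P) Y V T Mx) {E F : AddSubgroup V}
    {B : Subgroup Y} (h : Fra T Mx E F B) (hi : E.index = 2) : Ty (S : Subgroup G) P := by
  have hT : (T : Subgroup Y) ≠ ⊥ := by
    intro h1
    obtain ⟨e, he, hf⟩ := h.ne'
    refine hf (h.CB e fun b hb => ?_)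
    have h3 : b ∈ (T : Subgroup Y) := h.BT hb
    rw [h1, Subgroup.mem_bot] at h3
    rw [h3, one_smul]
  have Pt := pts_of R.core R.TM R.Mne R.max hT
  have at1 : ∀ T' : Sylow 2 Y, (T' : Subgroup Y) ≤ Mx → At T' ((1 : Y) : Y ⧸ Mx) := fun T' hT' t ht => by
    rw [MulAction.Quotient.smul_coe, smul_eq_mul, mul_one, eq_comm, QuotientGroup.eq, inv_one, one_mul]
    exact hT' ht
  have hfr : Fr 2 T ((1 : Y) : Y ⧸ Mx) E F B :=
    { at' := at1 T R.TM
      ind := hi
      BT := h.BT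
      comm := h.comm
      sq := h.sq
      FE := h.FE
      VB := h.VB
      EB := h.EB
      FB := h.FB
      CB := h.CB
      inj := h.inj
      surj := h.surj
      ne := h.ne
      ne' := h.ne'
      plus := fun T' q hq hv => Pt.one T' q _ hq (at1 T' (h.plus T' hv)) }
  obtain ⟨Ge⟩ := exists_geo Pt R.two R.faith hfr
  have hF : F = Ge.F ((1 : Y) : Y ⧸ Mx) := Ge.uF hfr
  obtain ⟨m, hm, hm0, hmu⟩ := Ge.exists_w ((1 : Y) : Y ⧸ Mx)
  -- `Z(S) = ⟨z⟩`
  have key : ∀ x ∈ zc (S : Subgroup G), x = 1 ∨ x = R.el m := by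
    intro x hx
    obtain ⟨v, rfl⟩ := R.surj x (MinSimple.VModule.zc_le_zl _ _ hx)
    have hv : v ∈ F := by
      refine hfr.fixF fun t ht => ?_
      obtain ⟨s, hs, rfl⟩ := (R.mem_T t).1 ht
      apply R.inj
      rw [R.smul]
      rw [(MinSimple.VModule.mem_zc.1 hx).2.1 s hs, mul_inv_cancel_right]
    rw [hF] at hv
    rcases hmu v hv with rfl | rfl
    · left
      exact R.el_zero
    · exact Or.inr rfl
  have hz : TwoG.Zd S (R.el m) := by
    have hS : (S : Subgroup G) ≠ ⊥ := by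
      intro h1
      apply hT
      rw [eq_bot_iff]
      intro t ht
      obtain ⟨s, hs, rfl⟩ := (R.mem_T t).1 ht
      rw [h1, Subgroup.mem_bot] at hs
      have h2 : s = 1 := Subtype.ext hs
      rw [h2, map_one]
      exact Subgroup.one_mem _
    refine ⟨?_, fun h1 => hm0 (R.el_eq_one.1 h1), key⟩
    obtain ⟨x, hx, hx1⟩ : ∃ x ∈ zc (S : Subgroup G), x ≠ 1 := by
      by_contra hcon
      push Not at hcon
      exact MinSimple.Basic.zc_ne_bot S.isPGroup' hS ((eq_bot_iff_forall _).2 hcon)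
    rwa [← (key x hx).resolve_left hx1]
  obtain ⟨w, w1, w2, w3, w4, w5, w6⟩ := Ge.five _ hm hm0
  exact Ty.minus2 _ (R.minus2 hz rfl w1 w2 w3 w4 w5 w6)

end Cfsg.Agent.Omega.NO1.HE

end

-- merged: Cfsg.Agent.Mrg.Omega.NO1.FrPlusMain
section

/-!
# (+) for a frame gives `MinusQ` or `Minus2` : `frPlus : FrPlus`, and the cut of `BTNot` in `FrFour`, `FrTwo`
-/

set_option autoImplicit false
set_option linter.unusedSectionVars false

namespace Cfsg.Agent.Omega.NO1

open Subgroup Cfsg Cfsg.Agent.ZN Cfsg.Agent.Omega.MinPar Cfsg.Agent.Omega.Frame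
open FrRep

universe u

/-- **(+) for a frame** (438's `minusQ`, 207's `minus2`). -/
theorem frPlus : FrPlus.{u} := by
  intro G _ _ S P M F h hp
  rcases relIndex_two_or h.cfg h.not_le with h2 | h4
  · obtain ⟨Y, V, _, _, _, _, _, T, Mx, ⟨R⟩⟩ := h.cfg.exists_rep
    obtain ⟨B, hB⟩ := exists_fra R h hp
    refine HE.minus2 R hB ?_
    rw [index_co]
    exact h2
  · exact ty_of_plus h hp h4

/-- `BTNot` from `FrFour` and `FrTwo`. -/
theorem btNot_of_fr' (h4 : FrFour.{u}) (h2 : FrTwo.{u}) : BTNot.{u} := btNot_of_fr frPlus h4 h2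

end Cfsg.Agent.Omega.NO1

end
end

-- part: Mrg/Omega/NO1/Field/SL2T
section
section


/-!
# THEOREM FIELD (#15909) over `Spr`: odd products, the SL₂ type

`S : Spr B A`, `L = A false ⊔ A true`.

* `Spr.map_eq` : `t ∈ A i`, `u ∈ A j`, `y ∈ L`, `t` and `u^y` commute: `y (B j) = B i`;
* `Spr.odd'`, `Spr.odd` : `t u^y` has odd order if `y (B j) ≠ B i`;
* `Spr.exists_conj` : `t ∈ A i` and `u ∈ A j` (`i ≠ j`) are conjugate in `L`;
* `SL2T B A` : the SL₂ type: (O3) and `dcw`;
* `SL2T.jj` : the set `J` of the `t u t` (`(t u)³ = 1`) satisfies `J J J ⊆ J`.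
-/

set_option autoImplicit false

namespace Cfsg.Agent.Omega.NO1.Field

open Subgroup Cfsg.Agent.Omega.NOne.Flat
open Cfsg.Agent.Omega.NOne.Flat.TI (exists_invol mul_pow_of_inv)

section spr

variable {M : Type*} [Group M] {B : Bool → Subgroup M} {A : Bool → Subgroup (MulAut M)} (S : Spr B A)

/-- the image of `B` under `y` -/
theorem mem_map_iff {y : MulAut M} {C : Subgroup M} {m : M} :
    m ∈ C.map (y : M ≃* M).toMonoidHom ↔ y⁻¹ m ∈ C := by
  constructor
  · rintro ⟨c, hc, rfl⟩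
    change y⁻¹ (y c) ∈ C
    rwa [← MulAut.mul_apply, inv_mul_cancel, MulAut.one_apply]
  · intro h
    refine ⟨y⁻¹ m, h, ?_⟩
    change y (y⁻¹ m) = m
    rw [← MulAut.mul_apply, mul_inv_cancel, MulAut.one_apply]

theorem map_one' (C : Subgroup M) : C.map ((1 : MulAut M) : M ≃* M).toMonoidHom = C := by
  ext m
  rw [mem_map_iff, inv_one, MulAut.one_apply]

theorem map_mul' (y z : MulAut M) (C : Subgroup M) :
    C.map ((y * z : MulAut M) : M ≃* M).toMonoidHom = (C.map (z : M ≃* M).toMonoidHom).map (y : M ≃* M).toMonoidHom := by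
  ext m
  rw [mem_map_iff, mem_map_iff, mem_map_iff, mul_inv_rev, MulAut.mul_apply]

theorem map_inv' {y : MulAut M} {C D : Subgroup M} (h : C.map (y : M ≃* M).toMonoidHom = D) :
    D.map ((y⁻¹ : MulAut M) : M ≃* M).toMonoidHom = C := by
  rw [← h, ← map_mul', inv_mul_cancel, map_one']

theorem mem_conj_iff {y a : MulAut M} {C : Subgroup (MulAut M)} :
    a ∈ C.map (MulAut.conj y).toMonoidHom ↔ y⁻¹ * a * y ∈ C := by
  constructor
  · rintro ⟨c, hc, rfl⟩
    change y⁻¹ * (y * c * y⁻¹) * y ∈ C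
    have e : y⁻¹ * (y * c * y⁻¹) * y = c := by group
    rwa [e]
  · intro h
    refine ⟨y⁻¹ * a * y, h, ?_⟩
    change y * (y⁻¹ * a * y) * y⁻¹ = a
    group

include S

omit S in
theorem mem_L {i : Bool} {a : MulAut M} (ha : a ∈ A i) : a ∈ A false ⊔ A true := by
  cases i
  · exact mem_sup_left ha
  · exact mem_sup_right ha

theorem Spr.A_inv {i : Bool} {a : MulAut M} (ha : a ∈ A i) : a⁻¹ = a := inv_eq_of_mul_eq_one_left (S.Asq i a ha)

theorem Spr.apply_apply {i : Bool} {a : MulAut M} (ha : a ∈ A i) (m : M) : a (a m) = m := by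
  rw [← MulAut.mul_apply, S.Asq i a ha, MulAut.one_apply]

theorem Spr.m_inv (m : M) : m⁻¹ = m := inv_eq_of_mul_eq_one_left (S.sq m)

/-- `C_M(t) = B i` -/
theorem Spr.fix_iff {i : Bool} {a : MulAut M} (ha : a ∈ A i) (h1 : a ≠ 1) {m : M} : a m = m ↔ m ∈ B i :=
  ⟨S.free i a ha h1 m, S.fix i a ha m⟩

theorem Spr.inf_eq {i j : Bool} (hij : i ≠ j) : B i ⊓ B j = ⊥ := by
  cases i <;> cases j
  · exact absurd rfl hij
  · exact S.disj
  · rw [inf_comm]; exact S.disj
  · exact absurd rfl hij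

theorem Spr.eq_one {i j : Bool} (hij : i ≠ j) {m : M} (h1 : m ∈ B i) (h2 : m ∈ B j) : m = 1 := by
  have h3 : m ∈ B i ⊓ B j := ⟨h1, h2⟩
  rw [Spr.inf_eq S hij] at h3
  exact mem_bot.1 h3

/-- an automorphism trivial on `B i` and `B j`, `i ≠ j`, is trivial. -/
theorem Spr.ext_A {i j : Bool} (hij : i ≠ j) {a b : MulAut M} (h1 : ∀ m ∈ B i, a m = b m)
    (h2 : ∀ m ∈ B j, a m = b m) : a = b := by
  ext m
  have hm : m ∈ B i ⊔ B j := by
    have h3 : B i ⊔ B j = ⊤ := by
      cases i <;> cases j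
      · exact absurd rfl hij
      · exact S.sup
      · rw [sup_comm]; exact S.sup
      · exact absurd rfl hij
    rw [h3]
    trivial
  have hcomm : B j ≤ normalizer (B i : Set M) := by
    intro x _
    rw [mem_normalizer_iff]
    intro y
    rw [S.comm x y, mul_inv_cancel_right]
  obtain ⟨x, hx, y, hy, rfl⟩ := mem_sup_of_normal_right' hcomm hm
  rw [map_mul, map_mul, h1 x hx, h2 y hy]
where
  mem_sup_of_normal_right' {i j : Bool} (_ : B j ≤ normalizer (B i : Set M)) {m : M} (hm : m ∈ B i ⊔ B j) :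
      ∃ x ∈ B i, ∃ y ∈ B j, x * y = m := by
    have h1 : ∀ a ∈ B i, ∀ b ∈ B j, a * b = b * a := fun a _ b _ => S.comm a b
    let K : Subgroup M :=
      { carrier := {m | ∃ x ∈ B i, ∃ y ∈ B j, x * y = m}
        one_mem' := ⟨1, one_mem _, 1, one_mem _, mul_one 1⟩
        mul_mem' := by
          rintro _ _ ⟨x, hx, y, hy, rfl⟩ ⟨x', hx', y', hy', rfl⟩
          refine ⟨x * x', mul_mem hx hx', y * y', mul_mem hy hy', ?_⟩
          calc x * x' * (y * y') = x * (x' * y) * y' := by group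
            _ = x * (y * x') * y' := by rw [S.comm x' y]
            _ = x * y * (x' * y') := by group
        inv_mem' := by
          rintro _ ⟨x, hx, y, hy, rfl⟩
          refine ⟨x⁻¹, inv_mem hx, y⁻¹, inv_mem hy, ?_⟩
          rw [mul_inv_rev, S.comm] }
    have h2 : B i ⊔ B j ≤ K := sup_le (fun x hx => ⟨x, hx, 1, one_mem _, mul_one x⟩)
      (fun y hy => ⟨1, one_mem _, y, hy, one_mul y⟩)
    exact h2 hm

/-- `t ∈ A i` and `u^y`, `u ∈ A j`, commute: `y (B j) = B i`. -/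
theorem Spr.map_eq {i j : Bool} {t u y : MulAut M} (ht : t ∈ A i) (ht1 : t ≠ 1) (hu : u ∈ A j)
    (hu1 : u ≠ 1) (hy : y ∈ A false ⊔ A true) (hc : t * (y * u * y⁻¹) = y * u * y⁻¹ * t) :
    (B j).map (y : M ≃* M).toMonoidHom = B i := by
  set s := y * u * y⁻¹ with hs
  have hss : s * s = 1 := by
    have h1 := S.Asq j u hu
    calc s * s = y * (u * u) * y⁻¹ := by rw [hs]; group
      _ = 1 := by rw [h1]; group
  -- `s` maps `B i` to itself
  have hsB : ∀ m ∈ B i, s m ∈ B i := by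
    intro m hm
    refine S.free i t ht ht1 _ ?_
    rw [← MulAut.mul_apply, hc, MulAut.mul_apply, S.fix i t ht m hm]
  -- a fixed point
  obtain ⟨n, hn, hn1, hsn⟩ : ∃ n ∈ B i, n ≠ 1 ∧ s n = n := by
    obtain ⟨m, hm, hm1⟩ := (B i).bot_or_exists_ne_one.resolve_left (S.ne i)
    by_cases h1 : s m = m
    · exact ⟨m, hm, hm1, h1⟩
    · refine ⟨m * s m, mul_mem hm (hsB m hm), fun h2 => h1 ?_, ?_⟩
      · have h3 := eq_inv_of_mul_eq_one_right h2
        rw [h3, Spr.m_inv S]
      · rw [map_mul, ← MulAut.mul_apply, hss, MulAut.one_apply, S.comm]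
  -- `n ∈ y (B j)`
  have h1 : n ∈ (B j).map (y : M ≃* M).toMonoidHom := by
    rw [mem_map_iff]
    refine S.free j u hu hu1 _ ?_
    have h2 : u * y⁻¹ = y⁻¹ * s := by rw [hs]; group
    rw [← MulAut.mul_apply, h2, MulAut.mul_apply, hsn]
  rcases S.spread j i y hy with h2 | h2
  · exact h2
  · exfalso
    have h3 : n ∈ (B j).map (y : M ≃* M).toMonoidHom ⊓ B i := ⟨h1, hn⟩
    rw [h2] at h3
    exact hn1 (mem_bot.1 h3)

/-- **odd order**, general form -/
theorem Spr.odd' [Finite M] {i j : Bool} {t u y : MulAut M} (ht : t ∈ A i) (ht1 : t ≠ 1) (hu : u ∈ A j)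
    (hu1 : u ≠ 1) (hy : y ∈ A false ⊔ A true) (hne : (B j).map (y : M ≃* M).toMonoidHom ≠ B i) :
    Odd (orderOf (t * (y * u * y⁻¹))) := by
  have : Finite (MulAut M) := Finite.of_injective (fun a : MulAut M => (a : M → M)) DFunLike.coe_injective
  set s := y * u * y⁻¹ with hs
  have hss : s * s = 1 := by
    have h1 := S.Asq j u hu
    calc s * s = y * (u * u) * y⁻¹ := by rw [hs]; group
      _ = 1 := by rw [h1]; group
  have htt := S.Asq i t ht
  have hsL : s ∈ A false ⊔ A true := mul_mem (mul_mem hy (mem_L hu)) (inv_mem hy)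
  have htL := mem_L ht
  rw [← Nat.not_even_iff_odd]
  intro he
  obtain ⟨z, hz, hz1, htz, hsz, g, hg, hgz⟩ := exists_invol htt hss he
  have hgL : g ∈ A false ⊔ A true := (zpowers_le.2 (mul_mem htL hsL)) hg
  -- `t z ∈ A i`
  have hcom : t * (t * z) = t * z * t := by
    calc t * (t * z) = t * (z * t) := by rw [htz]
      _ = t * z * t := by group
  have h1 : t * z ∈ A i := by
    rcases hgz with hgz | hgz
    · have h2 : (B i).map (g : M ≃* M).toMonoidHom = B i := by
        refine Spr.map_eq S ht ht1 ht ht1 hgL ?_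
        rw [← hgz]
        exact hcom
      have h3 := S.stab i i g hgL h2
      rw [← h3, mem_conj_iff, hgz]
      have e : g⁻¹ * (g * t * g⁻¹) * g = t := by group
      rwa [e]
    · have e1 : g * s * g⁻¹ = g * y * u * (g * y)⁻¹ := by rw [hs]; group
      have h2 : (B j).map ((g * y : MulAut M) : M ≃* M).toMonoidHom = B i := by
        refine Spr.map_eq S ht ht1 hu hu1 (mul_mem hgL hy) ?_
        rw [← e1, ← hgz]
        exact hcom
      have h3 := S.stab j i (g * y) (mul_mem hgL hy) h2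
      rw [← h3, mem_conj_iff, hgz, e1]
      have e : (g * y)⁻¹ * (g * y * u * (g * y)⁻¹) * (g * y) = u := by group
      rwa [e]
  have hzA : z ∈ A i := (mul_mem_cancel_left ht).1 h1
  exact hne (Spr.map_eq S hzA hz1 hu hu1 hy hsz.symm)

theorem Spr.B_ne {i j : Bool} (hij : i ≠ j) : B i ≠ B j := by
  intro h1
  obtain ⟨m, hm, hm1⟩ := (B i).bot_or_exists_ne_one.resolve_left (S.ne i)
  exact hm1 (Spr.eq_one S hij hm (h1 ▸ hm))

/-- **odd order** -/
theorem Spr.odd [Finite M] {i j : Bool} (hij : i ≠ j) {t u : MulAut M} (ht : t ∈ A i) (ht1 : t ≠ 1)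
    (hu : u ∈ A j) (hu1 : u ≠ 1) : Odd (orderOf (t * u)) := by
  have h1 := Spr.odd' S ht ht1 hu hu1 (one_mem _) (by
    rw [map_one']
    exact (Spr.B_ne S hij).symm)
  rwa [one_mul, inv_one, mul_one] at h1

omit S in
/-- two involutions with odd product are conjugate -/
theorem exists_conj_of_odd {N : Type*} [Group N] {t u : N} (ht : t * t = 1) (hu : u * u = 1)
    (ho : Odd (orderOf (t * u))) : ∃ m : ℕ, (t * u) ^ m * t * ((t * u) ^ m)⁻¹ = u := by
  obtain ⟨m, hm⟩ := ho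
  refine ⟨m, ?_⟩
  set k := t * u with hk
  have hti : t⁻¹ = t := inv_eq_of_mul_eq_one_left ht
  have hui : u⁻¹ = u := inv_eq_of_mul_eq_one_left hu
  have htk : t * k * t = k⁻¹ := by
    rw [hk, mul_inv_rev, hti, hui, ← mul_assoc, ht, one_mul]
  have h1 := mul_pow_of_inv ht htk m
  have h2 : k ^ (2 * m + 1) = 1 := by rw [← hm, pow_orderOf_eq_one]
  have h3 : k ^ m * k ^ m * k = 1 := by
    rw [← pow_add, ← two_mul, ← pow_succ, h2]
  -- `k^m t k^-m = k^m k^m t`
  have h4 : t * (k ^ m)⁻¹ = k ^ m * t := by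
    have h5 : t * (t * k ^ m) * t = t * ((k ^ m)⁻¹ * t) * t := by rw [h1]
    have e1 : t * (t * k ^ m) * t = k ^ m * t := by
      rw [← mul_assoc, ht, one_mul]
    have e2 : t * ((k ^ m)⁻¹ * t) * t = t * (k ^ m)⁻¹ := by
      rw [mul_assoc, mul_assoc, ht, mul_one]
    rw [e1, e2] at h5
    exact h5.symm
  rw [mul_assoc, h4, ← mul_assoc]
  have h5 : k ^ m * k ^ m = k⁻¹ := eq_inv_of_mul_eq_one_left h3
  rw [h5, hk, mul_inv_rev, hti, hui, mul_assoc, ht, mul_one]

/-- **`t ∈ A i` and `u ∈ A j` are conjugate.** -/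
theorem Spr.exists_conj [Finite M] {i j : Bool} (hij : i ≠ j) {t u : MulAut M} (ht : t ∈ A i) (ht1 : t ≠ 1)
    (hu : u ∈ A j) (hu1 : u ≠ 1) : ∃ y ∈ A false ⊔ A true, y * t * y⁻¹ = u := by
  obtain ⟨m, hm⟩ := exists_conj_of_odd (S.Asq i t ht) (S.Asq j u hu) (Spr.odd S hij ht ht1 hu hu1)
  exact ⟨_, pow_mem (mul_mem (mem_L ht) (mem_L hu)) m, hm⟩

/-- `t ∈ A i`, `t (B j) = B j`, `i ≠ j`: `t = 1` -/
theorem Spr.eq_one_of_map {i j : Bool} (hij : i ≠ j) {t : MulAut M} (ht : t ∈ A i)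
    (h : (B j).map (t : M ≃* M).toMonoidHom = B j) : t = 1 := by
  refine Spr.ext_A S hij (fun m hm => S.fix i t ht m hm) fun m hm => ?_
  have h1 : t m ∈ B j := by
    rw [← h, mem_map_iff, Spr.A_inv S ht, Spr.apply_apply S ht]
    exact hm
  have h2 : t m * m⁻¹ = 1 := Spr.eq_one S hij (S.into i t ht m) (mul_mem h1 (inv_mem hm))
  rw [MulAut.one_apply]
  exact mul_inv_eq_one.1 h2

end spr

/-! ### the SL₂ type -/

/-- **The SL₂ type.**  `dcw` : elements of the two-point stabiliser inverted by the same `s` commute. -/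
structure SL2T {M : Type*} [Group M] (B : Bool → Subgroup M) (A : Bool → Subgroup (MulAut M)) : Prop where
  o3 : ∀ t ∈ A false, t ≠ 1 → ∃ u ∈ A true, (t * u) ^ 3 = 1
  dcw : ∀ s ∈ A false ⊔ A true, s * s = 1 → (B true).map (s : M ≃* M).toMonoidHom = B false →
    (B false).map (s : M ≃* M).toMonoidHom = B true →
    ∀ y ∈ A false ⊔ A true, ∀ z ∈ A false ⊔ A true, (∀ i, (B i).map (y : M ≃* M).toMonoidHom = B i) →
    (∀ i, (B i).map (z : M ≃* M).toMonoidHom = B i) → s * y * s = y⁻¹ → s * z * s = z⁻¹ → y * z = z * y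

section pair

variable {M : Type*} [Group M] {B : Bool → Subgroup M} {A : Bool → Subgroup (MulAut M)} (S : Spr B A)
include S

/-- the pair `t ∈ A i`, `u ∈ A j`, `(t u)³ = 1`: `t u t = u t u` -/
theorem Spr.braid {i j : Bool} {t u : MulAut M} (ht : t ∈ A i) (hu : u ∈ A j) (h3 : (t * u) ^ 3 = 1) :
    t * u * t = u * t * u := by
  have h1 : t * u * t * (u * t * u) = 1 := by
    rw [← h3]
    rw [pow_succ, pow_two]
    group
  have h2 := eq_inv_of_mul_eq_one_left h1
  rw [h2, mul_inv_rev, mul_inv_rev, Spr.A_inv S ht, Spr.A_inv S hu, mul_assoc]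

theorem Spr.cube_symm {i j : Bool} {t u : MulAut M} (ht : t ∈ A i) (hu : u ∈ A j) (h3 : (t * u) ^ 3 = 1) :
    (u * t) ^ 3 = 1 := by
  have e : u * t = (t * u)⁻¹ := by rw [mul_inv_rev, Spr.A_inv S ht, Spr.A_inv S hu]
  rw [e, inv_pow, h3, inv_one]

/-- `[m, t] = b` implies `[b, u] = m` for `m ∈ B j` -/
theorem Spr.pair_apply {i j : Bool} (hij : i ≠ j) {t u : MulAut M} (ht : t ∈ A i) (ht1 : t ≠ 1) (hu : u ∈ A j)
    (h3 : (t * u) ^ 3 = 1) {m : M} (hm : m ∈ B j) : u (t m * m) = t m := by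
  have hb := Spr.braid S ht hu h3
  set b := t m * m with hbd
  have hbB : b ∈ B i := by
    have h1 := S.into i t ht m
    rwa [Spr.m_inv S] at h1
  have htm : t m = b * m := by rw [hbd, mul_assoc, S.sq, mul_one]
  set m' := u b * b with hm'
  have hm'B : m' ∈ B j := by
    have h1 := S.into j u hu b
    rwa [Spr.m_inv S] at h1
  have hub : u b = m' * b := by rw [hm', mul_assoc, S.sq, mul_one]
  have htb : t b = b := S.fix i t ht b hbB
  have hum : u m = m := S.fix j u hu m hm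
  have hum' : u m' = m' := S.fix j u hu m' hm'B
  -- `u t u m = m' b m`
  have h1 : (u * t * u) m = m' * b * m := by
    rw [MulAut.mul_apply, MulAut.mul_apply, hum, htm, map_mul, hub, hum]
  have h2 : (t * u * t) m = t m' * m := by
    rw [MulAut.mul_apply, MulAut.mul_apply, htm, map_mul, hub, hum, map_mul, map_mul, htb, htm]
    calc t m' * b * (b * m) = t m' * (b * b) * m := by group
      _ = t m' * m := by rw [S.sq, mul_one]
  rw [hb, h1] at h2
  have h4 : t m' = m' * b := (mul_right_cancel h2).symm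
  -- `m m' ∈ B i`
  have h5 : m * m' ∈ B i := by
    refine S.free i t ht ht1 _ ?_
    rw [map_mul, htm, h4]
    calc b * m * (m' * b) = b * (m * m') * b := by group
      _ = m * m' * b * b := by rw [S.comm b]
      _ = m * m' := by rw [mul_assoc, S.sq, mul_one]
  have h6 : m * m' = 1 := Spr.eq_one S hij h5 (mul_mem hm hm'B)
  have h7 : m' = m := by
    have := eq_inv_of_mul_eq_one_right h6
    rwa [Spr.m_inv S] at this
  rw [hub, h7, htm, S.comm]

/-- `u` is determined by `t`. -/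
theorem Spr.pair_unique {i j : Bool} (hij : i ≠ j) {t t' u : MulAut M} (ht : t ∈ A i) (ht1 : t ≠ 1)
    (ht' : t' ∈ A i) (ht1' : t' ≠ 1) (hu : u ∈ A j) (hu1 : u ≠ 1) (h3 : (t * u) ^ 3 = 1)
    (h3' : (t' * u) ^ 3 = 1) : t = t' := by
  refine Spr.ext_A S hij (fun m hm => ?_) fun m hm => ?_
  · rw [S.fix i t ht m hm, S.fix i t' ht' m hm]
  · have h1 := Spr.pair_apply S hij ht ht1 hu h3 hm
    have h2 := Spr.pair_apply S hij ht' ht1' hu h3' hm
    -- `u` fixes `t m * t' m`
    have hb : t m * m ∈ B i := by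
      have := S.into i t ht m
      rwa [Spr.m_inv S] at this
    have hb' : t' m * m ∈ B i := by
      have := S.into i t' ht' m
      rwa [Spr.m_inv S] at this
    have h4 : t m * m * (t' m * m) ∈ B j := by
      refine S.free j u hu hu1 _ ?_
      rw [map_mul, h1, h2]
      calc t m * t' m = t m * (m * m) * t' m := by rw [S.sq, mul_one]
        _ = t m * m * (m * t' m) := by group
        _ = t m * m * (t' m * m) := by rw [S.comm m]
    have h5 := Spr.eq_one S hij (mul_mem hb hb') h4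
    have h6 := eq_inv_of_mul_eq_one_left h5
    rw [Spr.m_inv S] at h6
    exact mul_right_cancel h6

/-- `(t u)³ = 1`: `u ≠ 1` -/
theorem Spr.pair_ne {i j : Bool} {t u : MulAut M} (ht : t ∈ A i) (ht1 : t ≠ 1) (h3 : (t * u) ^ 3 = 1)
    (_hu : u ∈ A j) : u ≠ 1 := by
  rintro rfl
  apply ht1
  rw [mul_one, pow_succ, pow_two, S.Asq i t ht, one_mul] at h3
  exact h3

/-- (O3) for both points -/
theorem SL2T.o3' [Finite M] (h : SL2T B A) (u : MulAut M) (hu : u ∈ A true) (hu1 : u ≠ 1) :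
    ∃ t ∈ A false, t ≠ 1 ∧ (t * u) ^ 3 = 1 := by
  have : Finite (MulAut M) := Finite.of_injective (fun a : MulAut M => (a : M → M)) DFunLike.coe_injective
  have hch : ∀ t : {t : A false // (t : MulAut M) ≠ 1}, ∃ u : {u : A true // (u : MulAut M) ≠ 1},
      (((t : A false) : MulAut M) * ((u : A true) : MulAut M)) ^ 3 = 1 := by
    rintro ⟨⟨t, ht⟩, ht1⟩
    obtain ⟨u, hu, h3⟩ := h.o3 t ht ht1
    exact ⟨⟨⟨u, hu⟩, Spr.pair_ne S ht ht1 h3 hu⟩, h3⟩
  choose f hf using hch
  have hinj : Function.Injective f := by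
    intro a b hab
    apply Subtype.ext
    apply Subtype.ext
    have h1 := hf a
    have h2 := hf b
    rw [hab] at h1
    exact Spr.pair_unique S (by decide) a.1.2 a.2 b.1.2 b.2 (f b).1.2 (f b).2 h1 h2
  have hcard : Nat.card {t : A false // (t : MulAut M) ≠ 1} = Nat.card {u : A true // (u : MulAut M) ≠ 1} := by
    rw [TI.card_ne_one, TI.card_ne_one, S.Acard]
  have hbij : Function.Bijective f := by
    rw [Nat.bijective_iff_injective_and_card]
    exact ⟨hinj, hcard⟩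
  obtain ⟨t, ht⟩ := hbij.2 ⟨⟨u, hu⟩, hu1⟩
  refine ⟨((t : A false) : MulAut M), t.1.2, t.2, ?_⟩
  have h1 := hf t
  rw [ht] at h1
  exact h1

end pair

/-! ### the set `J` -/

section J

variable {M : Type*} [Group M] {B : Bool → Subgroup M} {A : Bool → Subgroup (MulAut M)}

/-- The elements `t u t = u t u`, `t ∈ A false`, `u ∈ A true`, `(t u)³ = 1`. -/
def JJ (A : Bool → Subgroup (MulAut M)) : Set (MulAut M) :=
  {s | ∃ t ∈ A false, t ≠ 1 ∧ ∃ u ∈ A true, (t * u) ^ 3 = 1 ∧ s = t * u * t}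

variable (S : Spr B A)
include S

theorem Spr.JJ_sq {s : MulAut M} (hs : s ∈ JJ A) : s * s = 1 := by
  obtain ⟨t, ht, -, u, hu, -, rfl⟩ := hs
  calc t * u * t * (t * u * t) = t * u * (t * t) * u * t := by group
    _ = t * (u * u) * t := by rw [S.Asq _ t ht]; group
    _ = 1 := by rw [S.Asq _ u hu, mul_one, S.Asq _ t ht]

theorem Spr.JJ_inv {s : MulAut M} (hs : s ∈ JJ A) : s⁻¹ = s := inv_eq_of_mul_eq_one_left (Spr.JJ_sq S hs)

omit S in
theorem JJ_mem {s : MulAut M} (hs : s ∈ JJ A) : s ∈ A false ⊔ A true := by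
  obtain ⟨t, ht, -, u, hu, -, rfl⟩ := hs
  exact mul_mem (mul_mem (mem_L ht) (mem_L hu)) (mem_L ht)

/-- `s m = [m, t]` for `m ∈ B true` -/
theorem Spr.JJ_true {t u : MulAut M} (ht : t ∈ A false) (ht1 : t ≠ 1) (hu : u ∈ A true)
    (h3 : (t * u) ^ 3 = 1) {m : M} (hm : m ∈ B true) : (t * u * t) m = t m * m := by
  have hb := Spr.braid S ht hu h3
  rw [hb, MulAut.mul_apply, MulAut.mul_apply, S.fix true u hu m hm]
  have h1 := Spr.pair_apply S (by decide) ht ht1 hu h3 hm
  rw [map_mul, S.fix true u hu m hm] at h1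
  -- `u (t m) * m = t m`
  calc u (t m) = u (t m) * (m * m) := by rw [S.sq, mul_one]
    _ = u (t m) * m * m := by group
    _ = t m * m := by rw [h1]

/-- `s b = [b, u]` for `b ∈ B false` -/
theorem Spr.JJ_false {t u : MulAut M} (ht : t ∈ A false) (ht1 : t ≠ 1) (hu : u ∈ A true)
    (h3 : (t * u) ^ 3 = 1) {b : M} (hb : b ∈ B false) : (t * u * t) b = u b * b := by
  have hu1 := Spr.pair_ne S ht ht1 h3 hu
  have h1 := Spr.pair_apply S (by decide) hu hu1 ht (Spr.cube_symm S ht hu h3) hb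
  rw [map_mul, S.fix false t ht b hb] at h1
  rw [MulAut.mul_apply, MulAut.mul_apply, S.fix false t ht b hb]
  calc t (u b) = t (u b) * (b * b) := by rw [S.sq, mul_one]
    _ = t (u b) * b * b := by group
    _ = u b * b := by rw [h1]

theorem Spr.JJ_map_true {s : MulAut M} (hs : s ∈ JJ A) : (B true).map (s : M ≃* M).toMonoidHom = B false := by
  have hsL := JJ_mem hs
  obtain ⟨t, ht, ht1, u, hu, h3, rfl⟩ := hs
  rcases S.spread true false _ hsL with h1 | h1
  · exact h1
  · exfalso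
    obtain ⟨m, hm, hm1⟩ := (B true).bot_or_exists_ne_one.resolve_left (S.ne true)
    have h2 : (t * u * t) m ∈ (B true).map ((t * u * t : MulAut M) : M ≃* M).toMonoidHom ⊓ B false := by
      refine ⟨⟨m, hm, rfl⟩, ?_⟩
      rw [Spr.JJ_true S ht ht1 hu h3 hm]
      have := S.into false t ht m
      rwa [Spr.m_inv S] at this
    rw [h1] at h2
    apply hm1
    have h4 : (t * u * t) m = (t * u * t) 1 := by rw [map_one]; exact mem_bot.1 h2
    exact (t * u * t).injective h4

theorem Spr.JJ_map_false {s : MulAut M} (hs : s ∈ JJ A) : (B false).map (s : M ≃* M).toMonoidHom = B true := by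
  have h1 := map_inv' (Spr.JJ_map_true S hs)
  rwa [Spr.JJ_inv S hs] at h1

/-- `J` is closed under `s ↦ r s r`. -/
theorem Spr.JJ_conj {r s : MulAut M} (hr : r ∈ JJ A) (hs : s ∈ JJ A) : r * s * r ∈ JJ A := by
  have hrr := Spr.JJ_sq S hr
  have hri := Spr.JJ_inv S hr
  have hrL := JJ_mem hr
  have k1 := S.stab true false r hrL (Spr.JJ_map_true S hr)
  have k2 := S.stab false true r hrL (Spr.JJ_map_false S hr)
  obtain ⟨t, ht, ht1, u, hu, h3, rfl⟩ := hs
  have hb := Spr.braid S ht hu h3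
  have hu1 := Spr.pair_ne S ht ht1 h3 hu
  have e1 : r * u * r ∈ A false := by
    rw [← k1, mem_conj_iff, hri]
    have e : r * (r * u * r) * r = r * r * u * (r * r) := by group
    rw [e, hrr, one_mul, mul_one]
    exact hu
  have e2 : r * t * r ∈ A true := by
    rw [← k2, mem_conj_iff, hri]
    have e : r * (r * t * r) * r = r * r * t * (r * r) := by group
    rw [e, hrr, one_mul, mul_one]
    exact ht
  refine ⟨r * u * r, e1, ?_, r * t * r, e2, ?_, ?_⟩
  · intro h0
    apply hu1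
    calc u = r * r * u * (r * r) := by rw [hrr, one_mul, mul_one]
      _ = r * (r * u * r) * r := by group
      _ = 1 := by rw [h0, mul_one, hrr]
  · have e : r * u * r * (r * t * r) = r * (u * t) * r⁻¹ := by
      rw [hri]
      calc r * u * r * (r * t * r) = r * u * (r * r) * t * r := by group
        _ = r * (u * t) * r := by rw [hrr]; group
    rw [e, conj_pow, Spr.cube_symm S ht hu h3, mul_one, mul_inv_cancel]
  · rw [hb]
    calc r * (u * t * u) * r = r * u * (1 * t * 1) * u * r := by group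
      _ = r * u * (r * r * t * (r * r)) * u * r := by rw [hrr]
      _ = _ := by group

/-- two elements of `J` have a product of odd order. -/
theorem Spr.JJ_odd [Finite M] {r s : MulAut M} (hr : r ∈ JJ A) (hs : s ∈ JJ A) : Odd (orderOf (r * s)) := by
  obtain ⟨t, ht, ht1, u, hu, h3, rfl⟩ := hr
  obtain ⟨t', ht', ht1', u', hu', h3', rfl⟩ := hs
  by_cases htt : t = t'
  · subst htt
    have hu1 := Spr.pair_ne S ht ht1 h3 hu
    have hu1' := Spr.pair_ne S ht ht1 h3' hu'
    have h4 : u = u' := Spr.pair_unique S (by decide) hu hu1 hu' hu1' ht ht1 (Spr.cube_symm S ht hu h3)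
      (Spr.cube_symm S ht hu' h3')
    subst h4
    have h5 := Spr.JJ_sq S (⟨t, ht, ht1, u, hu, h3, rfl⟩ : t * u * t ∈ JJ A)
    rw [h5, orderOf_one]
    exact odd_one
  · have hti := Spr.A_inv S ht
    have hti' := Spr.A_inv S ht'
    have h1 := Spr.odd' S hu (Spr.pair_ne S ht ht1 h3 hu) hu' (Spr.pair_ne S ht' ht1' h3' hu')
      (y := t * t') (mem_L (mul_mem ht ht')) (by
        intro h4
        apply htt
        have h5 := Spr.eq_one_of_map S (i := false) (j := true) (by decide) (mul_mem ht ht') h4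
        have h6 := eq_inv_of_mul_eq_one_left h5
        rwa [hti'] at h6)
    have e : t * u * t * (t' * u' * t') = t * (u * (t * t' * u' * (t * t')⁻¹)) * t⁻¹ := by
      rw [mul_inv_rev, hti, hti']
      have htt2 := S.Asq false t ht
      calc t * u * t * (t' * u' * t') = t * u * t * t' * u' * t' * (t * t) := by rw [htt2]; group
        _ = _ := by group
    rw [e]
    have h2 : orderOf (t * (u * (t * t' * u' * (t * t')⁻¹)) * t⁻¹) = orderOf (u * (t * t' * u' * (t * t')⁻¹)) := by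
      have h3 := orderOf_injective (MulAut.conj t).toMonoidHom (MulAut.conj t).injective
        (u * (t * t' * u' * (t * t')⁻¹))
      exact h3
    rw [h2]
    exact h1

/-- **`J J J ⊆ J`** -/
theorem SL2T.jj [Finite M] (h : SL2T B A) {r s w : MulAut M} (hr : r ∈ JJ A) (hs : s ∈ JJ A) (hw : w ∈ JJ A) :
    r * s * w ∈ JJ A := by
  have hss := Spr.JJ_sq S hs
  have hrr := Spr.JJ_sq S hr
  have hsi := Spr.JJ_inv S hs
  have hri := Spr.JJ_inv S hr
  -- products of two elements of `J` fix both points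
  have hfix : ∀ {a b : MulAut M}, a ∈ JJ A → b ∈ JJ A → ∀ i, (B i).map ((a * b : MulAut M) : M ≃* M).toMonoidHom = B i := by
    intro a b ha hb i
    rw [map_mul']
    cases i
    · rw [Spr.JJ_map_false S hb, Spr.JJ_map_true S ha]
    · rw [Spr.JJ_map_true S hb, Spr.JJ_map_false S ha]
  have hL : ∀ {a b : MulAut M}, a ∈ JJ A → b ∈ JJ A → a * b ∈ A false ⊔ A true := fun ha hb =>
    mul_mem (JJ_mem ha) (JJ_mem hb)
  set x := r * s with hx
  -- `x ^ j s ∈ J`
  have hsx : s * x * s = x⁻¹ := by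
    rw [hx, mul_inv_rev, hri, hsi]
    calc s * (r * s) * s = s * r * (s * s) := by group
      _ = s * r := by rw [hss, mul_one]
  have hpow : ∀ j : ℕ, x ^ j * s ∈ JJ A := by
    intro j
    induction j using Nat.strong_induction_on with
    | _ j ih =>
      rcases j with _ | _ | j
      · rwa [pow_zero, one_mul]
      · rw [zero_add, pow_one, hx, mul_assoc, hss, mul_one]
        exact hr
      · -- `x^(j+2) s = x (x^j s) x⁻¹ = r s (x^j s) s r`
        have h1 := Spr.JJ_conj S hr (Spr.JJ_conj S hs (ih j (by omega)))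
        have h2 : s * (x ^ j * s) * s = (x ^ j)⁻¹ * s := by
          rw [← mul_pow_of_inv hss hsx]
          calc s * (x ^ j * s) * s = s * x ^ j * (s * s) := by group
            _ = s * x ^ j := by rw [hss, mul_one]
        have h3 : r * ((x ^ j)⁻¹ * s) * r = x ^ (j + 2) * s := by
          have hrx : r = x * s := by rw [hx, mul_assoc, hss, mul_one]
          have h4 : s * x = x⁻¹ * s := by
            have := mul_pow_of_inv hss hsx 1
            simpa only [_root_.pow_one] using this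
          have h5 : s * (x ^ j)⁻¹ = x ^ j * s := by
            have h6 := mul_pow_of_inv hss hsx j
            calc s * (x ^ j)⁻¹ = s * ((x ^ j)⁻¹ * s) * s := by
                  rw [mul_assoc, mul_assoc, hss, mul_one]
              _ = s * (s * x ^ j) * s := by rw [h6]
              _ = x ^ j * s := by rw [← mul_assoc s s, hss, one_mul]
          calc r * ((x ^ j)⁻¹ * s) * r = x * (s * (x ^ j)⁻¹) * s * (x * s) := by rw [hrx]; group
            _ = x * (x ^ j * s) * s * (x * s) := by rw [h5]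
            _ = x * x ^ j * (s * s) * x * s := by group
            _ = x * x ^ j * x * s := by rw [hss, mul_one]
            _ = x ^ (j + 2) * s := by
                rw [← pow_succ', ← pow_succ]
        rw [h2, h3] at h1
        exact h1
  -- the square root
  obtain ⟨m, hm⟩ := Spr.JJ_odd S hr hs
  set y := x ^ (m + 1) with hy
  have hyy : y * y = x := by
    rw [hy, ← pow_add, show m + 1 + (m + 1) = (2 * m + 1) + 1 by ring, ← hm, pow_succ, pow_orderOf_eq_one,
      one_mul]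
  have hysJ : y * s ∈ JJ A := hpow (m + 1)
  -- `y = (y s) s`
  have hy2 : y = y * s * s := by rw [mul_assoc, hss, mul_one]
  -- `y` commutes with `w s`
  have hsy : s * y * s = y⁻¹ := by
    have h1 := mul_pow_of_inv hss hsx (m + 1)
    rw [hy, h1, mul_assoc, hss, mul_one]
  have hc : y * (w * s) = w * s * y := by
    refine h.dcw s (JJ_mem hs) hss (Spr.JJ_map_true S hs) (Spr.JJ_map_false S hs) y ?_ (w * s) (hL hw hs)
      (fun i => ?_) (hfix hw hs) hsy ?_
    · rw [hy2]; exact hL hysJ hs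
    · rw [hy2]; exact hfix hysJ hs i
    · rw [mul_inv_rev, Spr.JJ_inv S hw, hsi]
      calc s * (w * s) * s = s * w * (s * s) := by group
        _ = s * w := by rw [hss, mul_one]
  -- `(y s)(s w s)(y s) = y w s y s = y y w`
  have e : x * w = y * s * (s * w * s) * (y * s) := by
    calc x * w = y * y * w := by rw [hyy]
      _ = y * (y * (w * s)) * s := by
          calc y * y * w = y * y * w * (s * s) := by rw [hss, mul_one]
            _ = _ := by group
      _ = y * (w * s * y) * s := by rw [hc]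
      _ = y * (s * s) * w * s * (y * s) := by rw [hss]; group
      _ = _ := by group
  rw [e]
  exact Spr.JJ_conj S hysJ (Spr.JJ_conj S hs hw)

end J

end Cfsg.Agent.Omega.NO1.Field

end

section


/-!
# The SL₂ type over `Spr`: the subgroups `{[b, u] : u ∈ A true}`

* `KK A i b`, `card_KK`;
* `SL2T.exists_t` : `k ∈ KK A true b`, `k ≠ 1`: `[k, t] = b`, `t ∈ A false`;
* `SL2T.closure` : `k, k' ∈ KK A true b`, `t ∈ A false`, `[k', t] ≠ 1`: `k ∈ KK A true [k', t]`;
* `SL2T.line` : `[k, v] = [k', w]` for some `k' ∈ KK A true b`.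
-/

set_option autoImplicit false

namespace Cfsg.Agent.Omega.NO1.Field

open Subgroup Cfsg.Agent.Omega.NOne.Flat

section spr

variable {M : Type*} [Group M] {B : Bool → Subgroup M} {A : Bool → Subgroup (MulAut M)} (S : Spr B A)

/-- `{[b, a] : a ∈ A i}` -/
def KK (S : Spr B A) (i : Bool) (b : M) : Subgroup M where
  carrier := {k | ∃ a ∈ A i, k = a b * b}
  one_mem' := ⟨1, one_mem _, by rw [MulAut.one_apply, S.sq]⟩
  mul_mem' := by
    rintro _ _ ⟨a, ha, rfl⟩ ⟨a', ha', rfl⟩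
    refine ⟨a * a', mul_mem ha ha', ?_⟩
    have h1 : a' b * b ∈ B i := by
      have := S.into i a' ha' b
      rwa [Spr.m_inv S] at this
    have h3 : a (a' b) = a' b * b * a b := by
      calc a (a' b) = a (a' b * b * b) := by rw [mul_assoc, S.sq, mul_one]
        _ = a' b * b * a b := by rw [map_mul, S.fix i a ha _ h1]
    rw [MulAut.mul_apply, h3]
    calc a b * b * (a' b * b) = a' b * b * (a b * b) := S.comm _ _
      _ = _ := by group
  inv_mem' := by
    rintro _ ⟨a, ha, rfl⟩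
    exact ⟨a, ha, Spr.m_inv S _⟩

include S

theorem mem_KK {i : Bool} {b k : M} : k ∈ KK S i b ↔ ∃ a ∈ A i, k = a b * b := Iff.rfl

theorem comm_mem_B {i : Bool} {a : MulAut M} (ha : a ∈ A i) (b : M) : a b * b ∈ B i := by
  have := S.into i a ha b
  rwa [Spr.m_inv S] at this

theorem KK_le (i : Bool) (b : M) : KK S i b ≤ B i := by
  rintro _ ⟨a, ha, rfl⟩
  exact comm_mem_B S ha b

/-- `|{[b, a]}| = |A i|` for `b ∉ B i` -/
theorem card_KK {i : Bool} {b : M} (hb : b ∉ B i) : Nat.card (KK S i b) = Nat.card (A i) := by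
  refine (Nat.card_congr (Equiv.ofBijective (fun a : A i => (⟨(a : MulAut M) b * b, a, a.2, rfl⟩ : KK S i b))
    ⟨?_, ?_⟩)).symm
  · intro a a' haa
    have h1 : (a : MulAut M) b * b = (a' : MulAut M) b * b := congrArg Subtype.val haa
    have h2 := mul_right_cancel h1
    apply Subtype.ext
    by_contra hne
    apply hb
    have h3 : (a : MulAut M) * (a' : MulAut M) ∈ A i := mul_mem a.2 a'.2
    refine S.free i _ h3 (fun h4 => hne ?_) b ?_
    · have h5 := eq_inv_of_mul_eq_one_left h4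
      rwa [Spr.A_inv S a'.2] at h5
    · rw [MulAut.mul_apply, ← h2, Spr.apply_apply S a.2]
  · rintro ⟨_, a, ha, rfl⟩
    exact ⟨⟨a, ha⟩, rfl⟩

end spr

namespace SL2T

variable {M : Type*} [Group M] [Finite M] {B : Bool → Subgroup M} {A : Bool → Subgroup (MulAut M)}
  (S : Spr B A) (h : SL2T B A)
include S h

/-- the element of `J` over `u ∈ A true` -/
theorem exists_J_true {u : MulAut M} (hu : u ∈ A true) (hu1 : u ≠ 1) :
    ∃ s ∈ JJ A, ∀ b ∈ B false, s b = u b * b := by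
  obtain ⟨t, ht, ht1, h3⟩ := SL2T.o3' S h u hu hu1
  exact ⟨t * u * t, ⟨t, ht, ht1, u, hu, h3, rfl⟩, fun b hb => Spr.JJ_false S ht ht1 hu h3 hb⟩

omit [Finite M] in
/-- the element of `J` over `t ∈ A false` -/
theorem exists_J_false {t : MulAut M} (ht : t ∈ A false) (ht1 : t ≠ 1) :
    ∃ s ∈ JJ A, ∀ m ∈ B true, s m = t m * m := by
  obtain ⟨u, hu, h3⟩ := h.o3 t ht ht1
  exact ⟨t * u * t, ⟨t, ht, ht1, u, hu, h3, rfl⟩, fun b hb => Spr.JJ_true S ht ht1 hu h3 hb⟩

omit h [Finite M] in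
/-- an element of `J` is `[·, u]` on `B false` -/
theorem exists_u {s : MulAut M} (hs : s ∈ JJ A) : ∃ u ∈ A true, u ≠ 1 ∧ ∀ b ∈ B false, s b = u b * b := by
  obtain ⟨t, ht, ht1, u, hu, h3, rfl⟩ := hs
  exact ⟨u, hu, Spr.pair_ne S ht ht1 h3 hu, fun b hb => Spr.JJ_false S ht ht1 hu h3 hb⟩

/-- `k ∈ {[b, u]}`, `k ≠ 1`: `[k, t] = b` -/
theorem exists_t {b k : M} (hb : b ∈ B false) (hk : k ∈ KK S true b) (hk1 : k ≠ 1) :
    ∃ t ∈ A false, t ≠ 1 ∧ t k * k = b := by
  obtain ⟨u, hu, rfl⟩ := hk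
  have hu1 : u ≠ 1 := by
    rintro rfl
    apply hk1
    rw [MulAut.one_apply, S.sq]
  obtain ⟨t, ht, ht1, h3⟩ := SL2T.o3' S h u hu hu1
  refine ⟨t, ht, ht1, ?_⟩
  rw [Spr.pair_apply S (i := true) (j := false) (by decide) hu hu1 ht (Spr.cube_symm S ht hu h3) hb]
  calc u b * (u b * b) = u b * u b * b := by group
    _ = b := by rw [S.sq, one_mul]

omit h [Finite M] in
theorem JJ_apply {s : MulAut M} (hs : s ∈ JJ A) (m : M) : s (s m) = m := by
  rw [← MulAut.mul_apply, Spr.JJ_sq S hs, MulAut.one_apply]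

omit h [Finite M] in
/-- `s b ∈ {[b, u]}` for `s ∈ J` -/
theorem J_mem_KK {s : MulAut M} (hs : s ∈ JJ A) {b : M} (hb : b ∈ B false) : s b ∈ KK S true b := by
  obtain ⟨u, hu, -, hub⟩ := exists_u S hs
  exact ⟨u, hu, hub b hb⟩

/-- `1 ≠ k ∈ {[b, u]}` is `s b`, `s ∈ J`. -/
theorem exists_J_of_mem {b k : M} (hb : b ∈ B false) (hk : k ∈ KK S true b) (hk1 : k ≠ 1) :
    ∃ s ∈ JJ A, s b = k := by
  obtain ⟨u, hu, rfl⟩ := hk
  have hu1 : u ≠ 1 := by
    rintro rfl
    apply hk1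
    rw [MulAut.one_apply, S.sq]
  obtain ⟨s, hs, hsb⟩ := exists_J_true S h hu hu1
  exact ⟨s, hs, hsb b hb⟩

/-- `k ∈ {[b', u]}` for `b' = [k', t] ≠ 1` -/
theorem closure {b k k' : M} (hb : b ∈ B false) (hk : k ∈ KK S true b) (hk' : k' ∈ KK S true b)
    {t : MulAut M} (ht : t ∈ A false) (hne : t k' * k' ≠ 1) : k ∈ KK S true (t k' * k') := by
  by_cases hk1 : k = 1
  · rw [hk1]; exact one_mem _
  have hk1' : k' ≠ 1 := by
    rintro rfl
    exact hne (by rw [map_one, mul_one])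
  have ht1 : t ≠ 1 := by
    rintro rfl
    exact hne (by rw [MulAut.one_apply, S.sq])
  have hkB := KK_le S true b hk'
  obtain ⟨s, hs, hsb⟩ := exists_J_of_mem S h hb hk hk1
  obtain ⟨s', hs', hsb'⟩ := exists_J_of_mem S h hb hk' hk1'
  obtain ⟨r, hr, hrm⟩ := exists_J_false S h ht ht1
  have h1 := SL2T.jj S h hs hs' hr
  have h2 : (s * s' * r) (t k' * k') = k := by
    rw [← hrm k' hkB, MulAut.mul_apply, MulAut.mul_apply, JJ_apply S hr, ← hsb', JJ_apply S hs', hsb]
  have h3 : t k' * k' ∈ B false := comm_mem_B S ht k'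
  rw [← h2]
  exact J_mem_KK S h1 h3

/-- `[k, v] = [k', w]` -/
theorem line {b k : M} (hb : b ∈ B false) (hk : k ∈ KK S true b) {v w : MulAut M} (hv : v ∈ A false)
    (hw : w ∈ A false) (hw1 : w ≠ 1) : ∃ k' ∈ KK S true b, v k * k = w k' * k' := by
  by_cases hk1 : k = 1
  · refine ⟨1, one_mem _, ?_⟩
    rw [hk1, map_one, map_one]
  by_cases hv1 : v = 1
  · refine ⟨1, one_mem _, ?_⟩
    rw [hv1, MulAut.one_apply, S.sq, map_one, mul_one]
  have hkB := KK_le S true b hk
  obtain ⟨s, hs, hsb⟩ := exists_J_of_mem S h hb hk hk1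
  obtain ⟨r, hr, hrm⟩ := exists_J_false S h hv hv1
  obtain ⟨r', hr', hrm'⟩ := exists_J_false S h hw hw1
  have h1 := SL2T.jj S h hr' hr hs
  have hmem := J_mem_KK S h1 hb
  refine ⟨_, hmem, ?_⟩
  rw [← hrm k hkB, ← hrm' _ (KK_le S true b hmem), MulAut.mul_apply, MulAut.mul_apply, JJ_apply S hr', hsb]

end SL2T

end Cfsg.Agent.Omega.NO1.Field

end
end

-- part: Mrg/Omega/NO1/Alpha/Bridge
section
-- merged: Cfsg.Agent.Mrg.Omega.NO1.Alpha.RepM
section

/-!
# The module `V = zl S M` of a frame for the group induced by `P` (bb OMEGA #18722)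

`RepM S P V Y M T Mx` is `Rep` without `O₂(Y) = 1`; it exists for every `P`-invariant elementary abelian `V ≥ V_P`
(`exists_repM`).
-/

set_option autoImplicit false
set_option linter.unusedSectionVars false

namespace Cfsg.Agent.Omega.NO1

open Subgroup Cfsg Cfsg.Agent.ZN Cfsg.Agent.Omega.MinPar Cfsg.Agent.Omega.Frame
open Cfsg.Agent.Omega.FFBr (XX pr Abs)
open Cfsg.Agent.Omega.NoFF.LinesPlug (CC)

universe u

/-- `V` as a module for the group induced by `P`. -/
structure RepM {G : Type u} [Group G] (S P V : Subgroup G) (Y M : Type u) [Group Y] [AddCommGroup M]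
    [DistribMulAction Y M] (T : Sylow 2 Y) (Mx : Subgroup Y) where
  el : M → G
  mem : ∀ m, el m ∈ V
  add : ∀ m n, el (m + n) = el m * el n
  inj : Function.Injective el
  surj : ∀ v ∈ V, ∃ m, el m = v
  ac : P →* Y
  acs : Function.Surjective ac
  smul : ∀ (p : P) (m : M), el (ac p • m) = p * el m * (p : G)⁻¹
  two : ∀ m : M, m + m = 0
  faith : ∀ y : Y, (∀ m : M, y • m = m) → y = 1
  mem_T : ∀ y, y ∈ T ↔ ∃ t : P, (t : G) ∈ S ∧ ac t = y
  TM : (T : Subgroup Y) ≤ Mx
  Mne : Mx ≠ ⊤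
  max : ∀ K : Subgroup Y, (T : Subgroup Y) ≤ K → K ≠ ⊤ → K ≤ Mx

namespace RepM

section

variable {G Y M : Type u} [Group G] {S P V : Subgroup G} [Group Y] [AddCommGroup M]
  [DistribMulAction Y M] {T : Sylow 2 Y} {Mx : Subgroup Y} (R : RepM S P V Y M T Mx)

theorem el_zero : R.el 0 = 1 := by
  have h := R.add 0 0
  rw [add_zero] at h
  exact (mul_eq_left.1 h.symm)

theorem el_neg (m : M) : R.el (-m) = (R.el m)⁻¹ := by
  have h := R.add (-m) m
  rw [neg_add_cancel, R.el_zero] at h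
  exact (inv_eq_of_mul_eq_one_left h.symm).symm

theorem el_eq_one {m : M} : R.el m = 1 ↔ m = 0 := by
  rw [← R.el_zero]
  exact R.inj.eq_iff

theorem el_sq (m : M) : R.el m * R.el m = 1 := by rw [← R.add, R.two, R.el_zero]

theorem el_inv (m : M) : (R.el m)⁻¹ = R.el m := inv_eq_of_mul_eq_one_right (R.el_sq m)

/-- the subgroup of the module -/
def ag (B : Subgroup G) : AddSubgroup M where
  carrier := {m | R.el m ∈ B}
  zero_mem' := by
    change R.el 0 ∈ B
    rw [R.el_zero]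
    exact B.one_mem
  add_mem' := fun {a b} ha hb => by
    change R.el (a + b) ∈ B
    rw [R.add]
    exact B.mul_mem ha hb
  neg_mem' := fun {a} ha => by
    change R.el (-a) ∈ B
    rw [R.el_neg]
    exact B.inv_mem ha

theorem mem_ag {B : Subgroup G} {m : M} : m ∈ R.ag B ↔ R.el m ∈ B := Iff.rfl

/-- the image in `Y` of a subgroup of `G` -/
def im (X : Subgroup G) : Subgroup Y := (X.subgroupOf P).map R.ac

theorem mem_im {X : Subgroup G} {y : Y} : y ∈ R.im X ↔ ∃ p : P, (p : G) ∈ X ∧ R.ac p = y := Iff.rfl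

theorem mem_im' {X : Subgroup G} {y : Y} : y ∈ R.im X ↔ ∃ (p : G) (hp : p ∈ P), p ∈ X ∧ R.ac ⟨p, hp⟩ = y :=
  ⟨fun ⟨p, h1, h2⟩ => ⟨p, p.2, h1, h2⟩, fun ⟨p, hp, h1, h2⟩ => ⟨⟨p, hp⟩, h1, h2⟩⟩

theorem im_mono {X X' : Subgroup G} (h : X ≤ X') : R.im X ≤ R.im X' := by
  rintro _ ⟨p, hp, rfl⟩
  exact ⟨p, h hp, rfl⟩

theorem im_isPGroup {X : Subgroup G} (hX : IsPGroup 2 X) : IsPGroup 2 (R.im X) := by
  rintro ⟨_, p, hp, rfl⟩
  obtain ⟨k, hk⟩ := hX ⟨p, hp⟩
  refine ⟨k, Subtype.ext ?_⟩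
  have h1 : p ^ 2 ^ k = 1 := Subtype.ext (show (p : G) ^ 2 ^ k = 1 from congrArg Subtype.val hk)
  change R.ac p ^ 2 ^ k = 1
  rw [← map_pow, h1, map_one]

theorem im_le_T {X : Subgroup G} (hX : X ≤ S) : R.im X ≤ T := by
  rintro _ ⟨p, hp, rfl⟩
  exact (R.mem_T _).2 ⟨p, hX hp, rfl⟩

include R in
theorem faithfulSMul : FaithfulSMul Y M where
  eq_of_smul_eq_smul := by
    intro a b h
    have h1 : b⁻¹ * a = 1 := R.faith _ fun m => by rw [mul_smul, h m, inv_smul_smul]
    exact (inv_mul_eq_one.1 h1).symm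

include R in
theorem finite [Finite G] : Finite M := Finite.of_injective R.el R.inj

include R in
theorem finiteY [Finite G] : Finite Y := Finite.of_surjective R.ac R.acs

theorem ac_eq_one {p : P} : R.ac p = 1 ↔ (p : G) ∈ centralizer (V : Set G) := by
  constructor
  · intro h
    rw [mem_centralizer_iff]
    intro v hv
    obtain ⟨m, rfl⟩ := R.surj v hv
    have h1 := R.smul p m
    rw [h, one_smul] at h1
    calc R.el m * p = (p * R.el m * (p : G)⁻¹) * p := by rw [← h1]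
      _ = p * R.el m := by group
  · intro h
    refine R.faith _ fun m => R.inj ?_
    rw [R.smul, ← mem_centralizer_iff.1 h _ (R.mem m), mul_inv_cancel_right]

theorem card_ag {B : Subgroup G} (hB : B ≤ V) : Nat.card (R.ag B) = Nat.card B := by
  refine Nat.card_congr (Equiv.ofBijective (fun m : R.ag B => (⟨R.el m, m.2⟩ : B)) ⟨?_, ?_⟩)
  · intro a b hab
    exact Subtype.ext (R.inj (congrArg Subtype.val hab))
  · rintro ⟨x, hx⟩
    obtain ⟨m, rfl⟩ := R.surj x (hB hx)
    exact ⟨⟨m, hx⟩, rfl⟩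

include R in
theorem card_M : Nat.card M = Nat.card V := by
  refine Nat.card_congr (Equiv.ofBijective (fun m : M => (⟨R.el m, R.mem m⟩ : V)) ⟨?_, ?_⟩)
  · intro a b hab
    exact R.inj (congrArg Subtype.val hab)
  · rintro ⟨x, hx⟩
    obtain ⟨m, rfl⟩ := R.surj x hx
    exact ⟨m, rfl⟩

end

end RepM

section exist

variable {G : Type u} [Group G] [Finite G] {S : Sylow 2 G} {P V : Subgroup G}

/-- The module. -/
theorem Cfg.exists_repM (h : Cfg S P) (hVP : zl (S : Subgroup G) P ≤ V) (hN : P ≤ normalizer (V : Set G))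
    (hc : ∀ v ∈ V, ∀ w ∈ V, v * w = w * v) (hsq : ∀ v ∈ V, v * v = 1) :
    ∃ (Y M : Type u) (_ : Group Y) (_ : Finite Y) (_ : AddCommGroup M) (_ : Finite M)
      (_ : DistribMulAction Y M) (T : Sylow 2 Y) (Mx : Subgroup Y),
      Nonempty (RepM (S : Subgroup G) P V Y M T Mx) := by
  have : Fact (Nat.Prime 2) := ⟨Nat.prime_two⟩
  have hc' : ∀ v w : V, v * w = w * v := fun v w => Subtype.ext (hc v v.2 w w.2)
  obtain ⟨M₀, hM₀, hM₁⟩ := h.par.toIsMinPar.exists_max
  -- the Sylow subgroup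
  let T₀ : Sylow 2 P := S.subtype h.S_le
  let T : Sylow 2 (XX hN) := T₀.mapSurjective (FFBr.pr_surjective hN)
  have hT : ∀ y, y ∈ T ↔ ∃ t : P, (t : G) ∈ (S : Subgroup G) ∧ pr hN t = y := by
    intro y
    change y ∈ ((T₀.mapSurjective (FFBr.pr_surjective hN) : Sylow 2 (XX hN)) : Subgroup (XX hN)) ↔ _
    rw [Sylow.coe_mapSurjective]
    rfl
  have hSM : (S : Subgroup G) ≤ M₀ := by
    have h1 := hM₁ (S : Subgroup G) le_rfl
    refine h1 (lt_of_le_of_ne h.S_le fun h2 => ?_)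
    exact h.par.toIsMinPar.ne h2
  -- `C_P(V) ≤ M₀`
  have hCM : P ⊓ centralizer (V : Set G) ≤ M₀ := by
    have hc2 : ¬ P ≤ centralizer (zl (S : Subgroup G) P : Set G) := by
      intro h1
      exact h.one.star.not_zc ((h1.trans (centralizer_le h.Z_le_V)).trans (centralizer_le_normalizer _))
    have h1 := FFBr.sup_ne hc2
    have h2 : (S : Subgroup G) ⊔ (P ⊓ centralizer (zl (S : Subgroup G) P : Set G)) ≤ M₀ := by
      refine hM₁ _ le_sup_left (lt_of_le_of_ne (sup_le h.S_le inf_le_left) fun h2 => h1 ?_)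
      have e1 : ((S : Subgroup G) ⊔ (P ⊓ centralizer (zl (S : Subgroup G) P : Set G))).subgroupOf P =
          (S : Subgroup G).subgroupOf P ⊔
            (P ⊓ centralizer (zl (S : Subgroup G) P : Set G)).subgroupOf P :=
        subgroupOf_sup h.S_le inf_le_left
      rw [h2, subgroupOf_self, inf_subgroupOf_left] at e1
      rw [sup_comm, ← e1]
    refine le_trans ?_ (le_sup_right.trans h2)
    exact inf_le_inf_left _ (centralizer_le hVP)
  refine ⟨XX hN, AV V hc', inferInstance, inferInstance, inferInstance,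
    inferInstanceAs (Finite V), inferInstance, T, (M₀.subgroupOf P).map (pr hN), ⟨?_⟩⟩
  exact
    { el := fun m => ((Additive.toMul m : V) : G)
      mem := fun m => (Additive.toMul m : V).2
      add := fun m n => rfl
      inj := fun a b hab => by
        have : (Additive.toMul a : V) = Additive.toMul b := Subtype.ext hab
        exact congrArg Additive.ofMul this
      surj := fun v hv => ⟨Additive.ofMul (⟨v, hv⟩ : V), rfl⟩
      ac := pr hN
      acs := FFBr.pr_surjective hN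
      smul := fun p m => rfl
      two := fun m => congrArg Additive.ofMul (Subtype.ext (hsq _ (Additive.toMul m : V).2))
      faith := fun y hy => by
        apply Subtype.ext
        ext v
        have h1 := hy (Additive.ofMul v)
        exact congrArg (fun m : AV V hc' => ((Additive.toMul m : V) : G)) h1
      mem_T := hT
      TM := by
        intro y hy
        obtain ⟨t, ht, rfl⟩ := (hT y).1 hy
        exact ⟨t, hSM ht, rfl⟩
      Mne := by
        intro h1
        apply hM₀.ne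
        apply le_antisymm hM₀.le
        intro p hp
        have h2 : pr hN ⟨p, hp⟩ ∈ (M₀.subgroupOf P).map (pr hN) := by rw [h1]; trivial
        obtain ⟨q, hq, hqp⟩ := h2
        have h3 : pr hN (q⁻¹ * ⟨p, hp⟩) = 1 := by rw [map_mul, map_inv, hqp, inv_mul_cancel]
        have h4 := (FFBr.pr_eq_one hN).1 h3
        have h5 : (q : G)⁻¹ * p ∈ M₀ := hCM ⟨P.mul_mem (P.inv_mem q.2) hp, h4⟩
        have h6 : (q : G) * ((q : G)⁻¹ * p) ∈ M₀ := M₀.mul_mem hq h5
        rwa [mul_inv_cancel_left] at h6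
      max := by
        intro K hK hK1
        have h1 : (S : Subgroup G) ≤ (K.comap (pr hN)).map P.subtype := by
          intro s hs
          exact ⟨⟨s, h.S_le hs⟩, hK ((hT _).2 ⟨⟨s, h.S_le hs⟩, hs, rfl⟩), rfl⟩
        have h2 : (K.comap (pr hN)).map P.subtype < P := by
          refine lt_of_le_of_ne (map_subtype_le _) fun h2 => hK1 ?_
          rw [eq_top_iff]
          intro y _
          obtain ⟨⟨p, hp⟩, rfl⟩ := FFBr.pr_surjective hN y
          have hp' := hp
          rw [← h2] at hp'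
          obtain ⟨q, hq, hqp⟩ := hp'
          have h3 : q = ⟨p, hp⟩ := Subtype.ext hqp
          rw [h3] at hq
          exact hq
        have h3 := hM₁ _ h1 h2
        intro y hy
        obtain ⟨p, rfl⟩ := FFBr.pr_surjective hN y
        exact ⟨p, h3 ⟨p, hy, rfl⟩, rfl⟩ }

end exist

end Cfsg.Agent.Omega.NO1

end

-- merged: Cfsg.Agent.Mrg.Omega.NO1.Alpha.Bridge
section

/-!
# THEOREM ALPHA (bb OMEGA #18722): the bridge from the frames `Fr S P M F` to `Cls`

`R : RepM S P V Y M T Mx`, `V = zl S M`.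

* `mem_of_hyp` : the image of `W_F` is a flat member if `N_F ≤ C(V)`;
* `NN_le_of_two` : `N_F ≤ C(V)` if `|V : E_F| = 2`;
* `mbs R W` : the conjugates of the image of `W`;
* `cls_of_hyp` : `Cls V |V : E_F| (mbs R W_F)` (SOC from `Hyp.qc`);
* `cls_two` : the same for `|V : E_F| = 2` without hypotheses;
* `card_of_F` : `|F| = 2` and `|V_P : V_P ∩ E_F| = 2` imply `|Z| = 2` and `|V_P : V_P ∩ O₂(C_G(Z))| = 2`.
-/

set_option autoImplicit false
set_option linter.unusedSectionVars false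

namespace Cfsg.Agent.Omega.NO1.Alpha

open Subgroup Cfsg Cfsg.Agent.ZN Cfsg.Agent.Omega.Frame
open Cfsg.Agent.Omega.NO1.HE (dl dl_apply dl_one dl_eq_zero dl_comm dl_mul dl_self smul_eq mem_conj)
open Cfsg.Agent.Omega.NOne.Flat (Hyp Bad WW NN)
open Cfsg.Agent.Omega.NOne.NearFF (c c_def)
open Cfsg.Agent.MinSimple.VModule (o2_isPGroup)
open Cfsg.Agent.Omega.FFThm (OffM ElemM)
open scoped Pointwise

universe u

/-! ### conjugates of members -/

section conj

variable {Y : Type u} [Group Y] {V : Type u} [AddCommGroup V] [DistribMulAction Y V]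

theorem index_EX (B : Subgroup Y) (g : Y) : (EX V (MulAut.conj g • B)).index = (EX V B).index := by
  have h1 : EX V (MulAut.conj g • B) = (EX V B).map (DistribMulAction.toAddEquiv V g : V →+ V) := by
    ext w
    rw [AddSubgroup.mem_map]
    constructor
    · intro hw
      refine ⟨g⁻¹ • w, ?_, smul_inv_smul g w⟩
      rw [← smul_mem_EX (g := g), smul_inv_smul]
      exact hw
    · rintro ⟨v, hv, rfl⟩
      exact smul_mem_EX.2 hv
  rw [h1]
  exact AddSubgroup.index_map_equiv (EX V B) (DistribMulAction.toAddEquiv V g)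

theorem mem_conj' {B : Subgroup Y} {g y : Y} : y ∈ MulAut.conj g • B ↔ ∃ b ∈ B, y = g * b * g⁻¹ := by
  rw [mem_conj]
  constructor
  · intro h
    exact ⟨_, h, by group⟩
  · rintro ⟨b, hb, rfl⟩
    have e : g⁻¹ * (g * b * g⁻¹) * g = b := by group
    rwa [e]

theorem Mem.smul {q : ℕ} {B : Subgroup Y} (h : Mem V q B) (g : Y) : Mem V q (MulAut.conj g • B) where
  comm := by
    intro b hb c hc
    obtain ⟨b, hb', rfl⟩ := mem_conj'.1 hb
    obtain ⟨c, hc', rfl⟩ := mem_conj'.1 hc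
    calc g * b * g⁻¹ * (g * c * g⁻¹) = g * (b * c) * g⁻¹ := by group
      _ = g * (c * b) * g⁻¹ := by rw [h.comm b hb' c hc']
      _ = _ := by group
  sq := by
    intro b hb
    obtain ⟨b, hb', rfl⟩ := mem_conj'.1 hb
    calc g * b * g⁻¹ * (g * b * g⁻¹) = g * (b * b) * g⁻¹ := by group
      _ = 1 := by rw [h.sq b hb']; group
  VB := by
    intro b hb v
    obtain ⟨b, hb', rfl⟩ := mem_conj'.1 hb
    have e : dl (g * b * g⁻¹) v = g • dl b (g⁻¹ • v) := by rw [← dl_conj, smul_inv_smul]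
    rw [e, smul_mem_EX]
    exact h.VB b hb' _
  inj := by
    intro w hw b hb hd
    obtain ⟨b, hb', rfl⟩ := mem_conj'.1 hb
    have e : dl (g * b * g⁻¹) w = g • dl b (g⁻¹ • w) := by rw [← dl_conj, smul_inv_smul]
    rw [e, smul_mem_FX] at hd
    have hw' : g⁻¹ • w ∉ EX V B := fun h1 => hw (by
      have := smul_mem_EX (g := g).2 h1
      rwa [smul_inv_smul] at this)
    rw [h.inj _ hw' b hb' hd]
    group
  surj := by
    intro w hw e he
    have hw' : g⁻¹ • w ∉ EX V B := fun h1 => hw (by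
      have := smul_mem_EX (g := g).2 h1
      rwa [smul_inv_smul] at this)
    have he' : g⁻¹ • e ∈ EX V B := by
      rw [← smul_mem_EX (g := g), smul_inv_smul]
      exact he
    obtain ⟨b, hb, h1⟩ := h.surj _ hw' _ he'
    refine ⟨g * b * g⁻¹, mem_conj'.2 ⟨b, hb, rfl⟩, ?_⟩
    have e1 : dl (g * b * g⁻¹) w + e = g • (dl b (g⁻¹ • w) + g⁻¹ • e) := by
      rw [smul_add, smul_inv_smul, ← dl_conj, smul_inv_smul]
    rw [e1, smul_mem_FX]
    exact h1
  ind := by rw [index_EX, h.ind]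
  ne := by
    obtain ⟨v, hv⟩ := h.ne
    exact ⟨g • v, fun h1 => hv (smul_mem_EX.1 h1)⟩
  ne' := by
    obtain ⟨e, he, hf⟩ := h.ne'
    exact ⟨g • e, smul_mem_EX.2 he, fun h1 => hf (smul_mem_FX.1 h1)⟩

end conj

/-! ### `N_F ≤ C(V)` for `|V : E_F| = 2` -/

section two

variable {G : Type u} [Group G] [Finite G] {V F : Subgroup G}

end two

/-! ### the members -/

section members

variable {G : Type u} [Group G] [Finite G] {S P VV F : Subgroup G} {Y V : Type u} [Group Y] [AddCommGroup V]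
  [DistribMulAction Y V] {T : Sylow 2 Y} {Mx : Subgroup Y} (R : RepM S P VV Y V T Mx)

theorem el_dl {s : G} (hs : s ∈ P) (m : V) : R.el (dl (R.ac ⟨s, hs⟩) m) = c (R.el m) s := by
  rw [dl_apply, add_comm, R.add, R.smul, c_def]
  have h1 : (R.el m)⁻¹ = R.el m := R.el_inv m
  rw [h1]
  group

theorem ac_fix {s : G} (hs : s ∈ P) {m : V} : R.ac ⟨s, hs⟩ • m = m ↔ R.el m * s = s * R.el m := by
  constructor
  · intro h
    have h1 := R.smul ⟨s, hs⟩ m
    rw [h] at h1
    have h2 : R.el m = s * R.el m * s⁻¹ := h1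
    calc R.el m * s = (s * R.el m * s⁻¹) * s := by rw [← h2]
      _ = s * R.el m := by group
  · intro h
    apply R.inj
    rw [R.smul]
    change s * R.el m * s⁻¹ = R.el m
    rw [← h, mul_inv_cancel_right]

/-- The conjugates of the image of `W`. -/
def mbs (W : Subgroup G) : Set (Subgroup Y) := {B | ∃ y : Y, B = MulAut.conj y • R.im W}

theorem im_mem_mbs (W : Subgroup G) : R.im W ∈ mbs R W := ⟨1, by rw [map_one, one_smul]⟩

section hyp

variable (H : Hyp VV F) (hWP : WW VV F ≤ P)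
include H hWP

theorem FX_im : FX V (R.im (WW VV F)) = R.ag F := by
  ext m
  rw [R.mem_ag]
  constructor
  · intro hm
    rw [← H.cent_VW]
    refine ⟨R.mem m, mem_centralizer_iff.2 fun s hs => ?_⟩
    have h1 := hm _ (R.mem_im'.2 ⟨s, hWP hs, hs, rfl⟩)
    exact ((ac_fix R (hWP hs)).1 h1).symm
  · intro hm b hb
    obtain ⟨s, hs, hsW, rfl⟩ := R.mem_im'.1 hb
    rw [ac_fix R hs]
    rw [← H.cent_VW] at hm
    exact (mem_centralizer_iff.1 hm.2 s hsW).symm

theorem EX_im : EX V (R.im (WW VV F)) = R.ag (NOne.Flat.EE VV F) := by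
  ext m
  rw [R.mem_ag, mem_EX, FX_im R H hWP]
  constructor
  · intro hm
    by_contra hmE
    obtain ⟨e, he, heF⟩ := SetLike.not_le_iff_exists.1 H.F_lt_E.not_ge
    obtain ⟨s, hs, hse⟩ := H.surj (R.mem m) hmE he
    have h1 := hm _ (R.mem_im'.2 ⟨s, hWP hs, hs, rfl⟩)
    rw [R.mem_ag, el_dl] at h1
    apply heF
    have h2 := F.mul_mem (F.inv_mem hse) h1
    have e1 : (c (R.el m) s * e⁻¹)⁻¹ * c (R.el m) s = e := by group
    rwa [e1] at h2
  · intro hm b hb
    obtain ⟨s, hs, hsW, rfl⟩ := R.mem_im'.1 hb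
    rw [R.mem_ag, el_dl]
    exact H.comm_EW hm hsW

theorem index_ag : (R.ag (NOne.Flat.EE VV F)).index = (NOne.Flat.EE VV F).relIndex VV := by
  have := R.finite
  have h1 := (R.ag (NOne.Flat.EE VV F)).card_mul_index
  rw [R.card_M, R.card_ag inf_le_left, ← NOne.Flat.card_mul_relIndex' (inf_le_left : NOne.Flat.EE VV F ≤ VV)] at h1
  exact Nat.eq_of_mul_eq_mul_left Nat.card_pos h1

theorem im_comm {b b' : Y} (hb : b ∈ R.im (WW VV F)) (hb' : b' ∈ R.im (WW VV F)) : b * b' = b' * b := by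
  obtain ⟨s, hs, hsW, rfl⟩ := R.mem_im'.1 hb
  obtain ⟨t, ht, htW, rfl⟩ := R.mem_im'.1 hb'
  have h1 := H.comm_WW hsW htW
  have h2 : R.ac (⟨s, hs⟩ * ⟨t, ht⟩ * ⟨s, hs⟩⁻¹ * ⟨t, ht⟩⁻¹) = 1 := by
    rw [R.ac_eq_one]
    exact H.comm (H.F_le_V h1)
  rw [map_mul, map_mul, map_mul, map_inv, map_inv, mul_inv_eq_one, mul_inv_eq_iff_eq_mul] at h2
  exact h2

theorem im_sq {b : Y} (hb : b ∈ R.im (WW VV F)) : b * b = 1 := by
  obtain ⟨s, hs, hsW, rfl⟩ := R.mem_im'.1 hb
  rw [← map_mul, R.ac_eq_one]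
  exact H.comm (H.F_le_V (H.sq_W hsW))

/-- The image of `W_F` is a member. -/
theorem mem_of_hyp (hN : NN VV F ≤ centralizer (VV : Set G)) :
    Mem V ((NOne.Flat.EE VV F).relIndex VV) (R.im (WW VV F)) where
  comm b hb b' hb' := im_comm R H hWP hb hb'
  sq b hb := im_sq R H hWP hb
  VB := by
    intro b hb v
    obtain ⟨s, hs, hsW, rfl⟩ := R.mem_im'.1 hb
    rw [EX_im R H hWP, R.mem_ag, el_dl]
    exact H.c_memE (R.mem v) hsW
  inj := by
    intro w hw b hb hd
    obtain ⟨s, hs, hsW, rfl⟩ := R.mem_im'.1 hb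
    rw [EX_im R H hWP, R.mem_ag] at hw
    rw [FX_im R H hWP, R.mem_ag, el_dl] at hd
    rw [R.ac_eq_one]
    exact hN ((H.c_mem_F_iff (R.mem w) hw hsW).1 hd)
  surj := by
    intro w hw e he
    rw [EX_im R H hWP, R.mem_ag] at hw he
    obtain ⟨s, hs, hse⟩ := H.surj (R.mem w) hw he
    refine ⟨_, R.mem_im'.2 ⟨s, hWP hs, hs, rfl⟩, ?_⟩
    rw [FX_im R H hWP, R.mem_ag, R.add, el_dl]
    rwa [R.el_inv] at hse
  ind := by rw [EX_im R H hWP, index_ag R H hWP]
  ne := by
    obtain ⟨w, hw, hwE⟩ := H.exists_not_mem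
    obtain ⟨m, rfl⟩ := R.surj w hw
    refine ⟨m, ?_⟩
    rw [EX_im R H hWP]
    exact hwE
  ne' := by
    obtain ⟨e, he, heF⟩ := SetLike.not_le_iff_exists.1 H.F_lt_E.not_ge
    obtain ⟨m, rfl⟩ := R.surj e he.1
    refine ⟨m, ?_, ?_⟩
    · rw [EX_im R H hWP]; exact he
    · rw [FX_im R H hWP]; exact heF

/-- SOC for the image of `W_F`. -/
theorem soc_im (hc : ∀ u ∈ VV, u ≠ 1 →
      centralizer ({u} : Set G) ⊓ centralizer (o2 (centralizer ({u} : Set G)) : Set G) ≤
        o2 (centralizer ({u} : Set G)))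
    {K : Subgroup Y} (hK : R.im (WW VV F) ≤ K) {v : V} (hv : v ≠ 0) (hfix : ∀ k ∈ K, k • v = v) :
    R.im (WW VV F) ⊓ o2 K ≠ ⊥ := by
  set L : Subgroup G := (K.comap R.ac).map P.subtype with hL
  have hWL : WW VV F ≤ L := fun s hs => ⟨⟨s, hWP hs⟩, hK ⟨⟨s, hWP hs⟩, hs, rfl⟩, rfl⟩
  have hu1 : R.el v ≠ 1 := fun h1 => hv (R.el_eq_one.1 h1)
  have huL : R.el v ∈ centralizer (L : Set G) := by
    rw [mem_centralizer_iff]
    rintro _ ⟨p, hp, rfl⟩
    have h1 := (ac_fix R p.2).1 (hfix _ hp)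
    exact h1.symm
  obtain ⟨-, U, hU, -, hUL⟩ := H.qc hWL (R.mem v) hu1 huL (hc _ (R.mem v) hu1)
  have h1 : ¬ U ≤ centralizer (VV : Set G) := by
    intro h1
    obtain ⟨w, hw, hwE⟩ := H.exists_not_mem
    refine hwE (hU.cent_V ⟨hw, mem_centralizer_iff.2 fun s hs => ?_⟩)
    exact (mem_centralizer_iff.1 (h1 hs) w hw).symm
  obtain ⟨s, hs, hsV⟩ := SetLike.not_le_iff_exists.1 h1
  have hsW := hU.le_W hs
  intro h0
  have h2 : R.ac ⟨s, hWP hsW⟩ ∈ R.im (WW VV F) ⊓ o2 K := by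
    refine ⟨R.mem_im'.2 ⟨s, hWP hsW, hsW, rfl⟩, ?_⟩
    have h3 : R.im (o2 L) ≤ o2 K := by
      refine ZN.le_o2 ?_ (R.im_isPGroup (o2_isPGroup L)) ?_
      · intro y hy
        obtain ⟨p, hp, rfl⟩ := R.mem_im.1 hy
        obtain ⟨p', hp', hpp⟩ := ZN.o2_le L hp
        have e : p' = p := Subtype.ext hpp
        rw [← e]
        exact hp'
      · have key : ∀ k ∈ K, ∀ y ∈ R.im (o2 L), k * y * k⁻¹ ∈ R.im (o2 L) := by
          intro k hk y hy
          obtain ⟨p, rfl⟩ := R.acs k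
          obtain ⟨x, hx, rfl⟩ := R.mem_im.1 hy
          have hpL : (p : G) ∈ L := ⟨p, hk, rfl⟩
          refine R.mem_im.2 ⟨p * x * p⁻¹, ?_, by rw [map_mul, map_mul, map_inv]⟩
          exact (mem_normalizer_iff.1 (ZN.le_normalizer_o2 L hpL) x).1 hx
        intro k hk
        rw [mem_normalizer_iff]
        intro y
        refine ⟨key k hk y, fun h4 => ?_⟩
        have h5 := key k⁻¹ (K.inv_mem hk) _ h4
        have e : k⁻¹ * (k * y * k⁻¹) * k⁻¹⁻¹ = y := by group
        rwa [e] at h5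
    exact h3 (R.mem_im'.2 ⟨s, hWP hsW, hUL hs, rfl⟩)
  rw [h0, mem_bot, R.ac_eq_one] at h2
  exact hsV h2

/-- `F_q s_x` at the level of `G`. -/
def SC (VV F : Subgroup G) : Prop :=
  ∀ x ∈ NOne.Flat.EE VV F, x ∉ F → ∃ A : Subgroup G, A ≤ WW VV F ∧
    (centralizer (VV : Set G)).relIndex A = (NOne.Flat.EE VV F).relIndex VV ∧
    (∀ s ∈ A, s ∉ centralizer (VV : Set G) → ∃ w ∈ VV, w ∉ NOne.Flat.EE VV F ∧ c w s * x ∈ F) ∧
    ∀ s ∈ A, ∀ t ∈ A, ∀ v ∈ VV, c (c v t) s = 1

theorem sc_im (hsc : SC VV F) {x : V} (hx : x ∈ EX V (R.im (WW VV F))) (hxF : x ∉ FX V (R.im (WW VV F))) :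
    ∃ A : Subgroup Y, A ≤ R.im (WW VV F) ∧ Nat.card A = (NOne.Flat.EE VV F).relIndex VV ∧
      (∀ s ∈ A, s ≠ 1 → ∃ w, w ∉ EX V (R.im (WW VV F)) ∧ dl s w + x ∈ FX V (R.im (WW VV F))) ∧
      ∀ s ∈ A, ∀ t ∈ A, ∀ v : V, dl s (dl t v) = 0 := by
  rw [EX_im R H hWP, R.mem_ag] at hx
  rw [FX_im R H hWP, R.mem_ag] at hxF
  obtain ⟨A, hAW, hA1, hA2, hA3⟩ := hsc _ hx hxF
  refine ⟨R.im A, R.im_mono hAW, ?_, ?_, ?_⟩
  · rw [← hA1]
    have hAP : A ≤ P := hAW.trans hWP
    -- `|im A| = |A : C_A(V)|`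
    have h1 : Nat.card (R.im A) * Nat.card ((R.ac.comp (A.subgroupOf P).subtype).ker) = Nat.card A := by
      have h2 := Subgroup.card_mul_index (R.ac.comp (A.subgroupOf P).subtype).ker
      rw [Subgroup.index_ker] at h2
      have h3 : (R.ac.comp (A.subgroupOf P).subtype).range = R.im A := by
        ext y
        constructor
        · rintro ⟨a, rfl⟩
          exact ⟨a, a.2, rfl⟩
        · rintro ⟨a, ha, rfl⟩
          exact ⟨⟨a, ha⟩, rfl⟩
      rw [h3, Nat.card_congr (subgroupOfEquivOfLe hAP).toEquiv, mul_comm] at h2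
      exact h2
    have h2 : Nat.card ((R.ac.comp (A.subgroupOf P).subtype).ker) = Nat.card ↥(A ⊓ centralizer (VV : Set G)) := by
      refine Nat.card_congr (Equiv.ofBijective
        (fun a : (R.ac.comp (A.subgroupOf P).subtype).ker =>
          (⟨((a : A.subgroupOf P) : P), (a : A.subgroupOf P).2, R.ac_eq_one.1 a.2⟩ :
            ↥(A ⊓ centralizer (VV : Set G)))) ⟨?_, ?_⟩)
      · intro a b hab
        apply Subtype.ext
        apply Subtype.ext
        apply Subtype.ext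
        exact congrArg (fun z : ↥(A ⊓ centralizer (VV : Set G)) => (z : G)) hab
      · rintro ⟨a, haA, haC⟩
        exact ⟨⟨⟨⟨a, hAP haA⟩, haA⟩, R.ac_eq_one.2 haC⟩, rfl⟩
    have h3 := NOne.Flat.card_mul_relIndex' (inf_le_left : A ⊓ centralizer (VV : Set G) ≤ A)
    rw [inf_relIndex_left] at h3
    rw [h2, ← h3, mul_comm] at h1
    exact Nat.eq_of_mul_eq_mul_left Nat.card_pos h1
  · intro s hs hs1
    obtain ⟨s, hsP, hsA, rfl⟩ := R.mem_im'.1 hs
    obtain ⟨w, hw, hwE, hwx⟩ := hA2 s hsA fun h1 => hs1 (R.ac_eq_one.2 h1)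
    obtain ⟨m, rfl⟩ := R.surj w hw
    refine ⟨m, ?_, ?_⟩
    · rw [EX_im R H hWP]; exact hwE
    · rw [FX_im R H hWP, R.mem_ag, R.add, el_dl]; exact hwx
  · intro s hs t ht v
    obtain ⟨s, hsP, hsA, rfl⟩ := R.mem_im'.1 hs
    obtain ⟨t, htP, htA, rfl⟩ := R.mem_im'.1 ht
    apply R.inj
    rw [el_dl, el_dl, R.el_zero]
    exact hA3 s hsA t htA _ (R.mem v)

/-- **The class.** -/
theorem cls_of_hyp (hN : NN VV F ≤ centralizer (VV : Set G)) (hsc : SC VV F)
    (hc : ∀ u ∈ VV, u ≠ 1 →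
      centralizer ({u} : Set G) ⊓ centralizer (o2 (centralizer ({u} : Set G)) : Set G) ≤
        o2 (centralizer ({u} : Set G))) :
    Cls V ((NOne.Flat.EE VV F).relIndex VV) (mbs R (WW VV F)) where
  two := R.two
  faith := R.faith
  mem := by
    rintro _ ⟨y, rfl⟩
    exact (mem_of_hyp R H hWP hN).smul y
  conj := by
    rintro _ ⟨y, rfl⟩ g
    exact ⟨g * y, by rw [map_mul, mul_smul]⟩
  sc := by
    rintro _ ⟨y, rfl⟩ x hx hxF
    have hx' : y⁻¹ • x ∈ EX V (R.im (WW VV F)) := by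
      rw [← smul_mem_EX (g := y), smul_inv_smul]
      exact hx
    have hxF' : y⁻¹ • x ∉ FX V (R.im (WW VV F)) := by
      rw [← smul_mem_FX (g := y), smul_inv_smul]
      exact hxF
    obtain ⟨A, hA, hA1, hA2, hA3⟩ := sc_im R H hWP hsc hx' hxF'
    refine ⟨MulAut.conj y • A, ?_, ?_, ?_, ?_⟩
    · intro s hs
      obtain ⟨a, ha, rfl⟩ := mem_conj'.1 hs
      exact mem_conj'.2 ⟨a, hA ha, rfl⟩
    · rw [← hA1]
      exact Nat.card_congr (Subgroup.equivSMul (MulAut.conj y) A).toEquiv.symm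
    · intro s hs hs1
      obtain ⟨a, ha, rfl⟩ := mem_conj'.1 hs
      obtain ⟨w, hw, hwx⟩ := hA2 a ha (by
        rintro rfl
        exact hs1 (by group))
      refine ⟨y • w, fun h1 => hw (smul_mem_EX.1 h1), ?_⟩
      have e : dl (y * a * y⁻¹) (y • w) + x = y • (dl a w + y⁻¹ • x) := by
        rw [smul_add, smul_inv_smul, dl_conj]
      rw [e, smul_mem_FX]
      exact hwx
    · intro s hs t ht v
      obtain ⟨a, ha, rfl⟩ := mem_conj'.1 hs
      obtain ⟨b, hb, rfl⟩ := mem_conj'.1 ht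
      have e : dl (y * a * y⁻¹) (dl (y * b * y⁻¹) v) = y • dl a (dl b (y⁻¹ • v)) := by
        rw [← dl_conj, ← dl_conj, smul_inv_smul]
      rw [e, hA3 a ha b hb, smul_zero]
  soc := by
    rintro _ ⟨y, rfl⟩ K hK ⟨v, hv, hfix⟩
    have h1 : R.im (WW VV F) ≤ MulAut.conj y⁻¹ • K := by
      intro b hb
      rw [mem_conj, inv_inv]
      exact hK (mem_conj'.2 ⟨b, hb, rfl⟩)
    have h2 := soc_im R H hWP hc h1 (v := y⁻¹ • v) (fun h0 => hv (by
      rw [← smul_inv_smul y v, h0, smul_zero])) (fun k hk => by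
        rw [mem_conj, inv_inv] at hk
        have h3 := hfix _ hk
        rw [mul_smul, mul_smul, ← eq_inv_smul_iff] at h3
        exact h3)
    intro h0
    apply h2
    rw [eq_bot_iff]
    intro b hb
    have h3 : y * b * y⁻¹ ∈ MulAut.conj y • R.im (WW VV F) ⊓ o2 K := by
      refine ⟨mem_conj'.2 ⟨b, hb.1, rfl⟩, ?_⟩
      have h4 : MulAut.conj y • o2 (MulAut.conj y⁻¹ • K) = o2 K := by
        rw [NOne.Flat.o2_conj, ← mul_smul, ← map_mul, mul_inv_cancel, map_one, one_smul]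
      rw [← h4]
      exact mem_conj'.2 ⟨b, hb.2, rfl⟩
    rw [h0, mem_bot] at h3
    rw [mem_bot]
    have e : b = y⁻¹ * (y * b * y⁻¹) * y := by group
    rw [e, h3]
    group

omit hWP in
/-- `SC` for `|V : E_F| = 2` -/
theorem sc_two (h2 : (NOne.Flat.EE VV F).relIndex VV = 2) : SC VV F := by
  intro x hx hxF
  obtain ⟨w, hw, hwE⟩ := H.exists_not_mem
  obtain ⟨s, hs, hsx⟩ := H.surj hw hwE hx
  have hFC : F ≤ centralizer (VV : Set G) := H.F_le_V.trans H.comm
  have hsC : s ∉ centralizer (VV : Set G) := by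
    intro h1
    apply hxF
    have h3 : c w s = 1 := by
      rw [c_def, mem_centralizer_iff.1 h1 w hw]; group
    rw [h3, one_mul] at hsx
    have := F.inv_mem hsx
    rwa [inv_inv] at this
  have hmem : ∀ a ∈ zpowers s, a ∉ centralizer (VV : Set G) → ∃ f ∈ F, a = f * s := by
    rintro _ ⟨k, rfl⟩ hk
    have hss := H.sq_W hs
    rcases Int.even_or_odd' k with ⟨j, rfl | rfl⟩
    · exfalso
      apply hk
      have e : s ^ (2 * j) = (s * s) ^ j := by rw [zpow_mul, zpow_two]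
      change s ^ (2 * j) ∈ _
      rw [e]
      exact (centralizer (VV : Set G)).zpow_mem (hFC hss) j
    · refine ⟨(s * s) ^ j, F.zpow_mem hss j, ?_⟩
      change s ^ (2 * j + 1) = _
      rw [zpow_add, zpow_mul, zpow_two, zpow_one]
  refine ⟨zpowers s, zpowers_le.2 hs, ?_, ?_, ?_⟩
  · rw [h2]
    have h3 : ∀ a ∈ zpowers s, ∀ b ∈ zpowers s, a ∉ centralizer (VV : Set G) →
        b ∉ centralizer (VV : Set G) → a * b ∈ centralizer (VV : Set G) := by
      intro a ha b hb haC hbC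
      obtain ⟨f, hf, rfl⟩ := hmem a ha haC
      obtain ⟨f', hf', rfl⟩ := hmem b hb hbC
      have e : f * s * (f' * s) = f * (s * f' * s⁻¹) * (s * s) := by group
      have h4 : s * f' * s⁻¹ = f' := by
        rw [← NOne.Flat.Hyp.F_comm hf' (NOne.Flat.Hyp.W_le_X hs), mul_inv_cancel_right]
      rw [e, h4]
      exact mul_mem (mul_mem (hFC hf) (hFC hf')) (hFC (H.sq_W hs))
    rw [relIndex, Subgroup.index_eq_two_iff]
    refine ⟨⟨s, mem_zpowers s⟩, fun b => ?_⟩
    rw [mem_subgroupOf, mem_subgroupOf]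
    by_cases hb : (b : G) ∈ centralizer (VV : Set G)
    · refine Or.inr ⟨hb, fun h4 => hsC ?_⟩
      have h5 := mul_mem (inv_mem hb) h4
      have e : (b : G)⁻¹ * ((b * ⟨s, mem_zpowers s⟩ : zpowers s) : G) = s := by
        change (b : G)⁻¹ * (b * s) = s
        group
      rwa [e] at h5
    · exact Or.inl ⟨h3 _ b.2 _ (mem_zpowers s) hb hsC, hb⟩
  · intro a ha haC
    refine ⟨w, hw, hwE, ?_⟩
    obtain ⟨f, hf, rfl⟩ := hmem a ha haC
    rw [H.c_F_mul hw hs hf]
    have h3 := H.inv hx.1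
    rwa [h3] at hsx
  · intro a ha b hb v hv
    have haW : a ∈ WW VV F := zpowers_le.2 hs ha
    have hbW : b ∈ WW VV F := zpowers_le.2 hs hb
    have key : ∀ a ∈ zpowers s, ∀ e ∈ VV, c e s = 1 → c e a = 1 := by
      intro a ha e he h4
      by_cases haC : a ∈ centralizer (VV : Set G)
      · rw [c_def, mem_centralizer_iff.1 haC e he]; group
      · obtain ⟨f, hf, rfl⟩ := hmem a ha haC
        rw [H.c_F_mul he hs hf, h4]
    apply key a ha _ (H.c_memV hv hbW)
    by_cases hbC : b ∈ centralizer (VV : Set G)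
    · have h4 : c v b = 1 := by rw [c_def, mem_centralizer_iff.1 hbC v hv]; group
      rw [h4, c_def]; group
    · obtain ⟨f, hf, rfl⟩ := hmem b hb hbC
      rw [H.c_F_mul hv hs hf]
      exact H.beta_self hv hs

end hyp

end members

/-! ### frames -/

section frames

variable {G : Type u} [Group G] [Finite G] {S : Sylow 2 G} {P M F : Subgroup G} (h : Fr S P M F)
include h

theorem hc_elem : ∀ u ∈ zl (S : Subgroup G) M, u ≠ 1 →
    centralizer ({u} : Set G) ⊓ centralizer (o2 (centralizer ({u} : Set G)) : Set G) ≤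
      o2 (centralizer ({u} : Set G)) := by
  intro u hu hu1
  have h1 : IsPGroup 2 (zpowers u) := h.hyp.V_isPGroup.to_le (zpowers_le.2 hu)
  have h2 := NOne.LemmaT.char2_centralizer h.cfg.ctx.char2 h1 (by rwa [Ne, zpowers_eq_bot])
  rwa [NOne.Flat.Hyp.centralizer_zpowers'] at h2

theorem exists_repM : ∃ (Y V : Type u) (_ : Group Y) (_ : Finite Y) (_ : AddCommGroup V) (_ : Finite V)
      (_ : DistribMulAction Y V) (T : Sylow 2 Y) (Mx : Subgroup Y),
      Nonempty (RepM (S : Subgroup G) P (zl (S : Subgroup G) M) Y V T Mx) :=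
  h.cfg.exists_repM h.VP_le
    (h.inv.PM.trans (MinSimple.VModule.le_normalizer_zl _ _))
    (fun _ hv _ hw => h.hyp.V_comm hv hw) (fun _ hv => h.hyp.sq' hv)

end frames

end Cfsg.Agent.Omega.NO1.Alpha

end
end

-- part: Mrg/Omega/NO1/Field/KOne
section
section


/-!
# THEOREM FIELD: `K₁` from the SL₂ type (FIELD-2)

`h : Hyp V F`, `x ∈ C_G(F)` bad, `s : Sect (HX V F x) (EX V F x) F N`, `T : SL2T` on `N = E E^x / F`:

* `exists_sub` : for `e ∈ E - F` a subgroup `F ≤ A₁ ≤ E^x`, `|A₁ / F| = |V / E|`, `[V, A₁, A₁] = 1`,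
  `e ∈ [v, s] F` for every `s ∈ A₁ - F` and some `v ∈ V - E`;
* `exists_K1` : `K1 V F e A₁`.
-/

set_option autoImplicit false
set_option linter.unusedSectionVars false

namespace Cfsg.Agent.Omega.NO1.Field

open Subgroup Cfsg Cfsg.Agent.ZN
open Cfsg.Agent.Omega.NOne.NearFF (c c_def)
open Cfsg.Agent.Omega.NOne.Flat (Hyp BadX Sect EX HX Spr gi Good)
open scoped Pointwise

universe u

section sect

variable {G : Type u} [Group G] {V F : Subgroup G} {x : G} {N : Type u} [Group N]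

/-- `E / F`, `E^x / F` -/
abbrev BB (s : Sect (HX V F x) (EX V F x) F N) : Bool → Subgroup N :=
  fun i => s.B (MulAut.conj (gi x i) • NOne.Flat.EE V F)

/-- `V`, `V^x` on `E E^x / F` -/
abbrev AA (s : Sect (HX V F x) (EX V F x) F N) : Bool → Subgroup (MulAut N) :=
  fun i => s.A (MulAut.conj (gi x i) • V)

theorem gi_false (K : Subgroup G) : MulAut.conj (gi x false) • K = K := by
  change MulAut.conj (1 : G) • K = K
  rw [map_one, one_smul]

end sect

section main

variable {G : Type u} [Group G] [Finite G] {V F : Subgroup G} (h : Hyp V F) {x : G}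
  (hx : x ∈ centralizer (F : Set G)) (hb : BadX V x) {N : Type u} [Group N]
  (s : Sect (HX V F x) (EX V F x) F N)

include h hx hb in
theorem V_le_HX : V ≤ HX V F x := by
  have h1 := h.conjV_le_HX (h.good_one hx hb)
  rwa [map_one, one_smul] at h1

theorem E_le_EX : NOne.Flat.EE V F ≤ EX V F x := le_sup_left

theorem conjE_le_EX : MulAut.conj x • NOne.Flat.EE V F ≤ EX V F x := le_sup_right

theorem c_mem_EX {g n : G} (hg : g ∈ HX V F x) (hn : n ∈ EX V F x)
    (hN : ∀ h ∈ HX V F x, ∀ n ∈ EX V F x, h * n * h⁻¹ ∈ EX V F x) : c g n ∈ EX V F x := by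
  rw [c_def]
  exact mul_mem (hN g hg n hn) (inv_mem hn)

/-- `[n, g]` in `N` -/
theorem ρπ_mul (hsq : ∀ m : N, m * m = 1) (g : ↥(HX V F x)) (n : ↥(EX V F x)) :
    s.ρ g (s.π n) * s.π n = s.π ⟨c (g : G) n, c_mem_EX g.2 n.2 s.nN⟩ := by
  have h1 : s.π n = s.π n⁻¹ := by
    rw [map_inv]
    exact (inv_eq_of_mul_eq_one_left (hsq _)).symm
  calc s.ρ g (s.π n) * s.π n = s.ρ g (s.π n) * s.π n⁻¹ := by rw [← h1]
    _ = s.π ⟨(g : G) * n * (g : G)⁻¹, s.nN g g.2 n n.2⟩ * s.π n⁻¹ := by rw [s.ρπ]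
    _ = s.π (⟨(g : G) * n * (g : G)⁻¹, s.nN g g.2 n n.2⟩ * n⁻¹) := by rw [map_mul]
    _ = _ := by
      congr 1

theorem mem_AA_false {a : MulAut N} (ha : a ∈ AA s false) : ∃ v ∈ V, ∃ hv : v ∈ HX V F x, s.ρ ⟨v, hv⟩ = a := by
  obtain ⟨⟨v, hvH⟩, hv, rfl⟩ := ha
  have hv' : v ∈ MulAut.conj (gi x false) • V := hv
  rw [gi_false] at hv'
  exact ⟨v, hv', hvH, rfl⟩

theorem ρ_mem_AA {v : G} (hv : v ∈ V) (hvH : v ∈ HX V F x) : s.ρ ⟨v, hvH⟩ ∈ AA s false := by
  refine ⟨⟨v, hvH⟩, ?_, rfl⟩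
  change v ∈ MulAut.conj (gi x false) • V
  rwa [gi_false]

include h hx hb in
theorem card_AA (i : Bool) : Nat.card (AA s i) = (NOne.Flat.EE V F).relIndex V := by
  have hgood := h.good_gi hx hb
  rw [s.card_A (h.conjV_le_HX (hgood i)) (K' := MulAut.conj (gi x i) • NOne.Flat.EE V F)
    (fun k hk => by rw [s.ρ_eq_one_iff]; exact h.ker_conj hx hb (hgood i) hk)]
  have e1 := NOne.Flat.card_mul_relIndex' (inf_le_left : NOne.Flat.EE V F ≤ V)
  have e2 := NOne.Flat.card_mul_relIndex' (Hyp.conjE_le_conjV (V := V) (F := F) (gi x i))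
  rw [NOne.Choice.card_conj, NOne.Choice.card_conj, ← e1] at e2
  exact Nat.eq_of_mul_eq_mul_left Nat.card_pos e2

/-- the subgroup `A₁` -/
def A1 (S : Spr (BB s) (AA s)) (b : N) : Subgroup G := ((KK S true b).comap s.π).map (EX V F x).subtype

theorem mem_A1 (S : Spr (BB s) (AA s)) {b : N} {n : G} :
    n ∈ A1 s S b ↔ ∃ hn : n ∈ EX V F x, s.π ⟨n, hn⟩ ∈ KK S true b := by
  constructor
  · rintro ⟨⟨n, hn⟩, h1, rfl⟩
    exact ⟨hn, h1⟩
  · rintro ⟨hn, h1⟩
    exact ⟨⟨n, hn⟩, h1, rfl⟩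

/-- **`A₁`** -/
theorem exists_sub (S : Spr (BB s) (AA s)) (T : SL2T (BB s) (AA s)) {e : G} (he : e ∈ NOne.Flat.EE V F)
    (heF : e ∉ F) (h : Hyp V F) (hx : x ∈ centralizer (F : Set G)) (hb : BadX V x) :
    ∃ A₁ : Subgroup G, F ≤ A₁ ∧ A₁ ≤ MulAut.conj x • NOne.Flat.EE V F ∧
      F.relIndex A₁ = (NOne.Flat.EE V F).relIndex V ∧
      (∀ t ∈ A₁, t ∉ F → ∃ v ∈ V, v ∉ NOne.Flat.EE V F ∧ (c v t)⁻¹ * e ∈ F) ∧
      (∀ v ∈ V, ∀ a ∈ A₁, ∀ t ∈ A₁, c (c v a) t = 1) ∧
      (∀ v ∈ V, ∀ w ∈ V, w ∉ NOne.Flat.EE V F → ∀ a ∈ A₁, ∃ t ∈ A₁, (c v a)⁻¹ * c w t ∈ F) := by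
  have : Finite N := Finite.of_surjective s.π s.surj
  have hVH := V_le_HX h hx hb
  have hEX : NOne.Flat.EE V F ≤ EX V F x := E_le_EX
  have hF1 : ∀ n : ↥(EX V F x), s.π n = 1 ↔ (n : G) ∈ F := s.ker
  set b : N := s.π ⟨e, hEX he⟩ with hbd
  have hbB : b ∈ BB s false := ⟨⟨e, hEX he⟩, by
    change e ∈ MulAut.conj (gi x false) • NOne.Flat.EE V F
    rwa [gi_false], rfl⟩
  have hb1 : b ≠ 1 := fun h1 => heF ((hF1 _).1 h1)
  have hbB' : b ∉ BB s true := fun h1 => hb1 (Spr.eq_one S (by decide) hbB h1)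
  have hFx := h.F_le_conjE hx
  -- `A₁ ≤ E^x`
  have hle : A1 s S b ≤ MulAut.conj x • NOne.Flat.EE V F := by
    intro n hn
    obtain ⟨hnX, hn'⟩ := (mem_A1 s S).1 hn
    exact (s.mem_B hFx).1 (KK_le S true b hn')
  have hFle : F ≤ A1 s S b := by
    intro f hf
    have hfX : f ∈ EX V F x := hEX (h.F_le_E hf)
    refine (mem_A1 s S).2 ⟨hfX, ?_⟩
    rw [(hF1 ⟨f, hfX⟩).2 hf]
    exact one_mem _
  have hAW : A1 s S b ≤ NOne.Flat.WW V F := hle.trans (Hyp.conjE_le_W hx)
  -- `ρ v ≠ 1`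
  have hρ : ∀ v (hv : v ∈ V), s.ρ ⟨v, hVH hv⟩ = 1 ↔ v ∈ NOne.Flat.EE V F := by
    intro v hv
    have h1 := h.ker_conj (k := v) hx hb (h.good_one hx hb) (by rwa [map_one, one_smul])
    rw [map_one, one_smul] at h1
    rw [s.ρ_eq_one_iff]
    exact h1
  -- `[n, v]`
  have hcom : ∀ v (hv : v ∈ V) (n : ↥(EX V F x)), s.ρ ⟨v, hVH hv⟩ (s.π n) * s.π n =
      s.π ⟨c v n, c_mem_EX (hVH hv) n.2 s.nN⟩ := fun v hv n =>
    ρπ_mul s S.sq ⟨v, hVH hv⟩ n
  have hπ : ∀ {a a' : G} (ha : a ∈ EX V F x) (ha' : a' ∈ EX V F x), s.π ⟨a, ha⟩ = s.π ⟨a', ha'⟩ → a⁻¹ * a' ∈ F :=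
    fun ha ha' h1 => s.π_eq_iff.1 h1
  refine ⟨A1 s S b, hFle, hle, ?_, ?_, ?_, ?_⟩
  · have h1 : s.B (A1 s S b) = KK S true b := by
      apply le_antisymm
      · rintro _ ⟨n, hn, rfl⟩
        obtain ⟨hnX, hn'⟩ := (mem_A1 s S).1 (mem_subgroupOf.1 hn)
        exact hn'
      · intro k hk
        obtain ⟨n, rfl⟩ := s.surj k
        exact ⟨n, mem_subgroupOf.2 ((mem_A1 s S).2 ⟨n.2, hk⟩), rfl⟩
    rw [← s.card_B (hle.trans conjE_le_EX), h1, card_KK S hbB', card_AA h hx hb s true]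
  · intro t ht htF
    obtain ⟨htX, ht'⟩ := (mem_A1 s S).1 ht
    obtain ⟨a, ha, ha1, hab⟩ := T.exists_t S hbB ht' (fun h1 => htF ((hF1 _).1 h1))
    obtain ⟨v, hv, hvH, rfl⟩ := mem_AA_false s ha
    refine ⟨v, hv, fun hvE => ha1 ((hρ v hv).2 hvE), ?_⟩
    have h1 := hcom v hv ⟨t, htX⟩
    exact hπ _ _ (h1.symm.trans hab)
  · intro v hv a ha t ht
    obtain ⟨haX, ha'⟩ := (mem_A1 s S).1 ha
    obtain ⟨htX, ht'⟩ := (mem_A1 s S).1 ht
    have haW := hAW ha
    have htW := hAW ht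
    have h1 := hcom v hv ⟨a, haX⟩
    by_cases hne : s.ρ ⟨v, hVH hv⟩ (s.π ⟨a, haX⟩) * s.π ⟨a, haX⟩ = 1
    · rw [h1, hF1] at hne
      exact Hyp.c_F hne htW
    by_cases htF : t ∈ F
    · have h2 : c v a * t = t * c v a := (Hyp.F_comm htF (h.V_le_X (h.c_memV hv haW))).symm
      rw [c_def, h2, mul_inv_cancel_right, mul_inv_cancel]
    have h2 := T.closure S hbB ht' ha' (ρ_mem_AA s hv (hVH hv)) hne
    rw [h1] at h2 hne
    have h3 : s.π ⟨c v a, c_mem_EX (hVH hv) haX s.nN⟩ ∈ BB s false := by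
      rw [← h1]
      exact comm_mem_B S (ρ_mem_AA s hv (hVH hv)) _
    obtain ⟨r, hr, hr1, hrb⟩ := T.exists_t S h3 h2 (fun h4 => htF ((hF1 _).1 h4))
    obtain ⟨w, hw, hwH, rfl⟩ := mem_AA_false s hr
    have h4 := hcom w hw ⟨t, htX⟩
    have h5 := hπ _ _ (h4.symm.trans hrb)
    -- `c v a = c w t * f`
    have h6 : c v a = c w t * ((c w t)⁻¹ * c v a) := by group
    rw [h6, h.c_mul_left (h.c_memV hw htW) (h.F_le_V h5) htW, h.beta_self hw htW, Hyp.c_F h5 htW, one_mul]
  · intro v hv w hw hwE a ha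
    obtain ⟨haX, ha'⟩ := (mem_A1 s S).1 ha
    obtain ⟨k', hk', hkk⟩ := T.line S hbB ha' (ρ_mem_AA s hv (hVH hv)) (ρ_mem_AA s hw (hVH hw))
      (fun h1 => hwE ((hρ w hw).1 h1))
    obtain ⟨t, rfl⟩ := s.surj k'
    refine ⟨t, (mem_A1 s S).2 ⟨t.2, hk'⟩, ?_⟩
    rw [hcom v hv, hcom w hw] at hkk
    exact hπ _ _ hkk

end main

end Cfsg.Agent.Omega.NO1.Field

end

section


/-!
# THEOREM FIELD: `K1All` and `SC` from FIELD-1 and FIELD-5

* `SL2Spr` : the output of FIELD-1: `SL2T B A` or Sz;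
* `exists_K1_of` : `K1 V F e A₁` from the SL₂ type, `exists_K1_two` : `|V / E| = 2`;
* `k1All_of : SL2Spr → NoSz → K1All`;
* `sc_of : SL2Spr → NoSz → HypF V F → SC V F` (`SC` of `Alpha/Bridge.lean`).
-/

set_option autoImplicit false
set_option linter.unusedSectionVars false

namespace Cfsg.Agent.Omega.NO1.Field

open Subgroup Cfsg Cfsg.Agent.ZN
open Cfsg.Agent.Omega.NOne.NearFF (c c_def)
open Cfsg.Agent.Omega.NOne.Flat (Hyp BadX Sect EX HX Spr gi Good NN WW)
open Cfsg.Agent.Omega.NO1.Alpha (SC)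
open scoped Pointwise

universe u

/-- **FIELD-1**, the form used here. -/
def SL2Spr : Prop :=
  ∀ (M : Type u) [Group M] [Finite M] (B : Bool → Subgroup M) (A : Bool → Subgroup (MulAut M)),
    Spr B A → 4 ≤ Nat.card (A false) → SL2T B A ∨ IsSz ↥(A false ⊔ A true) (Nat.card (A false))

section

variable {G : Type u} [Group G] [Finite G] {V F : Subgroup G} (h : Hyp V F)
include h

/-- `K₁` from `A₁ ≤ E^x`. -/
theorem K1_of {x e : G} (hx : x ∈ centralizer (F : Set G)) (hb : BadX V x) {A : Subgroup G} (hF : F ≤ A)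
    (hA : A ≤ MulAut.conj x • NOne.Flat.EE V F) (hc : F.relIndex A = (NOne.Flat.EE V F).relIndex V)
    (hex : ∀ t ∈ A, t ∉ F → ∃ v ∈ V, v ∉ NOne.Flat.EE V F ∧ (c v t)⁻¹ * e ∈ F)
    (hq : ∀ v ∈ V, ∀ a ∈ A, ∀ t ∈ A, c (c v a) t = 1)
    (hl : ∀ v ∈ V, ∀ w ∈ V, w ∉ NOne.Flat.EE V F → ∀ a ∈ A, ∃ t ∈ A, (c v a)⁻¹ * c w t ∈ F) :
    K1 V F e (A ⊔ NN V F) := by
  have hAW : A ≤ WW V F := hA.trans (Hyp.conjE_le_W hx)
  have hmem : ∀ s ∈ A ⊔ NN V F, ∃ a ∈ A, ∃ n ∈ NN V F, s = a * n := by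
    intro s hs
    have h3 : s ∈ ((A ⊔ NN V F : Subgroup G) : Set G) := hs
    rw [Subgroup.coe_mul_of_left_le_normalizer_right _ _ (hAW.trans h.W_norm_NN)] at h3
    obtain ⟨a, ha, n, hn, rfl⟩ := h3
    exact ⟨a, ha, n, hn, rfl⟩
  have hNW : NN V F ≤ WW V F := Hyp.NN_le_W
  -- `[v, a n] ≡ [v, a]`
  have hcn : ∀ v ∈ V, ∀ a ∈ A, ∀ n ∈ NN V F, (c v (a * n))⁻¹ * c v a ∈ F := by
    intro v hv a ha n hn
    rw [h.c_mul_right hv (hAW ha) (hNW hn)]
    have h1 : c v n ∈ F := h.c_mem_F hv hn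
    have h2 : c (c v n) a = 1 := Hyp.c_F h1 (hAW ha)
    rw [h2, mul_one, mul_inv_rev]
    have e1 : (c v n)⁻¹ * (c v a)⁻¹ * c v a = (c v n)⁻¹ := by group
    rw [e1]
    exact inv_mem h1
  exact
    { NA := le_sup_right
      AW := sup_le hAW hNW
      card := by
        have h1 : A ⊓ NN V F = F := by
          refine le_antisymm ?_ (le_inf hF h.F_le_NN)
          calc A ⊓ NN V F ≤ MulAut.conj x • NOne.Flat.EE V F ⊓ NN V F := inf_le_inf_right _ hA
            _ = F := h.conjE_inf_NN hx hb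
        have h2 : (NN V F).relIndex (A ⊔ NN V F) = (NN V F).relIndex A := by
          rw [sup_comm]
          exact relIndex_sup_left_of_le_norm (hAW.trans h.W_norm_NN)
        rw [h2, ← inf_relIndex_left, h1, hc]
      quad := by
        intro v hv s hs t ht
        obtain ⟨a, ha, n, hn, rfl⟩ := hmem s hs
        obtain ⟨b, hb', m, hm, rfl⟩ := hmem t ht
        have h1 := hcn v hv a ha n hn
        have hW1 : a * n ∈ WW V F := mul_mem (hAW ha) (hNW hn)
        have hW2 : b * m ∈ WW V F := mul_mem (hAW hb') (hNW hm)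
        -- `[v, a n] = [v, a] f`
        have h2 : c v (a * n) = c v a * ((c v (a * n))⁻¹ * c v a)⁻¹ := by group
        rw [h2, h.c_mul_left (h.c_memV hv (hAW ha)) (h.F_le_V (inv_mem h1)) hW2, Hyp.c_F (inv_mem h1) hW2, mul_one]
        have h3 := h.c_memE hv (hAW ha)
        rw [h.c_mul_right' h3 (hAW hb') (hNW hm), hq v hv a ha b hb', one_mul]
        exact Hyp.c_E_NN h3 hm
      ex := by
        intro s hs hsN
        obtain ⟨a, ha, n, hn, rfl⟩ := hmem s hs
        obtain ⟨v, hv, hvE, h1⟩ := hex a ha fun haF => hsN (mul_mem (h.F_le_NN haF) hn)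
        refine ⟨v, hv, hvE, ?_⟩
        have e1 : (c v (a * n))⁻¹ * e = (c v (a * n))⁻¹ * c v a * ((c v a)⁻¹ * e) := by group
        rw [e1]
        exact mul_mem (hcn v hv a ha n hn) h1
      line := by
        intro v hv w hw hwE s hs
        obtain ⟨a, ha, n, hn, rfl⟩ := hmem s hs
        obtain ⟨t, ht, h1⟩ := hl v hv w hw hwE a ha
        refine ⟨t, mem_sup_left ht, ?_⟩
        have e1 : (c v (a * n))⁻¹ * c w t = (c v (a * n))⁻¹ * c v a * ((c v a)⁻¹ * c w t) := by group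
        rw [e1]
        exact mul_mem (hcn v hv a ha n hn) h1 }
where
  relIndex_sup_left_of_le_norm {A N : Subgroup G} (hn : A ≤ normalizer (N : Set G)) :
      N.relIndex (N ⊔ A) = N.relIndex A := by
    have hN : (N.subgroupOf (N ⊔ A)).Normal := normal_subgroupOf_of_le_normalizer (sup_le le_normalizer hn)
    have h1 := relIndex_sup_left (K := N.subgroupOf (N ⊔ A)) (H := A.subgroupOf (N ⊔ A))
    rw [← subgroupOf_sup le_sup_left le_sup_right, relIndex_subgroupOf le_rfl, relIndex_subgroupOf le_sup_right] at h1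
    exact h1

/-- the case `|V / E| = 2` -/
theorem exists_K1_two (h2 : (NOne.Flat.EE V F).relIndex V = 2) {e : G} (he : e ∈ NOne.Flat.EE V F) (heF : e ∉ F) :
    ∃ A₁ : Subgroup G, K1 V F e A₁ := by
  obtain ⟨w, hw, hwE⟩ := h.exists_not_mem
  obtain ⟨x, hx, hb, -, -⟩ := h.exists_near hw hwE
  obtain ⟨s, hs, hse⟩ := h.surj hw hwE he
  obtain ⟨f, hf, hfn⟩ := h.exists_conjE_mul hx hb hs
  have hfW : f ∈ WW V F := Hyp.conjE_le_W hx hf
  have hff : f * f ∈ F := h.sq_W hfW
  have hfc : ∀ g ∈ F, g * f = f * g := fun g hg => Hyp.F_comm hg (Hyp.W_le_X hfW)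
  have hwf : (c w f)⁻¹ * e ∈ F := by
    have h1 : (c w f)⁻¹ * c w s ∈ F := (h.c_iff hw hfW hs).2 (h.c_mem_F hw hfn)
    have h3 : (c w s)⁻¹ * e ∈ F := by
      rw [h.inv (h.c_memV hw hs)]
      rwa [h.inv he.1] at hse
    have h4 := mul_mem h1 h3
    rwa [mul_assoc, mul_inv_cancel_left] at h4
  have hfF : f ∉ F := by
    intro h1
    apply heF
    have h3 : c w f = 1 := by
      rw [c_def, ← Hyp.F_comm h1 (h.V_le_X hw), mul_inv_cancel_right, mul_inv_cancel]
    rw [h3, inv_one, one_mul] at hwf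
    exact hwf
  let A : Subgroup G :=
    { carrier := {a | a ∈ F ∨ f⁻¹ * a ∈ F}
      one_mem' := Or.inl (one_mem _)
      mul_mem' := by
        rintro a b (ha | ha) (hb | hb)
        · exact Or.inl (mul_mem ha hb)
        · right
          have e1 : f⁻¹ * (a * b) = a * (f⁻¹ * b) := by
            have h3 : f⁻¹ * a = a * f⁻¹ := by
              rw [inv_mul_eq_iff_eq_mul, ← mul_assoc, ← hfc a ha, mul_inv_cancel_right]
            rw [← mul_assoc, h3, mul_assoc]
          rw [e1]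
          exact mul_mem ha hb
        · right
          rw [← mul_assoc]
          exact mul_mem ha hb
        · left
          have e1 : a * b = f * f * (f⁻¹ * a) * (f⁻¹ * b) := by
            calc a * b = f * ((f⁻¹ * a) * f) * (f⁻¹ * b) := by group
              _ = f * (f * (f⁻¹ * a)) * (f⁻¹ * b) := by rw [hfc _ ha]
              _ = _ := by group
          rw [e1]
          exact mul_mem (mul_mem hff ha) hb
      inv_mem' := by
        rintro a (ha | ha)
        · exact Or.inl (inv_mem ha)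
        · right
          have h3 := hfc _ (inv_mem ha)
          have e1 : f⁻¹ * a⁻¹ = (f⁻¹ * a)⁻¹ * (f * f)⁻¹ := by
            have h4 : f⁻¹ * (f⁻¹ * a)⁻¹ = (f⁻¹ * a)⁻¹ * f⁻¹ := by
              rw [inv_mul_eq_iff_eq_mul, ← mul_assoc, ← h3, mul_inv_cancel_right]
            calc f⁻¹ * a⁻¹ = f⁻¹ * (f⁻¹ * a)⁻¹ * f⁻¹ := by group
              _ = (f⁻¹ * a)⁻¹ * f⁻¹ * f⁻¹ := by rw [h4]
              _ = _ := by group
          rw [e1]
          exact mul_mem (inv_mem ha) (inv_mem hff) }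
  have hmem : ∀ a, a ∈ A ↔ a ∈ F ∨ f⁻¹ * a ∈ F := fun a => Iff.rfl
  have hFA : F ≤ A := fun a ha => Or.inl ha
  have hAE : A ≤ MulAut.conj x • NOne.Flat.EE V F := by
    rintro a (ha | ha)
    · exact h.F_le_conjE hx ha
    · have e1 : a = f * (f⁻¹ * a) := by group
      rw [e1]
      exact mul_mem hf (h.F_le_conjE hx ha)
  have hidx : F.relIndex A = 2 := by
    rw [relIndex, Subgroup.index_eq_two_iff]
    refine ⟨⟨f, Or.inr (by rw [inv_mul_cancel]; exact one_mem _)⟩, ?_⟩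
    rintro ⟨b, hb⟩
    rw [mem_subgroupOf, mem_subgroupOf]
    change Xor (b * f ∈ F) (b ∈ F)
    rcases hb with hb | hb
    · refine Or.inr ⟨hb, fun h3 => hfF ((mul_mem_cancel_left hb).1 h3)⟩
    · refine Or.inl ⟨?_, fun h3 => hfF ?_⟩
      · have e1 : b * f = f * f * (f⁻¹ * b) := by
          calc b * f = f * ((f⁻¹ * b) * f) := by group
            _ = f * (f * (f⁻¹ * b)) := by rw [hfc _ hb]
            _ = _ := by group
        rw [e1]
        exact mul_mem hff hb
      · have e1 : f = b * (f⁻¹ * b)⁻¹ := by group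
        rw [e1]
        exact mul_mem h3 (inv_mem hb)
  -- `[v, a] ≡ [v, f]` for `a ∈ A - F`
  have hAW : A ≤ WW V F := hAE.trans (Hyp.conjE_le_W hx)
  have hva : ∀ v ∈ V, ∀ a ∈ A, a ∉ F → (c v a)⁻¹ * c v f ∈ F := by
    intro v hv a ha haF
    rcases ha with ha | ha
    · exact absurd ha haF
    · refine (h.c_iff hv (hAW (Or.inr ha)) hfW).2 ?_
      refine h.c_mem_F hv (h.F_le_NN ?_)
      have e1 : a⁻¹ * f = (f⁻¹ * a)⁻¹ := by group
      rw [e1]
      exact inv_mem ha
  refine ⟨_, K1_of h hx hb hFA hAE (by rw [hidx, h2]) ?_ ?_ ?_⟩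
  · intro t ht htF
    refine ⟨w, hw, hwE, ?_⟩
    have e1 : (c w t)⁻¹ * e = (c w t)⁻¹ * c w f * ((c w f)⁻¹ * e) := by group
    rw [e1]
    exact mul_mem (hva w hw t ht htF) hwf
  · intro v hv a ha t ht
    by_cases haF : a ∈ F
    · have h3 : c v a = 1 := by
        rw [c_def, ← Hyp.F_comm haF (h.V_le_X hv), mul_inv_cancel_right, mul_inv_cancel]
      rw [h3, c_def]
      group
    by_cases htF : t ∈ F
    · have h3 := Hyp.F_comm htF (h.V_le_X (h.c_memV hv (hAW ha)))
      rw [c_def (c v a), ← h3, mul_inv_cancel_right, mul_inv_cancel]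
    -- `a = f a'`, `t = f t'`
    have ha' : f⁻¹ * a ∈ F := by
      rcases ha with ha | ha
      · exact absurd ha haF
      · exact ha
    have ht' : f⁻¹ * t ∈ F := by
      rcases ht with ht | ht
      · exact absurd ht htF
      · exact ht
    have key : ∀ v ∈ V, ∀ a, f⁻¹ * a ∈ F → c v a = c v f := by
      intro v hv a ha
      have e1 : a = (f⁻¹ * a) * f := by
        rw [hfc _ ha]; group
      rw [e1, h.c_F_mul hv hfW ha]
    rw [key v hv a ha', key _ (h.c_memV hv hfW) t ht']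
    exact h.beta_self hv hfW
  · intro v hv w' hw' hwE' a ha
    by_cases hvE : v ∈ NOne.Flat.EE V F
    · refine ⟨1, one_mem _, ?_⟩
      rw [Hyp.c_one_right, mul_one]
      exact inv_mem (h.comm_EW hvE (hAW ha))
    · refine ⟨a, ha, ?_⟩
      -- `v w' ∈ E`
      have h3 : v * w' ∈ NOne.Flat.EE V F := by
        have h5 := Subgroup.mul_mem_iff_of_index_two h2 (a := (⟨v, hv⟩ : V)) (b := ⟨w', hw'⟩)
        simp only [mem_subgroupOf, Subgroup.coe_mul] at h5
        exact h5.2 (iff_of_false hvE hwE')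
      have h4 := h.comm_EW h3 (hAW ha)
      rw [h.c_mul_left hv hw' (hAW ha)] at h4
      rw [h.inv (h.c_memV hv (hAW ha))]
      exact h4

/-- `SC` from `A₁ ≤ E^x`. -/
theorem SC_of (hsub : ∀ e ∈ NOne.Flat.EE V F, e ∉ F → ∃ x ∈ centralizer (F : Set G), BadX V x ∧
      ∃ A : Subgroup G, F ≤ A ∧ A ≤ MulAut.conj x • NOne.Flat.EE V F ∧
      F.relIndex A = (NOne.Flat.EE V F).relIndex V ∧
      (∀ t ∈ A, t ∉ F → ∃ v ∈ V, v ∉ NOne.Flat.EE V F ∧ (c v t)⁻¹ * e ∈ F) ∧
      (∀ v ∈ V, ∀ a ∈ A, ∀ t ∈ A, c (c v a) t = 1)) : SC V F := by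
  intro e he heF
  obtain ⟨x, hx, hb, A, hF, hA, hc, hex, hq⟩ := hsub e he heF
  have hAW : A ≤ WW V F := hA.trans (Hyp.conjE_le_W hx)
  have hFC : F ≤ centralizer (V : Set G) := h.F_le_V.trans h.comm
  have hAC : A ⊓ centralizer (V : Set G) = F := by
    refine le_antisymm ?_ (le_inf hF hFC)
    calc A ⊓ centralizer (V : Set G) ≤ MulAut.conj x • NOne.Flat.EE V F ⊓ NN V F :=
          le_inf (inf_le_left.trans hA) (le_inf (inf_le_left.trans hAW)
            (inf_le_right.trans (centralizer_le (inf_le_left : NOne.Flat.EE V F ≤ V))))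
      _ = F := h.conjE_inf_NN hx hb
  refine ⟨A, hAW, ?_, ?_, fun s hs t ht v hv => hq v hv t ht s hs⟩
  · rw [← inf_relIndex_left, hAC, hc]
  · intro s hs hsC
    obtain ⟨v, hv, hvE, h1⟩ := hex s hs fun h2 => hsC (hFC h2)
    refine ⟨v, hv, hvE, ?_⟩
    rwa [h.inv (h.c_memV hv (hAW hs))] at h1

end

/-! ### the plug -/

section plug

variable {G : Type u} [Group G] [Finite G] {V F : Subgroup G}

/-- `A₁ ≤ E^x` for every `e ∈ E - F` -/
theorem exists_sub_of (h1 : SL2Spr.{u}) (h5 : NoSz.{u}) (h : HypF V F) (h4 : 4 ≤ (NOne.Flat.EE V F).relIndex V) :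
    ∃ x ∈ centralizer (F : Set G), BadX V x ∧ ∀ e ∈ NOne.Flat.EE V F, e ∉ F →
      ∃ A : Subgroup G, F ≤ A ∧ A ≤ MulAut.conj x • NOne.Flat.EE V F ∧
      F.relIndex A = (NOne.Flat.EE V F).relIndex V ∧
      (∀ t ∈ A, t ∉ F → ∃ v ∈ V, v ∉ NOne.Flat.EE V F ∧ (c v t)⁻¹ * e ∈ F) ∧
      (∀ v ∈ V, ∀ a ∈ A, ∀ t ∈ A, c (c v a) t = 1) ∧
      (∀ v ∈ V, ∀ w ∈ V, w ∉ NOne.Flat.EE V F → ∀ a ∈ A, ∃ t ∈ A, (c v a)⁻¹ * c w t ∈ F) := by
  obtain ⟨w, hw, hwE⟩ := h.toHyp.exists_not_mem
  obtain ⟨x, hx, hb, -, -⟩ := h.toHyp.exists_near hw hwE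
  refine ⟨x, hx, hb, fun e he heF => ?_⟩
  obtain ⟨N, _, ⟨s⟩⟩ := Hyp.exists_sectEX (V := V) (F := F) hx
  have : Finite N := Finite.of_surjective s.π s.surj
  have S := h.toHyp.exists_spr hx hb h.f0' s
  have hcard := card_AA h.toHyp hx hb s false
  have hne : ¬ IsSz ↥(AA s false ⊔ AA s true) (Nat.card (AA s false)) := by
    have h6 := h5 G V F h h4 x hx hb N s
    rw [hcard]
    have e1 : AA s false ⊔ AA s true = s.A V ⊔ s.A (MulAut.conj x • V) := by
      change s.A (MulAut.conj (gi x false) • V) ⊔ s.A (MulAut.conj x • V) = _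
      rw [gi_false]
    rwa [e1]
  have T : SL2T (BB s) (AA s) := (h1 N (BB s) (AA s) S (by rw [hcard]; exact h4)).resolve_right hne
  exact exists_sub s S T he heF h.toHyp hx hb

/-- **FIELD-6** -/
theorem k1All_of (h1 : SL2Spr.{u}) (h5 : NoSz.{u}) : K1All.{u} := by
  intro G _ _ V F h e he heF
  have hne1 : (NOne.Flat.EE V F).relIndex V ≠ 1 := by
    intro h2
    rw [relIndex_eq_one] at h2
    obtain ⟨w, hw, hwE⟩ := h.toHyp.exists_not_mem
    exact hwE (h2 hw)
  by_cases h2 : (NOne.Flat.EE V F).relIndex V = 2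
  · exact exists_K1_two h.toHyp h2 he heF
  · have h4 : 4 ≤ (NOne.Flat.EE V F).relIndex V := by
      have : Fact (Nat.Prime 2) := ⟨Nat.prime_two⟩
      have h3 : (NOne.Flat.EE V F).relIndex V ∣ Nat.card V :=
        Dvd.intro_left _ (NOne.Flat.card_mul_relIndex' (inf_le_left : NOne.Flat.EE V F ≤ V))
      obtain ⟨n, hn⟩ := IsPGroup.iff_card.1 h.toHyp.V_isPGroup
      rw [hn] at h3
      obtain ⟨k, -, hk⟩ := (Nat.dvd_prime_pow Nat.prime_two).1 h3
      rw [hk] at hne1 h2 ⊢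
      rcases k with _ | _ | k
      · exact absurd rfl hne1
      · exact absurd rfl h2
      · rw [pow_succ, pow_succ]
        have : 0 < 2 ^ k := Nat.pos_of_ne_zero (by positivity)
        omega
    obtain ⟨x, hx, hb, hsub⟩ := exists_sub_of h1 h5 h h4
    obtain ⟨A, hF, hA, hc, hex, hq, hl⟩ := hsub e he heF
    exact ⟨_, K1_of h.toHyp hx hb hF hA hc hex hq hl⟩

/-- **`SC` for `|V / E| ≥ 4`** (817's bridge) -/
theorem sc_of (h1 : SL2Spr.{u}) (h5 : NoSz.{u}) (h : HypF V F) (h4 : 4 ≤ (NOne.Flat.EE V F).relIndex V) :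
    SC V F := by
  obtain ⟨x, hx, hb, hsub⟩ := exists_sub_of h1 h5 h h4
  refine SC_of h.toHyp fun e he heF => ?_
  obtain ⟨A, hF, hA, hc, hex, hq, -⟩ := hsub e he heF
  exact ⟨x, hx, hb, A, hF, hA, hc, hex, hq⟩

end plug

end Cfsg.Agent.Omega.NO1.Field

end
end

private theorem dce_66e5fa070852 : _root_.True := by
  try have : _root_.True := by simp only [_root_.Cfsg.Agent.Omega.NO1.HE.Fld.q.eq_1]
  try have : _root_.True := by simp only [_root_.Cfsg.Agent.Omega.NO1.HE.Fld.rho.eq_1]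
  try have : _root_.True := by simp only [_root_.Cfsg.Agent.Omega.NearFF.Dat.induct]
  try have : _root_.True := by simp only [_root_.Cfsg.Agent.Omega.NO1.HE.Fld.ph.eq_1]
  try have : _root_.True := by simp only [_root_.Cfsg.Agent.Omega.NearFF.SymPlus.Frm.sig.eq_1]
  try have : _root_.True := by simp only [_root_.Cfsg.Agent.Omega.NearFF.fu.eq_1]
  try have : _root_.True := by simp only [_root_.Cfsg.Agent.Omega.NearFF.four.congr_simp]
  exact _root_.True.intro
end
end
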